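import Mathlib.RingTheory.Ideal.Operations
import Mathlib.RingTheory.Ideal.Maps
import Mathlib.Algebra.Algebra.Operations

set_option autoImplicit false
universe u v

namespace Groth.Agent.H63

/-- Nakayama for nilpotent ideals, no finiteness needed. -/
theorem le_of_le_sup_smul_of_nilpotent {R : Type*} {M : Type*} [CommRing R] [AddCommGroup M] [Module R M]
    (I : Ideal R) (hI : ∃ n : ℕ, I ^ n = ⊥) (N N' : Submodule R M) (h : N ≤ N' ⊔ I • N) : N ≤ N' := by
  obtain ⟨n, hn⟩ := hI
  have key : ∀ m : ℕ, N ≤ N' ⊔ I ^ m • N := by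
    intro m
    induction m with
    | zero => rw [pow_zero, Ideal.one_eq_top, Submodule.top_smul]; exact le_sup_right
    | succ m ih =>
      calc N ≤ N' ⊔ I • N := h
        _ ≤ N' ⊔ I • (N' ⊔ I ^ m • N) := sup_le_sup_left (Submodule.smul_mono le_rfl ih) _
        _ = N' ⊔ (I • N' ⊔ I • (I ^ m • N)) := by rw [Submodule.smul_sup]
        _ ≤ N' ⊔ I ^ (m + 1) • N := by
          rw [← Submodule.mul_smul, ← pow_succ']
          exact sup_le le_sup_left (sup_le (Submodule.smul_le_right.trans le_sup_left) le_sup_right)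
  have := key n
  rwa [hn, Submodule.bot_smul, sup_bot_eq] at this

end Groth.Agent.H63
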