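import Groth.Agent.H63.ArtBasic
import Groth.Agent.H63.Nak

set_option autoImplicit false
set_option linter.style.haveILetI false
universe u v
open CategoryTheory

namespace Groth.Agent.H63

open ArtFun ArtFun.Art

variable {Λ : Type u} {k : Type u} [CommRing Λ] [Field k] [Algebra Λ k]

theorem map_maximalIdeal_le {A B : Art Λ k} (f : A ⟶ B) :
    Ideal.map f.toAlgHom (IsLocalRing.maximalIdeal A) ≤ IsLocalRing.maximalIdeal B := by
  rw [Ideal.map_le_iff_le_comap]
  intro a ha
  exact map_mem_maximalIdeal f ha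

theorem map_ker_le_maximalIdeal (B : Art Λ k) :
    Ideal.map (algebraMap Λ B) (RingHom.ker (algebraMap Λ k)) ≤ IsLocalRing.maximalIdeal B := by
  rw [Ideal.map_le_iff_le_comap]
  intro r hr
  rw [Ideal.mem_comap, mem_maximalIdeal_iff, AlgHom.commutes]
  exact RingHom.mem_ker.1 hr

theorem map_ker_le_map {A B : Art Λ k} (f : A ⟶ B) :
    Ideal.map (algebraMap Λ B) (RingHom.ker (algebraMap Λ k)) ≤ Ideal.map f.toAlgHom (IsLocalRing.maximalIdeal A) := by
  rw [Ideal.map_le_iff_le_comap]
  intro r hr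
  rw [Ideal.mem_comap, ← f.toAlgHom.commutes]
  apply Ideal.mem_map_of_mem
  rw [mem_maximalIdeal_iff, AlgHom.commutes]
  exact RingHom.mem_ker.1 hr

/-- A morphism which is surjective on cotangent spaces is surjective. -/
theorem surjective_of_cotangent {A B : Art Λ k} (f : A ⟶ B)
    (h : Ideal.map f.toAlgHom (IsLocalRing.maximalIdeal A) ⊔ IsLocalRing.maximalIdeal B ^ 2 =
      IsLocalRing.maximalIdeal B) : Function.Surjective f := by
  have h1 : IsLocalRing.maximalIdeal B ≤ Ideal.map f.toAlgHom (IsLocalRing.maximalIdeal A) := by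
    apply le_of_le_sup_smul_of_nilpotent (IsLocalRing.maximalIdeal B) (maximalIdeal_nilpotent B)
    rw [smul_eq_mul, ← sq, h]
  letI : Algebra A B := f.toAlgHom.toRingHom.toAlgebra
  have h2 : (⊤ : Submodule A B) ≤ LinearMap.range (Algebra.linearMap A B) := by
    apply le_of_le_sup_smul_of_nilpotent (IsLocalRing.maximalIdeal A) (maximalIdeal_nilpotent A)
    intro b _
    obtain ⟨a, ha⟩ := A.res_surjective (B.res b)
    have hb : b - f a ∈ IsLocalRing.maximalIdeal B := by
      rw [mem_maximalIdeal_iff, map_sub, res_app, ha, sub_self]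
    have hb' : b - f a ∈ IsLocalRing.maximalIdeal A • (⊤ : Submodule A B) := by
      rw [Ideal.smul_top_eq_map]
      exact h1 hb
    have : b = f a + (b - f a) := by ring
    rw [this]
    exact Submodule.add_mem_sup ⟨a, rfl⟩ hb'
  intro b
  obtain ⟨a, ha⟩ := h2 (Submodule.mem_top : b ∈ ⊤)
  exact ⟨a, ha⟩

theorem map_maximalIdeal_of_surjective {A B : Art Λ k} (f : A ⟶ B) (hf : Function.Surjective f) :
    Ideal.map f.toAlgHom (IsLocalRing.maximalIdeal A) = IsLocalRing.maximalIdeal B := by
  apply le_antisymm (map_maximalIdeal_le f)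
  intro b hb
  obtain ⟨a, ha, rfl⟩ := exists_mem_maximalIdeal_of_surjective f hf b hb
  exact Ideal.mem_map_of_mem _ ha

theorem surjective_tfae {A B : Art Λ k} (f : A ⟶ B) :
    List.TFAE [Function.Surjective f,
      Ideal.map f.toAlgHom (IsLocalRing.maximalIdeal A) ⊔ IsLocalRing.maximalIdeal B ^ 2 = IsLocalRing.maximalIdeal B,
      Ideal.map (algebraMap Λ B) (RingHom.ker (algebraMap Λ k)) ⊔ Ideal.map f.toAlgHom (IsLocalRing.maximalIdeal A) ⊔
        IsLocalRing.maximalIdeal B ^ 2 = IsLocalRing.maximalIdeal B] := by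
  tfae_have 1 → 2 := by
    intro hf
    rw [map_maximalIdeal_of_surjective f hf]
    exact sup_eq_left.2 (Ideal.pow_le_self two_ne_zero)
  tfae_have 2 → 3 := by
    intro h
    rw [sup_eq_right.2 (map_ker_le_map f)]
    exact h
  tfae_have 3 → 1 := by
    intro h
    rw [sup_eq_right.2 (map_ker_le_map f)] at h
    exact surjective_of_cotangent f h
  tfae_finish

end Groth.Agent.H63
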