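import Groth.Agent.H63.ArtBasic
import Mathlib.RingTheory.AdicCompletion.Functoriality
import Mathlib.RingTheory.Nakayama

set_option autoImplicit false
set_option linter.style.haveILetI false
universe u v
open CategoryTheory

namespace Groth.Agent.H63

open ArtFun ArtFun.CRing

variable {Λ : Type u} {k : Type u} [CommRing Λ] [Field k] [Algebra Λ k]

namespace CR

theorem ker_res (R : CRing Λ k) : RingHom.ker R.res = IsLocalRing.maximalIdeal R.carrier := by
  have : (RingHom.ker R.res.toRingHom).IsMaximal :=
    RingHom.ker_isMaximal_of_surjective R.res.toRingHom R.res_surjective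
  exact IsLocalRing.eq_maximalIdeal this

theorem mem_maximalIdeal_iff (R : CRing Λ k) (x : R.carrier) :
    x ∈ IsLocalRing.maximalIdeal R.carrier ↔ R.res x = 0 := by
  rw [← ker_res R]
  exact RingHom.mem_ker

theorem map_maximalIdeal_le (R S : CRing Λ k) (f : R.carrier →ₐ[Λ] S.carrier)
    (hf : S.res.comp f = R.res) :
    Ideal.map f (IsLocalRing.maximalIdeal R.carrier) ≤ IsLocalRing.maximalIdeal S.carrier := by
  rw [Ideal.map_le_iff_le_comap]
  intro a ha
  rw [Ideal.mem_comap, mem_maximalIdeal_iff]
  rw [mem_maximalIdeal_iff] at ha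
  rw [← hf] at ha
  exact ha

theorem map_ker_le_map (R S : CRing Λ k) (f : R.carrier →ₐ[Λ] S.carrier) :
    Ideal.map (algebraMap Λ S.carrier) (RingHom.ker (algebraMap Λ k)) ≤
      Ideal.map f (IsLocalRing.maximalIdeal R.carrier) := by
  rw [Ideal.map_le_iff_le_comap]
  intro r hr
  rw [Ideal.mem_comap, ← f.commutes]
  apply Ideal.mem_map_of_mem
  rw [mem_maximalIdeal_iff, AlgHom.commutes]
  exact RingHom.mem_ker.1 hr

theorem map_maximalIdeal_of_surjective (R S : CRing Λ k) (f : R.carrier →ₐ[Λ] S.carrier)
    (hf : S.res.comp f = R.res) (hs : Function.Surjective f) :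
    Ideal.map f (IsLocalRing.maximalIdeal R.carrier) = IsLocalRing.maximalIdeal S.carrier := by
  apply le_antisymm (map_maximalIdeal_le R S f hf)
  intro b hb
  obtain ⟨a, rfl⟩ := hs b
  apply Ideal.mem_map_of_mem
  rw [mem_maximalIdeal_iff] at hb ⊢
  rw [← hf]
  exact hb

theorem map_maximalIdeal_of_cotangent (R S : CRing Λ k) (f : R.carrier →ₐ[Λ] S.carrier)
    (hf : S.res.comp f = R.res)
    (h : Ideal.map f (IsLocalRing.maximalIdeal R.carrier) ⊔ IsLocalRing.maximalIdeal S.carrier ^ 2 =
      IsLocalRing.maximalIdeal S.carrier) :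
    Ideal.map f (IsLocalRing.maximalIdeal R.carrier) = IsLocalRing.maximalIdeal S.carrier := by
  apply le_antisymm (map_maximalIdeal_le R S f hf)
  apply Submodule.le_of_le_smul_of_le_jacobson_bot (I := IsLocalRing.maximalIdeal S.carrier)
  · exact (isNoetherianRing_iff_ideal_fg S.carrier).1 inferInstance _
  · exact IsLocalRing.maximalIdeal_le_jacobson _
  · rw [smul_eq_mul, ← sq, h]

theorem surjective_of_cotangent (R S : CRing Λ k) (f : R.carrier →ₐ[Λ] S.carrier)
    (hf : S.res.comp f = R.res)
    (h : Ideal.map f (IsLocalRing.maximalIdeal R.carrier) ⊔ IsLocalRing.maximalIdeal S.carrier ^ 2 =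
      IsLocalRing.maximalIdeal S.carrier) : Function.Surjective f := by
  have h1 := map_maximalIdeal_of_cotangent R S f hf h
  have hR : IsPrecomplete (IsLocalRing.maximalIdeal R.carrier) R.carrier :=
    R.isAdicComplete.toIsPrecomplete
  have hS : IsHausdorff ((IsLocalRing.maximalIdeal R.carrier).map f.toRingHom) S.carrier := by
    have : (IsLocalRing.maximalIdeal R.carrier).map f.toRingHom = IsLocalRing.maximalIdeal S.carrier := h1
    rw [this]
    exact S.isAdicComplete.toIsHausdorff
  have key : Function.Surjective f.toRingHom := by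
    apply surjective_of_mk_map_comp_surjective (I := IsLocalRing.maximalIdeal R.carrier)
    intro y
    obtain ⟨s, rfl⟩ := Ideal.Quotient.mk_surjective y
    obtain ⟨r, hr⟩ := R.res_surjective (S.res s)
    refine ⟨r, ?_⟩
    rw [RingHom.comp_apply]
    rw [Ideal.Quotient.eq]
    have : (IsLocalRing.maximalIdeal R.carrier).map f.toRingHom = IsLocalRing.maximalIdeal S.carrier := h1
    rw [this, mem_maximalIdeal_iff, map_sub]
    have : S.res (f r) = R.res r := by rw [← hf]; rfl
    change S.res (f r) - S.res s = 0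
    rw [this, hr, sub_self]
  exact key

theorem surjective_tfae (R S : CRing Λ k) (f : R.carrier →ₐ[Λ] S.carrier)
    (hf : S.res.comp f = R.res) :
    List.TFAE [Function.Surjective f,
      Ideal.map f (IsLocalRing.maximalIdeal R.carrier) ⊔ IsLocalRing.maximalIdeal S.carrier ^ 2 =
        IsLocalRing.maximalIdeal S.carrier,
      Ideal.map (algebraMap Λ S.carrier) (RingHom.ker (algebraMap Λ k)) ⊔
        Ideal.map f (IsLocalRing.maximalIdeal R.carrier) ⊔ IsLocalRing.maximalIdeal S.carrier ^ 2 =
        IsLocalRing.maximalIdeal S.carrier] := by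
  tfae_have 1 → 2 := by
    intro hs
    rw [map_maximalIdeal_of_surjective R S f hf hs]
    exact sup_eq_left.2 (Ideal.pow_le_self two_ne_zero)
  tfae_have 2 → 3 := by
    intro h
    rw [sup_eq_right.2 (map_ker_le_map R S f)]
    exact h
  tfae_have 3 → 1 := by
    intro h
    rw [sup_eq_right.2 (map_ker_le_map R S f)] at h
    exact surjective_of_cotangent R S f hf h
  tfae_finish

end CR

end Groth.Agent.H63
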