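import Mathlib
import Groth.Prelude.Def_W4bk4goldsch23FF
import Groth.Prelude.Def_LocRes
import Groth.Agent.H86.DV3

/-!
# Kaehler differentials of a function field of one variable over a perfect field (helper63)

* `derivation_eq_zero`, `span_D_eq_top`: separable generation and differentials.
* `exists_generator`, `exists_smul_D_eq`: `Ω[K/k]` is spanned by `dx` whenever `dx ≠ 0`.
* `exists_der`: the derivation `d/dx`.
* `lift_smul_eq`: an identity `g dx = g' dx'` of differentials transfers through any expansion.
-/

set_option autoImplicit false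
set_option linter.style.haveILetI false

namespace Groth.Agent.H63.KaehlerFF
open FunFld

section Gen
variable {k K : Type*} [Field k] [Field K] [Algebra k K]

/-- kernel of a derivation as an intermediate field -/
def kerField (δ : Derivation k K K) : IntermediateField k K where
  carrier := {z | δ z = 0}
  mul_mem' {a b} ha hb := by
    change δ (a * b) = 0
    rw [Derivation.leibniz, show δ a = 0 from ha, show δ b = 0 from hb, smul_zero, smul_zero,
      add_zero]
  add_mem' {a b} ha hb := by
    change δ (a + b) = 0
    rw [map_add, show δ a = 0 from ha, show δ b = 0 from hb, add_zero]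
  algebraMap_mem' c := by
    change δ (algebraMap k K c) = 0
    exact δ.map_algebraMap c
  inv_mem' a ha := by
    change δ a⁻¹ = 0
    rw [Derivation.leibniz_inv, show δ a = 0 from ha, smul_zero]

theorem mem_kerField {δ : Derivation k K K} {z : K} : z ∈ kerField δ ↔ δ z = 0 := Iff.rfl

/-- a derivation vanishing on a set over which `K` is separable is zero -/
theorem derivation_eq_zero (S : Set K) [Algebra.IsSeparable (IntermediateField.adjoin k S) K]
    (δ : Derivation k K K) (h : ∀ t ∈ S, δ t = 0) : δ = 0 := by
  have hle : IntermediateField.adjoin k S ≤ kerField δ := by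
    rw [IntermediateField.adjoin_le_iff]
    intro t ht
    exact h t ht
  let δ' : Derivation (IntermediateField.adjoin k S) K K :=
    Derivation.mk'
      ({ toFun := δ
         map_add' := fun x y => map_add δ x y
         map_smul' := fun c x => by
           change δ ((c : K) * x) = (c : K) * δ x
           rw [Derivation.leibniz, show δ (c : K) = 0 from hle c.2, smul_zero, add_zero,
             smul_eq_mul] } : K →ₗ[IntermediateField.adjoin k S] K)
      (fun a b => by
        change δ (a * b) = a • δ b + b • δ a
        exact δ.leibniz a b)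
  haveI : Algebra.FormallyUnramified (IntermediateField.adjoin k S) K :=
    Algebra.FormallyUnramified.of_isSeparable _ _
  ext z
  have h1 := Derivation.liftKaehlerDifferential_comp_D δ' z
  have h2 : KaehlerDifferential.D (IntermediateField.adjoin k S) K z = 0 := Subsingleton.elim _ _
  rw [h2, map_zero] at h1
  exact h1.symm

theorem span_D_eq_top (S : Set K) [Algebra.IsSeparable (IntermediateField.adjoin k S) K] :
    Submodule.span K ((KaehlerDifferential.D k K) '' S) = ⊤ := by
  by_contra hne
  obtain ⟨ℓ, hℓ0, hℓ⟩ := Submodule.exists_le_ker_of_lt_top _ (lt_top_iff_ne_top.2 hne)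
  have hδ : ℓ.compDer (KaehlerDifferential.D k K) = 0 := by
    apply derivation_eq_zero S
    intro t ht
    change ℓ (KaehlerDifferential.D k K t) = 0
    exact hℓ (Submodule.subset_span ⟨t, ht, rfl⟩)
  apply hℓ0
  apply LinearMap.ext_on_range (KaehlerDifferential.span_range_derivation k K)
  intro z
  have := congrArg (fun d : Derivation k K K => d z) hδ
  simpa using this

end Gen

section FF
variable {k K : Type*} [Field k] [Field K] [Algebra k K]

theorem trdeg_le_one (hK : IsFunctionField k K) : Algebra.trdeg k K ≤ 1 := by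
  obtain ⟨x, hx, hfin⟩ := hK.1
  haveI : Algebra.IsAlgebraic (IntermediateField.adjoin k ({x} : Set K)) K :=
    Algebra.IsAlgebraic.of_finite _ _
  haveI : Algebra.IsAlgebraic (Algebra.adjoin k ({x} : Set K)) K :=
    IntermediateField.isAlgebraic_adjoin_iff_top.1 this
  have := Algebra.IsAlgebraic.trdeg_le_cardinalMk k ({x} : Set K)
  rwa [Cardinal.mk_singleton] at this

variable [PerfectField k]

theorem exists_generator (hK : IsFunctionField k K) :
    ∃ ω₀ : Ω[K⁄k], ∀ ω : Ω[K⁄k], ∃ a : K, ω = a • ω₀ := by
  haveI := Groth.Agent.H86.FF.essFiniteType_of_isFunctionField hK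
  obtain ⟨s, hs, hsep⟩ := exists_isTranscendenceBasis_and_isSeparable_of_perfectField k K
  have hcard : s.card ≤ 1 := by
    have h1 := hs.cardinalMk_eq_trdeg
    have h2 := trdeg_le_one hK
    rw [← h1, Cardinal.mk_coe_finset] at h2
    exact_mod_cast h2
  obtain ⟨t, ht⟩ := Finset.card_le_one_iff_subset_singleton.1 hcard
  refine ⟨KaehlerDifferential.D k K t, fun ω => ?_⟩
  have htop := span_D_eq_top (k := k) (s : Set K)
  have hle : Submodule.span K ((KaehlerDifferential.D k K) '' (s : Set K)) ≤
      Submodule.span K {KaehlerDifferential.D k K t} := by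
    apply Submodule.span_mono
    rintro _ ⟨z, hz, rfl⟩
    have := ht (Finset.mem_coe.1 hz)
    rw [Finset.mem_singleton] at this
    rw [this]
    exact Set.mem_singleton _
  rw [htop, top_le_iff] at hle
  have hω : ω ∈ Submodule.span K {KaehlerDifferential.D k K t} := by rw [hle]; trivial
  obtain ⟨a, ha⟩ := Submodule.mem_span_singleton.1 hω
  exact ⟨a, ha.symm⟩

theorem exists_smul_D_eq (hK : IsFunctionField k K) {x : K} (hx : KaehlerDifferential.D k K x ≠ 0)
    (ω : Ω[K⁄k]) : ∃ a : K, ω = a • KaehlerDifferential.D k K x := by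
  obtain ⟨ω₀, h⟩ := exists_generator hK
  obtain ⟨b, hb⟩ := h (KaehlerDifferential.D k K x)
  obtain ⟨a, ha⟩ := h ω
  have hb0 : b ≠ 0 := by
    rintro rfl
    rw [zero_smul] at hb
    exact hx hb
  refine ⟨a * b⁻¹, ?_⟩
  rw [hb, smul_smul, mul_assoc, inv_mul_cancel₀ hb0, mul_one, ha]


/-- the derivation `d/dx` for `dx ≠ 0` -/
theorem exists_der (hK : IsFunctionField k K) {x : K} (hx : KaehlerDifferential.D k K x ≠ 0) :
    ∃ δ : Derivation k K K, ∀ z, KaehlerDifferential.D k K z = δ z • KaehlerDifferential.D k K x := by
  obtain ⟨ℓ, hℓ⟩ := Module.Projective.exists_dual_eq_one K hx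
  refine ⟨ℓ.compDer (KaehlerDifferential.D k K), fun z => ?_⟩
  obtain ⟨a, ha⟩ := exists_smul_D_eq hK hx (KaehlerDifferential.D k K z)
  change _ = ℓ (KaehlerDifferential.D k K z) • _
  rw [ha, map_smul, hℓ, smul_eq_mul, mul_one]

end FF

section Lift
variable {k K F : Type*} [Field k] [Field K] [Algebra k K] [Field F] [Algebra k F]
open LaurentSeries

/-- an identity of differentials transfers through an expansion -/
theorem lift_smul_eq (φ : K →ₐ[k] F⸨X⸩) {g g' x x' : K}
    (h : g • KaehlerDifferential.D k K x = g' • KaehlerDifferential.D k K x') :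
    φ g * LocRes.D F (φ x) = φ g' * LocRes.D F (φ x') := by
  letI := φ.toRingHom.toAlgebra
  haveI : IsScalarTower k K F⸨X⸩ := LocRes.isScalarTower_exp φ
  have h1 := congrArg (LocRes.dExp φ).liftKaehlerDifferential h
  rw [map_smul, map_smul, Derivation.liftKaehlerDifferential_comp_D,
    Derivation.liftKaehlerDifferential_comp_D] at h1
  exact h1

theorem D_map_eq_of_D_eq (φ : K →ₐ[k] F⸨X⸩) {x z a : K}
    (h : KaehlerDifferential.D k K z = a • KaehlerDifferential.D k K x) :
    LocRes.D F (φ z) = φ a * LocRes.D F (φ x) := by
  have := lift_smul_eq φ (g := 1) (g' := a) (x := z) (x' := x) (by rw [one_smul]; exact h)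
  rwa [map_one, one_mul] at this

end Lift

end Groth.Agent.H63.KaehlerFF
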