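import Mathlib.RingTheory.AdicCompletion.LocalRing
import Mathlib.RingTheory.AdicCompletion.Functoriality
import Mathlib.RingTheory.MvPowerSeries.Equiv
import Mathlib.RingTheory.Noetherian.Basic

set_option autoImplicit false
set_option linter.style.haveILetI false
set_option linter.unusedSectionVars false
universe u v

namespace Groth.Agent.H63

open AdicCompletion

section Functorial

variable {Q R : Type*} [CommRing Q] [CommRing R] (I : Ideal Q) (J : Ideal R) (f : Q →+* R)

theorem factorPow_evalₐ {m n : ℕ} (hle : m ≤ n) (x : AdicCompletion I Q) :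
    Ideal.Quotient.factorPow I hle (evalₐ I n x) = evalₐ I m x := by
  obtain ⟨c, rfl⟩ := AdicCompletion.mk_surjective I Q x
  rw [evalₐ_mk, evalₐ_mk, Ideal.Quotient.factor_mk]
  exact AdicCompletion.Ideal.mk_eq_mk I hle c

theorem pow_le_comap_pow (h : I.map f ≤ J) (n : ℕ) : I ^ n ≤ (J ^ n).comap f := by
  rw [← Ideal.map_le_iff_le_comap, Ideal.map_pow]
  exact Ideal.pow_right_mono h n

theorem complMap_compat (h : I.map f ≤ J) {m n : ℕ} (hle : m ≤ n) :
    (Ideal.Quotient.factorPow J hle).comp ((Ideal.quotientMap (J ^ n) f (pow_le_comap_pow I J f h n)).comp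
      (evalₐ I n : AdicCompletion I Q →+* Q ⧸ I ^ n)) =
    (Ideal.quotientMap (J ^ m) f (pow_le_comap_pow I J f h m)).comp
      (evalₐ I m : AdicCompletion I Q →+* Q ⧸ I ^ m) := by
  ext x
  obtain ⟨q, hq⟩ := Ideal.Quotient.mk_surjective (evalₐ I n x)
  have hm : evalₐ I m x = Ideal.Quotient.mk (I ^ m) q := by
    rw [← factorPow_evalₐ I hle x, ← hq, Ideal.Quotient.factor_mk]
  simp only [RingHom.comp_apply]
  change Ideal.Quotient.factorPow J hle (Ideal.quotientMap (J ^ n) f _ (evalₐ I n x)) =
    Ideal.quotientMap (J ^ m) f _ (evalₐ I m x)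
  rw [hm, ← hq, Ideal.quotientMap_mk, Ideal.quotientMap_mk, Ideal.Quotient.factor_mk]

/-- Functoriality of adic completion of rings. -/
noncomputable def complMap (h : I.map f ≤ J) : AdicCompletion I Q →+* AdicCompletion J R :=
  AdicCompletion.liftRingHom J
    (fun n => (Ideal.quotientMap (J ^ n) f (pow_le_comap_pow I J f h n)).comp
      (evalₐ I n : AdicCompletion I Q →+* Q ⧸ I ^ n))
    (fun hle => complMap_compat I J f h hle)

theorem evalₐ_complMap (h : I.map f ≤ J) (n : ℕ) (x : AdicCompletion I Q) :
    evalₐ J n (complMap I J f h x) =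
      Ideal.quotientMap (J ^ n) f (pow_le_comap_pow I J f h n) (evalₐ I n x) :=
  evalₐ_liftRingHom J _ (fun hle => complMap_compat I J f h hle) n x

theorem complMap_of (h : I.map f ≤ J) (q : Q) :
    complMap I J f h (algebraMap Q (AdicCompletion I Q) q) = algebraMap R (AdicCompletion J R) (f q) := by
  apply ext_evalₐ
  intro n
  rw [evalₐ_complMap, AlgHom.commutes, AlgHom.commutes]
  rfl

theorem complMap_comp_algebraMap (h : I.map f ≤ J) :
    (complMap I J f h).comp (algebraMap Q (AdicCompletion I Q)) =
      (algebraMap R (AdicCompletion J R)).comp f :=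
  RingHom.ext fun q => complMap_of I J f h q

theorem complMap_surjective (hI : I.FG) (hJ : J.FG) (hmap : I.map f = J) (hf : Function.Surjective f) :
    Function.Surjective (complMap I J f hmap.le) := by
  haveI : IsAdicComplete (I.map (algebraMap Q (AdicCompletion I Q))) (AdicCompletion I Q) :=
    AdicCompletion.isAdicComplete_self I hI
  have hmm : (I.map (algebraMap Q (AdicCompletion I Q))).map (complMap I J f hmap.le) =
      J.map (algebraMap R (AdicCompletion J R)) := by
    rw [Ideal.map_map, complMap_comp_algebraMap, ← Ideal.map_map, hmap]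
  haveI : IsHausdorff ((I.map (algebraMap Q (AdicCompletion I Q))).map (complMap I J f hmap.le))
      (AdicCompletion J R) := by
    rw [hmm]
    exact (AdicCompletion.isAdicComplete_self J hJ).toIsHausdorff
  apply surjective_of_mk_map_comp_surjective (complMap I J f hmap.le)
    (I := I.map (algebraMap Q (AdicCompletion I Q)))
  intro y
  obtain ⟨y', rfl⟩ := Ideal.Quotient.mk_surjective y
  obtain ⟨r, hr⟩ := Ideal.Quotient.mk_surjective (evalOneₐ J y')
  obtain ⟨q, rfl⟩ := hf r
  refine ⟨algebraMap Q (AdicCompletion I Q) q, ?_⟩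
  rw [RingHom.comp_apply, complMap_of, Ideal.Quotient.eq, hmm, ← AdicCompletion.ker_evalOneₐ_eq_map J hJ,
    RingHom.mem_ker]
  change evalOneₐ J (algebraMap R (AdicCompletion J R) (f q) - y') = 0
  rw [map_sub, AlgHom.commutes, ← hr]
  exact sub_self _

end Functorial

/-- The adic completion of a Noetherian ring is Noetherian. -/
theorem isNoetherianRing_adicCompletion {R : Type*} [CommRing R] [IsNoetherianRing R] (J : Ideal R) :
    IsNoetherianRing (AdicCompletion J R) := by
  classical
  have hJ : J.FG := (isNoetherianRing_iff_ideal_fg R).1 inferInstance J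
  obtain ⟨r, g, hg⟩ := Submodule.fg_iff_exists_fin_generating_family.1 hJ
  let Q := MvPolynomial (Fin r) R
  let I : Ideal Q := MvPolynomial.idealOfVars (Fin r) R
  let ev : Q →ₐ[R] R := MvPolynomial.aeval g
  have hI : I.FG := MvPolynomial.idealOfVars_fg (Fin r) R
  have hmap : I.map (ev : Q →+* R) = J := by
    rw [← hg]
    change Ideal.map _ (Ideal.span _) = _
    rw [Ideal.map_span, ← Set.range_comp]
    congr 2
    funext i
    exact MvPolynomial.aeval_X g i
  have hev : Function.Surjective (ev : Q →+* R) := fun x => ⟨MvPolynomial.C x, by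
    change MvPolynomial.aeval g (MvPolynomial.C x) = x
    rw [MvPolynomial.aeval_C]; rfl⟩
  haveI : IsNoetherianRing (AdicCompletion I Q) :=
    isNoetherianRing_of_ringEquiv _ (MvPowerSeries.toAdicCompletionAlgEquiv (Fin r) R).toRingEquiv
  exact isNoetherianRing_of_surjective _ _ _ (complMap_surjective I J (ev : Q →+* R) hI hJ hmap hev)


end Groth.Agent.H63
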