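import Groth.Agent.H63.ArtSurj
import Groth.Agent.H63.ArtFibre

set_option autoImplicit false
set_option linter.style.haveILetI false
universe u v
open CategoryTheory

namespace Groth.Agent.H63

open ArtFun ArtFun.Art

variable {Λ : Type u} {k : Type u} [CommRing Λ] [Field k] [Algebra Λ k]

/-- image factorisation in `Art` -/
theorem exists_image_factor {C B : Art Λ k} (g : C ⟶ B) :
    ∃ (C' : Art Λ k) (q : C ⟶ C') (g' : C' ⟶ B), Function.Surjective q ∧ Function.Injective g' ∧ q ≫ g' = g := by
  obtain ⟨C', q, hq, hqK⟩ := exists_quot C (RingHom.ker g.toAlgHom) (ker_le_maximalIdeal g)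
  obtain ⟨g', hg'⟩ := exists_factor q hq g (by rw [hqK])
  refine ⟨C', q, g', hq, ?_, hg'⟩
  rw [injective_iff_map_eq_zero]
  intro c' hc'
  obtain ⟨c, rfl⟩ := hq c'
  have h1 : g c = 0 := by rw [← hg']; exact hc'
  have h2 : c ∈ RingHom.ker q.toAlgHom := by rw [hqK]; exact RingHom.mem_ker.2 h1
  exact RingHom.mem_ker.1 h2

theorem not_essential_iff_exists_section {A B : Art Λ k} (f : B ⟶ A) (hf : IsSmallExt f) :
    (∃ (C : Art Λ k) (g : C ⟶ B), Function.Surjective (g ≫ f) ∧ ¬ Function.Surjective g) ↔
      ∃ s : A ⟶ B, s ≫ f = 𝟙 A := by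
  obtain ⟨hsurj, hne, hprin, hm⟩ := hf
  constructor
  · rintro ⟨C, g, hgf, hg⟩
    obtain ⟨t, ht⟩ := hprin.principal
    have ht' : RingHom.ker f.toAlgHom = Ideal.span {t} := ht
    have hmt : ∀ a ∈ IsLocalRing.maximalIdeal B, a * t = 0 := by
      intro a ha
      have : a * t ∈ IsLocalRing.maximalIdeal B * RingHom.ker f.toAlgHom :=
        Ideal.mul_mem_mul ha (by rw [ht']; exact Ideal.subset_span rfl)
      rwa [hm, Ideal.mem_bot] at this
    obtain ⟨C', q, g', hq, hg'inj, hqg'⟩ := exists_image_factor g
    have hg'ns : ¬ Function.Surjective g' := by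
      intro h
      apply hg
      rw [← hqg']
      exact h.comp hq
    let h : C' ⟶ A := g' ≫ f
    have hh : Function.Surjective h := by
      intro a
      obtain ⟨c, hc⟩ := hgf a
      refine ⟨q c, ?_⟩
      rw [← hc, ← hqg']
      rfl
    have hinj : Function.Injective h := by
      rw [injective_iff_map_eq_zero]
      intro c' hc'
      apply hg'inj
      rw [map_zero]
      by_contra hne0
      apply hg'ns
      have hker : g' c' ∈ RingHom.ker f.toAlgHom := RingHom.mem_ker.2 hc'
      rw [ht'] at hker
      obtain ⟨u, hu⟩ := Ideal.mem_span_singleton'.1 hker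
      have hunit : IsUnit u := by
        by_contra hnu
        apply hne0
        rw [← hu, hmt u ((IsLocalRing.mem_maximalIdeal _).2 hnu)]
      -- t is in the range of g'
      have htr : ∃ c₀ : C', g' c₀ = t := by
        have hresu : B.res u ≠ 0 := by
          intro h0
          exact (IsLocalRing.mem_maximalIdeal _).1 ((mem_maximalIdeal_iff B u).2 h0) hunit
        obtain ⟨c₁, hc₁⟩ := C'.res_surjective (B.res u)⁻¹
        refine ⟨c₁ * c', ?_⟩
        rw [map_mul, ← hu, ← mul_assoc]
        have : g' c₁ * u - 1 ∈ IsLocalRing.maximalIdeal B := by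
          rw [mem_maximalIdeal_iff, map_sub, map_mul, map_one, res_app, hc₁, inv_mul_cancel₀ hresu, sub_self]
        have := hmt _ this
        rw [sub_mul, one_mul, sub_eq_zero] at this
        exact this
      obtain ⟨c₀, hc₀⟩ := htr
      intro b
      obtain ⟨c'', hc''⟩ := hh (f b)
      have : b - g' c'' ∈ RingHom.ker f.toAlgHom := by
        rw [RingHom.mem_ker, map_sub]
        have : f (g' c'') = f b := hc''
        rw [this, sub_self]
      rw [ht'] at this
      obtain ⟨v, hv⟩ := Ideal.mem_span_singleton'.1 this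
      obtain ⟨v', hv'⟩ := C'.res_surjective (B.res v)
      have hvv : g' v' * t = v * t := by
        have : g' v' - v ∈ IsLocalRing.maximalIdeal B := by
          rw [mem_maximalIdeal_iff, map_sub, res_app, hv', sub_self]
        have := hmt _ this
        rwa [sub_mul, sub_eq_zero] at this
      refine ⟨c'' + v' * c₀, ?_⟩
      rw [map_add, map_mul, hc₀, hvv, hv]
      ring
    haveI : IsIso h := isIso_of_bijective h ⟨hinj, hh⟩
    refine ⟨inv h ≫ g', ?_⟩
    rw [Category.assoc]
    exact IsIso.inv_hom_id h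
  · rintro ⟨s, hs⟩
    refine ⟨A, s, ?_, ?_⟩
    · rw [hs]
      exact fun a => ⟨a, rfl⟩
    · intro hssurj
      apply hne
      rw [eq_bot_iff]
      intro b hb
      rw [RingHom.mem_ker] at hb
      obtain ⟨a, rfl⟩ := hssurj b
      have : (s ≫ f) a = 0 := hb
      rw [hs] at this
      have ha : a = 0 := this
      rw [ha, map_zero]
      exact Ideal.zero_mem _


/-- essential surjections -/
def IsEssential {A B : Art Λ k} (f : B ⟶ A) : Prop :=
  Function.Surjective f ∧ ∀ (C : Art Λ k) (g : C ⟶ B), Function.Surjective (g ≫ f) → Function.Surjective g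

/-- the relative cotangent kernel -/
def cotKer (B : Art Λ k) : Ideal B :=
  Ideal.map (algebraMap Λ B) (RingHom.ker (algebraMap Λ k)) ⊔ IsLocalRing.maximalIdeal B ^ 2

theorem cotKer_le (B : Art Λ k) : cotKer B ≤ IsLocalRing.maximalIdeal B :=
  sup_le (map_ker_le_maximalIdeal B) (Ideal.pow_le_self two_ne_zero)

/-- surjectivity can be tested modulo the relative cotangent kernel -/
theorem surjective_of_comp_surjective {B B' C : Art Λ k} (q : B ⟶ B')
    (hk : RingHom.ker q.toAlgHom ≤ cotKer B) (g : C ⟶ B) (hg : Function.Surjective (g ≫ q)) :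
    Function.Surjective g := by
  apply ((surjective_tfae g).out 2 0).1
  apply le_antisymm
  · exact sup_le (sup_le (map_ker_le_maximalIdeal B) (map_maximalIdeal_le g)) (Ideal.pow_le_self two_ne_zero)
  · intro b hb
    obtain ⟨c, hc⟩ := hg (q b)
    have hc' : q (g c) = q b := hc
    have hcm : c ∈ IsLocalRing.maximalIdeal C := by
      rw [mem_maximalIdeal_iff, ← res_app g, ← res_app q, hc', res_app, (mem_maximalIdeal_iff B b).1 hb]
    have hd : b - g c ∈ RingHom.ker q.toAlgHom := by
      rw [RingHom.mem_ker, map_sub]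
      exact sub_eq_zero.2 hc'.symm
    have hd' := hk hd
    have : b = g c + (b - g c) := by ring
    rw [this]
    have h1 : g c ∈ Ideal.map g.toAlgHom (IsLocalRing.maximalIdeal C) := Ideal.mem_map_of_mem _ hcm
    rw [sup_assoc, sup_left_comm]
    apply Ideal.add_mem
    · exact Ideal.mem_sup_left h1
    · exact Ideal.mem_sup_right hd'

theorem isEssential_iff_of_quot [Module.Finite Λ k] {A B A' B' : Art Λ k} (f : B ⟶ A)
    (qB : B ⟶ B') (hqB : Function.Surjective qB) (hkB : RingHom.ker qB.toAlgHom = cotKer B)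
    (qA : A ⟶ A') (hqA : Function.Surjective qA) (hkA : RingHom.ker qA.toAlgHom = cotKer A)
    (f' : B' ⟶ A') (hf' : qB ≫ f' = f ≫ qA) :
    IsEssential f ↔ IsEssential f' := by
  constructor
  · rintro ⟨hf, hess⟩
    refine ⟨?_, ?_⟩
    · intro a'
      obtain ⟨a, rfl⟩ := hqA a'
      obtain ⟨b, rfl⟩ := hf a
      exact ⟨qB b, congrArg (fun t : B ⟶ A' => t b) hf'⟩
    · intro C g hg
      obtain ⟨D, πC, πB, hD⟩ := exists_isFibreProd_of_surjective g qB hqB
      have hπC : Function.Surjective πC := IsFibreProd.fst_surjective hD hqB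
      have h1 : Function.Surjective ((πB ≫ f) ≫ qA) := by
        rw [Category.assoc, ← hf', ← Category.assoc, ← hD.w, Category.assoc]
        exact hg.comp hπC
      have h2 : Function.Surjective (πB ≫ f) := surjective_of_comp_surjective qA (le_of_eq hkA) _ h1
      have h3 : Function.Surjective πB := hess D πB h2
      intro b'
      obtain ⟨b, rfl⟩ := hqB b'
      obtain ⟨d, rfl⟩ := h3 b
      exact ⟨πC d, hD.w_apply d⟩
  · rintro ⟨hf, hess⟩
    refine ⟨?_, ?_⟩
    · apply surjective_of_comp_surjective qA (le_of_eq hkA)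
      rw [← hf']
      exact hf.comp hqB
    · intro C g hg
      apply surjective_of_comp_surjective qB (le_of_eq hkB)
      apply hess
      rw [Category.assoc, hf', ← Category.assoc]
      exact hqA.comp hg

end Groth.Agent.H63
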