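import Groth.Agent.H63.ArtPaste

set_option autoImplicit false
set_option linter.style.haveILetI false
universe u v
open CategoryTheory

namespace Groth.Agent.H63

open ArtFun ArtFun.Art

variable {Λ : Type u} {k : Type u} [CommRing Λ] [Field k] [Algebra Λ k]

/-- `x` lifts to "`B/J`" (model independent form). -/
def Lifts (F : Art Λ k ⥤ Type v) {B A : Art Λ k} (p : B ⟶ A) (x : F.obj A) (J : Ideal B) : Prop :=
  ∃ (B' : Art Λ k) (q : B ⟶ B') (g : B' ⟶ A), Function.Surjective q ∧ RingHom.ker q.toAlgHom = J ∧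
    q ≫ g = p ∧ ∃ y : F.obj B', F.map g y = x

variable {F : Art Λ k ⥤ Type v} {B A : Art Λ k} {p : B ⟶ A} {x : F.obj A}

theorem Lifts.model (hJ : ∀ {J : Ideal B}, Lifts F p x J → J ≤ RingHom.ker p.toAlgHom := by exact fun _ => le_rfl)
    {J : Ideal B} (h : Lifts F p x J) {B'' : Art Λ k} (q' : B ⟶ B'') (g' : B'' ⟶ A)
    (hq' : Function.Surjective q') (hker : J ≤ RingHom.ker q'.toAlgHom) (hqg : q' ≫ g' = p) :
    ∃ y : F.obj B'', F.map g' y = x := by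
  obtain ⟨B', q, g, hq, hqJ, hqg', y, hy⟩ := h
  obtain ⟨r, hr⟩ := exists_factor q hq q' (by rw [hqJ]; exact hker)
  have hrg : r ≫ g' = g := by
    apply eq_of_comp_eq q hq
    rw [← Category.assoc, hr, hqg, hqg']
  exact ⟨F.map r y, by rw [← map_comp_apply, hrg, hy]⟩

theorem Lifts.le_ker {J : Ideal B} (h : Lifts F p x J) : J ≤ RingHom.ker p.toAlgHom := by
  obtain ⟨B', q, g, hq, hqJ, hqg, -⟩ := h
  rw [← hqJ, ← hqg]
  intro b hb
  rw [RingHom.mem_ker] at hb ⊢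
  change g (q b) = 0
  have : q b = 0 := hb
  rw [this, map_zero]

theorem Lifts.mono {J J' : Ideal B} (h : Lifts F p x J) (hJJ' : J ≤ J') (hJ' : J' ≤ RingHom.ker p.toAlgHom) :
    Lifts F p x J' := by
  obtain ⟨B'', q', hq', hq'K⟩ := exists_quot B J' (hJ'.trans (ker_le_maximalIdeal p))
  obtain ⟨g', hg'⟩ := exists_factor q' hq' p (by rw [hq'K]; exact hJ')
  obtain ⟨y, hy⟩ := Lifts.model (fun h => Lifts.le_ker h) h q' g' hq' (by rw [hq'K]; exact hJJ') hg'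
  exact ⟨B'', q', g', hq', hq'K, hg', y, hy⟩

theorem Lifts.ker (hp : Function.Surjective p) : Lifts F p x (RingHom.ker p.toAlgHom) :=
  ⟨A, p, 𝟙 A, hp, rfl, Category.comp_id p, x, map_id_apply F x⟩

/-- quotient by an intersection as a fibre product -/
theorem isFibreProd_of_inf {B₁ B₂ B₁₂ : Art Λ k} (q₁ : B ⟶ B₁) (q₂ : B ⟶ B₂) (q₁₂ : B ⟶ B₁₂)
    (hq₁ : Function.Surjective q₁) (hq₂ : Function.Surjective q₂) (hq₁₂ : Function.Surjective q₁₂)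
    (hk : RingHom.ker q₁₂.toAlgHom = RingHom.ker q₁.toAlgHom ⊓ RingHom.ker q₂.toAlgHom)
    (r₁ : B₁₂ ⟶ B₁) (r₂ : B₁₂ ⟶ B₂) (hr₁ : q₁₂ ≫ r₁ = q₁) (hr₂ : q₁₂ ≫ r₂ = q₂)
    (g₁ : B₁ ⟶ A) (g₂ : B₂ ⟶ A) (hg₁ : q₁ ≫ g₁ = p) (hg₂ : q₂ ≫ g₂ = p)
    (hsup : RingHom.ker p.toAlgHom ≤ RingHom.ker q₁.toAlgHom ⊔ RingHom.ker q₂.toAlgHom) :
    IsFibreProd r₁ r₂ g₁ g₂ where
  w := by
    apply eq_of_comp_eq q₁₂ hq₁₂
    rw [← Category.assoc, ← Category.assoc, hr₁, hr₂, hg₁, hg₂]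
  inj c c' h₁ h₂ := by
    obtain ⟨b, rfl⟩ := hq₁₂ c
    obtain ⟨b', rfl⟩ := hq₁₂ c'
    have e₁ : q₁ b = q₁ b' := by
      rw [← hr₁]; exact h₁
    have e₂ : q₂ b = q₂ b' := by
      rw [← hr₂]; exact h₂
    have : b - b' ∈ RingHom.ker q₁₂.toAlgHom := by
      rw [hk]
      constructor
      · change _ ∈ RingHom.ker q₁.toAlgHom
        rw [RingHom.mem_ker, map_sub]; exact sub_eq_zero.2 e₁
      · change _ ∈ RingHom.ker q₂.toAlgHom
        rw [RingHom.mem_ker, map_sub]; exact sub_eq_zero.2 e₂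
    rw [RingHom.mem_ker, map_sub] at this
    exact sub_eq_zero.1 this
  surj c₁ c₂ h := by
    obtain ⟨b₁, rfl⟩ := hq₁ c₁
    obtain ⟨b₂, rfl⟩ := hq₂ c₂
    have hp' : p b₁ = p b₂ := by
      have e₁ : p b₁ = g₁ (q₁ b₁) := by rw [← hg₁]; rfl
      have e₂ : p b₂ = g₂ (q₂ b₂) := by rw [← hg₂]; rfl
      rw [e₁, e₂]
      exact h
    have : b₁ - b₂ ∈ RingHom.ker p.toAlgHom := by
      rw [RingHom.mem_ker, map_sub]; exact sub_eq_zero.2 hp'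
    obtain ⟨j₁, hj₁, j₂, hj₂, hj⟩ := Submodule.mem_sup.1 (hsup this)
    rw [RingHom.mem_ker] at hj₁ hj₂
    refine ⟨q₁₂ (b₁ - j₁), ?_, ?_⟩
    · have : r₁ (q₁₂ (b₁ - j₁)) = q₁ (b₁ - j₁) := by rw [← hr₁]; rfl
      rw [this, map_sub]
      have : q₁ j₁ = 0 := hj₁
      rw [this, sub_zero]
    · have : r₂ (q₁₂ (b₁ - j₁)) = q₂ (b₁ - j₁) := by rw [← hr₂]; rfl
      rw [this]
      have e : b₁ - j₁ = b₂ + j₂ := by
        have : b₁ = b₂ + (j₁ + j₂) := by rw [hj]; ring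
        rw [this]; ring
      rw [e, map_add]
      have : q₂ j₂ = 0 := hj₂
      rw [this, add_zero]

/-- the set of ideals along which `x` lifts is closed under intersection -/
theorem Lifts.inf [Module.Finite Λ k] (h1 : S1 F) (hp : IsSemismallExt p) {J₁ J₂ : Ideal B}
    (hJ₁ : Lifts F p x J₁) (hJ₂ : Lifts F p x J₂) : Lifts F p x (J₁ ⊓ J₂) := by
  set I := RingHom.ker p.toAlgHom with hI
  have hJ₁I : J₁ ≤ I := Lifts.le_ker hJ₁
  have hJ₂I : J₂ ≤ I := Lifts.le_ker hJ₂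
  -- choose J₂' maximal
  let S : Set (Ideal B) := {J' | J₂ ≤ J' ∧ J' ≤ I ∧ J₁ ⊓ J' = J₁ ⊓ J₂}
  have hSne : S.Nonempty := ⟨J₂, le_rfl, hJ₂I, rfl⟩
  obtain ⟨J₂', hJ₂'S, hmax⟩ := (wellFounded_gt (α := Ideal B)).has_min S hSne
  obtain ⟨h2le, h2I, h2inf⟩ := hJ₂'S
  have hsup : I ≤ J₁ ⊔ J₂' := by
    intro v hv
    by_contra hvn
    apply hmax (J₂' ⊔ Ideal.span {v})
    · refine ⟨h2le.trans le_sup_left, sup_le h2I (by rw [Ideal.span_le, Set.singleton_subset_iff]; exact hv), ?_⟩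
      rw [← h2inf]
      apply le_antisymm
      · intro u ⟨hu₁, hu₂⟩
        refine ⟨hu₁, ?_⟩
        obtain ⟨j, hj, z, hz, rfl⟩ := Submodule.mem_sup.1 hu₂
        obtain ⟨c, rfl⟩ := Ideal.mem_span_singleton'.1 hz
        by_cases hc : IsUnit c
        · exfalso
          apply hvn
          obtain ⟨c', hc'⟩ := hc.exists_left_inv
          have : v = c' * (j + c * v) - c' * j := by
            rw [mul_add, ← mul_assoc, hc']; ring
          rw [this]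
          exact Ideal.sub_mem _ (Ideal.mem_sup_left (Ideal.mul_mem_left _ _ hu₁))
            (Ideal.mem_sup_right (Ideal.mul_mem_left _ _ hj))
        · have hcm : c ∈ IsLocalRing.maximalIdeal B := (IsLocalRing.mem_maximalIdeal _).2 hc
          have : c * v ∈ IsLocalRing.maximalIdeal B * RingHom.ker p.toAlgHom := Ideal.mul_mem_mul hcm hv
          rw [hp.2, Ideal.mem_bot] at this
          rw [this, add_zero]
          exact hj
      · exact inf_le_inf_left _ le_sup_left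
    · refine lt_of_le_of_ne le_sup_left fun h => hvn ?_
      have : v ∈ J₂' := by
        rw [h]
        exact Ideal.mem_sup_right (Ideal.subset_span rfl)
      exact Ideal.mem_sup_right this
  have hJ₂' : Lifts F p x J₂' := Lifts.mono hJ₂ h2le h2I
  rw [← h2inf]
  obtain ⟨B₁, q₁, g₁, hq₁, hq₁J, hqg₁, y₁, hy₁⟩ := hJ₁
  obtain ⟨B₂, q₂, g₂, hq₂, hq₂J, hqg₂, y₂, hy₂⟩ := hJ₂'
  have hmB := ker_le_maximalIdeal p
  obtain ⟨B₁₂, q₁₂, hq₁₂, hq₁₂J⟩ := exists_quot B (J₁ ⊓ J₂') (inf_le_left.trans (hJ₁I.trans hmB))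
  obtain ⟨r₁, hr₁⟩ := exists_factor q₁₂ hq₁₂ q₁ (by rw [hq₁₂J, hq₁J]; exact inf_le_left)
  obtain ⟨r₂, hr₂⟩ := exists_factor q₁₂ hq₁₂ q₂ (by rw [hq₁₂J, hq₂J]; exact inf_le_right)
  have hfp : IsFibreProd r₁ r₂ g₁ g₂ :=
    isFibreProd_of_inf (p := p) q₁ q₂ q₁₂ hq₁ hq₂ hq₁₂ (by rw [hq₁₂J, hq₁J, hq₂J]) r₁ r₂ hr₁ hr₂ g₁ g₂ hqg₁ hqg₂
      (by rw [hq₁J, hq₂J]; exact hsup)
  have hg₂surj : Function.Surjective g₂ := by
    intro a
    obtain ⟨b, rfl⟩ := hp.1 a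
    exact ⟨q₂ b, by rw [← hqg₂]; rfl⟩
  obtain ⟨z, hz₁, hz₂⟩ := (cmp_surjective_iff F hfp).1 (h1 _ _ _ _ hfp hg₂surj) y₁ y₂ (by rw [hy₁, hy₂])
  refine ⟨B₁₂, q₁₂, r₁ ≫ g₁, hq₁₂, hq₁₂J, by rw [← Category.assoc, hr₁, hqg₁], z, ?_⟩
  rw [map_comp_apply, hz₁, hy₁]

/-- existence of a least ideal along which `x` lifts -/
theorem exists_least_lifts [Module.Finite Λ k] (h1 : S1 F) (hp : IsSemismallExt p) (x : F.obj A) :
    ∃ J₀ : Ideal B, Lifts F p x J₀ ∧ ∀ J : Ideal B, Lifts F p x J → J₀ ≤ J := by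
  let S : Set (Ideal B) := {J | Lifts F p x J}
  have hSne : S.Nonempty := ⟨_, Lifts.ker hp.1⟩
  obtain ⟨J₀, hJ₀, hmin⟩ := (wellFounded_lt (α := Ideal B)).has_min S hSne
  refine ⟨J₀, hJ₀, fun J hJ => ?_⟩
  have hinf : Lifts F p x (J₀ ⊓ J) := Lifts.inf h1 hp hJ₀ hJ
  by_contra hle
  apply hmin (J₀ ⊓ J) hinf
  refine lt_of_le_of_ne inf_le_left fun h => hle ?_
  rw [← h]
  exact inf_le_right

end Groth.Agent.H63
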