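import Mathlib

set_option autoImplicit false
universe u

namespace Groth.Agent.H63.EtaEt

open TensorProduct KaehlerDifferential AlgebraicGeometry



/-- A formally unramified map between smooth algebras of the same (constant) relative dimension
over a base ring is étale. -/
theorem etale_of_smooth_of_rank_eq (K A T : Type u) [CommRing K] [CommRing A] [CommRing T]
    [Algebra K A] [Algebra K T] [Algebra A T] [IsScalarTower K A T]
    [Algebra.Smooth K A] [Algebra.Smooth K T] [Algebra.FormallyUnramified A T] (d : ℕ)
    (hA : ∀ q : PrimeSpectrum A, Module.rankAtStalk (Ω[A⁄K]) q = d)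
    (hT : ∀ q : PrimeSpectrum T, Module.rankAtStalk (Ω[T⁄K]) q = d) : Algebra.Etale A T := by
  have fp : Algebra.FinitePresentation A T :=
    Algebra.FinitePresentation.of_restrict_scalars_finitePresentation K A T
  have hsurj : Function.Surjective (mapBaseChange K A T) := by
    intro x
    exact (KaehlerDifferential.exact_mapBaseChange_map K A T x).mp (Subsingleton.elim _ _)
  have hbij : Function.Bijective (mapBaseChange K A T) := by
    refine Module.bijective_of_surjective_of_rankAtStalk_eq hsurj ?_
    intro m _
    rw [Module.rankAtStalk_baseChange, hA, hT]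
  have hH1 : Subsingleton (Algebra.H1Cotangent A T) := by
    refine ⟨fun x y => ?_⟩
    have key : ∀ z : Algebra.H1Cotangent A T, z = 0 := by
      intro z
      have h1 : mapBaseChange K A T (Algebra.H1Cotangent.δ K A T z) = 0 :=
        (Algebra.H1Cotangent.exact_δ_mapBaseChange K A T _).mpr ⟨z, rfl⟩
      have h2 : Algebra.H1Cotangent.δ K A T z = 0 := hbij.1 (by rw [h1, map_zero])
      obtain ⟨w, rfl⟩ := (Algebra.H1Cotangent.exact_map_δ K A T z).mp h2
      rw [Subsingleton.elim w 0, map_zero]
    rw [key x, key y]
  have fe : Algebra.FormallyEtale A T := ⟨inferInstance, hH1⟩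
  exact { }




theorem locally_of_smoothOfRelativeDimension (K B : Type u) [CommRing K] [CommRing B] [Algebra K B]
    (d : ℕ)
    (h : SmoothOfRelativeDimension d (Spec.map (CommRingCat.ofHom (algebraMap K B)))) :
    RingHom.Locally (RingHom.IsStandardSmoothOfRelativeDimension d) (algebraMap K B) := by
  have := (HasRingHomProperty.Spec_iff (P := @SmoothOfRelativeDimension d)
    (φ := CommRingCat.ofHom (algebraMap K B))).mp h
  simpa using this

theorem smooth_of_locally (K B : Type u) [CommRing K] [CommRing B] [Algebra K B] (d : ℕ)
    (h : RingHom.Locally (RingHom.IsStandardSmoothOfRelativeDimension d) (algebraMap K B)) :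
    Algebra.Smooth K B := by
  rw [← RingHom.smooth_algebraMap, RingHom.smooth_iff_locally_isStandardSmooth]
  exact RingHom.locally_of_locally (fun hf => hf.isStandardSmooth) h

theorem rank_of_locally (K B : Type u) [CommRing K] [CommRing B] [Algebra K B] (d : ℕ)
    (h : RingHom.Locally (RingHom.IsStandardSmoothOfRelativeDimension d) (algebraMap K B))
    (q : PrimeSpectrum B) : Module.rankAtStalk (Ω[B⁄K]) q = d := by
  have hsm : Algebra.Smooth K B := smooth_of_locally K B d h
  obtain ⟨s, hs, hloc⟩ := h
  -- find t ∈ s with t ∉ q
  obtain ⟨t, hts, htq⟩ : ∃ t ∈ s, t ∉ q.asIdeal := by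
    by_contra hcon
    simp only [not_exists, not_and, not_not] at hcon
    have : Ideal.span s ≤ q.asIdeal := Ideal.span_le.mpr hcon
    rw [hs] at this
    exact q.isPrime.ne_top (top_le_iff.mp this)
  have hst := hloc t hts
  rw [← IsScalarTower.algebraMap_eq, RingHom.isStandardSmoothOfRelativeDimension_algebraMap] at hst
  -- a prime of the localization above q
  have hq : q ∈ Set.range (PrimeSpectrum.comap (algebraMap B (Localization.Away t))) := by
    rw [PrimeSpectrum.localization_away_comap_range (Localization.Away t) t]
    exact htq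
  obtain ⟨q', rfl⟩ := hq
  have hnt : Nontrivial (Localization.Away t) := q'.nontrivial
  have hss : Algebra.IsStandardSmooth K (Localization.Away t) := hst.isStandardSmooth
  have hbc : IsBaseChange (Localization.Away t) (map K K B (Localization.Away t)) :=
    (isLocalizedModule_iff_isBaseChange (Submonoid.powers t) (Localization.Away t) _).mp
      inferInstance
  rw [← Module.rankAtStalk_isBaseChange hbc q', Module.rankAtStalk_eq_finrank_of_free]
  have := Algebra.IsStandardSmoothOfRelativeDimension.rank_kaehlerDifferential
    (R := K) (S := Localization.Away t) d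
  simp only [Pi.natCast_def, Nat.cast_id]
  exact Module.finrank_eq_of_rank_eq this




/-- The fraction field of a DVR is the localization away from a uniformizer. -/
theorem isLocalization_away_of_dvr (V : Type u) [CommRing V] [IsDomain V] [IsDiscreteValuationRing V]
    (ϖ : V) (hϖ : Irreducible ϖ) (K : Type u) [CommRing K] [Algebra V K] [IsFractionRing V K] :
    IsLocalization.Away ϖ K := by
  have h1 : Submonoid.powers ϖ ≤ nonZeroDivisors V := by
    rw [Submonoid.powers_le]
    exact mem_nonZeroDivisors_of_ne_zero hϖ.ne_zero
  have h2 : ∀ n ∈ nonZeroDivisors V, ∃ m ∈ Submonoid.powers ϖ, n ∣ m := by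
    intro n hn
    have hn0 : n ≠ 0 := nonZeroDivisors.ne_zero hn
    obtain ⟨k, hk⟩ := IsDiscreteValuationRing.associated_pow_irreducible hn0 hϖ
    exact ⟨ϖ ^ k, ⟨k, rfl⟩, hk.dvd⟩
  have h3 : IsLocalization (nonZeroDivisors V) (Localization.Away ϖ) :=
    IsLocalization.of_le_of_exists_dvd (Submonoid.powers ϖ) (nonZeroDivisors V) h1 h2
  let e : Localization.Away ϖ ≃ₐ[V] K := IsLocalization.algEquiv (nonZeroDivisors V) _ _
  exact IsLocalization.isLocalization_of_algEquiv (Submonoid.powers ϖ) e

attribute [local instance] Algebra.TensorProduct.rightAlgebra in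
theorem isLocalization_away_tensor (V K R : Type u) [CommRing V] [CommRing K] [CommRing R]
    [Algebra V K] [Algebra V R] (ϖ : V) [IsLocalization.Away ϖ K] :
    IsLocalization.Away (algebraMap V R ϖ) (K ⊗[V] R) := by
  have : IsLocalization (Algebra.algebraMapSubmonoid R (Submonoid.powers ϖ)) (K ⊗[V] R) :=
    (Algebra.isLocalization_iff_isPushout (Submonoid.powers ϖ) K).mpr inferInstance
  rwa [Algebra.algebraMapSubmonoid_powers] at this

end Groth.Agent.H63.EtaEt
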