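import Mathlib
import Groth.Prelude.Def_C1
import Groth.Agent.H54.PullbackSection
import Groth.Agent.H54.C1Indep

set_option autoImplicit false
set_option linter.style.haveILetI false
set_option linter.unusedSectionVars false
set_option linter.unusedVariables false
universe u
open CategoryTheory CategoryTheory.Limits AlgebraicGeometry TopologicalSpace Opposite

namespace Groth.Agent.H63.C1

open Groth.Agent.H8 Groth.Agent.H18 Groth.Agent.H54.PB

variable {W X : Scheme.{u}} (j : W ⟶ X) (L : X.Modules)

/-- the unit of the pullback-pushforward adjunction on underlying presheaves. -/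
noncomputable def unitPre :
    L.presheaf ⟶ j.base _* ((Scheme.Modules.pullback j).obj L).presheaf :=
  ((Scheme.Modules.pullbackPushforwardAdjunction j).unit.app L).mapPresheaf

theorem unitPre_app (U : X.Opens) (σ : Γ(L, U)) :
    (unitPre j L).app (op U) σ = pullSect j L U σ := rfl

/-- the stalk-level pullback of sections `L_{j w} → (j^* L)_w`. -/
noncomputable def pullStalk (w : W) :
    L.presheaf.stalk (j w) ⟶ ((Scheme.Modules.pullback j).obj L).presheaf.stalk w :=
  (TopCat.Presheaf.stalkFunctor Ab (j w)).map (unitPre j L) ≫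
    TopCat.Presheaf.stalkPushforward Ab j.base ((Scheme.Modules.pullback j).obj L).presheaf w

theorem pullStalk_apply (w : W) (m : L.presheaf.stalk (j w)) :
    pullStalk j L w m =
      TopCat.Presheaf.stalkPushforward Ab j.base ((Scheme.Modules.pullback j).obj L).presheaf w
        ((TopCat.Presheaf.stalkFunctor Ab (j w)).map (unitPre j L) m) := rfl

theorem mem_pre {w : W} {U : X.Opens} (hw : j w ∈ U) : w ∈ j ⁻¹ᵁ U := hw

theorem pullStalk_germ (w : W) (U : X.Opens) (hw : j w ∈ U) (σ : Γ(L, U)) :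
    pullStalk j L w (L.presheaf.germ U (j w) hw σ) =
      ((Scheme.Modules.pullback j).obj L).presheaf.germ (j ⁻¹ᵁ U) w (mem_pre j hw)
        (pullSect j L U σ) := by
  rw [pullStalk_apply]
  have h1 := TopCat.Presheaf.stalkFunctor_map_germ_apply U (j w) hw (unitPre j L) σ
  rw [unitPre_app] at h1
  rw [h1]
  exact TopCat.Presheaf.stalkPushforward_germ_apply Ab j.base
    ((Scheme.Modules.pullback j).obj L).presheaf U w hw _

end Groth.Agent.H63.C1

namespace Groth.Agent.H63.C1
open Groth.Agent.H8 Groth.Agent.H18 Groth.Agent.H54.PB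
variable {W X : Scheme.{u}} (j : W ⟶ X) (L : X.Modules)

theorem pullStalk_smul (w : W) (r : X.presheaf.stalk (j w)) (m : L.presheaf.stalk (j w)) :
    pullStalk j L w (r • m) = (j.stalkMap w).hom r • pullStalk j L w m := by
  obtain ⟨V₁, hx₁, r₁, rfl⟩ := X.presheaf.exists_germ_eq r
  obtain ⟨V₂, hx₂, t₂, rfl⟩ := TopCat.Presheaf.exists_germ_eq L.presheaf m
  let V : X.Opens := V₁ ⊓ V₂
  have hxV : j w ∈ V := ⟨hx₁, hx₂⟩
  let r₀ : Γ(X, V) := X.presheaf.map (homOfLE (inf_le_left : V ≤ V₁)).op r₁
  let t₀ : Γ(L, V) := L.presheaf.map (homOfLE (inf_le_right : V ≤ V₂)).op t₂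
  have e1 : X.presheaf.germ V₁ (j w) hx₁ r₁ = X.presheaf.germ V (j w) hxV r₀ :=
    (TopCat.Presheaf.germ_res_apply X.presheaf (homOfLE inf_le_left) (j w) hxV r₁).symm
  have e2 : L.presheaf.germ V₂ (j w) hx₂ t₂ = L.presheaf.germ V (j w) hxV t₀ :=
    (TopCat.Presheaf.germ_res_apply L.presheaf (homOfLE inf_le_right) (j w) hxV t₂).symm
  rw [e1, e2, ← germ_smul' L hxV r₀ t₀, pullStalk_germ, pullStalk_germ, pullSect_smul,
    germ_smul']
  congr 1
  exact (Scheme.Hom.germ_stalkMap_apply j V w hxV r₀).symm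

theorem pullStalk_specializes {w' w : W} (h : w' ⤳ w) (m : L.presheaf.stalk (j w)) :
    pullStalk j L w' (L.presheaf.stalkSpecializes (h.map j.continuous) m) =
      ((Scheme.Modules.pullback j).obj L).presheaf.stalkSpecializes h (pullStalk j L w m) := by
  obtain ⟨V, hx, t, rfl⟩ := TopCat.Presheaf.exists_germ_eq L.presheaf m
  rw [pullStalk_germ, TopCat.Presheaf.germ_stalkSpecializes_apply,
    TopCat.Presheaf.germ_stalkSpecializes_apply, pullStalk_germ]

end Groth.Agent.H63.C1
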