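import Mathlib
import Groth.Prelude.Def_C1
import Groth.Agent.H54.PullbackSection
import Groth.Agent.H54.C1Indep
import Groth.Agent.H67.PullBasis
import Groth.Agent.H48.ClosedOrd
import Groth.Agent.H63.C1H

set_option autoImplicit false
set_option linter.style.haveILetI false
set_option linter.unusedSectionVars false
set_option linter.unusedVariables false
universe u
open CategoryTheory CategoryTheory.Limits AlgebraicGeometry TopologicalSpace Opposite

namespace Groth.Agent.H63.C1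

open Groth.Agent.H8 Groth.Agent.H18 Groth.Agent.H54.PB Groth.Agent.H54.SecOrd

variable {W X : Scheme.{u}} (j : W ⟶ X) (L : X.Modules)

theorem isFreeGen_pullSect {U : X.Opens} {σ : Γ(L, U)} (hσ : IsFreeGen L U σ) :
    IsFreeGen ((Scheme.Modules.pullback j).obj L) (j ⁻¹ᵁ U) (pullSect j L U σ) :=
  Groth.Agent.H67.PullBasis.isBasisOn_pullSect j L U σ hσ

/-- transfer of `secOrdAt` along a morphism surjective on stalks. -/
theorem secOrdAt_pull [SurjectiveOnStalks j] (hL : PicF.IsInvertible L) {ξ w : W} (h : ξ ⤳ w)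
    (m : L.presheaf.stalk (j ξ))
    (hm : (Submodule.Quotient.mk m : Cyc.secFibre L (j ξ)) ≠ 0) :
    Cyc.secOrdAt ((Scheme.Modules.pullback j).obj L) ξ w h
        (Submodule.Quotient.mk (pullStalk j L ξ m)) =
      Cyc.secOrdAt L (j ξ) (j w) (h.map j.continuous) (Submodule.Quotient.mk m) := by
  obtain ⟨U, hwU, σ, hσ⟩ := exists_isFreeGen_of_isInvertible hL (j w)
  have hξU : j ξ ∈ U := (h.map j.continuous).mem_open U.2 hwU
  obtain ⟨a, ha⟩ := (hσ.germ_bijective hξU).2 m
  have ha' : m = a • L.presheaf.germ U (j ξ) hξU σ := ha.symm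
  have hane := Groth.Agent.H54.C1Indep.not_mem_of_mk_ne_zero L hσ hξU a m ha' hm
  rw [Groth.Agent.H54.C1Indep.secOrdAt_chart L hσ (h.map j.continuous) hwU a hane m ha']
  have hσ' := isFreeGen_pullSect j L hσ
  have hm' : pullStalk j L ξ m = (j.stalkMap ξ).hom a •
      ((Scheme.Modules.pullback j).obj L).presheaf.germ (j ⁻¹ᵁ U) ξ
        (h.mem_open (j ⁻¹ᵁ U).2 (mem_pre j hwU)) (pullSect j L U σ) := by
    rw [ha', pullStalk_smul, pullStalk_germ]
  have haunit : IsUnit a := by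
    by_contra hnu
    exact hane ((IsLocalRing.mem_maximalIdeal a).mpr hnu)
  have hane' : (j.stalkMap ξ).hom a ∉ IsLocalRing.maximalIdeal (W.presheaf.stalk ξ) := by
    intro hmem
    exact (IsLocalRing.mem_maximalIdeal _).mp hmem (haunit.map (j.stalkMap ξ).hom)
  rw [Groth.Agent.H54.C1Indep.secOrdAt_chart _ hσ' h (mem_pre j hwU) _ hane' _ hm']
  have hres : W.residue ξ ((j.stalkMap ξ).hom a) =
      (j.residueFieldMap ξ).hom (X.residue (j ξ) a) := by
    have := congrArg (fun φ => φ.hom a) (Scheme.residue_residueFieldMap j ξ)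
    exact this.symm
  rw [hres]
  exact Groth.Agent.H48.ClosedOrd.ordAt_map_of_surjectiveOnStalks j w ξ h _

theorem mk_pullStalk_ne_zero (hL : PicF.IsInvertible L) (ξ : W)
    (m : L.presheaf.stalk (j ξ))
    (hm : (Submodule.Quotient.mk m : Cyc.secFibre L (j ξ)) ≠ 0) :
    (Submodule.Quotient.mk (pullStalk j L ξ m) :
      Cyc.secFibre ((Scheme.Modules.pullback j).obj L) ξ) ≠ 0 := by
  obtain ⟨U, hξU, σ, hσ⟩ := exists_isFreeGen_of_isInvertible hL (j ξ)
  obtain ⟨a, ha⟩ := (hσ.germ_bijective hξU).2 m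
  have ha' : m = a • L.presheaf.germ U (j ξ) hξU σ := ha.symm
  have hane := Groth.Agent.H54.C1Indep.not_mem_of_mk_ne_zero L hσ hξU a m ha' hm
  have hσ' := isFreeGen_pullSect j L hσ
  have hm' : pullStalk j L ξ m = (j.stalkMap ξ).hom a •
      ((Scheme.Modules.pullback j).obj L).presheaf.germ (j ⁻¹ᵁ U) ξ
        (mem_pre j hξU) (pullSect j L U σ) := by
    rw [ha', pullStalk_smul, pullStalk_germ]
  have haunit : IsUnit a := by
    by_contra hnu
    exact hane ((IsLocalRing.mem_maximalIdeal a).mpr hnu)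
  have hane' : (j.stalkMap ξ).hom a ∉ IsLocalRing.maximalIdeal (W.presheaf.stalk ξ) := by
    intro hmem
    exact (IsLocalRing.mem_maximalIdeal _).mp hmem (haunit.map (j.stalkMap ξ).hom)
  rw [hm']
  intro h0
  exact hane' ((Groth.Agent.H54.SecOrdGen.mk_smul_eq_zero_iff _ ξ _
    (hσ'.germ_bijective (mem_pre j hξU)) _).mp h0)

/-- transfer of `secDivFun` along a closed immersion. -/
theorem secDivFun_pull [IsClosedImmersion j] (δ : X → ℤ) (hL : PicF.IsInvertible L) (ξ w : W)
    (m : L.presheaf.stalk (j ξ))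
    (hm : (Submodule.Quotient.mk m : Cyc.secFibre L (j ξ)) ≠ 0) :
    Cyc.secDivFun (X := W) (fun w : W => δ (j w)) ((Scheme.Modules.pullback j).obj L) ξ
        (Submodule.Quotient.mk (pullStalk j L ξ m)) w =
      Cyc.secDivFun δ L (j ξ) (Submodule.Quotient.mk m) (j w) := by
  unfold Cyc.secDivFun
  beta_reduce
  have hsp : j ξ ⤳ j w ↔ ξ ⤳ w := j.isEmbedding.isInducing.specializes_iff
  by_cases h : ξ ⤳ w ∧ δ (j w) + 1 = δ (j ξ)
  · rw [dif_pos h, dif_pos ⟨hsp.mpr h.1, h.2⟩]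
    exact secOrdAt_pull j L hL h.1 m hm
  · rw [dif_neg h, dif_neg (fun h' => h ⟨hsp.mp h'.1, h'.2⟩)]

theorem secDivFun_eq_zero_of_notMem_range [IsClosedImmersion j] (δ : X → ℤ) (ξ : W)
    (s : Cyc.secFibre L (j ξ)) (x : X) (hx : x ∉ Set.range j) :
    Cyc.secDivFun δ L (j ξ) s x = 0 := by
  unfold Cyc.secDivFun
  rw [dif_neg]
  rintro ⟨h1, -⟩
  apply hx
  have hcl : IsClosed (Set.range j) := j.isClosedEmbedding.isClosed_range
  exact h1.mem_closed hcl ⟨ξ, rfl⟩

end Groth.Agent.H63.C1
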