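import Mathlib
import Groth.Prelude.Def_Tame

set_option autoImplicit false
set_option linter.style.haveILetI false
set_option linter.unusedSectionVars false
universe u

namespace Groth.Agent.H63.Tame

open IsLocalRing CycAlg

/-- A presentation of a pair of elements of a local ring as units times powers of a common
nonzerodivisor. -/
structure Pres (R : Type u) [CommRing R] [IsLocalRing R] (x₁ x₂ : R) where
  π : R
  π_mem : π ∈ nonZeroDivisors R
  u₁ : Rˣ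
  u₂ : Rˣ
  e₁ : ℕ
  e₂ : ℕ
  fac₁ : x₁ = (u₁ : R) * π ^ e₁
  fac₂ : x₂ = (u₂ : R) * π ^ e₂

namespace Pres

variable {R : Type u} [CommRing R] [IsLocalRing R] {x₁ x₂ : R}

/-- the residue class `(-1)^{e₁e₂} ū₁^{e₂} ū₂^{-e₁}`. -/
noncomputable def theta (P : Pres R x₁ x₂) : ResidueField R :=
  (-1 : ResidueField R) ^ (P.e₁ * P.e₂) * residue R (P.u₁ : R) ^ P.e₂ *
    (residue R (P.u₂ : R) ^ P.e₁)⁻¹

/-- the local value `theta ^ ord π`. -/
noncomputable def lv (P : Pres R x₁ x₂) : ResidueField R :=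
  P.theta ^ (Ring.ord R P.π).toNat

theorem theta_ne_zero (P : Pres R x₁ x₂) : P.theta ≠ 0 := by
  unfold theta
  have h1 : residue R (P.u₁ : R) ≠ 0 := (residue_ne_zero_iff_isUnit _).2 P.u₁.isUnit
  have h2 : residue R (P.u₂ : R) ≠ 0 := (residue_ne_zero_iff_isUnit _).2 P.u₂.isUnit
  have h3 : (-1 : ResidueField R) ≠ 0 := neg_ne_zero.2 one_ne_zero
  exact mul_ne_zero (mul_ne_zero (pow_ne_zero _ h3) (pow_ne_zero _ h1))
    (inv_ne_zero (pow_ne_zero _ h2))

theorem x₁_mem (P : Pres R x₁ x₂) : x₁ ∈ nonZeroDivisors R := by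
  rw [P.fac₁]
  exact mul_mem (P.u₁.isUnit.mem_nonZeroDivisors) (pow_mem P.π_mem _)

theorem x₂_mem (P : Pres R x₁ x₂) : x₂ ∈ nonZeroDivisors R := by
  rw [P.fac₂]
  exact mul_mem (P.u₂.isUnit.mem_nonZeroDivisors) (pow_mem P.π_mem _)

theorem neg_one_pow_congr {K : Type*} [Monoid K] [HasDistribNeg K] {a b : ℕ}
    (h : Even a ↔ Even b) : (-1 : K) ^ a = (-1 : K) ^ b := by
  by_cases ha : Even a
  · rw [ha.neg_one_pow, (h.1 ha).neg_one_pow]
  · have hb : ¬ Even b := fun hb => ha (h.2 hb)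
    rw [Nat.not_even_iff_odd] at ha hb
    rw [ha.neg_one_pow, hb.neg_one_pow]

variable [IsNoetherianRing R] [Ring.KrullDimLE 1 R]

theorem ord_x₁ (P : Pres R x₁ x₂) :
    Ring.ord R x₁ = ((P.e₁ * (Ring.ord R P.π).toNat : ℕ) : ℕ∞) := by
  conv_lhs => rw [P.fac₁, Ring.ord_mul_of_isUnit_left P.u₁.isUnit, Ring.ord_pow P.π_mem]
  have h := Ring.ord_ne_top P.π_mem
  lift Ring.ord R P.π to ℕ using h with n
  simp

theorem ord_x₂ (P : Pres R x₁ x₂) :
    Ring.ord R x₂ = ((P.e₂ * (Ring.ord R P.π).toNat : ℕ) : ℕ∞) := by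
  conv_lhs => rw [P.fac₂, Ring.ord_mul_of_isUnit_left P.u₂.isUnit, Ring.ord_pow P.π_mem]
  have h := Ring.ord_ne_top P.π_mem
  lift Ring.ord R P.π to ℕ using h with n
  simp

/-- intrinsic description of the local value. -/
theorem lv_eq (P : Pres R x₁ x₂) :
    P.lv = (-1 : ResidueField R) ^ ((Ring.ord R x₁).toNat * (Ring.ord R x₂).toNat) *
      residue R ((P.u₁ : R) ^ (Ring.ord R x₂).toNat) *
      (residue R ((P.u₂ : R) ^ (Ring.ord R x₁).toNat))⁻¹ := by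
  rw [P.ord_x₁, P.ord_x₂]
  simp only [ENat.toNat_natCast]
  set n := (Ring.ord R P.π).toNat
  unfold lv theta
  rw [mul_pow, mul_pow, ← pow_mul, ← pow_mul, inv_pow, ← pow_mul, map_pow, map_pow]
  congr 2
  apply neg_one_pow_congr
  simp only [Nat.even_mul]
  tauto

theorem key (P : Pres R x₁ x₂) :
    (P.u₁ : R) ^ (Ring.ord R x₂).toNat * x₂ ^ (Ring.ord R x₁).toNat =
      (P.u₂ : R) ^ (Ring.ord R x₁).toNat * x₁ ^ (Ring.ord R x₂).toNat := by
  have h1 : (Ring.ord R x₁).toNat = P.e₁ * (Ring.ord R P.π).toNat := by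
    rw [P.ord_x₁, ENat.toNat_natCast]
  have h2 : (Ring.ord R x₂).toNat = P.e₂ * (Ring.ord R P.π).toNat := by
    rw [P.ord_x₂, ENat.toNat_natCast]
  rw [h1, h2]
  set n := (Ring.ord R P.π).toNat
  have e1 := P.fac₁
  have e2 := P.fac₂
  calc (P.u₁ : R) ^ (P.e₂ * n) * x₂ ^ (P.e₁ * n)
      = (P.u₁ : R) ^ (P.e₂ * n) * ((P.u₂ : R) * P.π ^ P.e₂) ^ (P.e₁ * n) := by rw [← e2]
    _ = (P.u₂ : R) ^ (P.e₁ * n) * ((P.u₁ : R) * P.π ^ P.e₁) ^ (P.e₂ * n) := by ring
    _ = (P.u₂ : R) ^ (P.e₁ * n) * x₁ ^ (P.e₂ * n) := by rw [← e1]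

/-- **Local independence**: the local value does not depend on the presentation. -/
theorem lv_eq_lv (P P' : Pres R x₁ x₂) : P.lv = P'.lv := by
  rw [P.lv_eq, P'.lv_eq]
  set E₁ := (Ring.ord R x₁).toNat
  set E₂ := (Ring.ord R x₂).toNat
  have k := P.key
  have k' := P'.key
  have hx : x₁ ^ E₂ * x₂ ^ E₁ ∈ nonZeroDivisors R :=
    mul_mem (pow_mem P.x₁_mem _) (pow_mem P.x₂_mem _)
  have hUV : (P.u₁ : R) ^ E₂ * (P'.u₂ : R) ^ E₁ = (P'.u₁ : R) ^ E₂ * (P.u₂ : R) ^ E₁ := by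
    have : ((P.u₁ : R) ^ E₂ * (P'.u₂ : R) ^ E₁ - (P'.u₁ : R) ^ E₂ * (P.u₂ : R) ^ E₁) *
        (x₁ ^ E₂ * x₂ ^ E₁) = 0 := by
      have e : ((P.u₁ : R) ^ E₂ * (P'.u₂ : R) ^ E₁ - (P'.u₁ : R) ^ E₂ * (P.u₂ : R) ^ E₁) *
          (x₁ ^ E₂ * x₂ ^ E₁) =
          ((P.u₁ : R) ^ E₂ * x₂ ^ E₁) * ((P'.u₂ : R) ^ E₁ * x₁ ^ E₂) -
            ((P'.u₁ : R) ^ E₂ * x₂ ^ E₁) * ((P.u₂ : R) ^ E₁ * x₁ ^ E₂) := by ring
      rw [e, k, k']
      ring
    have h0 := (mem_nonZeroDivisors_iff_right.1 hx) _ this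
    exact sub_eq_zero.1 h0
  have hv : residue R ((P.u₂ : R) ^ E₁) ≠ 0 :=
    (residue_ne_zero_iff_isUnit _).2 (P.u₂.isUnit.pow _)
  have hv' : residue R ((P'.u₂ : R) ^ E₁) ≠ 0 :=
    (residue_ne_zero_iff_isUnit _).2 (P'.u₂.isUnit.pow _)
  rw [mul_assoc, mul_assoc]
  congr 1
  rw [← div_eq_mul_inv, ← div_eq_mul_inv, div_eq_div_iff hv hv', ← map_mul, ← map_mul, hUV]

end Pres

namespace Pres

variable {R : Type u} [CommRing R] [IsLocalRing R] {x₁ x₂ : R}

/-- push a presentation forward along an algebra map keeping `π` a nonzerodivisor. -/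
def map (P : Pres R x₁ x₂) (S : Type u) [CommRing S] [IsLocalRing S] [Algebra R S]
    (h : algebraMap R S P.π ∈ nonZeroDivisors S) :
    Pres S (algebraMap R S x₁) (algebraMap R S x₂) where
  π := algebraMap R S P.π
  π_mem := h
  u₁ := Units.map (algebraMap R S : R →* S) P.u₁
  u₂ := Units.map (algebraMap R S : R →* S) P.u₂
  e₁ := P.e₁
  e₂ := P.e₂
  fac₁ := by
    have := congrArg (algebraMap R S) P.fac₁
    simpa [map_mul, map_pow] using this
  fac₂ := by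
    have := congrArg (algebraMap R S) P.fac₂
    simpa [map_mul, map_pow] using this

theorem map_theta (P : Pres R x₁ x₂) (S : Type u) [CommRing S] [IsLocalRing S] [Algebra R S]
    [IsLocalHom (algebraMap R S)] (h : algebraMap R S P.π ∈ nonZeroDivisors S) :
    (P.map S h).theta = algebraMap (ResidueField R) (ResidueField S) P.theta := by
  unfold theta map
  simp only [map_mul, map_pow, map_inv₀, map_neg, map_one, ResidueField.algebraMap_residue,
    Units.coe_map, MonoidHom.coe_coe]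

end Pres

section TameData

variable {A : Type u} [CommRing A] [IsLocalRing A] {a₁ a₂ : A}

/-- the presentation carried by tame data at a maximal ideal. -/
def _root_.CycAlg.TameData.pres (D : TameData A a₁ a₂) (q : MaximalSpectrum D.B) :
    Pres (Localization.AtPrime q.asIdeal) (algebraMap A _ a₁) (algebraMap A _ a₂) where
  π := D.π q
  π_mem := D.π_mem q
  u₁ := D.u₁ q
  u₂ := D.u₂ q
  e₁ := D.e₁ q
  e₂ := D.e₂ q
  fac₁ := D.fac₁ q
  fac₂ := D.fac₂ q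

theorem localFactor_eq (D : TameData A a₁ a₂) (q : MaximalSpectrum D.B) :
    D.localFactor q =
      haveI := D.isLocalHom q
      Algebra.norm (ResidueField A) (D.pres q).lv := by
  haveI := D.isLocalHom q
  unfold Pres.lv
  rw [map_pow]
  rfl

end TameData

end Groth.Agent.H63.Tame
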