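import Mathlib

set_option autoImplicit false
set_option linter.style.haveILetI false
set_option linter.unusedSectionVars false
universe u

namespace Groth.Agent.H63.Tame

section G
variable {R : Type*} [CommRing R] {M M' : Type*} [AddCommGroup M] [Module R M]
  [AddCommGroup M'] [Module R M']

/-- `0 → M/g⁻¹K → M'/K → M'/range g → 0` for `K ≤ range g`. -/
theorem length_quot_eq_add (g : M →ₗ[R] M') (K : Submodule R M') (hK : K ≤ LinearMap.range g) :
    Module.length R (M' ⧸ K) =
      Module.length R (M ⧸ K.comap g) + Module.length R (M' ⧸ LinearMap.range g) := by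
  let gbar : (M ⧸ K.comap g) →ₗ[R] (M' ⧸ K) := Submodule.mapQ (K.comap g) K g le_rfl
  let p : (M' ⧸ K) →ₗ[R] (M' ⧸ LinearMap.range g) :=
    Submodule.mapQ K (LinearMap.range g) LinearMap.id (by simpa using hK)
  refine Module.length_eq_add_of_exact gbar p ?_ ?_ ?_
  · rw [injective_iff_map_eq_zero]
    intro y hy
    obtain ⟨y, rfl⟩ := Submodule.Quotient.mk_surjective _ y
    change Submodule.Quotient.mk (g y) = 0 at hy
    rw [Submodule.Quotient.mk_eq_zero] at hy ⊢
    exact hy
  · intro y
    obtain ⟨y, rfl⟩ := Submodule.Quotient.mk_surjective _ y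
    exact ⟨Submodule.Quotient.mk y, rfl⟩
  · intro y
    obtain ⟨y, rfl⟩ := Submodule.Quotient.mk_surjective _ y
    constructor
    · intro hy
      change Submodule.Quotient.mk y = 0 at hy
      rw [Submodule.Quotient.mk_eq_zero] at hy
      obtain ⟨z, rfl⟩ := hy
      exact ⟨Submodule.Quotient.mk z, rfl⟩
    · rintro ⟨z, hz⟩
      obtain ⟨z, rfl⟩ := Submodule.Quotient.mk_surjective _ z
      rw [← hz]
      change Submodule.Quotient.mk (g z) = 0
      rw [Submodule.Quotient.mk_eq_zero]
      exact ⟨z, rfl⟩

end G

section H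
variable {A B B'' : Type*} [CommRing A] [CommRing B] [CommRing B''] [Algebra A B] [Algebra A B'']

/-- Herbrand-type invariance: for a finite-colength subring `B ⊆ B''` and `x ∈ B` regular on
`B''`, `B/xB` and `B''/xB''` have the same length. -/
theorem length_quot_span_eq (f : B →ₐ[A] B'') (hf : Function.Injective f) (x : B)
    (hx : f x ∈ nonZeroDivisors B'')
    (hfin : Module.length A (B'' ⧸ LinearMap.range f.toLinearMap) ≠ ⊤) :
    Module.length A (B ⧸ Ideal.span {x}) = Module.length A (B'' ⧸ Ideal.span {f x}) := by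
  set N : Submodule A B'' := LinearMap.range f.toLinearMap with hN
  set P : Submodule A B := (Ideal.span {x}).restrictScalars A with hP
  set L : Submodule A B'' := (Ideal.span {f x}).restrictScalars A with hL
  set K : Submodule A B'' := P.map f.toLinearMap with hKdef
  let μ : B'' →ₗ[A] B'' := LinearMap.mulLeft A (f x)
  have hμinj : Function.Injective μ := by
    intro a b hab
    have h0 : (a - b) * f x = 0 := by
      have : f x * a = f x * b := hab
      rw [sub_mul, mul_comm a, mul_comm b, this, sub_self]
    exact sub_eq_zero.1 ((mem_nonZeroDivisors_iff_right.1 hx) _ h0)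
  have hrμ : LinearMap.range μ = L := by
    ext y
    constructor
    · rintro ⟨z, rfl⟩
      exact Ideal.mul_mem_right _ _ (Ideal.subset_span rfl)
    · intro hy
      obtain ⟨z, rfl⟩ := Ideal.mem_span_singleton'.1 (show y ∈ Ideal.span {f x} from hy)
      exact ⟨z, mul_comm _ _⟩
  have hKμ : K = N.map μ := by
    ext y
    constructor
    · rintro ⟨b, hb, rfl⟩
      obtain ⟨z, rfl⟩ := Ideal.mem_span_singleton'.1 (show b ∈ Ideal.span {x} from hb)
      refine ⟨f z, ⟨z, rfl⟩, ?_⟩
      change f x * f z = f (z * x)
      rw [map_mul, mul_comm]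
    · rintro ⟨_, ⟨z, rfl⟩, rfl⟩
      refine ⟨x * z, Ideal.mul_mem_right _ _ (Ideal.subset_span rfl), ?_⟩
      change f (x * z) = f x * f z
      rw [map_mul]
  have h1 := length_quot_eq_add f.toLinearMap K LinearMap.map_le_range
  have hc1 : K.comap f.toLinearMap = P := Submodule.comap_map_eq_of_injective hf P
  rw [hc1] at h1
  have h2 := length_quot_eq_add μ K (by rw [hKμ]; exact LinearMap.map_le_range)
  have hc2 : K.comap μ = N := by
    rw [hKμ]
    exact Submodule.comap_map_eq_of_injective hμinj N
  rw [hc2, hrμ] at h2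
  rw [h1] at h2
  have h3 : Module.length A (B ⧸ P) = Module.length A (B'' ⧸ L) := by
    rw [add_comm] at h2
    exact (ENat.add_left_injective_of_ne_top hfin) (by simpa [add_comm] using h2)
  rw [← (Submodule.Quotient.restrictScalarsEquiv A (Ideal.span {x})).length_eq,
    ← (Submodule.Quotient.restrictScalarsEquiv A (Ideal.span {f x})).length_eq]
  exact h3

end H

end Groth.Agent.H63.Tame
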