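import Mathlib
import Groth.Agent.S6320
import Groth.Agent.H54.Dim

set_option autoImplicit false
set_option linter.style.haveILetI false
set_option linter.unusedSectionVars false
universe u

namespace Groth.Agent.H63.Tame

open IsLocalRing

section Loc
variable {B : Type u} [CommRing B] (q : Ideal B) [q.IsPrime]

/-- the localization of `B/xB` at `q` has length `ord_{B_q}(x)`. -/
theorem length_localizedModule_quot_span (x : B) :
    Module.length (Localization.AtPrime q) (LocalizedModule q.primeCompl (B ⧸ Ideal.span {x})) =
      Ring.ord (Localization.AtPrime q) (algebraMap B (Localization.AtPrime q) x) := by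
  let f : B →ₗ[B] Localization.AtPrime q := Algebra.linearMap B (Localization.AtPrime q)
  let M' : Submodule B B := Ideal.span {x}
  let g := M'.toLocalizedQuotient' (Localization.AtPrime q) q.primeCompl f
  have hloc : M'.localized' (Localization.AtPrime q) q.primeCompl f =
      Ideal.span {algebraMap B (Localization.AtPrime q) x} := by
    change (Submodule.span B {x}).localized' (Localization.AtPrime q) q.primeCompl f = _
    rw [Submodule.localized'_span]
    simp [f, Ideal.span]
  let e1 : LocalizedModule q.primeCompl (B ⧸ Ideal.span {x}) ≃ₗ[B]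
      (Localization.AtPrime q ⧸ M'.localized' (Localization.AtPrime q) q.primeCompl f) :=
    IsLocalizedModule.linearEquiv q.primeCompl
      (LocalizedModule.mkLinearMap q.primeCompl (B ⧸ Ideal.span {x})) g
  let e2 := e1.extendScalarsOfIsLocalization q.primeCompl (Localization.AtPrime q)
  rw [e2.length_eq, Ring.ord]
  exact (Submodule.quotEquivOfEq _ _ hloc).length_eq

end Loc

section Semilocal
variable {A : Type u} [CommRing A] [IsLocalRing A]
variable (B : Type u) [CommRing B] [Algebra A B] [Module.Finite A B]

theorem comap_eq (q : MaximalSpectrum B) :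
    q.asIdeal.comap (algebraMap A B) = maximalIdeal A := by
  haveI : Algebra.IsIntegral A B := Algebra.IsIntegral.of_finite A B
  haveI := q.isMaximal
  exact eq_maximalIdeal (Ideal.isMaximal_comap_of_isIntegral_of_isMaximal q.asIdeal)

include A in
theorem finite_maximalSpectrum : Finite (MaximalSpectrum B) := by
  have hf := Algebra.QuasiFinite.finite_primesOver (R := A) (S := B) (maximalIdeal A)
  haveI := hf.to_subtype
  refine Finite.of_injective (fun M : MaximalSpectrum B =>
    (⟨M.asIdeal, M.isMaximal.isPrime, ⟨(comap_eq B M).symm⟩⟩ :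
      (maximalIdeal A).primesOver B)) ?_
  intro M M' h
  exact MaximalSpectrum.ext (congrArg Subtype.val h)

theorem finite_quot (q : MaximalSpectrum B) :
    Module.Finite (A ⧸ q.asIdeal.comap (algebraMap A B)) (B ⧸ q.asIdeal) :=
  Module.Finite.of_restrictScalars_finite A _ _

theorem isLocalHom_algebraMap (q : MaximalSpectrum B) :
    IsLocalHom (algebraMap A (Localization.AtPrime q.asIdeal)) := by
  constructor
  intro a ha
  by_contra hna
  have hm : a ∈ maximalIdeal A := (mem_maximalIdeal a).2 hna
  rw [← comap_eq B q, Ideal.mem_comap] at hm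
  rw [IsScalarTower.algebraMap_apply A B (Localization.AtPrime q.asIdeal)] at ha
  have := (IsLocalization.AtPrime.isUnit_to_map_iff (Localization.AtPrime q.asIdeal)
    q.asIdeal (algebraMap A B a)).1 ha
  exact this hm

theorem finrank_quot_eq (q : MaximalSpectrum B)
    [IsLocalHom (algebraMap A (Localization.AtPrime q.asIdeal))] :
    Module.finrank (A ⧸ q.asIdeal.comap (algebraMap A B)) (B ⧸ q.asIdeal) =
      Module.finrank (ResidueField A) (ResidueField (Localization.AtPrime q.asIdeal)) := by
  haveI := q.isMaximal
  refine Algebra.finrank_eq_of_equiv_equiv (Ideal.quotEquivOfEq (comap_eq B q))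
    (IsLocalization.AtPrime.equivQuotMaximalIdeal q.asIdeal (Localization.AtPrime q.asIdeal)) ?_
  apply Ideal.Quotient.ringHom_ext
  ext a
  change algebraMap (ResidueField A) (ResidueField (Localization.AtPrime q.asIdeal))
      (Ideal.quotEquivOfEq (comap_eq B q) (Ideal.Quotient.mk _ a)) =
    IsLocalization.AtPrime.equivQuotMaximalIdeal q.asIdeal (Localization.AtPrime q.asIdeal)
      (Ideal.Quotient.mk _ (algebraMap A B a))
  rw [Ideal.quotEquivOfEq_mk, IsLocalization.AtPrime.equivQuotMaximalIdeal_apply_mk,
    ← IsScalarTower.algebraMap_apply]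
  rfl

theorem residue_algebraMap_surjective (q : MaximalSpectrum B) :
    Function.Surjective fun b : B =>
      residue (Localization.AtPrime q.asIdeal) (algebraMap B (Localization.AtPrime q.asIdeal) b) := by
  haveI := q.isMaximal
  intro y
  obtain ⟨z, rfl⟩ := (IsLocalization.AtPrime.equivQuotMaximalIdeal q.asIdeal
    (Localization.AtPrime q.asIdeal)).surjective y
  obtain ⟨b, rfl⟩ := Ideal.Quotient.mk_surjective z
  exact ⟨b, (IsLocalization.AtPrime.equivQuotMaximalIdeal_apply_mk _ _ b).symm⟩

theorem finite_residue (q : MaximalSpectrum B)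
    [IsLocalHom (algebraMap A (Localization.AtPrime q.asIdeal))] :
    Module.Finite (ResidueField A) (ResidueField (Localization.AtPrime q.asIdeal)) := by
  let f : B →ₗ[A] ResidueField (Localization.AtPrime q.asIdeal) :=
    (IsScalarTower.toAlgHom A (Localization.AtPrime q.asIdeal)
      (ResidueField (Localization.AtPrime q.asIdeal))).toLinearMap ∘ₗ
    (IsScalarTower.toAlgHom A B (Localization.AtPrime q.asIdeal)).toLinearMap
  have hf : Function.Surjective f := residue_algebraMap_surjective B q
  haveI : Module.Finite A (ResidueField (Localization.AtPrime q.asIdeal)) :=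
    Module.Finite.of_surjective f hf
  exact Module.Finite.of_restrictScalars_finite A _ _

include A in
theorem krullDimLE_one (hA : ringKrullDim A ≤ 1) : Ring.KrullDimLE 1 B := by
  haveI : Algebra.IsIntegral A B := Algebra.IsIntegral.of_finite A B
  rw [Ring.krullDimLE_iff]
  exact (Groth.Agent.H54.ringKrullDim_le_of_isIntegral (R := A) (S := B)).trans hA

include A in
theorem krullDimLE_one_localization (hA : ringKrullDim A ≤ 1) (q : Ideal B) [q.IsPrime] :
    Ring.KrullDimLE 1 (Localization.AtPrime q) := by
  haveI : Algebra.IsIntegral A B := Algebra.IsIntegral.of_finite A B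
  rw [Ring.krullDimLE_iff, IsLocalization.AtPrime.ringKrullDim_eq_height q]
  exact (Ideal.height_le_ringKrullDim_of_isPrime).trans
    ((Groth.Agent.H54.ringKrullDim_le_of_isIntegral (R := A) (S := B)).trans hA)

/-- the semilocal length formula for `B/xB`. -/
theorem length_quot_span_eq_finsum [IsNoetherianRing A] (hA : ringKrullDim A ≤ 1)
    [∀ q : MaximalSpectrum B, IsLocalHom (algebraMap A (Localization.AtPrime q.asIdeal))]
    (x : B) (hx : x ∈ nonZeroDivisors B) :
    Module.length A (B ⧸ Ideal.span {x}) =
      ∑ᶠ q : MaximalSpectrum B,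
        (Module.finrank (ResidueField A) (ResidueField (Localization.AtPrime q.asIdeal)) : ℕ∞) *
          Ring.ord (Localization.AtPrime q.asIdeal)
            (algebraMap B (Localization.AtPrime q.asIdeal) x) := by
  haveI := finite_maximalSpectrum (A := A) B
  haveI : IsNoetherianRing B := IsNoetherianRing.of_finite A B
  haveI := krullDimLE_one (A := A) B hA
  have hfl : IsFiniteLength B (B ⧸ Ideal.span {x}) := isFiniteLength_quotient_span_singleton B hx
  rw [Groth.Agent.S6320.result (comap_eq B) (finite_quot B) (B ⧸ Ideal.span {x}) hfl]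
  refine finsum_congr fun q => ?_
  haveI := q.isMaximal
  rw [finrank_quot_eq B q, length_localizedModule_quot_span q.asIdeal x]

end Semilocal

end Groth.Agent.H63.Tame
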