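import Mathlib
import Groth.Agent.H63.TameB
import Groth.Agent.H63.TameC

set_option autoImplicit false
set_option linter.style.haveILetI false
set_option linter.unusedSectionVars false
universe u

namespace Groth.Agent.H63.Tame

open IsLocalRing Function

/-- in a Noetherian local ring of dimension `≤ 1`, a power of the maximal ideal lies in `(π)`
for `π` a nonzerodivisor. -/
theorem exists_pow_le_span {R : Type u} [CommRing R] [IsLocalRing R] [IsNoetherianRing R]
    [Ring.KrullDimLE 1 R] {π : R} (hπ : π ∈ nonZeroDivisors R) :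
    ∃ N : ℕ, maximalIdeal R ^ N ≤ Ideal.span {π} := by
  refine Ideal.exists_pow_le_of_le_radical_of_fg ?_ (IsNoetherian.noetherian _)
  rw [Ideal.radical_eq_sInf]
  refine le_sInf ?_
  rintro P ⟨hP, hPprime⟩
  have hdim := (Ring.krullDimLE_one_iff (R := R)).1 inferInstance P hPprime
  rcases hdim with hmin | hmax
  · exfalso
    have hd := Ideal.disjoint_nonZeroDivisors_of_mem_minimalPrimes hmin
    exact Set.disjoint_left.1 hd (hP (Ideal.subset_span rfl)) hπ
  · rw [eq_maximalIdeal hmax]

section XTrick
variable {B : Type u} [CommRing B] [IsNoetherianRing B] [Finite (MaximalSpectrum B)]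

theorem exists_global_generator
    (hdim : ∀ q : MaximalSpectrum B, Ring.KrullDimLE 1 (Localization.AtPrime q.asIdeal))
    (j : MaximalSpectrum B) (π : Localization.AtPrime j.asIdeal)
    (hπ : π ∈ nonZeroDivisors (Localization.AtPrime j.asIdeal)) :
    ∃ x : B, (∀ q : MaximalSpectrum B, q ≠ j → x ∉ q.asIdeal) ∧
      ∃ w : (Localization.AtPrime j.asIdeal)ˣ,
        algebraMap B (Localization.AtPrime j.asIdeal) x = (w : Localization.AtPrime j.asIdeal) * π := by
  classical
  haveI := hdim j
  haveI := j.isMaximal
  obtain ⟨N, hN⟩ := exists_pow_le_span hπ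
  obtain ⟨y, s, rfl⟩ := IsLocalization.exists_mk'_eq j.asIdeal.primeCompl π
  let I : MaximalSpectrum B → Ideal B := fun q => if q = j then j.asIdeal ^ (N + 1) else q.asIdeal
  let t : MaximalSpectrum B → B := fun q => if q = j then y else 1
  have hcop : Pairwise (IsCoprime on I) := by
    intro q q' hqq'
    change IsCoprime (I q) (I q')
    have hmax : ∀ q q' : MaximalSpectrum B, q ≠ q' → IsCoprime q.asIdeal q'.asIdeal := by
      intro q q' h
      haveI := q.isMaximal
      haveI := q'.isMaximal
      exact Ideal.isCoprime_of_isMaximal (fun e => h (MaximalSpectrum.ext e))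
    by_cases h1 : q = j
    · have h2 : q' ≠ j := fun h => hqq' (h1.trans h.symm)
      simp only [I, h1, h2, if_true, if_false]
      exact (hmax j q' (Ne.symm h2)).pow_left
    · by_cases h2 : q' = j
      · simp only [I, h1, h2, if_true, if_false]
        exact (hmax q j h1).pow_right
      · simp only [I, h1, h2, if_false]
        exact hmax q q' hqq'
  obtain ⟨r, hr⟩ := Ideal.exists_forall_sub_mem_ideal hcop t
  refine ⟨r, ?_, ?_⟩
  · intro q hq hrq
    have h1 := hr q
    simp only [I, t, hq, if_false] at h1
    have : (1 : B) ∈ q.asIdeal := by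
      have := q.asIdeal.sub_mem hrq h1
      simpa using this
    exact q.isMaximal.ne_top ((Ideal.eq_top_iff_one _).2 this)
  · have h1 := hr j
    simp only [I, t, if_true] at h1
    set Bj := Localization.AtPrime j.asIdeal
    have hz : algebraMap B Bj (r - y) ∈ maximalIdeal Bj * Ideal.span {IsLocalization.mk' Bj y s} := by
      have h2 : algebraMap B Bj (r - y) ∈ Ideal.map (algebraMap B Bj) (j.asIdeal ^ (N + 1)) :=
        Ideal.mem_map_of_mem _ h1
      rw [Ideal.map_pow, IsLocalization.AtPrime.map_eq_maximalIdeal, pow_succ'] at h2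
      exact Ideal.mul_mono_right hN h2
    obtain ⟨c, hc, hcz⟩ := Ideal.mem_mul_span_singleton.1 hz
    have hσ : IsUnit (algebraMap B Bj (s : B)) := IsLocalization.map_units Bj s
    have hy : algebraMap B Bj y = algebraMap B Bj (s : B) * IsLocalization.mk' Bj y s := by
      rw [mul_comm, IsLocalization.mk'_spec]
    have hu : IsUnit (algebraMap B Bj (s : B) + c) := by
      by_contra hnu
      have h3 : algebraMap B Bj (s : B) + c ∈ nonunits Bj := hnu
      have h4 : c ∈ nonunits Bj := hc
      have h5 := IsLocalRing.nonunits_add h3 (show -c ∈ nonunits Bj by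
        rw [mem_nonunits_iff, IsUnit.neg_iff]; exact h4)
      rw [add_neg_cancel_right] at h5
      exact h5 hσ
    refine ⟨hu.unit, ?_⟩
    rw [IsUnit.unit_spec, add_mul, hcz, ← hy, map_sub]
    ring

end XTrick

section NI
variable {A : Type u} [CommRing A] [IsLocalRing A] [IsNoetherianRing A]
variable {B B'' : Type u} [CommRing B] [CommRing B''] [Algebra A B] [Algebra A B'']
  [Module.Finite A B] [Module.Finite A B'']

omit [IsLocalRing A] [IsNoetherianRing A] [Module.Finite A B] in
theorem comap_isMaximal (f : B →ₐ[A] B'') (l : Ideal B'') [l.IsMaximal] :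
    (l.comap f).IsMaximal := by
  have h1 : (algebraMap A B'').IsIntegral :=
    algebraMap_isIntegral_iff.2 (Algebra.IsIntegral.of_finite A B'')
  have h2 : (f : B →+* B'').IsIntegral := by
    refine RingHom.IsIntegral.tower_top (algebraMap A B) (f : B →+* B'') ?_
    rwa [AlgHom.comp_algebraMap]
  exact Ideal.isMaximal_comap_of_isIntegral_of_isMaximal' (f : B →+* B'') h2 l

/-- the maximal ideal of `B` under a maximal ideal of `B''`. -/
noncomputable def jmap (f : B →ₐ[A] B'') (l : MaximalSpectrum B'') : MaximalSpectrum B :=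
  ⟨l.asIdeal.comap f, haveI := l.isMaximal; comap_isMaximal f l.asIdeal⟩

omit [IsLocalRing A] [IsNoetherianRing A] [Module.Finite A B] in
@[simp] theorem jmap_asIdeal (f : B →ₐ[A] B'') (l : MaximalSpectrum B'') :
    (jmap f l).asIdeal = l.asIdeal.comap f := rfl

variable [∀ q : MaximalSpectrum B, IsLocalHom (algebraMap A (Localization.AtPrime q.asIdeal))]
  [∀ q : MaximalSpectrum B'', IsLocalHom (algebraMap A (Localization.AtPrime q.asIdeal))]

open Classical in
theorem NIx (hA : ringKrullDim A ≤ 1) (f : B →ₐ[A] B'') (hf : Function.Injective f)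
    (hfin : Module.length A (B'' ⧸ LinearMap.range f.toLinearMap) ≠ ⊤)
    (j : MaximalSpectrum B) (x : B) (hx : x ∈ nonZeroDivisors B)
    (hfx : f x ∈ nonZeroDivisors B'')
    (hxq : ∀ q : MaximalSpectrum B, q ≠ j → x ∉ q.asIdeal) :
    (Module.finrank (ResidueField A) (ResidueField (Localization.AtPrime j.asIdeal)) : ℕ∞) *
        Ring.ord (Localization.AtPrime j.asIdeal) (algebraMap B _ x) =
      ∑ᶠ l : MaximalSpectrum B'', if jmap f l = j then
        (Module.finrank (ResidueField A) (ResidueField (Localization.AtPrime l.asIdeal)) : ℕ∞) *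
          Ring.ord (Localization.AtPrime l.asIdeal) (algebraMap B'' _ (f x)) else 0 := by
  have e1 := length_quot_span_eq_finsum B hA x hx
  have e2 := length_quot_span_eq_finsum B'' hA (f x) hfx
  have e3 := length_quot_span_eq f hf x hfx hfin
  rw [e1, e2] at e3
  rw [finsum_eq_single _ j] at e3
  · rw [e3]
    refine finsum_congr fun l => ?_
    by_cases h : jmap f l = j
    · rw [if_pos h]
    · rw [if_neg h]
      have h1 : x ∉ (jmap f l).asIdeal := hxq _ h
      have h2 : f x ∉ l.asIdeal := h1
      haveI := l.isMaximal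
      have h3 : IsUnit (algebraMap B'' (Localization.AtPrime l.asIdeal) (f x)) :=
        (IsLocalization.AtPrime.isUnit_to_map_iff _ l.asIdeal _).2 h2
      rw [Ring.ord_of_isUnit h3, mul_zero]
  · intro q hq
    haveI := q.isMaximal
    have h3 : IsUnit (algebraMap B (Localization.AtPrime q.asIdeal) x) :=
      (IsLocalization.AtPrime.isUnit_to_map_iff _ q.asIdeal _).2 (hxq q hq)
    rw [Ring.ord_of_isUnit h3, mul_zero]

end NI

end Groth.Agent.H63.Tame
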