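import Mathlib
import Groth.Agent.H63.TameA
import Groth.Agent.H63.TameD

set_option autoImplicit false
set_option linter.style.haveILetI false
set_option linter.unusedSectionVars false
universe u

namespace Groth.Agent.H63.Tame

open IsLocalRing CycAlg

namespace Pres
variable {R S : Type u} [CommRing R] [IsLocalRing R] [CommRing S] [IsLocalRing S] {x₁ x₂ : R}

/-- push a presentation forward along a ring hom keeping `π` a nonzerodivisor. -/
def mapHom (P : Pres R x₁ x₂) (φ : R →+* S) (h : φ P.π ∈ nonZeroDivisors S) {y₁ y₂ : S}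
    (h₁ : φ x₁ = y₁) (h₂ : φ x₂ = y₂) : Pres S y₁ y₂ where
  π := φ P.π
  π_mem := h
  u₁ := Units.map (φ : R →* S) P.u₁
  u₂ := Units.map (φ : R →* S) P.u₂
  e₁ := P.e₁
  e₂ := P.e₂
  fac₁ := by
    have := congrArg φ P.fac₁
    rw [← h₁]
    simpa [map_mul, map_pow] using this
  fac₂ := by
    have := congrArg φ P.fac₂
    rw [← h₂]
    simpa [map_mul, map_pow] using this

theorem mapHom_theta (P : Pres R x₁ x₂) (φ : R →+* S) [IsLocalHom φ]
    (h : φ P.π ∈ nonZeroDivisors S) {y₁ y₂ : S} (h₁ : φ x₁ = y₁) (h₂ : φ x₂ = y₂) :
    (P.mapHom φ h h₁ h₂).theta = ResidueField.map φ P.theta := by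
  unfold theta mapHom
  simp only [map_mul, map_pow, map_inv₀, map_neg, map_one, ResidueField.map_residue,
    Units.coe_map, MonoidHom.coe_coe]

theorem mapHom_π (P : Pres R x₁ x₂) (φ : R →+* S)
    (h : φ P.π ∈ nonZeroDivisors S) {y₁ y₂ : S} (h₁ : φ x₁ = y₁) (h₂ : φ x₂ = y₂) :
    (P.mapHom φ h h₁ h₂).π = φ P.π := rfl

end Pres

section NormTower
variable {A R S : Type u} [CommRing A] [IsLocalRing A] [CommRing R] [IsLocalRing R]
  [CommRing S] [IsLocalRing S] [Algebra A R] [Algebra A S]
  [IsLocalHom (algebraMap A R)] [IsLocalHom (algebraMap A S)]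

/-- norm of an element coming from an intermediate residue field. -/
theorem norm_map_eq (φ : R →+* S) [IsLocalHom φ]
    (hφ : ∀ a : A, φ (algebraMap A R a) = algebraMap A S a) (θ : ResidueField R) :
    Algebra.norm (ResidueField A) (ResidueField.map φ θ) =
      Algebra.norm (ResidueField A) θ ^
        (letI := (ResidueField.map φ).toAlgebra
         Module.finrank (ResidueField R) (ResidueField S)) := by
  letI := (ResidueField.map φ).toAlgebra
  haveI : IsScalarTower (ResidueField A) (ResidueField R) (ResidueField S) := by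
    refine IsScalarTower.of_algebraMap_eq fun x => ?_
    obtain ⟨a, rfl⟩ := residue_surjective x
    change residue S (algebraMap A S a) = ResidueField.map φ (residue R (algebraMap A R a))
    rw [ResidueField.map_residue, hφ]
  have h1 : ResidueField.map φ θ = algebraMap (ResidueField R) (ResidueField S) θ := rfl
  rw [h1, ← Algebra.norm_norm (R := ResidueField A) (S := ResidueField R), Algebra.norm_algebraMap,
    map_pow]

/-- tower law for the residue degrees. -/
theorem finrank_map_mul (φ : R →+* S) [IsLocalHom φ]
    (hφ : ∀ a : A, φ (algebraMap A R a) = algebraMap A S a) :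
    Module.finrank (ResidueField A) (ResidueField R) *
        (letI := (ResidueField.map φ).toAlgebra
         Module.finrank (ResidueField R) (ResidueField S)) =
      Module.finrank (ResidueField A) (ResidueField S) := by
  letI := (ResidueField.map φ).toAlgebra
  haveI : IsScalarTower (ResidueField A) (ResidueField R) (ResidueField S) := by
    refine IsScalarTower.of_algebraMap_eq fun x => ?_
    obtain ⟨a, rfl⟩ := residue_surjective x
    change residue S (algebraMap A S a) = ResidueField.map φ (residue R (algebraMap A R a))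
    rw [ResidueField.map_residue, hφ]
  exact Module.finrank_mul_finrank _ _ _

end NormTower

section Rho
variable {A : Type u} [CommRing A] [IsLocalRing A] [IsNoetherianRing A]
variable {B B'' : Type u} [CommRing B] [CommRing B''] [Algebra A B] [Algebra A B'']
  [Module.Finite A B] [Module.Finite A B'']

/-- the local homomorphism `B_{f⁻¹ l} → B''_l`. -/
noncomputable def rho (f : B →ₐ[A] B'') (l : MaximalSpectrum B'') :
    Localization.AtPrime (jmap f l).asIdeal →+* Localization.AtPrime l.asIdeal :=
  Localization.localRingHom (jmap f l).asIdeal l.asIdeal (f : B →+* B'') rfl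

instance (f : B →ₐ[A] B'') (l : MaximalSpectrum B'') : IsLocalHom (rho f l) :=
  Localization.isLocalHom_localRingHom _ _ _ _

theorem rho_algebraMap (f : B →ₐ[A] B'') (l : MaximalSpectrum B'') (b : B) :
    rho f l (algebraMap B _ b) = algebraMap B'' _ (f b) :=
  Localization.localRingHom_to_map _ _ _ _ _

theorem rho_algebraMap_A (f : B →ₐ[A] B'') (l : MaximalSpectrum B'') (a : A) :
    rho f l (algebraMap A _ a) = algebraMap A _ a := by
  rw [IsScalarTower.algebraMap_apply A B (Localization.AtPrime (jmap f l).asIdeal),
    rho_algebraMap, AlgHom.commutes, ← IsScalarTower.algebraMap_apply]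

variable [hB : ∀ q : MaximalSpectrum B, IsLocalHom (algebraMap A (Localization.AtPrime q.asIdeal))]
  [hB'' : ∀ q : MaximalSpectrum B'', IsLocalHom (algebraMap A (Localization.AtPrime q.asIdeal))]

/-- the residue degree of `l` over `f⁻¹ l`. -/
noncomputable def rdeg (f : B →ₐ[A] B'') (l : MaximalSpectrum B'') : ℕ :=
  letI := (ResidueField.map (rho f l)).toAlgebra
  Module.finrank (ResidueField (Localization.AtPrime (jmap f l).asIdeal))
    (ResidueField (Localization.AtPrime l.asIdeal))

variable (A) in
/-- the residue degree over `A`. -/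
noncomputable def deg (B : Type u) [CommRing B] [Algebra A B]
    [∀ q : MaximalSpectrum B, IsLocalHom (algebraMap A (Localization.AtPrime q.asIdeal))]
    (q : MaximalSpectrum B) : ℕ :=
  Module.finrank (ResidueField A) (ResidueField (Localization.AtPrime q.asIdeal))

theorem deg_mul_rdeg (f : B →ₐ[A] B'') (l : MaximalSpectrum B'') :
    deg A B (jmap f l) * rdeg f l = deg A B'' l :=
  finrank_map_mul (rho f l) (rho_algebraMap_A f l)

theorem deg_pos (q : MaximalSpectrum B) : 0 < deg A B q := by
  haveI := finite_residue (A := A) B q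
  exact Module.finrank_pos

theorem norm_pull {a₁ a₂ : A} (f : B →ₐ[A] B'') (l : MaximalSpectrum B'')
    (P : Pres (Localization.AtPrime (jmap f l).asIdeal) (algebraMap A _ a₁) (algebraMap A _ a₂))
    (h : rho f l P.π ∈ nonZeroDivisors (Localization.AtPrime l.asIdeal)) :
    Algebra.norm (ResidueField A)
        (P.mapHom (rho f l) h (rho_algebraMap_A f l a₁) (rho_algebraMap_A f l a₂)).lv =
      (Algebra.norm (ResidueField A) P.theta) ^
        (rdeg f l * (Ring.ord (Localization.AtPrime l.asIdeal) (rho f l P.π)).toNat) := by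
  unfold Pres.lv
  rw [map_pow, Pres.mapHom_theta, norm_map_eq (rho f l) (rho_algebraMap_A f l), ← pow_mul]
  rfl

end Rho

theorem mem_nonZeroDivisors_of_localization {B : Type u} [CommRing B] (x : B)
    (h : ∀ q : MaximalSpectrum B, algebraMap B (Localization.AtPrime q.asIdeal) x ∈
      nonZeroDivisors (Localization.AtPrime q.asIdeal)) :
    x ∈ nonZeroDivisors B := by
  rw [mem_nonZeroDivisors_iff_right]
  intro b hb
  refine eq_zero_of_localization b fun J hJ => ?_
  have h1 := h ⟨J, hJ⟩
  have h2 : algebraMap B (Localization.AtPrime J) b * algebraMap B (Localization.AtPrime J) x = 0 := by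
    rw [← map_mul, hb, map_zero]
  exact (mem_nonZeroDivisors_iff_right.1 h1) _ h2

section Transfer
variable {A : Type u} [CommRing A] [IsLocalRing A] [IsNoetherianRing A] {a₁ a₂ : A}
variable {B B'' : Type u} [CommRing B] [CommRing B''] [Algebra A B] [Algebra A B'']
  [Module.Finite A B] [Module.Finite A B'']
variable [hB : ∀ q : MaximalSpectrum B, IsLocalHom (algebraMap A (Localization.AtPrime q.asIdeal))]
  [hB'' : ∀ q : MaximalSpectrum B'', IsLocalHom (algebraMap A (Localization.AtPrime q.asIdeal))]

/-- **Transfer**: the product of norms of local values over `B` equals the product over `B''` of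
the norms of the pulled back presentations. -/
theorem transfer (hA : ringKrullDim A ≤ 1) (f : B →ₐ[A] B'') (hf : Function.Injective f)
    (hfin : Module.length A (B'' ⧸ LinearMap.range f.toLinearMap) ≠ ⊤)
    (P : ∀ q : MaximalSpectrum B,
      Pres (Localization.AtPrime q.asIdeal) (algebraMap A _ a₁) (algebraMap A _ a₂))
    (hreg : ∀ l : MaximalSpectrum B'',
      rho f l (P (jmap f l)).π ∈ nonZeroDivisors (Localization.AtPrime l.asIdeal)) :
    ∏ᶠ q : MaximalSpectrum B, Algebra.norm (ResidueField A) (P q).lv =
      ∏ᶠ l : MaximalSpectrum B'', Algebra.norm (ResidueField A)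
        ((P (jmap f l)).mapHom (rho f l) (hreg l) (rho_algebraMap_A f l a₁)
          (rho_algebraMap_A f l a₂)).lv := by
  classical
  haveI := finite_maximalSpectrum (A := A) B
  haveI := finite_maximalSpectrum (A := A) B''
  haveI := Fintype.ofFinite (MaximalSpectrum B)
  haveI := Fintype.ofFinite (MaximalSpectrum B'')
  haveI : IsNoetherianRing B := IsNoetherianRing.of_finite A B
  haveI : IsNoetherianRing B'' := IsNoetherianRing.of_finite A B''
  have hdimB : ∀ q : MaximalSpectrum B, Ring.KrullDimLE 1 (Localization.AtPrime q.asIdeal) :=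
    fun q => krullDimLE_one_localization (A := A) B hA q.asIdeal
  have hdimB'' : ∀ q : MaximalSpectrum B'', Ring.KrullDimLE 1 (Localization.AtPrime q.asIdeal) :=
    fun q => krullDimLE_one_localization (A := A) B'' hA q.asIdeal
  -- global generators
  have hex := fun j : MaximalSpectrum B => exists_global_generator hdimB j (P j).π (P j).π_mem
  choose x hxq w hxw using hex
  -- regularity of `x j` on `B`
  have hxreg : ∀ j, x j ∈ nonZeroDivisors B := by
    intro j
    refine mem_nonZeroDivisors_of_localization _ fun q => ?_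
    by_cases hq : q = j
    · subst hq
      rw [hxw]
      exact mul_mem (w q).isUnit.mem_nonZeroDivisors (P q).π_mem
    · haveI := q.isMaximal
      exact ((IsLocalization.AtPrime.isUnit_to_map_iff _ q.asIdeal _).2
        (hxq j q hq)).mem_nonZeroDivisors
  -- `f (x (jmap l)) / 1` in `B''_l`
  have hfx_loc : ∀ l : MaximalSpectrum B'',
      algebraMap B'' (Localization.AtPrime l.asIdeal) (f (x (jmap f l))) =
        rho f l (w (jmap f l) : Localization.AtPrime (jmap f l).asIdeal) *
          rho f l (P (jmap f l)).π := by
    intro l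
    rw [← rho_algebraMap, hxw, map_mul]
  have hfxreg : ∀ j, f (x j) ∈ nonZeroDivisors B'' := by
    intro j
    refine mem_nonZeroDivisors_of_localization _ fun l => ?_
    by_cases hl : jmap f l = j
    · subst hl
      rw [hfx_loc]
      exact mul_mem (((w (jmap f l)).isUnit.map (rho f l)).mem_nonZeroDivisors) (hreg l)
    · haveI := l.isMaximal
      have h1 : x j ∉ (jmap f l).asIdeal := hxq j _ hl
      have h2 : f (x j) ∉ l.asIdeal := h1
      exact ((IsLocalization.AtPrime.isUnit_to_map_iff _ l.asIdeal _).2 h2).mem_nonZeroDivisors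
  -- the numbers
  set n : MaximalSpectrum B → ℕ := fun j =>
    (Ring.ord (Localization.AtPrime j.asIdeal) (P j).π).toNat with hn_def
  set m : MaximalSpectrum B'' → ℕ := fun l =>
    (Ring.ord (Localization.AtPrime l.asIdeal) (rho f l (P (jmap f l)).π)).toNat with hm_def
  have hn : ∀ j, Ring.ord (Localization.AtPrime j.asIdeal) (algebraMap B _ (x j)) = (n j : ℕ∞) := by
    intro j
    haveI := hdimB j
    rw [hxw, Ring.ord_mul_of_isUnit_left (w j).isUnit]
    exact (ENat.natCast_toNat (Ring.ord_ne_top (P j).π_mem)).symm
  have hm : ∀ l, Ring.ord (Localization.AtPrime l.asIdeal)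
      (algebraMap B'' _ (f (x (jmap f l)))) = (m l : ℕ∞) := by
    intro l
    haveI := hdimB'' l
    rw [hfx_loc, Ring.ord_mul_of_isUnit_left ((w _).isUnit.map (rho f l))]
    exact (ENat.natCast_toNat (Ring.ord_ne_top (hreg l))).symm
  -- the numerical identity
  have hNI : ∀ j, deg A B j * n j =
      ∑ l ∈ Finset.univ.filter (fun l => jmap f l = j), deg A B'' l * m l := by
    intro j
    have h := NIx hA f hf hfin j (x j) (hxreg j) (hfxreg j) (hxq j)
    rw [hn j, finsum_eq_sum_of_fintype] at h
    have h2 : ∀ l : MaximalSpectrum B'',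
        (if jmap f l = j then
          (Module.finrank (ResidueField A) (ResidueField (Localization.AtPrime l.asIdeal)) : ℕ∞) *
            Ring.ord (Localization.AtPrime l.asIdeal) (algebraMap B'' _ (f (x j))) else 0) =
        if jmap f l = j then ((deg A B'' l * m l : ℕ) : ℕ∞) else 0 := by
      intro l
      by_cases hl : jmap f l = j
      · rw [if_pos hl, if_pos hl]
        subst hl
        rw [hm l]
        push_cast
        rfl
      · rw [if_neg hl, if_neg hl]
    rw [Finset.sum_congr rfl (fun l _ => h2 l), ← Finset.sum_filter] at h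
    have h' : ((deg A B j * n j : ℕ) : ℕ∞) =
        ((∑ l ∈ Finset.univ.filter (fun l => jmap f l = j), deg A B'' l * m l : ℕ) : ℕ∞) := by
      push_cast
      exact h
    exact_mod_cast h'
  have hn_eq : ∀ j, n j = ∑ l ∈ Finset.univ.filter (fun l => jmap f l = j), rdeg f l * m l := by
    intro j
    have h := hNI j
    have h3 : ∑ l ∈ Finset.univ.filter (fun l => jmap f l = j), deg A B'' l * m l =
        deg A B j * ∑ l ∈ Finset.univ.filter (fun l => jmap f l = j), rdeg f l * m l := by
      rw [Finset.mul_sum]
      refine Finset.sum_congr rfl fun l hl => ?_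
      have hl' : jmap f l = j := (Finset.mem_filter.1 hl).2
      rw [← deg_mul_rdeg f l, hl', mul_assoc]
    rw [h3] at h
    exact Nat.eq_of_mul_eq_mul_left (deg_pos j) h
  -- the products
  rw [finprod_eq_prod_of_fintype, finprod_eq_prod_of_fintype,
    ← Finset.prod_fiberwise Finset.univ (jmap f)]
  refine Finset.prod_congr rfl fun j _ => ?_
  have hG : ∀ l ∈ Finset.univ.filter (fun l => jmap f l = j),
      Algebra.norm (ResidueField A)
        ((P (jmap f l)).mapHom (rho f l) (hreg l) (rho_algebraMap_A f l a₁)
          (rho_algebraMap_A f l a₂)).lv =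
      (Algebra.norm (ResidueField A) (P j).theta) ^ (rdeg f l * m l) := by
    intro l hl
    have hl' : jmap f l = j := (Finset.mem_filter.1 hl).2
    rw [norm_pull]
    subst hl'
    rfl
  rw [Finset.prod_congr rfl hG, Finset.prod_pow_eq_pow_sum, ← hn_eq j]
  unfold Pres.lv
  rw [map_pow]

end Transfer

end Groth.Agent.H63.Tame
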