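import Mathlib
import Groth.Agent.H63.TameE
import Groth.Agent.H10.LengthOrd

set_option autoImplicit false
set_option linter.style.haveILetI false
set_option linter.unusedSectionVars false
universe u

namespace Groth.Agent.H63.Tame

open IsLocalRing CycAlg

section FinLen
variable {A : Type u} [CommRing A] [IsLocalRing A] [IsNoetherianRing A]

/-- a prime containing a nonzerodivisor of a ring of dimension `≤ 1` is maximal. -/
theorem eq_maximalIdeal_of_mem (hA : ringKrullDim A ≤ 1) {a : A} (ha : a ∈ nonZeroDivisors A)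
    (p : Ideal A) [hp : p.IsPrime] (hap : a ∈ p) : p = maximalIdeal A := by
  haveI : Ring.KrullDimLE 1 A := Ring.krullDimLE_iff.2 hA
  rcases (Ring.krullDimLE_one_iff (R := A)).1 inferInstance p hp with hmin | hmax
  · exfalso
    exact Set.disjoint_left.1 (Ideal.disjoint_nonZeroDivisors_of_mem_minimalPrimes hmin) hap ha
  · exact eq_maximalIdeal hmax

/-- a finite module killed by a power of a nonzerodivisor has finite length. -/
theorem length_ne_top_of_pow_smul (hA : ringKrullDim A ≤ 1) {a : A} (ha : a ∈ nonZeroDivisors A)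
    (N : Type u) [AddCommGroup N] [Module A N] [Module.Finite A N] (k : ℕ)
    (hk : ∀ y : N, a ^ k • y = 0) : Module.length A N ≠ ⊤ := by
  refine (Groth.Agent.H10.length_lt_top_of_support_subset A N ?_).ne
  intro p hp
  rw [Module.mem_support_iff_of_finite] at hp
  have h1 : a ^ k ∈ Module.annihilator A N := Module.mem_annihilator.2 hk
  have h2 : a ∈ p.asIdeal := p.isPrime.mem_of_pow_mem k (hp h1)
  exact eq_maximalIdeal_of_mem hA ha p.asIdeal h2

end FinLen

section Embed
variable {A : Type u} [CommRing A] (a : A) (B : Type u) [CommRing B] [Algebra A B]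

/-- a finite extension with cokernel killed by `a^n`, on which `a` is regular, embeds into
`A[1/a]`. -/
theorem exists_embedding
    (hinj : Function.Injective (algebraMap A B))
    (hreg : algebraMap A B a ∈ nonZeroDivisors B) (n : ℕ)
    (hn : ∀ b : B, ∃ c : A, algebraMap A B c = algebraMap A B a ^ n * b) :
    ∃ ι : B →ₐ[A] Localization.Away a, Function.Injective ι ∧
      ∀ b : B, ∃ c : A, algebraMap A (Localization.Away a) a ^ n * ι b =
        algebraMap A (Localization.Away a) c := by
  let Q := Localization.Away a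
  let Ba := Localization.Away (algebraMap A B a)
  let φ : Q →+* Ba := IsLocalization.Away.map Q Ba (algebraMap A B) a
  have hφ : ∀ r : A, φ (algebraMap A Q r) = algebraMap B Ba (algebraMap A B r) := by
    intro r
    exact IsLocalization.map_eq _ _
  have hBinj : Function.Injective (algebraMap B Ba) := by
    refine IsLocalization.injective Ba (M := Submonoid.powers (algebraMap A B a)) ?_
    exact Submonoid.powers_le.2 hreg
  have hφinj : Function.Injective φ := by
    rw [injective_iff_map_eq_zero]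
    intro z hz
    obtain ⟨c, ⟨_, k, rfl⟩, rfl⟩ := IsLocalization.exists_mk'_eq (Submonoid.powers a) z
    have h1 : φ (IsLocalization.mk' Q c (⟨a ^ k, k, rfl⟩ : Submonoid.powers a)) *
        φ (algebraMap A Q (a ^ k)) = φ (algebraMap A Q c) := by
      rw [← map_mul, IsLocalization.mk'_spec]
    rw [hz, zero_mul, hφ] at h1
    have h2 : algebraMap A B c = 0 := hBinj (by rw [← h1, map_zero])
    have h3 : c = 0 := hinj (by rw [h2, map_zero])
    rw [h3, IsLocalization.mk'_zero]
  have hφsurj : Function.Surjective φ := by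
    intro y
    obtain ⟨b, ⟨_, k, rfl⟩, rfl⟩ :=
      IsLocalization.exists_mk'_eq (Submonoid.powers (algebraMap A B a)) y
    obtain ⟨c, hc⟩ := hn b
    refine ⟨IsLocalization.mk' Q c (⟨a ^ (n + k), n + k, rfl⟩ : Submonoid.powers a), ?_⟩
    rw [IsLocalization.eq_mk'_iff_mul_eq]
    have h1 : φ (IsLocalization.mk' Q c (⟨a ^ (n + k), n + k, rfl⟩ : Submonoid.powers a)) *
        φ (algebraMap A Q (a ^ (n + k))) = φ (algebraMap A Q c) := by
      rw [← map_mul, IsLocalization.mk'_spec]
    rw [hφ, hφ, hc] at h1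
    have h4 : IsUnit (algebraMap B Ba (algebraMap A B a ^ n)) :=
      IsLocalization.map_units Ba (⟨algebraMap A B a ^ n, n, rfl⟩ : Submonoid.powers _)
    apply h4.mul_right_cancel
    simp only [map_pow, map_mul] at h1 ⊢
    rw [mul_comm ((algebraMap B Ba) b), ← h1]
    ring
  let e : Q ≃+* Ba := RingEquiv.ofBijective φ ⟨hφinj, hφsurj⟩
  let ι₀ : B →+* Q := (e.symm : Ba →+* Q).comp (algebraMap B Ba)
  have hι₀ : ∀ b, φ (ι₀ b) = algebraMap B Ba b := fun b => e.apply_symm_apply _
  let ι : B →ₐ[A] Q :=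
    { ι₀ with
      commutes' := by
        intro r
        apply hφinj
        change φ (ι₀ (algebraMap A B r)) = _
        rw [hι₀, hφ] }
  have hιφ : ∀ b, φ (ι b) = algebraMap B Ba b := hι₀
  refine ⟨ι, ?_, ?_⟩
  · intro b b' hbb'
    apply hBinj
    rw [← hιφ, ← hιφ, hbb']
  · intro b
    obtain ⟨c, hc⟩ := hn b
    refine ⟨c, ?_⟩
    apply hφinj
    rw [map_mul, map_pow, hφ, hφ, hιφ, hc, map_mul, map_pow]

end Embed

section Main
variable {A : Type u} [CommRing A] [IsLocalRing A] [IsNoetherianRing A] {a₁ a₂ : A}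

theorem value_eq_finprod (D : TameData A a₁ a₂) :
    D.value = ∏ᶠ q : MaximalSpectrum D.B,
      (haveI := D.isLocalHom q; Algebra.norm (ResidueField A) (D.pres q).lv) := by
  unfold TameData.value
  exact finprod_congr fun q => localFactor_eq D q

omit [IsNoetherianRing A] in
theorem value_eq_one_of_isUnit (D : TameData A a₁ a₂) (h₁ : IsUnit a₁) (h₂ : IsUnit a₂) :
    D.value = 1 := by
  unfold TameData.value
  refine finprod_eq_one_of_forall_eq_one fun q => ?_
  unfold TameData.localFactor
  by_cases hπ : IsUnit (D.π q)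
  · rw [Ring.ord_of_isUnit hπ]
    simp
  · have he : ∀ (u : (Localization.AtPrime q.asIdeal)ˣ) (e : ℕ) (x : A), IsUnit x →
        algebraMap A (Localization.AtPrime q.asIdeal) x = (u : Localization.AtPrime q.asIdeal) * D.π q ^ e →
        e = 0 := by
      intro u e x hx hfac
      by_contra he0
      have h3 : IsUnit ((u : Localization.AtPrime q.asIdeal) * D.π q ^ e) := by
        rw [← hfac]
        exact hx.map _
      have h4 : IsUnit (D.π q ^ e) := (IsUnit.mul_iff.1 h3).2
      exact hπ ((isUnit_pow_iff he0).1 h4)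
    have e1 := he _ _ _ h₁ (D.fac₁ q)
    have e2 := he _ _ _ h₂ (D.fac₂ q)
    rw [e1, e2]
    simp

end Main

section Aux

theorem Pres.pi_dvd {R : Type u} [CommRing R] [IsLocalRing R] {x₁ x₂ : R} (P : Pres R x₁ x₂)
    (h : ¬ (IsUnit x₁ ∧ IsUnit x₂)) : P.π ∣ x₁ * x₂ := by
  by_cases he : P.e₁ = 0 ∧ P.e₂ = 0
  · exfalso
    apply h
    constructor
    · have := P.fac₁
      rw [he.1, pow_zero, mul_one] at this
      rw [this]
      exact P.u₁.isUnit
    · have := P.fac₂
      rw [he.2, pow_zero, mul_one] at this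
      rw [this]
      exact P.u₂.isUnit
  · have hpos : P.e₁ + P.e₂ ≠ 0 := by omega
    have h1 : x₁ * x₂ = (P.u₁ : R) * (P.u₂ : R) * P.π ^ (P.e₁ + P.e₂) := by
      have e1 := P.fac₁
      have e2 := P.fac₂
      calc x₁ * x₂ = ((P.u₁ : R) * P.π ^ P.e₁) * ((P.u₂ : R) * P.π ^ P.e₂) := by rw [← e1, ← e2]
        _ = _ := by ring
    rw [h1]
    exact Dvd.dvd.mul_left (dvd_pow_self _ hpos) _

theorem mem_nonZeroDivisors_of_dvd' {S : Type*} [CommRing S] {y z : S} (h : y ∣ z)
    (hz : z ∈ nonZeroDivisors S) : y ∈ nonZeroDivisors S := by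
  obtain ⟨c, rfl⟩ := h
  rw [mem_nonZeroDivisors_iff_right]
  intro b hb
  refine (mem_nonZeroDivisors_iff_right.1 hz) b ?_
  rw [← mul_assoc, hb, zero_mul]

theorem smul_mem_of_sup {A Q : Type*} [CommRing A] [CommRing Q] [Algebra A Q]
    (S T : Subalgebra A Q) (c : A) (hc : ∀ t ∈ T, ∃ r : A, algebraMap A Q c * t = algebraMap A Q r)
    (y : Q) (hy : y ∈ S ⊔ T) : algebraMap A Q c * y ∈ S := by
  have hy' : y ∈ Subalgebra.toSubmodule S * Subalgebra.toSubmodule T := by
    rw [Subalgebra.mul_toSubmodule]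
    exact hy
  refine Submodule.mul_induction_on hy' ?_ ?_
  · intro s hs t ht
    obtain ⟨r, hr⟩ := hc t ht
    have : algebraMap A Q c * (s * t) = s * (algebraMap A Q c * t) := by ring
    rw [this, hr]
    exact S.mul_mem hs (S.algebraMap_mem r)
  · intro x y hx hy
    rw [mul_add]
    exact S.add_mem hx hy

end Aux

section Half
variable {A : Type u} [CommRing A] [IsLocalRing A] [IsNoetherianRing A] {a₁ a₂ : A}

theorem regular_on_B (D : TameData A a₁ a₂) :
    algebraMap A D.B (a₁ * a₂) ∈ nonZeroDivisors D.B := by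
  refine mem_nonZeroDivisors_of_localization _ fun q => ?_
  rw [← IsScalarTower.algebraMap_apply, map_mul]
  exact mul_mem (D.pres q).x₁_mem (D.pres q).x₂_mem

theorem value_eq_of_le (hA : ringKrullDim A ≤ 1) (ha : a₁ * a₂ ∈ nonZeroDivisors A)
    (hnu : ¬ (IsUnit a₁ ∧ IsUnit a₂)) (D : TameData A a₁ a₂)
    (ι : D.B →ₐ[A] Localization.Away (a₁ * a₂)) (hι : Function.Injective ι)
    (B'' : Subalgebra A (Localization.Away (a₁ * a₂))) [Module.Finite A B'']
    (hle : ι.range ≤ B'') (k : ℕ)
    (hk : ∀ y ∈ B'', algebraMap A (Localization.Away (a₁ * a₂)) ((a₁ * a₂) ^ k) * y ∈ ι.range)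
    [∀ l : MaximalSpectrum B'', IsLocalHom (algebraMap A (Localization.AtPrime l.asIdeal))]
    (G : ∀ l : MaximalSpectrum B'', ResidueField (Localization.AtPrime l.asIdeal))
    (hG : ∀ (l : MaximalSpectrum B'')
      (P : Pres (Localization.AtPrime l.asIdeal) (algebraMap A _ a₁) (algebraMap A _ a₂)),
      P.lv = G l) :
    D.value = ∏ᶠ l : MaximalSpectrum B'', Algebra.norm (ResidueField A) (G l) := by
  haveI : Module.Finite A D.B := D.isFinExt.2.1
  haveI := D.isLocalHom
  let f : D.B →ₐ[A] B'' := (Subalgebra.inclusion hle).comp ι.rangeRestrict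
  have hfval : ∀ b : D.B, ((f b : B'') : Localization.Away (a₁ * a₂)) = ι b := fun b => rfl
  have hf : Function.Injective f := by
    intro b b' h
    apply hι
    rw [← hfval, ← hfval, h]
  -- finite colength
  have hfin : Module.length A (B'' ⧸ LinearMap.range f.toLinearMap) ≠ ⊤ := by
    refine length_ne_top_of_pow_smul hA ha _ k ?_
    intro y
    obtain ⟨y, rfl⟩ := Submodule.Quotient.mk_surjective _ y
    rw [← Submodule.Quotient.mk_smul, Submodule.Quotient.mk_eq_zero]
    obtain ⟨b, hb⟩ := hk y.1 y.2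
    refine ⟨b, ?_⟩
    apply Subtype.ext
    change ((f b : B'') : Localization.Away (a₁ * a₂)) = _
    have hb' : ι b = algebraMap A (Localization.Away (a₁ * a₂)) ((a₁ * a₂) ^ k) * (y : _) := hb
    rw [hfval, hb', Algebra.smul_def]
    rfl
  -- regularity
  have hareg : algebraMap A B'' (a₁ * a₂) ∈ nonZeroDivisors B'' := by
    rw [mem_nonZeroDivisors_iff_right]
    intro b hb
    have h1 : (b : Localization.Away (a₁ * a₂)) *
        algebraMap A (Localization.Away (a₁ * a₂)) (a₁ * a₂) = 0 := by
      have := congrArg (Subtype.val) hb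
      simpa using this
    have hu : IsUnit (algebraMap A (Localization.Away (a₁ * a₂)) (a₁ * a₂)) :=
      IsLocalization.Away.algebraMap_isUnit (a₁ * a₂)
    have h2 : (b : Localization.Away (a₁ * a₂)) = 0 := by
      rwa [hu.mul_left_eq_zero] at h1
    exact Subtype.ext h2
  have hreg : ∀ l : MaximalSpectrum B'',
      rho f l (D.pres (jmap f l)).π ∈ nonZeroDivisors (Localization.AtPrime l.asIdeal) := by
    intro l
    have hnu' : ¬ (IsUnit (algebraMap A (Localization.AtPrime (jmap f l).asIdeal) a₁) ∧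
        IsUnit (algebraMap A (Localization.AtPrime (jmap f l).asIdeal) a₂)) := by
      rintro ⟨h1, h2⟩
      exact hnu ⟨isUnit_of_map_unit
        (algebraMap A (Localization.AtPrime (jmap f l).asIdeal)) a₁ h1,
        isUnit_of_map_unit (algebraMap A (Localization.AtPrime (jmap f l).asIdeal)) a₂ h2⟩
    have hdvd := (D.pres (jmap f l)).pi_dvd hnu'
    have hdvd' : rho f l (D.pres (jmap f l)).π ∣
        algebraMap B'' (Localization.AtPrime l.asIdeal) (algebraMap A B'' (a₁ * a₂)) := by
      have h3 := map_dvd (rho f l) hdvd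
      rw [map_mul (rho f l), rho_algebraMap_A, rho_algebraMap_A] at h3
      rw [← IsScalarTower.algebraMap_apply A B'' (Localization.AtPrime l.asIdeal),
        map_mul (algebraMap A (Localization.AtPrime l.asIdeal))]
      exact h3
    refine mem_nonZeroDivisors_of_dvd' hdvd' ?_
    exact IsLocalization.map_nonZeroDivisors_le l.asIdeal.primeCompl _
      (Submonoid.mem_map_of_mem _ hareg)
  rw [value_eq_finprod, transfer hA f hf hfin D.pres hreg]
  exact finprod_congr fun l => congrArg _ (hG l _)

/-- **Independence of the tame symbol from the choice of tame data.** -/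
theorem value_eq (hA : ringKrullDim A = 1) (h₁ : a₁ ∈ nonZeroDivisors A)
    (h₂ : a₂ ∈ nonZeroDivisors A) (D D' : TameData A a₁ a₂) : D.value = D'.value := by
  classical
  by_cases hu : IsUnit a₁ ∧ IsUnit a₂
  · rw [value_eq_one_of_isUnit D hu.1 hu.2, value_eq_one_of_isUnit D' hu.1 hu.2]
  have ha : a₁ * a₂ ∈ nonZeroDivisors A := mul_mem h₁ h₂
  have ham : a₁ * a₂ ∈ maximalIdeal A := by
    rw [mem_maximalIdeal, mem_nonunits_iff]
    intro h
    exact hu (IsUnit.mul_iff.1 h)
  obtain ⟨hinj, hfinB, n, hn⟩ := D.isFinExt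
  obtain ⟨hinj', hfinB', n', hn'⟩ := D'.isFinExt
  have hn2 : ∀ b : D.B, ∃ c : A, algebraMap A D.B c = algebraMap A D.B (a₁ * a₂) ^ n * b := by
    intro b
    obtain ⟨c, hc⟩ := hn _ (Ideal.pow_mem_pow ham n) b
    exact ⟨c, by rw [hc, Algebra.smul_def, map_pow]⟩
  have hn2' : ∀ b : D'.B, ∃ c : A,
      algebraMap A D'.B c = algebraMap A D'.B (a₁ * a₂) ^ n' * b := by
    intro b
    obtain ⟨c, hc⟩ := hn' _ (Ideal.pow_mem_pow ham n') b
    exact ⟨c, by rw [hc, Algebra.smul_def, map_pow]⟩
  obtain ⟨ι, hι, hιn⟩ := exists_embedding (a₁ * a₂) D.B hinj (regular_on_B D) n hn2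
  obtain ⟨ι', hι', hιn'⟩ := exists_embedding (a₁ * a₂) D'.B hinj' (regular_on_B D') n' hn2'
  set B'' : Subalgebra A (Localization.Away (a₁ * a₂)) := ι.range ⊔ ι'.range with hB''
  haveI : Module.Finite A ι.range :=
    Module.Finite.of_surjective ι.rangeRestrict.toLinearMap ι.rangeRestrict_surjective
  haveI : Module.Finite A ι'.range :=
    Module.Finite.of_surjective ι'.rangeRestrict.toLinearMap ι'.rangeRestrict_surjective
  haveI : Module.Finite A B'' := Subalgebra.finite_sup _ _
  haveI : ∀ l : MaximalSpectrum B'',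
      IsLocalHom (algebraMap A (Localization.AtPrime l.asIdeal)) := isLocalHom_algebraMap B''
  haveI : IsNoetherianRing B'' := IsNoetherianRing.of_finite A B''
  let G : ∀ l : MaximalSpectrum B'', ResidueField (Localization.AtPrime l.asIdeal) := fun l =>
    if h : Nonempty (Pres (Localization.AtPrime l.asIdeal) (algebraMap A _ a₁)
      (algebraMap A _ a₂)) then (Classical.choice h).lv else 0
  have hG : ∀ (l : MaximalSpectrum B'')
      (P : Pres (Localization.AtPrime l.asIdeal) (algebraMap A _ a₁) (algebraMap A _ a₂)),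
      P.lv = G l := by
    intro l P
    haveI := krullDimLE_one_localization (A := A) B'' hA.le l.asIdeal
    have h : Nonempty (Pres (Localization.AtPrime l.asIdeal) (algebraMap A _ a₁)
      (algebraMap A _ a₂)) := ⟨P⟩
    simp only [G, dif_pos h]
    exact Pres.lv_eq_lv _ _
  have hk : ∀ y ∈ B'', algebraMap A (Localization.Away (a₁ * a₂)) ((a₁ * a₂) ^ n') * y ∈
      ι.range := by
    intro y hy
    refine smul_mem_of_sup ι.range ι'.range _ ?_ y hy
    rintro t ⟨b, rfl⟩
    obtain ⟨c, hc⟩ := hιn' b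
    exact ⟨c, by rw [map_pow]; exact hc⟩
  have hk' : ∀ y ∈ B'', algebraMap A (Localization.Away (a₁ * a₂)) ((a₁ * a₂) ^ n) * y ∈
      ι'.range := by
    intro y hy
    refine smul_mem_of_sup ι'.range ι.range _ ?_ y (by rw [sup_comm]; exact hy)
    rintro t ⟨b, rfl⟩
    obtain ⟨c, hc⟩ := hιn b
    exact ⟨c, by rw [map_pow]; exact hc⟩
  rw [value_eq_of_le hA.le ha hu D ι hι B'' le_sup_left n' hk G hG,
    value_eq_of_le hA.le ha hu D' ι' hι' B'' le_sup_right n hk' G hG]

end Half

end Groth.Agent.H63.Tame
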