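import Mathlib
import Groth.Agent.H93.CycBlow
import Groth.Agent.H63.TameF

set_option autoImplicit false
set_option linter.style.haveILetI false
set_option linter.unusedSectionVars false
universe u

open Polynomial Pointwise

namespace Groth.Agent.H63.Tame

open IsLocalRing Groth.Agent.H93.CycBlow

/-- Semi-local version of `H93.CycBlow.exists_relation`: for `a` a nonzerodivisor in the Jacobson
radical of a one-dimensional Noetherian ring there is a homogeneous relation between `a` and `b`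
with a unit coefficient. -/
theorem exists_relation' {R : Type u} [CommRing R] [IsNoetherianRing R]
    [Ring.KrullDimLE 1 R] {a : R} (ha : a ∈ nonZeroDivisors R)
    (hjac : ∀ r : R, IsUnit (1 - a * r)) (b : R) :
    ∃ (n : ℕ) (P : R[X]), (∃ i ≤ n, IsUnit (P.coeff i)) ∧
      ∑ j ∈ Finset.range (n+1), P.coeff j * (b^(n-j) * a^j) = 0 := by
  have hfin : Module.length R (R ⧸ Ideal.span {a}) ≠ ⊤ :=
    Module.length_ne_top_iff.2 (isFiniteLength_quotient_span_singleton R ha)
  obtain ⟨n, hn⟩ := ENat.ne_top_iff_exists.1 hfin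
  set φ := homEval a b n with hφ
  set J : Ideal R := Submodule.map φ (degreeLT R (n+1)) with hJ
  set F : ℕ → Ideal R := fun i => a • J ⊔ Submodule.map φ (degreeLT R i) with hFdef
  have hXmem : ∀ i, (X : R[X]) ^ i ∈ degreeLT R (i+1) := by
    intro i
    rw [Polynomial.mem_degreeLT]
    exact lt_of_le_of_lt (Polynomial.degree_X_pow_le i) (by exact_mod_cast Nat.lt_succ_self i)
  have hJfin : Module.length R (R ⧸ J) ≠ ⊤ := by
    have han : a ^ n ∈ J := by
      refine ⟨X ^ n, hXmem n, ?_⟩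
      rw [hφ, homEval_X_pow a b n n le_rfl]; simp
    have hle : Ideal.span {a ^ n} ≤ J := (Ideal.span_singleton_le_iff_mem _).2 han
    have h1 : Module.length R (R ⧸ Ideal.span {a ^ n}) ≠ ⊤ :=
      Module.length_ne_top_iff.2 (isFiniteLength_quotient_span_singleton R (pow_mem ha n))
    have h2 : Module.length R (R ⧸ J) ≤ Module.length R (R ⧸ Ideal.span {a ^ n}) :=
      Module.length_le_of_surjective (Submodule.factor hle) (Submodule.factor_surjective hle)
    exact ne_top_of_le_ne_top h1 h2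
  by_contra hcon
  push Not at hcon
  have key : ∀ i < n + 1, F i < F (i+1) := by
    intro i hi
    refine lt_of_le_of_ne (sup_le_sup_left (Submodule.map_mono
      (Polynomial.degreeLT_mono (Nat.le_succ i))) _) ?_
    intro heq
    have hmem : φ (X ^ i) ∈ F i := by
      rw [heq]
      exact (le_sup_right : _ ≤ F (i+1)) ⟨X ^ i, hXmem i, rfl⟩
    obtain ⟨y, hy, z, hz, hyz⟩ := Submodule.mem_sup.1 hmem
    obtain ⟨y', hy', rfl⟩ := (Submodule.mem_smul_pointwise_iff_exists _ _ _).1 hy
    obtain ⟨p, hp, rfl⟩ := hy'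
    obtain ⟨q, hq, rfl⟩ := hz
    have hqi : q.coeff i = 0 := by
      have hq' : q ∈ degreeLT R i := hq
      rw [Polynomial.mem_degreeLT] at hq'
      exact Polynomial.coeff_eq_zero_of_degree_lt hq'
    refine hcon n (X ^ i - a • p - q) ⟨i, by omega, ?_⟩ ?_
    · have : (X ^ i - a • p - q).coeff i = 1 - a * p.coeff i := by
        simp [hqi]
      rw [this]
      exact hjac _
    · rw [← homEval_apply, ← hφ, map_sub, map_sub, map_smul, ← hyz]
      simp
  have := chain_bound ha J hJfin (n+1) F key le_sup_left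
    (sup_le (by
      intro w hw
      obtain ⟨w', hw', rfl⟩ := (Submodule.mem_smul_pointwise_iff_exists _ _ _).1 hw
      exact Ideal.mul_mem_left _ _ hw') le_rfl)
  rw [← hn] at this
  exact absurd this (by exact_mod_cast Nat.not_succ_le_self n)

section Principalize
variable {A : Type u} [CommRing A] [IsLocalRing A] [IsNoetherianRing A]
variable {Q : Type u} [CommRing Q] [Algebra A Q]

/-- **Semi-local principalization**: inside a fixed overring `Q`, a pair of elements of a finite
`A`-subalgebra `B`, both units of `Q`, generates a principal ideal in a suitable finite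
`A`-subalgebra `B' ⊇ B`. -/
theorem principalize (hA : ringKrullDim A ≤ 1) (a₀ : A) (ha₀ : a₀ ∈ maximalIdeal A)
    (ha₀Q : IsUnit (algebraMap A Q a₀))
    (B : Subalgebra A Q) [Module.Finite A B] (α β : Q) (hαB : α ∈ B) (hβB : β ∈ B)
    (hα : IsUnit α) :
    ∃ B' : Subalgebra A Q, B ≤ B' ∧ Module.Finite A B' ∧
      ∃ e c₁ c₂ : Q, e ∈ B' ∧ c₁ ∈ B' ∧ c₂ ∈ B' ∧
        (α + e * β) * c₁ = α ∧ (α + e * β) * c₂ = β := by
  classical
  haveI : IsNoetherianRing B := IsNoetherianRing.of_finite A B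
  haveI : Ring.KrullDimLE 1 B := krullDimLE_one (A := A) B hA
  haveI : Algebra.IsIntegral A B := Algebra.IsIntegral.of_finite A B
  let a : B := ⟨algebraMap A Q a₀ * α, B.mul_mem (B.algebraMap_mem a₀) hαB⟩
  let b : B := ⟨algebraMap A Q a₀ * β, B.mul_mem (B.algebraMap_mem a₀) hβB⟩
  have haU : IsUnit (a : Q) := ha₀Q.mul hα
  have ha : a ∈ nonZeroDivisors B := by
    rw [mem_nonZeroDivisors_iff_right]
    intro z hz
    have h1 : (z : Q) * (a : Q) = 0 := by
      have := congrArg Subtype.val hz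
      simpa using this
    exact Subtype.ext (haU.mul_left_eq_zero.1 h1)
  have hjac : ∀ r : B, IsUnit (1 - a * r) := by
    intro r
    by_contra hnu
    obtain ⟨M, hM, hmem⟩ := exists_max_ideal_of_mem_nonunits hnu
    have h1 : algebraMap A B a₀ ∈ M := by
      have := comap_eq (A := A) B ⟨M, hM⟩
      have h2 : a₀ ∈ Ideal.comap (algebraMap A B) M := by
        rw [show Ideal.comap (algebraMap A B) M = maximalIdeal A from this]
        exact ha₀
      exact h2
    have h3 : a = algebraMap A B a₀ * ⟨α, hαB⟩ := Subtype.ext rfl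
    have h4 : a * r ∈ M := by
      rw [h3, mul_assoc]
      exact M.mul_mem_right _ h1
    have h5 : (1 : B) ∈ M := by
      have := M.add_mem hmem h4
      simpa using this
    exact hM.ne_top ((Ideal.eq_top_iff_one _).2 h5)
  obtain ⟨n, P, ⟨i, hi, hiu⟩, hrel⟩ := exists_relation' ha hjac b
  set x : Q := β * (hα.unit⁻¹ : Qˣ) with hx
  have hax : (a : Q) * x = (b : Q) := by
    change algebraMap A Q a₀ * α * (β * (hα.unit⁻¹ : Qˣ)) = algebraMap A Q a₀ * β
    have : α * (hα.unit⁻¹ : Qˣ) = 1 := hα.mul_val_inv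
    calc algebraMap A Q a₀ * α * (β * (hα.unit⁻¹ : Qˣ))
        = algebraMap A Q a₀ * β * (α * (hα.unit⁻¹ : Qˣ)) := by ring
      _ = _ := by rw [this, mul_one]
  set d : ℕ → Q := fun j => ((P.coeff j : B) : Q) with hd
  have hdint : ∀ j, IsIntegral B (d j) := fun j => isIntegral_algebraMap (x := P.coeff j)
  set y : ℕ → Q := horner x d with hy
  have hyn : y n = 0 := by
    have h1 : (a : Q) ^ n * y n = 0 := by
      have hrel' := congrArg (Subtype.val : B → Q) hrel
      rw [hy, horner_eq_sum, Finset.mul_sum]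
      simp only [Subalgebra.coe_zero] at hrel'
      rw [← hrel']
      simp only [AddSubmonoidClass.coe_finsetSum, Subalgebra.coe_mul, Subalgebra.coe_pow]
      refine Finset.sum_congr rfl fun j hj => ?_
      have hj' : j ≤ n := Nat.lt_succ_iff.1 (Finset.mem_range.1 hj)
      have h2 : (a : Q) ^ n = (a : Q) ^ (n - j) * (a : Q) ^ j := by
        rw [← pow_add, Nat.sub_add_cancel hj']
      rw [h2, ← hax, mul_pow]
      ring
    exact (haU.pow n).mul_right_eq_zero.1 h1
  have hyintB : ∀ k ≤ n, IsIntegral B (y k) := isIntegral_horner x n d hdint hyn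
  have hyint : ∀ k ≤ n, IsIntegral A (y k) := fun k hk => isIntegral_trans _ (hyintB k hk)
  set S' : Subalgebra A Q := Algebra.adjoin A (Set.range fun k : Fin (n+1) => y k) with hS'
  haveI hfinS' : Module.Finite A S' :=
    Algebra.finite_adjoin_of_finite_of_isIntegral (Set.finite_range _) (by
      rintro _ ⟨k, rfl⟩
      exact hyint k (Nat.lt_succ_iff.1 k.2))
  set B' : Subalgebra A Q := B ⊔ S' with hB'
  haveI hfinB' : Module.Finite A B' := Subalgebra.finite_sup _ _
  have hBB' : B ≤ B' := le_sup_left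
  have hymem : ∀ k ≤ n, y k ∈ B' := fun k hk =>
    (le_sup_right : S' ≤ B') (Algebra.subset_adjoin ⟨⟨k, Nat.lt_succ_of_le hk⟩, rfl⟩)
  have hdmem : ∀ k, d k ∈ B' := fun k => hBB' (P.coeff k).2
  have hxy : ∀ k < n, x * y k ∈ B' := by
    intro k hk
    have : x * y k = y (k+1) - d (k+1) := by
      rw [hy, horner_succ]; ring
    rw [this]
    exact B'.sub_mem (hymem (k+1) hk) (hdmem _)
  refine ⟨B', hBB', hfinB', ?_⟩
  have hfinmax : {M : Ideal B' | M.IsMaximal}.Finite := by
    haveI := finite_maximalSpectrum (A := A) B'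
    refine (Set.finite_range (fun M : MaximalSpectrum B' => M.asIdeal)).subset ?_
    intro M hM
    exact ⟨⟨M, hM⟩, rfl⟩
  set ι : B' →+* Q := B'.val.toRingHom with hι
  have hιinj : Function.Injective ι := Subtype.val_injective
  let a' : B' := ⟨a, hBB' a.2⟩
  let b' : B' := ⟨b, hBB' b.2⟩
  let Y : ℕ → B' := fun k => if h : k ≤ n then ⟨y k, hymem k h⟩ else 0
  let Z : ℕ → B' := fun k => if h : k < n then ⟨x * y k, hxy k h⟩ else 0
  let D : ℕ → B' := fun k => ⟨d k, hdmem k⟩
  have hDu : IsUnit (D i) := by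
    have := hiu.map (Subalgebra.inclusion hBB')
    exact this
  have hloc : ∀ M : Ideal B', M.IsMaximal → ∃ s, s ∉ M ∧ (a' ∣ s * b' ∨ b' ∣ s * a') := by
    intro M hM
    refine local_condition ι hιinj a' b' x hax n Y Z D ?_ ?_ ?_ ?_ i hi hDu M hM.isPrime
    · intro k hk
      simp only [Y, Z, dif_pos hk, dif_pos hk.le]
      rfl
    · intro k hk
      apply Subtype.ext
      simp only [Y, Z, D, dif_pos hk, dif_pos (Nat.succ_le_of_lt hk)]
      change y (k+1) = x * y k + d (k+1)
      rw [hy, horner_succ]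
    · apply Subtype.ext
      simp only [Y, D, dif_pos (Nat.zero_le n)]
      rfl
    · apply Subtype.ext
      simp only [Y, dif_pos le_rfl]
      exact hyn
  obtain ⟨e, ⟨c₁, h₁⟩, ⟨c₂, h₂⟩⟩ := exists_generator_of_semilocal hfinmax a' b' hloc
  refine ⟨e, c₁, c₂, e.2, c₁.2, c₂.2, ?_, ?_⟩
  · have h := congrArg (Subtype.val : B' → Q) h₁
    have h' : algebraMap A Q a₀ * α =
        (algebraMap A Q a₀ * α + (e : Q) * (algebraMap A Q a₀ * β)) * (c₁ : Q) := h
    have h'' : algebraMap A Q a₀ * ((α + (e : Q) * β) * (c₁ : Q)) = algebraMap A Q a₀ * α := by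
      rw [h']; ring
    exact ha₀Q.mul_right_injective h''
  · have h := congrArg (Subtype.val : B' → Q) h₂
    have h' : algebraMap A Q a₀ * β =
        (algebraMap A Q a₀ * α + (e : Q) * (algebraMap A Q a₀ * β)) * (c₂ : Q) := h
    have h'' : algebraMap A Q a₀ * ((α + (e : Q) * β) * (c₂ : Q)) = algebraMap A Q a₀ * β := by
      rw [h']; ring
    exact ha₀Q.mul_right_injective h''

/-- principalization of finitely many pairs at once. -/
theorem principalize_list (hA : ringKrullDim A ≤ 1) (a₀ : A) (ha₀ : a₀ ∈ maximalIdeal A)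
    (ha₀Q : IsUnit (algebraMap A Q a₀)) (L : List (Q × Q)) :
    ∀ (B : Subalgebra A Q) [Module.Finite A B],
      (∀ p ∈ L, p.1 ∈ B ∧ p.2 ∈ B ∧ IsUnit p.1) →
      ∃ B' : Subalgebra A Q, B ≤ B' ∧ Module.Finite A B' ∧
        ∀ p ∈ L, ∃ e c₁ c₂ : Q, e ∈ B' ∧ c₁ ∈ B' ∧ c₂ ∈ B' ∧
          (p.1 + e * p.2) * c₁ = p.1 ∧ (p.1 + e * p.2) * c₂ = p.2 := by
  induction L with
  | nil =>
    intro B _ _
    exact ⟨B, le_rfl, inferInstance, fun p hp => absurd hp (List.not_mem_nil)⟩
  | cons p L ih =>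
    intro B _ hL
    obtain ⟨h1, h2, h3⟩ := hL p (List.mem_cons_self)
    obtain ⟨B₁, hBB₁, hfin₁, e, c₁, c₂, he, hc₁, hc₂, hp₁, hp₂⟩ :=
      principalize hA a₀ ha₀ ha₀Q B p.1 p.2 h1 h2 h3
    haveI := hfin₁
    obtain ⟨B₂, hB₁B₂, hfin₂, hall⟩ := ih B₁ (fun q hq =>
      ⟨hBB₁ (hL q (List.mem_cons_of_mem _ hq)).1, hBB₁ (hL q (List.mem_cons_of_mem _ hq)).2.1,
        (hL q (List.mem_cons_of_mem _ hq)).2.2⟩)
    refine ⟨B₂, hBB₁.trans hB₁B₂, hfin₂, ?_⟩
    intro q hq
    rcases List.mem_cons.1 hq with rfl | hq'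
    · exact ⟨e, c₁, c₂, hB₁B₂ he, hB₁B₂ hc₁, hB₁B₂ hc₂, hp₁, hp₂⟩
    · exact hall q hq'

end Principalize

end Groth.Agent.H63.Tame
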