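import Mathlib

set_option autoImplicit false
set_option linter.style.haveILetI false
set_option linter.unusedSectionVars false
universe u

namespace Groth.Agent.H63.Tame

section Arith
variable {r : ℕ}

/-- weighted degree of an exponent vector. -/
def wt (ℓ : Fin r → ℕ) (s : Fin r → ℕ) : ℕ := ∑ i, s i * ℓ i

theorem wt_add (ℓ s t : Fin r → ℕ) : wt ℓ (s + t) = wt ℓ s + wt ℓ t := by
  simp [wt, add_mul, Finset.sum_add_distrib]

theorem wt_smul (ℓ s : Fin r → ℕ) (e : ℕ) : wt ℓ (e • s) = e * wt ℓ s := by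
  simp [wt, Finset.mul_sum, mul_assoc]

theorem wt_single (ℓ : Fin r → ℕ) (i : Fin r) : wt ℓ (Pi.single i 1) = ℓ i := by
  classical
  unfold wt
  rw [Finset.sum_eq_single i]
  · simp
  · intro j _ hj
    simp [hj]
  · intro h
    exact absurd (Finset.mem_univ i) h

theorem wt_zero (ℓ : Fin r → ℕ) : wt ℓ 0 = 0 := by simp [wt]

/-- a Bézout-type statement with natural number exponent vectors. -/
theorem exists_bezout (ℓ : Fin r → ℕ) (h : ∃ i, ℓ i ≠ 0) :
    ∃ (s s' : Fin r → ℕ) (g : ℕ), 0 < g ∧ wt ℓ s = wt ℓ s' + g ∧ ∀ i, g ∣ ℓ i := by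
  classical
  let Pd : ℕ → Prop := fun d => 0 < d ∧ ∃ s s' : Fin r → ℕ, wt ℓ s = wt ℓ s' + d
  have hex : ∃ d, Pd d := by
    obtain ⟨i, hi⟩ := h
    exact ⟨ℓ i, Nat.pos_of_ne_zero hi, Pi.single i 1, 0, by rw [wt_single, wt_zero, zero_add]⟩
  obtain ⟨hg, s, s', hs⟩ := Nat.find_spec hex
  refine ⟨s, s', Nat.find hex, hg, hs, ?_⟩
  intro i
  set g := Nat.find hex with hgdef
  by_contra hnd
  have hρ : 0 < ℓ i % g := Nat.pos_of_ne_zero (fun h0 => hnd (Nat.dvd_of_mod_eq_zero h0))
  have hlt : ℓ i % g < g := Nat.mod_lt _ hg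
  have hdiv := Nat.div_add_mod (ℓ i) g
  have hP : Pd (ℓ i % g) := by
    refine ⟨hρ, Pi.single i 1 + (ℓ i / g) • s', (ℓ i / g) • s, ?_⟩
    rw [wt_add, wt_single, wt_smul, wt_smul, hs]
    have : ℓ i = g * (ℓ i / g) + ℓ i % g := hdiv.symm
    nlinarith [this]
  exact Nat.find_min hex hlt hP

end Arith

section Local
variable {R : Type u} [CommRing R] {r : ℕ}

/-- the monomial `∏ x_i ^ s_i`. -/
def mon (x : Fin r → R) (s : Fin r → ℕ) : R := ∏ i, x i ^ s i

theorem mon_add (x : Fin r → R) (s t : Fin r → ℕ) : mon x (s + t) = mon x s * mon x t := by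
  simp [mon, pow_add, Finset.prod_mul_distrib]

theorem mon_smul (x : Fin r → R) (s : Fin r → ℕ) (e : ℕ) : mon x (e • s) = mon x s ^ e := by
  simp [mon, ← Finset.prod_pow, ← pow_mul, mul_comm]

theorem mon_single (x : Fin r → R) (i : Fin r) : mon x (Pi.single i 1) = x i := by
  classical
  unfold mon
  rw [Finset.prod_eq_single i]
  · simp
  · intro j _ hj
    simp [hj]
  · intro h
    exact absurd (Finset.mem_univ i) h

theorem mon_mem (x : Fin r → R) (hx : ∀ i, x i ∈ nonZeroDivisors R) (s : Fin r → ℕ) :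
    mon x s ∈ nonZeroDivisors R :=
  prod_mem fun i _ => pow_mem (hx i) _

theorem map_mon {S : Type*} [CommRing S] (φ : R →+* S) (x : Fin r → R) (s : Fin r → ℕ) :
    φ (mon x s) = mon (fun i => φ (x i)) s := by
  simp [mon, map_prod, map_pow]

variable [IsNoetherianRing R] [Ring.KrullDimLE 1 R]

theorem ord_prod {ι : Type*} (t : Finset ι) (f : ι → R) (hf : ∀ i ∈ t, f i ∈ nonZeroDivisors R) :
    Ring.ord R (∏ i ∈ t, f i) = ∑ i ∈ t, Ring.ord R (f i) := by
  classical
  induction t using Finset.induction_on with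
  | empty => simp
  | insert a t ha ih =>
    rw [Finset.prod_insert ha, Finset.sum_insert ha,
      Ring.ord_mul R (prod_mem fun i hi => hf i (Finset.mem_insert_of_mem hi)),
      ih fun i hi => hf i (Finset.mem_insert_of_mem hi)]

theorem ord_mon (x : Fin r → R) (hx : ∀ i, x i ∈ nonZeroDivisors R) (s : Fin r → ℕ) :
    Ring.ord R (mon x s) = (wt (fun i => (Ring.ord R (x i)).toNat) s : ℕ∞) := by
  unfold mon wt
  rw [ord_prod _ _ fun i _ => pow_mem (hx i) _]
  push_cast
  refine Finset.sum_congr rfl fun i _ => ?_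
  rw [Ring.ord_pow (hx i), ENat.natCast_toNat (Ring.ord_ne_top (hx i))]
  simp

theorem isUnit_of_ord_eq_zero {c : R} (h : Ring.ord R c = 0) : IsUnit c := by
  unfold Ring.ord at h
  rw [Module.length_eq_zero_iff] at h
  have : Ideal.span {c} = ⊤ := Ideal.Quotient.subsingleton_iff.1 h
  exact Ideal.span_singleton_eq_top.1 this

variable [IsLocalRing R]

/-- **local Euclid**: if enough pairs of monomials are comparable under divisibility, the `x_i`
are all unit multiples of powers of one nonzerodivisor. -/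
theorem local_euclid (x : Fin r → R) (hx : ∀ i, x i ∈ nonZeroDivisors R)
    (s s' : Fin r → ℕ) (g : ℕ) (hg : 0 < g)
    (hwt : wt (fun i => (Ring.ord R (x i)).toNat) s =
      wt (fun i => (Ring.ord R (x i)).toNat) s' + g)
    (hdiv : ∀ i, g ∣ (Ring.ord R (x i)).toNat)
    (hd0 : mon x s ∣ mon x s' ∨ mon x s' ∣ mon x s)
    (hd : ∀ i, mon x (Pi.single i 1 + ((Ring.ord R (x i)).toNat / g) • s') ∣
        mon x (((Ring.ord R (x i)).toNat / g) • s) ∨
      mon x (((Ring.ord R (x i)).toNat / g) • s) ∣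
        mon x (Pi.single i 1 + ((Ring.ord R (x i)).toNat / g) • s')) :
    ∃ π : R, π ∈ nonZeroDivisors R ∧ ∀ i, ∃ (v : Rˣ) (e : ℕ), x i = (v : R) * π ^ e := by
  set ℓ : Fin r → ℕ := fun i => (Ring.ord R (x i)).toNat with hℓ
  -- π
  have h1 : mon x s' ∣ mon x s := by
    rcases hd0 with h | h
    · exfalso
      have := Ring.ord_le_ord_of_dvd (R := R) h
      rw [ord_mon x hx, ord_mon x hx] at this
      have : wt ℓ s ≤ wt ℓ s' := by exact_mod_cast this
      omega
    · exact h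
  obtain ⟨π, hπ⟩ := h1
  have hπmem : π ∈ nonZeroDivisors R := by
    have := mon_mem x hx s
    rw [hπ] at this
    exact (mul_mem_nonZeroDivisors.1 this).2
  refine ⟨π, hπmem, fun i => ?_⟩
  set e := ℓ i / g with he
  have hℓi : ℓ i = g * e := (Nat.mul_div_cancel' (hdiv i)).symm
  set M₁ := mon x (Pi.single i 1 + e • s') with hM₁
  set M₂ := mon x (e • s) with hM₂
  have hM₁mem : M₁ ∈ nonZeroDivisors R := mon_mem x hx _
  have hM₂mem : M₂ ∈ nonZeroDivisors R := mon_mem x hx _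
  have hord : Ring.ord R M₁ = Ring.ord R M₂ := by
    rw [hM₁, hM₂, ord_mon x hx, ord_mon x hx, wt_add, wt_single, wt_smul, wt_smul, hwt]
    have : ℓ i + e * wt ℓ s' = e * (wt ℓ s' + g) := by rw [hℓi]; ring
    exact_mod_cast this
  -- M₁ = v * M₂ with v a unit
  have hdi : M₁ ∣ M₂ ∨ M₂ ∣ M₁ := hd i
  have hassoc : ∃ v : Rˣ, M₁ = (v : R) * M₂ := by
    rcases hdi with h | h
    · obtain ⟨c, hc⟩ := h
      have hcmem : c ∈ nonZeroDivisors R := by
        rw [hc] at hM₂mem
        exact (mul_mem_nonZeroDivisors.1 hM₂mem).2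
      have h2 : Ring.ord R M₂ = Ring.ord R M₁ + Ring.ord R c := by
        rw [hc, Ring.ord_mul R hcmem]
      rw [← hord] at h2
      have h3 : Ring.ord R c = 0 := by
        have hne : Ring.ord R M₁ ≠ ⊤ := Ring.ord_ne_top hM₁mem
        have : Ring.ord R M₁ + Ring.ord R c = Ring.ord R M₁ + 0 := by rw [add_zero]; exact h2.symm
        exact (ENat.add_right_injective_of_ne_top hne) this
      obtain ⟨u, rfl⟩ := isUnit_of_ord_eq_zero h3
      refine ⟨u⁻¹, ?_⟩
      rw [hc]
      calc M₁ = ((u⁻¹ : Rˣ) : R) * (u : R) * M₁ := by rw [Units.inv_mul, one_mul]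
        _ = _ := by ring
    · obtain ⟨c, hc⟩ := h
      have hcmem : c ∈ nonZeroDivisors R := by
        rw [hc] at hM₁mem
        exact (mul_mem_nonZeroDivisors.1 hM₁mem).2
      have h2 : Ring.ord R M₁ = Ring.ord R M₂ + Ring.ord R c := by
        rw [hc, Ring.ord_mul R hcmem]
      rw [hord] at h2
      have h3 : Ring.ord R c = 0 := by
        have hne : Ring.ord R M₂ ≠ ⊤ := Ring.ord_ne_top hM₂mem
        have : Ring.ord R M₂ + Ring.ord R c = Ring.ord R M₂ + 0 := by rw [add_zero]; exact h2.symm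
        exact (ENat.add_right_injective_of_ne_top hne) this
      obtain ⟨u, rfl⟩ := isUnit_of_ord_eq_zero h3
      exact ⟨u, by rw [hc]; ring⟩
  obtain ⟨v, hv⟩ := hassoc
  refine ⟨v, e, ?_⟩
  have hM₁' : M₁ = x i * mon x s' ^ e := by
    rw [hM₁, mon_add, mon_single, mon_smul]
  have hM₂' : M₂ = π ^ e * mon x s' ^ e := by
    rw [hM₂, mon_smul, hπ, mul_pow]
    ring
  rw [hM₁', hM₂'] at hv
  have hcancel : mon x s' ^ e ∈ nonZeroDivisors R := pow_mem (mon_mem x hx s') e
  have : (x i - (v : R) * π ^ e) * mon x s' ^ e = 0 := by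
    rw [sub_mul, hv]; ring
  exact sub_eq_zero.1 ((mem_nonZeroDivisors_iff_right.1 hcancel) _ this)

end Local

end Groth.Agent.H63.Tame
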