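import Mathlib
import Groth.Agent.H63.TameG
import Groth.Agent.H63.TameH

set_option autoImplicit false
set_option linter.style.haveILetI false
set_option linter.unusedSectionVars false
universe u

namespace Groth.Agent.H63.Tame

open IsLocalRing CycAlg

section Dich
variable {A : Type u} [CommRing A] {Q : Type u} [CommRing Q] [Algebra A Q]

/-- a principal ideal `(μ, ν)` becomes generated by `μ` or by `ν` in each local ring. -/
theorem dich (B' : Subalgebra A Q) (q : Ideal B') [q.IsPrime] (μ ν : B')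
    (hμ : IsUnit (μ : Q))
    (h : ∃ e c₁ c₂ : Q, e ∈ B' ∧ c₁ ∈ B' ∧ c₂ ∈ B' ∧
      ((μ : Q) + e * ν) * c₁ = μ ∧ ((μ : Q) + e * ν) * c₂ = ν) :
    algebraMap B' (Localization.AtPrime q) μ ∣ algebraMap B' (Localization.AtPrime q) ν ∨
      algebraMap B' (Localization.AtPrime q) ν ∣ algebraMap B' (Localization.AtPrime q) μ := by
  obtain ⟨e, c₁, c₂, he, hc₁, hc₂, h1, h2⟩ := h
  set t : Q := (μ : Q) + e * ν with ht
  have htu : IsUnit t := by
    have : IsUnit (t * c₁) := by rw [h1]; exact hμ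
    exact isUnit_of_mul_isUnit_left this
  have hsum : c₁ + e * c₂ = 1 := by
    have : t * (c₁ + e * c₂) = t * 1 := by
      rw [mul_add, h1, mul_one, ← mul_assoc, mul_comm t e, mul_assoc, h2]
    exact htu.mul_right_injective this
  let e' : B' := ⟨e, he⟩
  let d₁ : B' := ⟨c₁, hc₁⟩
  let d₂ : B' := ⟨c₂, hc₂⟩
  have hsum' : d₁ + e' * d₂ = 1 := Subtype.ext hsum
  have h1' : (μ + e' * ν) * d₁ = μ := Subtype.ext h1
  have h2' : (μ + e' * ν) * d₂ = ν := Subtype.ext h2
  set φ := algebraMap B' (Localization.AtPrime q) with hφ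
  have hs := congrArg φ hsum'
  rw [map_add, map_mul, map_one] at hs
  rcases IsLocalRing.isUnit_or_isUnit_of_add_one hs with hu | hu
  · left
    obtain ⟨u, hu⟩ := hu
    refine ⟨(u⁻¹ : (Localization.AtPrime q)ˣ) * φ d₂, ?_⟩
    have e1 := congrArg φ h1'
    have e2 := congrArg φ h2'
    rw [map_mul] at e1 e2
    rw [← e2]
    conv_rhs => rw [← e1, ← hu]
    rw [mul_assoc, ← mul_assoc (u : Localization.AtPrime q), Units.mul_inv, one_mul]
  · right
    have hu2 : IsUnit (φ d₂) := isUnit_of_mul_isUnit_right hu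
    obtain ⟨u, hu⟩ := hu2
    refine ⟨(u⁻¹ : (Localization.AtPrime q)ˣ) * φ d₁, ?_⟩
    have e1 := congrArg φ h1'
    have e2 := congrArg φ h2'
    rw [map_mul] at e1 e2
    rw [← e1]
    conv_rhs => rw [← e2, ← hu]
    rw [mul_assoc, ← mul_assoc (u : Localization.AtPrime q), Units.mul_inv, one_mul]

end Dich

section Cond
variable {A : Type u} [CommRing A] (a₀ : A)

/-- a finite subalgebra of `A[1/a₀]` is carried into `A` by a power of `a₀`. -/
theorem exists_conductor (B' : Subalgebra A (Localization.Away a₀)) [Module.Finite A B'] :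
    ∃ k : ℕ, ∀ z : B', ∃ c : A,
      algebraMap A (Localization.Away a₀) c =
        algebraMap A (Localization.Away a₀) (a₀ ^ k) * (z : Localization.Away a₀) := by
  classical
  obtain ⟨G, hG⟩ := (Module.Finite.fg_top : (⊤ : Submodule A B').FG)
  obtain ⟨s, hs⟩ := IsLocalization.exist_integer_multiples_of_finset (Submonoid.powers a₀)
    (G.image (Subtype.val : B' → Localization.Away a₀))
  obtain ⟨k, hk⟩ := s.2
  refine ⟨k, fun z => ?_⟩
  have hz : z ∈ Submodule.span A (G : Set B') := by rw [hG]; trivial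
  have hsk : (s : A) = a₀ ^ k := hk.symm
  rw [← hsk]
  induction hz using Submodule.span_induction with
  | mem z hz =>
    obtain ⟨c, hc⟩ := hs (z : Localization.Away a₀) (Finset.mem_image.2 ⟨z, hz, rfl⟩)
    exact ⟨c, by rw [hc, Algebra.smul_def]⟩
  | zero => exact ⟨0, by simp⟩
  | add z w _ _ hz hw =>
    obtain ⟨c1, h1⟩ := hz
    obtain ⟨c2, h2⟩ := hw
    exact ⟨c1 + c2, by rw [map_add, h1, h2, Subalgebra.coe_add, mul_add]⟩
  | smul c z _ hz =>
    obtain ⟨c1, h1⟩ := hz
    refine ⟨c * c1, ?_⟩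
    rw [Subalgebra.coe_smul, map_mul, h1, Algebra.smul_def]
    ring

end Cond

section FinExt
variable {A : Type u} [CommRing A] [IsLocalRing A] [IsNoetherianRing A]

/-- a finite subalgebra of `A[1/a₀]` is a finite extension in the sense of `IsFinExt`. -/
theorem isFinExt_subalgebra (hA : ringKrullDim A ≤ 1) (a₀ : A) (ha₀ : a₀ ∈ nonZeroDivisors A)
    (B' : Subalgebra A (Localization.Away a₀)) [Module.Finite A B'] :
    IsFinExt A B' (maximalIdeal A) := by
  haveI : Ring.KrullDimLE 1 A := Ring.krullDimLE_iff.2 hA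
  have hinjQ : Function.Injective (algebraMap A (Localization.Away a₀)) :=
    IsLocalization.injective _ (M := Submonoid.powers a₀) (Submonoid.powers_le.2 ha₀)
  refine ⟨?_, inferInstance, ?_⟩
  · intro x y hxy
    apply hinjQ
    exact congrArg Subtype.val hxy
  · obtain ⟨k, hk⟩ := exists_conductor a₀ B'
    obtain ⟨n, hn⟩ := exists_pow_le_span (pow_mem ha₀ k)
    refine ⟨n, fun r hr b => ?_⟩
    obtain ⟨c, hc⟩ := Ideal.mem_span_singleton'.1 (hn hr)
    obtain ⟨c1, h1⟩ := hk b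
    refine ⟨c * c1, Subtype.ext ?_⟩
    change algebraMap A (Localization.Away a₀) (c * c1) = ((r • b : B') : Localization.Away a₀)
    rw [map_mul, h1, ← hc, Subalgebra.coe_smul, Algebra.smul_def, map_mul]
    ring

/-- the cokernel of `A → B'` has finite length. -/
theorem colength_ne_top (hA : ringKrullDim A ≤ 1) (a₀ : A) (ha₀ : a₀ ∈ nonZeroDivisors A)
    (B' : Subalgebra A (Localization.Away a₀)) [Module.Finite A B'] :
    Module.length A (B' ⧸ LinearMap.range (Algebra.ofId A B').toLinearMap) ≠ ⊤ := by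
  obtain ⟨k, hk⟩ := exists_conductor a₀ B'
  refine length_ne_top_of_pow_smul hA ha₀ _ k ?_
  intro y
  obtain ⟨y, rfl⟩ := Submodule.Quotient.mk_surjective _ y
  rw [← Submodule.Quotient.mk_smul, Submodule.Quotient.mk_eq_zero]
  obtain ⟨c, hc⟩ := hk y
  refine ⟨c, Subtype.ext ?_⟩
  change algebraMap A (Localization.Away a₀) c = ((a₀ ^ k • y : B') : Localization.Away a₀)
  rw [hc, Subalgebra.coe_smul, Algebra.smul_def]

/-- the local order of an element of `A` in a finite subalgebra of `A[1/a₀]` is bounded by its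
colength in `A`. -/
theorem ord_le_length (hA : ringKrullDim A ≤ 1) (a₀ : A) (ha₀ : a₀ ∈ nonZeroDivisors A)
    (B' : Subalgebra A (Localization.Away a₀)) [Module.Finite A B'] (x : A)
    (hxQ : IsUnit (algebraMap A (Localization.Away a₀) x)) (q : MaximalSpectrum B') :
    Ring.ord (Localization.AtPrime q.asIdeal) (algebraMap A (Localization.AtPrime q.asIdeal) x) ≤
      Module.length A (A ⧸ Ideal.span {x}) := by
  classical
  haveI := isLocalHom_algebraMap (A := A) B'
  haveI := finite_maximalSpectrum (A := A) B'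
  haveI := Fintype.ofFinite (MaximalSpectrum B')
  have hinjQ : Function.Injective (algebraMap A (Localization.Away a₀)) :=
    IsLocalization.injective _ (M := Submonoid.powers a₀) (Submonoid.powers_le.2 ha₀)
  let f : A →ₐ[A] B' := Algebra.ofId A B'
  have hf : Function.Injective f := by
    intro x y hxy
    apply hinjQ
    exact congrArg Subtype.val hxy
  have hfx : f x ∈ nonZeroDivisors B' := by
    rw [mem_nonZeroDivisors_iff_right]
    intro z hz
    have h1 : (z : Localization.Away a₀) * algebraMap A (Localization.Away a₀) x = 0 :=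
      congrArg Subtype.val hz
    exact Subtype.ext (hxQ.mul_left_eq_zero.1 h1)
  have e1 := length_quot_span_eq f hf x hfx (colength_ne_top hA a₀ ha₀ B')
  have e2 := length_quot_span_eq_finsum B' hA (f x) hfx
  rw [e1, e2, finsum_eq_sum_of_fintype]
  have hx' : algebraMap A (Localization.AtPrime q.asIdeal) x =
      algebraMap B' (Localization.AtPrime q.asIdeal) (f x) := by
    rw [IsScalarTower.algebraMap_apply A B' (Localization.AtPrime q.asIdeal)]
    rfl
  rw [hx']
  refine le_trans ?_ (Finset.single_le_sum (fun _ _ => zero_le) (Finset.mem_univ q))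
  have hd : (1 : ℕ∞) ≤ (Module.finrank (ResidueField A)
      (ResidueField (Localization.AtPrime q.asIdeal)) : ℕ∞) := by
    have := deg_pos (A := A) (B := B') q
    exact_mod_cast this
  exact le_mul_of_one_le_left zero_le hd

end FinExt

section Bez
variable {r : ℕ}

/-- a choice of Bézout data for a tuple. -/
noncomputable def bez (ℓ : Fin r → ℕ) : (Fin r → ℕ) × (Fin r → ℕ) × ℕ :=
  if h : ∃ i, ℓ i ≠ 0 then
    ⟨(exists_bezout ℓ h).choose, (exists_bezout ℓ h).choose_spec.choose,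
      (exists_bezout ℓ h).choose_spec.choose_spec.choose⟩
  else (0, 0, 1)

theorem bez_spec (ℓ : Fin r → ℕ) (h : ∃ i, ℓ i ≠ 0) :
    0 < (bez ℓ).2.2 ∧ wt ℓ (bez ℓ).1 = wt ℓ (bez ℓ).2.1 + (bez ℓ).2.2 ∧
      ∀ i, (bez ℓ).2.2 ∣ ℓ i := by
  unfold bez
  rw [dif_pos h]
  exact (exists_bezout ℓ h).choose_spec.choose_spec.choose_spec

/-- a bound for the exponents used by `local_euclid` for the tuple `ℓ`. -/
noncomputable def Nb (L : ℕ) (ℓ : Fin r → ℕ) : ℕ :=
  1 + (L + 1) * (∑ k, (bez ℓ).1 k + ∑ k, (bez ℓ).2.1 k)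

/-- a uniform bound over all tuples with entries `≤ L`. -/
noncomputable def Nbound (L r : ℕ) : ℕ :=
  ∑ t : Fin r → Fin (L + 1), Nb L (fun i => (t i : ℕ))

theorem Nb_le_Nbound (L : ℕ) (ℓ : Fin r → ℕ) (hℓ : ∀ i, ℓ i ≤ L) : Nb L ℓ ≤ Nbound L r := by
  let t : Fin r → Fin (L + 1) := fun i => ⟨ℓ i, Nat.lt_succ_of_le (hℓ i)⟩
  have : Nb L ℓ = Nb L (fun i => (t i : ℕ)) := rfl
  rw [this]
  exact Finset.single_le_sum (f := fun t : Fin r → Fin (L + 1) => Nb L (fun i => (t i : ℕ)))
    (fun _ _ => Nat.zero_le _) (Finset.mem_univ t)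

theorem bounds (L : ℕ) (ℓ : Fin r → ℕ) (e : ℕ) (he : e ≤ L) (k : Fin r) :
    (bez ℓ).1 k ≤ Nb L ℓ ∧ (bez ℓ).2.1 k ≤ Nb L ℓ ∧ e * (bez ℓ).1 k ≤ Nb L ℓ ∧
      1 + e * (bez ℓ).2.1 k ≤ Nb L ℓ := by
  have h1 : (bez ℓ).1 k ≤ ∑ k, (bez ℓ).1 k :=
    Finset.single_le_sum (f := fun k => (bez ℓ).1 k) (fun _ _ => Nat.zero_le _) (Finset.mem_univ k)
  have h2 : (bez ℓ).2.1 k ≤ ∑ k, (bez ℓ).2.1 k :=
    Finset.single_le_sum (f := fun k => (bez ℓ).2.1 k) (fun _ _ => Nat.zero_le _)
      (Finset.mem_univ k)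
  unfold Nb
  set S := ∑ k, (bez ℓ).1 k
  set S' := ∑ k, (bez ℓ).2.1 k
  have h3 : e * (bez ℓ).1 k ≤ L * S := Nat.mul_le_mul he h1
  have h4 : e * (bez ℓ).2.1 k ≤ L * S' := Nat.mul_le_mul he h2
  refine ⟨?_, ?_, ?_, ?_⟩ <;> nlinarith

end Bez

section LocalFact
variable {R : Type u} [CommRing R] [IsLocalRing R] [IsNoetherianRing R] [Ring.KrullDimLE 1 R]
  {r : ℕ}

/-- local factorization from enough comparable monomial pairs. -/
theorem local_fact (x : Fin r → R) (hxmem : ∀ i, x i ∈ nonZeroDivisors R) (L N : ℕ)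
    (hℓL : ∀ i, (Ring.ord R (x i)).toNat ≤ L) (hN : Nbound L r ≤ N)
    (hdich : ∀ t t' : Fin r → ℕ, (∀ k, t k ≤ N) → (∀ k, t' k ≤ N) →
      mon x t ∣ mon x t' ∨ mon x t' ∣ mon x t) :
    ∃ π : R, π ∈ nonZeroDivisors R ∧ ∀ i, ∃ (v : Rˣ) (e : ℕ), x i = (v : R) * π ^ e := by
  set ℓ : Fin r → ℕ := fun i => (Ring.ord R (x i)).toNat with hℓ
  by_cases hall : ∃ i, ℓ i ≠ 0
  · obtain ⟨hg, hwt, hdiv⟩ := bez_spec ℓ hall
    set s := (bez ℓ).1 with hs
    set s' := (bez ℓ).2.1 with hs'
    set g := (bez ℓ).2.2 with hgdef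
    have hNb : Nb L ℓ ≤ N := (Nb_le_Nbound L ℓ hℓL).trans hN
    have hd0 := hdich s s' (fun k => ((bounds L ℓ 0 (Nat.zero_le _) k).1).trans hNb)
      (fun k => ((bounds L ℓ 0 (Nat.zero_le _) k).2.1).trans hNb)
    have hd : ∀ i, mon x (Pi.single i 1 + (ℓ i / g) • s') ∣ mon x ((ℓ i / g) • s) ∨
        mon x ((ℓ i / g) • s) ∣ mon x (Pi.single i 1 + (ℓ i / g) • s') := by
      intro i
      have he : ℓ i / g ≤ L := (Nat.div_le_self _ _).trans (hℓL i)
      refine hdich _ _ (fun k => ?_) (fun k => ?_)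
      · have hb : 1 + (ℓ i / g) * s' k ≤ Nb L ℓ := (bounds L ℓ (ℓ i / g) he k).2.2.2
        have h1 : (Pi.single i 1 : Fin r → ℕ) k ≤ 1 := by
          by_cases hik : k = i
          · subst hik; simp
          · simp [hik]
        simp only [Pi.add_apply, Pi.smul_apply, smul_eq_mul]
        exact (by omega : _ ≤ Nb L ℓ).trans hNb
      · have hb : (ℓ i / g) * s k ≤ Nb L ℓ := (bounds L ℓ (ℓ i / g) he k).2.2.1
        simp only [Pi.smul_apply, smul_eq_mul]
        exact hb.trans hNb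
    exact local_euclid x hxmem s s' g hg hwt hdiv hd0 hd
  · push Not at hall
    refine ⟨1, one_mem _, fun i => ?_⟩
    have h0 : Ring.ord R (x i) = 0 := by
      have h4 : Ring.ord R (x i) ≠ ⊤ := Ring.ord_ne_top (hxmem i)
      rw [← ENat.natCast_toNat h4]
      have : ℓ i = 0 := hall i
      exact_mod_cast this
    obtain ⟨v, hv⟩ := isUnit_of_ord_eq_zero h0
    exact ⟨v, 0, by rw [pow_zero, mul_one, hv]⟩

end LocalFact

section Exist
variable {A : Type u} [CommRing A] [IsLocalRing A] [IsNoetherianRing A]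

/-- **Existence of local factorizations** after a finite extension. -/
theorem exists_factorizations (hA : ringKrullDim A ≤ 1) (r : ℕ) (a : Fin r → A)
    (ha : ∀ i, a i ∈ nonZeroDivisors A) (hna : ∃ i, ¬ IsUnit (a i)) :
    ∃ (B : Type u) (_ : CommRing B) (_ : Algebra A B),
      IsFinExt A B (maximalIdeal A) ∧ Module.Finite A B ∧
      ∀ q : MaximalSpectrum B, ∃ π : Localization.AtPrime q.asIdeal,
        π ∈ nonZeroDivisors (Localization.AtPrime q.asIdeal) ∧
        ∀ i, ∃ (v : (Localization.AtPrime q.asIdeal)ˣ) (e : ℕ),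
          algebraMap A (Localization.AtPrime q.asIdeal) (a i) =
            (v : Localization.AtPrime q.asIdeal) * π ^ e := by
  classical
  set a₀ : A := ∏ i, a i with ha₀def
  have ha₀ : a₀ ∈ nonZeroDivisors A := prod_mem fun i _ => ha i
  have ha₀m : a₀ ∈ maximalIdeal A := by
    obtain ⟨i, hi⟩ := hna
    rw [mem_maximalIdeal, mem_nonunits_iff]
    intro hu
    exact hi (isUnit_of_dvd_unit (Finset.dvd_prod_of_mem a (Finset.mem_univ i)) hu)
  set Q := Localization.Away a₀ with hQ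
  have ha₀Q : IsUnit (algebraMap A Q a₀) := IsLocalization.Away.algebraMap_isUnit a₀
  have haQ : ∀ i, IsUnit (algebraMap A Q (a i)) := fun i =>
    isUnit_of_dvd_unit (map_dvd _ (Finset.dvd_prod_of_mem a (Finset.mem_univ i))) ha₀Q
  have hmonQ : ∀ s : Fin r → ℕ, IsUnit (algebraMap A Q (mon a s)) := by
    intro s
    rw [map_mon]
    unfold mon
    exact Finset.prod_induction _ IsUnit (fun _ _ => IsUnit.mul) isUnit_one
      (fun i _ => (haQ i).pow _)
  -- the bounds
  have hfinlen : ∀ i, Module.length A (A ⧸ Ideal.span {a i}) ≠ ⊤ := by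
    intro i
    haveI : Ring.KrullDimLE 1 A := Ring.krullDimLE_iff.2 hA
    exact Module.length_ne_top_iff.2 (isFiniteLength_quotient_span_singleton A (ha i))
  obtain ⟨Li, hLi⟩ : ∃ Li : Fin r → ℕ, ∀ i,
      Module.length A (A ⧸ Ideal.span {a i}) = (Li i : ℕ∞) :=
    ⟨fun i => (Module.length A (A ⧸ Ideal.span {a i})).toNat,
      fun i => (ENat.natCast_toNat (hfinlen i)).symm⟩
  obtain ⟨L, hL⟩ : ∃ L : ℕ, L = ∑ i, Li i := ⟨_, rfl⟩
  have hLiL : ∀ i, Li i ≤ L := fun i => by
    rw [hL]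
    exact Finset.single_le_sum (f := Li) (fun _ _ => Nat.zero_le _) (Finset.mem_univ i)
  obtain ⟨N, hN⟩ : ∃ N : ℕ, N = Nbound L r := ⟨_, rfl⟩
  -- the list of pairs of monomials
  let T := Fin r → Fin (N + 1)
  let F : T × T → Q × Q := fun p =>
    (algebraMap A Q (mon a (fun i => (p.1 i : ℕ))), algebraMap A Q (mon a (fun i => (p.2 i : ℕ))))
  let Lst : List (Q × Q) := (Finset.univ : Finset (T × T)).toList.map F
  have hLst : ∀ p ∈ Lst, p.1 ∈ (⊥ : Subalgebra A Q) ∧ p.2 ∈ (⊥ : Subalgebra A Q) ∧ IsUnit p.1 := by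
    intro p hp
    obtain ⟨p', -, rfl⟩ := List.mem_map.1 hp
    exact ⟨Subalgebra.algebraMap_mem _ _, Subalgebra.algebraMap_mem _ _, hmonQ _⟩
  obtain ⟨B', -, hfinB', hB'⟩ := principalize_list hA a₀ ha₀m ha₀Q Lst ⊥ hLst
  haveI := hfinB'
  have hpair : ∀ t t' : Fin r → ℕ, (∀ k, t k ≤ N) → (∀ k, t' k ≤ N) →
      ∃ e c₁ c₂ : Q, e ∈ B' ∧ c₁ ∈ B' ∧ c₂ ∈ B' ∧
        (algebraMap A Q (mon a t) + e * algebraMap A Q (mon a t')) * c₁ = algebraMap A Q (mon a t) ∧
        (algebraMap A Q (mon a t) + e * algebraMap A Q (mon a t')) * c₂ =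
          algebraMap A Q (mon a t') := by
    intro t t' ht ht'
    let p : T × T := (fun k => ⟨t k, Nat.lt_succ_of_le (ht k)⟩, fun k => ⟨t' k, Nat.lt_succ_of_le (ht' k)⟩)
    have hp : F p ∈ Lst := List.mem_map.2 ⟨p, Finset.mem_toList.2 (Finset.mem_univ p), rfl⟩
    exact hB' (F p) hp
  refine ⟨B', inferInstance, inferInstance, isFinExt_subalgebra hA a₀ ha₀ B', hfinB', ?_⟩
  intro q
  haveI := q.isMaximal
  set R := Localization.AtPrime q.asIdeal with hR
  haveI : IsNoetherianRing B' := IsNoetherianRing.of_finite A B'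
  haveI : Ring.KrullDimLE 1 R := krullDimLE_one_localization (A := A) B' hA q.asIdeal
  set x : Fin r → R := fun i => algebraMap A R (a i) with hx
  have hxmem : ∀ i, x i ∈ nonZeroDivisors R := by
    intro i
    have h1 : algebraMap A B' (a i) ∈ nonZeroDivisors B' := by
      rw [mem_nonZeroDivisors_iff_right]
      intro z hz
      have h2 : (z : Q) * algebraMap A Q (a i) = 0 := congrArg Subtype.val hz
      exact Subtype.ext ((haQ i).mul_left_eq_zero.1 h2)
    have : x i = algebraMap B' R (algebraMap A B' (a i)) :=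
      IsScalarTower.algebraMap_apply A B' R (a i)
    rw [this]
    exact IsLocalization.map_nonZeroDivisors_le q.asIdeal.primeCompl _
      (Submonoid.mem_map_of_mem _ h1)
  have hℓL : ∀ i, (Ring.ord R (x i)).toNat ≤ L := by
    intro i
    have h1 := ord_le_length hA a₀ ha₀ B' (a i) (haQ i) q
    have h2 : Ring.ord R (x i) ≤ (Li i : ℕ∞) := by
      rw [← hLi i]
      exact h1
    have h3 : (Ring.ord R (x i)).toNat ≤ Li i := by
      have h4 : (Ring.ord R (x i)).toNat ≤ ((Li i : ℕ∞)).toNat :=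
        ENat.toNat_le_toNat h2 (ENat.natCast_ne_top _)
      simpa using h4
    exact h3.trans (hLiL i)
  -- dichotomy transported to `R`
  have hdich : ∀ t t' : Fin r → ℕ, (∀ k, t k ≤ N) → (∀ k, t' k ≤ N) →
      mon x t ∣ mon x t' ∨ mon x t' ∣ mon x t := by
    intro t t' ht ht'
    have h := hpair t t' ht ht'
    have := dich B' q.asIdeal ⟨algebraMap A Q (mon a t), Subalgebra.algebraMap_mem _ _⟩
      ⟨algebraMap A Q (mon a t'), Subalgebra.algebraMap_mem _ _⟩ (hmonQ t) h
    have e1 : ∀ t : Fin r → ℕ, algebraMap B' R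
        ⟨algebraMap A Q (mon a t), Subalgebra.algebraMap_mem _ _⟩ = mon x t := by
      intro t
      have : (⟨algebraMap A Q (mon a t), Subalgebra.algebraMap_mem _ _⟩ : B') =
          algebraMap A B' (mon a t) := rfl
      rw [this, ← IsScalarTower.algebraMap_apply]
      change algebraMap A R (∏ i, a i ^ t i) = ∏ i, (algebraMap A R (a i)) ^ t i
      rw [map_prod]
      simp only [map_pow]
    rw [e1, e1] at this
    exact this
  exact local_fact x hxmem L N hℓL (le_of_eq hN.symm) hdich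

end Exist

end Groth.Agent.H63.Tame
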