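import Mathlib
import Groth.Agent.H63.TameI

set_option autoImplicit false
set_option linter.style.haveILetI false
set_option linter.unusedSectionVars false
universe u

namespace Groth.Agent.H63.Tame

open IsLocalRing CycAlg

/-- `x` is a unit times a power of `π`. -/
structure Fac (R : Type u) [CommRing R] (π x : R) where
  u : Rˣ
  e : ℕ
  eq : x = (u : R) * π ^ e

namespace Fac
variable {R : Type u} [CommRing R] {π x y : R}

def mul (F : Fac R π x) (G : Fac R π y) : Fac R π (x * y) where
  u := F.u * G.u
  e := F.e + G.e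
  eq := by
    conv_lhs => rw [F.eq, G.eq]
    rw [Units.val_mul, pow_add]
    ring

def cast (F : Fac R π x) (h : x = y) : Fac R π y where
  u := F.u
  e := F.e
  eq := h ▸ F.eq

noncomputable def ofUnit (π : R) (hx : IsUnit x) : Fac R π x where
  u := hx.unit
  e := 0
  eq := by simp

@[simp] theorem mul_u (F : Fac R π x) (G : Fac R π y) : (F.mul G).u = F.u * G.u := rfl
@[simp] theorem mul_e (F : Fac R π x) (G : Fac R π y) : (F.mul G).e = F.e + G.e := rfl
@[simp] theorem cast_u (F : Fac R π x) (h : x = y) : (F.cast h).u = F.u := rfl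
@[simp] theorem cast_e (F : Fac R π x) (h : x = y) : (F.cast h).e = F.e := rfl
@[simp] theorem ofUnit_e (hx : IsUnit x) : (ofUnit π hx).e = 0 := rfl
@[simp] theorem ofUnit_u (hx : IsUnit x) : ((ofUnit π hx).u : R) = x := rfl

variable [IsLocalRing R]

/-- the class `(-1)^{ef} ū^f v̄^{-e}`. -/
noncomputable def th (F : Fac R π x) (G : Fac R π y) : ResidueField R :=
  (-1 : ResidueField R) ^ (F.e * G.e) * residue R (F.u : R) ^ G.e *
    (residue R (G.u : R) ^ F.e)⁻¹

theorem residue_u_ne_zero (F : Fac R π x) : residue R (F.u : R) ≠ 0 :=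
  (residue_ne_zero_iff_isUnit _).2 F.u.isUnit

theorem th_ne_zero (F : Fac R π x) (G : Fac R π y) : th F G ≠ 0 := by
  unfold th
  have h3 : (-1 : ResidueField R) ≠ 0 := neg_ne_zero.2 one_ne_zero
  exact mul_ne_zero (mul_ne_zero (pow_ne_zero _ h3) (pow_ne_zero _ F.residue_u_ne_zero))
    (inv_ne_zero (pow_ne_zero _ G.residue_u_ne_zero))

theorem th_mul_left {z : R} (F : Fac R π x) (F' : Fac R π y) (G : Fac R π z) :
    th (F.mul F') G = th F G * th F' G := by
  unfold th
  simp only [mul_e, mul_u, Units.val_mul, map_mul, add_mul, pow_add, mul_pow, mul_inv]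
  ring

theorem th_mul_right {z : R} (G : Fac R π z) (F : Fac R π x) (F' : Fac R π y) :
    th G (F.mul F') = th G F * th G F' := by
  unfold th
  simp only [mul_e, mul_u, Units.val_mul, map_mul, mul_add, pow_add, mul_pow, mul_inv]
  ring

theorem th_cast_left {x' : R} (F : Fac R π x) (h : x = x') (G : Fac R π y) :
    th (F.cast h) G = th F G := rfl

theorem th_cast_right {y' : R} (F : Fac R π x) (G : Fac R π y) (h : y = y') :
    th F (G.cast h) = th F G := rfl

theorem th_self (F : Fac R π x) : th F F = (-1 : ResidueField R) ^ F.e := by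
  unfold th
  rw [mul_assoc, mul_inv_cancel₀ (pow_ne_zero _ F.residue_u_ne_zero), mul_one]
  apply Pres.neg_one_pow_congr
  simp [Nat.even_mul]

theorem th_ofUnit_left (hx : IsUnit x) (G : Fac R π y) :
    th (ofUnit π hx) G = residue R x ^ G.e := by
  unfold th
  simp

/-- the presentation made of two factorizations. -/
def toPres (hπ : π ∈ nonZeroDivisors R) (F : Fac R π x) (G : Fac R π y) : Pres R x y where
  π := π
  π_mem := hπ
  u₁ := F.u
  u₂ := G.u
  e₁ := F.e
  e₂ := G.e
  fac₁ := F.eq
  fac₂ := G.eq

theorem toPres_theta (hπ : π ∈ nonZeroDivisors R) (F : Fac R π x) (G : Fac R π y) :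
    (toPres hπ F G).theta = th F G := rfl

theorem mem_nonZeroDivisors (hπ : π ∈ nonZeroDivisors R) (F : Fac R π x) :
    x ∈ nonZeroDivisors R := by
  rw [F.eq]
  exact mul_mem F.u.isUnit.mem_nonZeroDivisors (pow_mem hπ _)

end Fac

section BaseSec
variable (A : Type u) [CommRing A] [IsLocalRing A]

/-- an extension ring with a local parameter at each maximal ideal. -/
structure Base : Type (u + 1) where
  B : Type u
  [commRing : CommRing B]
  [algebra : Algebra A B]
  isFinExt : IsFinExt A B (maximalIdeal A)
  π : (q : MaximalSpectrum B) → Localization.AtPrime q.asIdeal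
  π_mem : ∀ q, π q ∈ nonZeroDivisors (Localization.AtPrime q.asIdeal)

attribute [instance] Base.commRing Base.algebra

end BaseSec

namespace Base
variable {A : Type u} [CommRing A] [IsLocalRing A] (S : Base A)

instance : Module.Finite A S.B := S.isFinExt.2.1

instance (q : MaximalSpectrum S.B) :
    IsLocalHom (algebraMap A (Localization.AtPrime q.asIdeal)) :=
  isLocalHom_algebraMap S.B q

/-- tame data built from a base and two families of factorizations. -/
def tame {x y : A}
    (F : ∀ q : MaximalSpectrum S.B,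
      Fac (Localization.AtPrime q.asIdeal) (S.π q) (algebraMap A _ x))
    (G : ∀ q : MaximalSpectrum S.B,
      Fac (Localization.AtPrime q.asIdeal) (S.π q) (algebraMap A _ y)) : TameData A x y where
  B := S.B
  isFinExt := S.isFinExt
  isLocalHom := fun q => inferInstance
  π := S.π
  π_mem := S.π_mem
  u₁ := fun q => (F q).u
  u₂ := fun q => (G q).u
  e₁ := fun q => (F q).e
  e₂ := fun q => (G q).e
  fac₁ := fun q => (F q).eq
  fac₂ := fun q => (G q).eq

theorem tame_value {x y : A}
    (F : ∀ q : MaximalSpectrum S.B,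
      Fac (Localization.AtPrime q.asIdeal) (S.π q) (algebraMap A _ x))
    (G : ∀ q : MaximalSpectrum S.B,
      Fac (Localization.AtPrime q.asIdeal) (S.π q) (algebraMap A _ y)) :
    (S.tame F G).value = ∏ᶠ q : MaximalSpectrum S.B,
      Algebra.norm (ResidueField A) (Fac.th (F q) (G q)) ^
        (Ring.ord (Localization.AtPrime q.asIdeal) (S.π q)).toNat := rfl

end Base

section Symbol
variable {A : Type u} [CommRing A] [IsLocalRing A] [IsNoetherianRing A]

/-- the tame symbol is the value of any tame data. -/
theorem tameSymbol_eq (hA : ringKrullDim A = 1) {x y : A} (hx : x ∈ nonZeroDivisors A)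
    (hy : y ∈ nonZeroDivisors A) (D : TameData A x y) : tameSymbol A x y = D.value := by
  unfold tameSymbol
  rw [dif_pos ⟨D⟩]
  exact value_eq hA hx hy _ _

/-- **existence of a common base** for any finite family of nonzerodivisors. -/
theorem exists_base (hA : ringKrullDim A ≤ 1) (r : ℕ) (a : Fin r → A)
    (ha : ∀ i, a i ∈ nonZeroDivisors A) :
    ∃ S : Base A, ∀ (i : Fin r) (q : MaximalSpectrum S.B),
      Nonempty (Fac (Localization.AtPrime q.asIdeal) (S.π q) (algebraMap A _ (a i))) := by
  classical
  by_cases hna : ∃ i, ¬ IsUnit (a i)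
  · obtain ⟨B, i1, i2, h1, -, h3⟩ := exists_factorizations hA r a ha hna
    choose π hπ hfac using h3
    refine ⟨{ B := B, isFinExt := h1, π := π, π_mem := hπ }, fun i q => ?_⟩
    obtain ⟨v, e, hve⟩ := hfac q i
    exact ⟨⟨v, e, hve⟩⟩
  · push Not at hna
    have hfe : IsFinExt A A (maximalIdeal A) := by
      refine ⟨fun x y h => h, inferInstance, 0, fun r _ b => ⟨r • b, rfl⟩⟩
    refine ⟨{ B := A, isFinExt := hfe, π := fun _ => 1, π_mem := fun _ => one_mem _ },
      fun i q => ⟨Fac.ofUnit _ ((hna i).map _)⟩⟩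

/-- the degree formula `ord_A z = Σ_q [κ(q):κ] ord_{B_q} z` on a base. -/
theorem sum_formula (hA : ringKrullDim A ≤ 1) (S : Base A) (z : A) (hz : z ∈ nonZeroDivisors A)
    (hzB : ∀ q : MaximalSpectrum S.B,
      algebraMap A (Localization.AtPrime q.asIdeal) z ∈
        nonZeroDivisors (Localization.AtPrime q.asIdeal)) :
    Ring.ord A z = ∑ᶠ q : MaximalSpectrum S.B,
      (Module.finrank (ResidueField A) (ResidueField (Localization.AtPrime q.asIdeal)) : ℕ∞) *
        Ring.ord (Localization.AtPrime q.asIdeal)
          (algebraMap A (Localization.AtPrime q.asIdeal) z) := by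
  by_cases hzu : IsUnit z
  · rw [Ring.ord_of_isUnit hzu]
    symm
    refine finsum_eq_zero_of_forall_eq_zero fun q => ?_
    rw [Ring.ord_of_isUnit (hzu.map _), mul_zero]
  · have hzm : z ∈ maximalIdeal A := hzu
    obtain ⟨hinj, hfinB, n, hn⟩ := S.isFinExt
    let f : A →ₐ[A] S.B := Algebra.ofId A S.B
    have hfz : f z ∈ nonZeroDivisors S.B := by
      refine mem_nonZeroDivisors_of_localization _ fun q => ?_
      have : algebraMap S.B (Localization.AtPrime q.asIdeal) (f z) =
          algebraMap A (Localization.AtPrime q.asIdeal) z :=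
        (IsScalarTower.algebraMap_apply A S.B (Localization.AtPrime q.asIdeal) z).symm
      rw [this]
      exact hzB q
    have hcol : Module.length A (S.B ⧸ LinearMap.range f.toLinearMap) ≠ ⊤ := by
      refine length_ne_top_of_pow_smul hA hz _ n ?_
      intro y
      obtain ⟨y, rfl⟩ := Submodule.Quotient.mk_surjective _ y
      rw [← Submodule.Quotient.mk_smul, Submodule.Quotient.mk_eq_zero]
      obtain ⟨c, hc⟩ := hn _ (Ideal.pow_mem_pow hzm n) y
      exact ⟨c, hc⟩
    have e1 := length_quot_span_eq f hinj z hfz hcol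
    have e2 := length_quot_span_eq_finsum S.B hA (f z) hfz
    unfold Ring.ord at e1 ⊢
    rw [e1, e2]
    refine finsum_congr fun q => ?_
    congr 2

end Symbol

end Groth.Agent.H63.Tame
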