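import Mathlib
import Groth.Agent.H63.TameJ

set_option autoImplicit false
set_option linter.style.haveILetI false
set_option linter.unusedSectionVars false
universe u

namespace Groth.Agent.H63.Tame

open IsLocalRing CycAlg

section SignLemmas
variable {K : Type*} [Field K]

theorem inv_neg_one_pow (k : ℕ) : ((-1 : K) ^ k)⁻¹ = (-1 : K) ^ k := by
  rcases Nat.even_or_odd k with h | h
  · rw [h.neg_one_pow, inv_one]
  · rw [h.neg_one_pow, inv_neg, inv_one]

theorem neg_one_pow_mul_self (e : ℕ) : (-1 : K) ^ (e * e) = (-1 : K) ^ e := by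
  rcases Nat.even_or_odd e with h | h
  · rw [h.neg_one_pow, (h.mul_right e).neg_one_pow]
  · rw [h.neg_one_pow, (h.mul h).neg_one_pow]

theorem neg_one_pow_mul_neg_one_pow (e : ℕ) : (-1 : K) ^ e * (-1 : K) ^ e = 1 := by
  rw [← mul_pow]; simp

theorem caseA (U V : K) (hU : U ≠ 0) (hV : V ≠ 0) (e f : ℕ) :
    (-1 : K) ^ (e * e) * U ^ e * ((-U) ^ e)⁻¹ * ((-1) ^ (f * f) * V ^ f * (V ^ f)⁻¹) =
    (-1) ^ (f * e) * V ^ e * ((-U) ^ f)⁻¹ * ((-1) ^ (e * f) * U ^ f * (V ^ e)⁻¹) := by
  have hUe : U ^ e ≠ 0 := pow_ne_zero _ hU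
  have hUf : U ^ f ≠ 0 := pow_ne_zero _ hU
  have hVe : V ^ e ≠ 0 := pow_ne_zero _ hV
  have hVf : V ^ f ≠ 0 := pow_ne_zero _ hV
  have L : (-1 : K) ^ (e * e) * U ^ e * ((-U) ^ e)⁻¹ * ((-1) ^ (f * f) * V ^ f * (V ^ f)⁻¹) =
      (-1) ^ f := by
    rw [neg_pow U e, mul_inv, inv_neg_one_pow, neg_one_pow_mul_self, neg_one_pow_mul_self,
      mul_assoc ((-1 : K) ^ f), mul_inv_cancel₀ hVf, mul_one]
    calc (-1 : K) ^ e * U ^ e * ((-1) ^ e * (U ^ e)⁻¹) * (-1) ^ f
        = ((-1 : K) ^ e * (-1) ^ e) * (U ^ e * (U ^ e)⁻¹) * (-1) ^ f := by ring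
      _ = (-1) ^ f := by rw [neg_one_pow_mul_neg_one_pow, mul_inv_cancel₀ hUe, one_mul, one_mul]
  have R : (-1 : K) ^ (f * e) * V ^ e * ((-U) ^ f)⁻¹ * ((-1) ^ (e * f) * U ^ f * (V ^ e)⁻¹) =
      (-1) ^ f := by
    rw [neg_pow U f, mul_inv, inv_neg_one_pow, mul_comm f e]
    calc (-1 : K) ^ (e * f) * V ^ e * ((-1) ^ f * (U ^ f)⁻¹) * ((-1) ^ (e * f) * U ^ f * (V ^ e)⁻¹)
        = ((-1 : K) ^ (e * f) * (-1) ^ (e * f)) * (V ^ e * (V ^ e)⁻¹) * (U ^ f * (U ^ f)⁻¹) *
            (-1) ^ f := by ring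
      _ = (-1) ^ f := by
        rw [neg_one_pow_mul_neg_one_pow, mul_inv_cancel₀ hUf, mul_inv_cancel₀ hVe, one_mul,
          one_mul, one_mul]
  rw [L, R]

end SignLemmas

section Steinberg
variable {R : Type u} [CommRing R] [IsLocalRing R] {π x y z : R}

theorem not_isUnit_absurd (hπ : π ∈ nonZeroDivisors R) (hπu : ¬ IsUnit π) (u : Rˣ) (i : ℕ) (t : R)
    (h : (u : R) * π ^ i = π ^ (i + 1) * t) : False := by
  have h1 : ((u : R) - π * t) * π ^ i = 0 := by
    rw [sub_mul, h, pow_succ]; ring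
  have h2 : (u : R) - π * t = 0 := (mem_nonZeroDivisors_iff_right.1 (pow_mem hπ i)) _ h1
  have h3 : (u : R) = π * t := sub_eq_zero.1 h2
  exact hπu (isUnit_of_mul_isUnit_left (h3 ▸ u.isUnit))

theorem residue_pi_eq_zero (hπu : ¬ IsUnit π) : residue R π = 0 :=
  (residue_eq_zero_iff _).2 ((mem_maximalIdeal _).2 hπu)

/-- the local Steinberg-type identity. -/
theorem steinberg_theta (hπ : π ∈ nonZeroDivisors R) (hπu : ¬ IsUnit π)
    (Fx : Fac R π x) (Fy : Fac R π y) (Fz : Fac R π z) (hrel : x + z = y) :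
    Fac.th Fx Fz * Fac.th Fy Fy = Fac.th Fy Fz * Fac.th Fx Fy := by
  obtain ⟨u, e, hx⟩ := Fx
  obtain ⟨v, f, hy⟩ := Fy
  obtain ⟨w, g, hz⟩ := Fz
  have hU : residue R (u : R) ≠ 0 := (residue_ne_zero_iff_isUnit _).2 u.isUnit
  have hV : residue R (v : R) ≠ 0 := (residue_ne_zero_iff_isUnit _).2 v.isUnit
  have hW : residue R (w : R) ≠ 0 := (residue_ne_zero_iff_isUnit _).2 w.isUnit
  have hrel' : (u : R) * π ^ e + (w : R) * π ^ g = (v : R) * π ^ f := by
    rw [← hx, ← hz, ← hy]; exact hrel
  simp only [Fac.th]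
  -- contradictions
  have C1 : e < f → e < g → False := by
    intro h1 h2
    obtain ⟨k, rfl⟩ := Nat.exists_eq_add_of_lt h1
    obtain ⟨k', rfl⟩ := Nat.exists_eq_add_of_lt h2
    refine not_isUnit_absurd hπ hπu u e ((v : R) * π ^ k - (w : R) * π ^ k') ?_
    have : (u : R) * π ^ e = (v : R) * π ^ (e + k + 1) - (w : R) * π ^ (e + k' + 1) := by
      rw [← hrel']; ring
    rw [this]; ring
  have C2 : f < e → f < g → False := by
    intro h1 h2
    obtain ⟨k, rfl⟩ := Nat.exists_eq_add_of_lt h1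
    obtain ⟨k', rfl⟩ := Nat.exists_eq_add_of_lt h2
    refine not_isUnit_absurd hπ hπu v f ((u : R) * π ^ k + (w : R) * π ^ k') ?_
    rw [← hrel']; ring
  have C3 : g < e → g < f → False := by
    intro h1 h2
    obtain ⟨k, rfl⟩ := Nat.exists_eq_add_of_lt h1
    obtain ⟨k', rfl⟩ := Nat.exists_eq_add_of_lt h2
    refine not_isUnit_absurd hπ hπu w g ((v : R) * π ^ k' - (u : R) * π ^ k) ?_
    have : (w : R) * π ^ g = (v : R) * π ^ (g + k' + 1) - (u : R) * π ^ (g + k + 1) := by
      rw [← hrel']; ring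
    rw [this]; ring
  rcases lt_trichotomy e f with hef | hef | hef
  · rcases lt_trichotomy e g with heg | heg | heg
    · exact (C1 hef heg).elim
    · -- case A : e = g < f
      subst heg
      obtain ⟨k, rfl⟩ := Nat.exists_eq_add_of_lt hef
      have h1 : ((u : R) + (w : R) - (v : R) * π ^ (k + 1)) * π ^ e = 0 := by
        have : (v : R) * π ^ (e + k + 1) = (v : R) * π ^ (k + 1) * π ^ e := by ring
        rw [sub_mul, add_mul, hrel', this, sub_self]
      have h2 := (mem_nonZeroDivisors_iff_right.1 (pow_mem hπ e)) _ h1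
      have h3 : residue R (w : R) = - residue R (u : R) := by
        have := congrArg (residue R) h2
        rw [map_sub, map_add, map_mul, map_pow, residue_pi_eq_zero hπu, map_zero] at this
        simp only [ne_eq, Nat.add_eq_zero_iff, one_ne_zero, and_false, not_false_eq_true,
          zero_pow, mul_zero, sub_zero] at this
        exact eq_neg_of_add_eq_zero_right this
      rw [h3]
      exact caseA _ _ hU hV e (e + k + 1)
    · exact (C3 heg (heg.trans hef)).elim
  · subst hef
    rcases lt_trichotomy e g with heg | heg | heg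
    · -- case C : e = f < g
      obtain ⟨k, rfl⟩ := Nat.exists_eq_add_of_lt heg
      have h1 : ((u : R) + (w : R) * π ^ (k + 1) - (v : R)) * π ^ e = 0 := by
        have : (w : R) * π ^ (e + k + 1) = (w : R) * π ^ (k + 1) * π ^ e := by ring
        rw [sub_mul, add_mul, ← this, hrel', sub_self]
      have h2 := (mem_nonZeroDivisors_iff_right.1 (pow_mem hπ e)) _ h1
      have h3 : residue R (u : R) = residue R (v : R) := by
        have := congrArg (residue R) h2
        rw [map_sub, map_add, map_mul, map_pow, residue_pi_eq_zero hπu, map_zero] at this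
        simp only [ne_eq, Nat.add_eq_zero_iff, one_ne_zero, and_false, not_false_eq_true,
          zero_pow, mul_zero, add_zero] at this
        exact sub_eq_zero.1 this
      rw [h3]
    · -- case B : e = f = g
      subst heg
      ring
    · exact (C3 heg heg).elim
  · rcases lt_trichotomy f g with hfg | hfg | hfg
    · exact (C2 hef hfg).elim
    · -- case D : f = g < e
      subst hfg
      obtain ⟨k, rfl⟩ := Nat.exists_eq_add_of_lt hef
      have h1 : ((u : R) * π ^ (k + 1) + (w : R) - (v : R)) * π ^ f = 0 := by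
        have : (u : R) * π ^ (f + k + 1) = (u : R) * π ^ (k + 1) * π ^ f := by ring
        rw [sub_mul, add_mul, ← this, hrel', sub_self]
      have h2 := (mem_nonZeroDivisors_iff_right.1 (pow_mem hπ f)) _ h1
      have h3 : residue R (w : R) = residue R (v : R) := by
        have := congrArg (residue R) h2
        rw [map_sub, map_add, map_mul, map_pow, residue_pi_eq_zero hπu, map_zero] at this
        simp only [ne_eq, Nat.add_eq_zero_iff, one_ne_zero, and_false, not_false_eq_true,
          zero_pow, mul_zero, zero_add] at this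
        exact sub_eq_zero.1 this
      rw [h3]
      ring
    · exact (C3 (hfg.trans hef) hfg).elim

end Steinberg

section LocalOrd
variable {R : Type u} [CommRing R] [IsLocalRing R] [IsNoetherianRing R] [Ring.KrullDimLE 1 R]
  {π x : R}

theorem Fac.ord_eq (hπ : π ∈ nonZeroDivisors R) (F : Fac R π x) :
    Ring.ord R x = ((F.e * (Ring.ord R π).toNat : ℕ) : ℕ∞) :=
  (Fac.toPres hπ F F).ord_x₁

end LocalOrd

section Laws
variable {A : Type u} [CommRing A] [IsLocalRing A] [IsNoetherianRing A]

local notation "Bq" S:max q:max => Localization.AtPrime (MaximalSpectrum.asIdeal (R := Base.B S) q)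

theorem value_mul (S : Base A) {x y x' y' : A}
    (F : ∀ q : MaximalSpectrum S.B,
      Fac (Localization.AtPrime q.asIdeal) (S.π q) (algebraMap A _ x))
    (G : ∀ q : MaximalSpectrum S.B,
      Fac (Localization.AtPrime q.asIdeal) (S.π q) (algebraMap A _ y))
    (F' : ∀ q : MaximalSpectrum S.B,
      Fac (Localization.AtPrime q.asIdeal) (S.π q) (algebraMap A _ x'))
    (G' : ∀ q : MaximalSpectrum S.B,
      Fac (Localization.AtPrime q.asIdeal) (S.π q) (algebraMap A _ y')) :
    (S.tame F G).value * (S.tame F' G').value = ∏ᶠ q : MaximalSpectrum S.B,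
      Algebra.norm (ResidueField A) (Fac.th (F q) (G q) * Fac.th (F' q) (G' q)) ^
        (Ring.ord (Localization.AtPrime q.asIdeal) (S.π q)).toNat := by
  haveI := finite_maximalSpectrum (A := A) S.B
  rw [S.tame_value, S.tame_value, ← finprod_mul_distrib (Set.toFinite _) (Set.toFinite _)]
  refine finprod_congr fun q => ?_
  rw [map_mul, mul_pow]

theorem value_ne_zero (S : Base A) {x y : A}
    (F : ∀ q : MaximalSpectrum S.B,
      Fac (Localization.AtPrime q.asIdeal) (S.π q) (algebraMap A _ x))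
    (G : ∀ q : MaximalSpectrum S.B,
      Fac (Localization.AtPrime q.asIdeal) (S.π q) (algebraMap A _ y)) :
    (S.tame F G).value ≠ 0 := by
  haveI := finite_maximalSpectrum (A := A) S.B
  haveI := Fintype.ofFinite (MaximalSpectrum S.B)
  rw [S.tame_value, finprod_eq_prod_of_fintype, Finset.prod_ne_zero_iff]
  intro q _
  haveI := finite_residue (A := A) S.B q
  exact pow_ne_zero _ ((Algebra.norm_ne_zero_iff).2 (Fac.th_ne_zero _ _))

theorem value_of_const (hA : ringKrullDim A ≤ 1) (S : Base A) {x b : A}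
    (hb : b ∈ nonZeroDivisors A)
    (F : ∀ q : MaximalSpectrum S.B,
      Fac (Localization.AtPrime q.asIdeal) (S.π q) (algebraMap A _ x))
    (G : ∀ q : MaximalSpectrum S.B,
      Fac (Localization.AtPrime q.asIdeal) (S.π q) (algebraMap A _ b))
    (t : ResidueField A)
    (h : ∀ q : MaximalSpectrum S.B, Fac.th (F q) (G q) =
      algebraMap (ResidueField A) (ResidueField (Localization.AtPrime q.asIdeal)) t ^ (G q).e) :
    (S.tame F G).value = t ^ (Ring.ord A b).toNat := by
  haveI := finite_maximalSpectrum (A := A) S.B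
  haveI := Fintype.ofFinite (MaximalSpectrum S.B)
  haveI : IsNoetherianRing S.B := IsNoetherianRing.of_finite A S.B
  haveI : ∀ q : MaximalSpectrum S.B, Ring.KrullDimLE 1 (Localization.AtPrime q.asIdeal) :=
    fun q => krullDimLE_one_localization (A := A) S.B hA q.asIdeal
  have hzB : ∀ q : MaximalSpectrum S.B,
      algebraMap A (Localization.AtPrime q.asIdeal) b ∈
        nonZeroDivisors (Localization.AtPrime q.asIdeal) :=
    fun q => (G q).mem_nonZeroDivisors (S.π_mem q)
  have e1 := sum_formula hA S b hb hzB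
  have e2 : Ring.ord A b = ((∑ q : MaximalSpectrum S.B,
      Module.finrank (ResidueField A) (ResidueField (Localization.AtPrime q.asIdeal)) *
        ((G q).e * (Ring.ord (Localization.AtPrime q.asIdeal) (S.π q)).toNat) : ℕ) : ℕ∞) := by
    rw [e1, finsum_eq_sum_of_fintype, Nat.cast_sum]
    refine Finset.sum_congr rfl fun q _ => ?_
    rw [(G q).ord_eq (S.π_mem q), Nat.cast_mul, Nat.cast_mul, Nat.cast_mul]
  rw [e2, ENat.toNat_natCast, S.tame_value, finprod_eq_prod_of_fintype,
    ← Finset.prod_pow_eq_pow_sum]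
  refine Finset.prod_congr rfl fun q _ => ?_
  haveI := finite_residue (A := A) S.B q
  rw [h q, map_pow, Algebra.norm_algebraMap, ← pow_mul, ← pow_mul]

end Laws

end Groth.Agent.H63.Tame
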