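import Mathlib
import Groth.Agent.S1848
import Groth.Agent.H54.SecOrdGen

set_option autoImplicit false
set_option linter.style.haveILetI false
set_option linter.unusedSectionVars false
set_option linter.unusedVariables false
universe u v

namespace Groth.Agent.H63.C1

open IsLocalRing CycAlg

section Laws
variable {R : Type u} [CommRing R] [IsNoetherianRing R] [IsLocalRing R]

/-- the order as a natural number. -/
noncomputable def mm (R : Type u) [CommRing R] (b : R) : ℕ := (Ring.ord R b).toNat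

theorem mm_mul (hR : ringKrullDim R = 1) {a b : R} (ha : a ∈ nonZeroDivisors R)
    (hb : b ∈ nonZeroDivisors R) : mm R (a * b) = mm R a + mm R b := by
  haveI : Ring.KrullDimLE 1 R := Ring.krullDimLE_iff.2 hR.le
  unfold mm
  rw [Ring.ord_mul R hb, ENat.toNat_add (Ring.ord_ne_top ha) (Ring.ord_ne_top hb)]

theorem mm_unit (c : Rˣ) : mm R (c : R) = 0 := by
  unfold mm
  rw [Ring.ord_of_isUnit c.isUnit]
  rfl

theorem ts_ne_zero (hR : ringKrullDim R = 1) {a b : R} (ha : a ∈ nonZeroDivisors R)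
    (hb : b ∈ nonZeroDivisors R) : tameSymbol R a b ≠ 0 :=
  (Groth.Agent.S1848.result R hR).1 a b ha hb

theorem ts_mul_left (hR : ringKrullDim R = 1) {a a' b : R} (ha : a ∈ nonZeroDivisors R)
    (ha' : a' ∈ nonZeroDivisors R) (hb : b ∈ nonZeroDivisors R) :
    tameSymbol R (a * a') b = tameSymbol R a b * tameSymbol R a' b :=
  ((Groth.Agent.S1848.result R hR).2.1 a a' b ha ha' hb).1

theorem ts_mul_right (hR : ringKrullDim R = 1) {a a' b : R} (ha : a ∈ nonZeroDivisors R)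
    (ha' : a' ∈ nonZeroDivisors R) (hb : b ∈ nonZeroDivisors R) :
    tameSymbol R b (a * a') = tameSymbol R b a * tameSymbol R b a' :=
  ((Groth.Agent.S1848.result R hR).2.1 a a' b ha ha' hb).2

theorem ts_self (hR : ringKrullDim R = 1) {b : R} (hb : b ∈ nonZeroDivisors R) :
    tameSymbol R b b = (-1) ^ mm R b :=
  (Groth.Agent.S1848.result R hR).2.2.1 b hb

theorem ts_unit_left (hR : ringKrullDim R = 1) (c : Rˣ) {b : R} (hb : b ∈ nonZeroDivisors R) :
    tameSymbol R (c : R) b = residue R (c : R) ^ mm R b :=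
  (Groth.Agent.S1848.result R hR).2.2.2.1 c b hb

theorem ts_swap (hR : ringKrullDim R = 1) {a b : R} (ha : a ∈ nonZeroDivisors R)
    (hb : b ∈ nonZeroDivisors R) : tameSymbol R a b * tameSymbol R b a = 1 := by
  have hab : a * b ∈ nonZeroDivisors R := mul_mem ha hb
  have h1 := ts_self hR hab
  rw [ts_mul_left hR ha hb hab, ts_mul_right hR ha hb ha, ts_mul_right hR ha hb hb,
    ts_self hR ha, ts_self hR hb, mm_mul hR ha hb, pow_add] at h1
  have h2 : ((-1 : ResidueField R) ^ mm R a) * ((-1 : ResidueField R) ^ mm R a) = 1 := by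
    rw [← pow_add, ← two_mul, pow_mul, neg_one_sq, one_pow]
  have h3 : ((-1 : ResidueField R) ^ mm R b) * ((-1 : ResidueField R) ^ mm R b) = 1 := by
    rw [← pow_add, ← two_mul, pow_mul, neg_one_sq, one_pow]
  have h4 : ((-1 : ResidueField R) ^ mm R a) ≠ 0 := pow_ne_zero _ (neg_ne_zero.2 one_ne_zero)
  have h5 : ((-1 : ResidueField R) ^ mm R b) ≠ 0 := pow_ne_zero _ (neg_ne_zero.2 one_ne_zero)
  have h6 : ((-1 : ResidueField R) ^ mm R a * (-1 : ResidueField R) ^ mm R b) *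
      (tameSymbol R a b * tameSymbol R b a) =
      ((-1 : ResidueField R) ^ mm R a * (-1 : ResidueField R) ^ mm R b) * 1 := by
    rw [mul_one]
    calc _ = (-1 : ResidueField R) ^ mm R a * tameSymbol R a b *
          (tameSymbol R b a * (-1 : ResidueField R) ^ mm R b) := by ring
      _ = _ := h1
  exact mul_left_cancel₀ (mul_ne_zero h4 h5) h6

theorem ts_unit_right (hR : ringKrullDim R = 1) (c : Rˣ) {a : R} (ha : a ∈ nonZeroDivisors R) :
    tameSymbol R a (c : R) = (residue R (c : R) ^ mm R a)⁻¹ := by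
  have h := ts_swap hR ha c.isUnit.mem_nonZeroDivisors
  rw [ts_unit_left hR c ha] at h
  exact eq_inv_of_mul_eq_one_left h

theorem ts_unit_unit (hR : ringKrullDim R = 1) (c c' : Rˣ) :
    tameSymbol R (c : R) (c' : R) = 1 := by
  rw [ts_unit_left hR c c'.isUnit.mem_nonZeroDivisors, mm_unit, pow_zero]

end Laws

section Frac
variable {R : Type u} [CommRing R] [IsDomain R] [IsNoetherianRing R] [IsLocalRing R]

/-- the symbol of a pair of fractions `α₁/α₂`, `β₁/β₂`. -/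
noncomputable def Phi4 (R : Type u) [CommRing R] [IsLocalRing R] (α₁ α₂ β₁ β₂ : R) :
    ResidueField R :=
  tameSymbol R α₁ β₁ * tameSymbol R α₂ β₂ * (tameSymbol R α₁ β₂ * tameSymbol R α₂ β₁)⁻¹

theorem nzd_of_ne {x : R} (hx : x ≠ 0) : x ∈ nonZeroDivisors R :=
  mem_nonZeroDivisors_of_ne_zero hx

theorem Phi4_ne_zero (hR : ringKrullDim R = 1) {α₁ α₂ β₁ β₂ : R} (h1 : α₁ ≠ 0) (h2 : α₂ ≠ 0)
    (h3 : β₁ ≠ 0) (h4 : β₂ ≠ 0) : Phi4 R α₁ α₂ β₁ β₂ ≠ 0 := by
  unfold Phi4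
  exact mul_ne_zero (mul_ne_zero (ts_ne_zero hR (nzd_of_ne h1) (nzd_of_ne h3))
    (ts_ne_zero hR (nzd_of_ne h2) (nzd_of_ne h4)))
    (inv_ne_zero (mul_ne_zero (ts_ne_zero hR (nzd_of_ne h1) (nzd_of_ne h4))
      (ts_ne_zero hR (nzd_of_ne h2) (nzd_of_ne h3))))

theorem Phi4_congr_left (hR : ringKrullDim R = 1) {α₁ α₂ α₁' α₂' β₁ β₂ : R} (h1 : α₁ ≠ 0)
    (h2 : α₂ ≠ 0) (h1' : α₁' ≠ 0) (h2' : α₂' ≠ 0) (h3 : β₁ ≠ 0) (h4 : β₂ ≠ 0)
    (h : α₁ * α₂' = α₁' * α₂) : Phi4 R α₁ α₂ β₁ β₂ = Phi4 R α₁' α₂' β₁ β₂ := by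
  have E1 : tameSymbol R α₁ β₁ * tameSymbol R α₂' β₁ = tameSymbol R α₁' β₁ * tameSymbol R α₂ β₁ := by
    rw [← ts_mul_left hR (nzd_of_ne h1) (nzd_of_ne h2') (nzd_of_ne h3), h,
      ts_mul_left hR (nzd_of_ne h1') (nzd_of_ne h2) (nzd_of_ne h3)]
  have E2 : tameSymbol R α₁ β₂ * tameSymbol R α₂' β₂ = tameSymbol R α₁' β₂ * tameSymbol R α₂ β₂ := by
    rw [← ts_mul_left hR (nzd_of_ne h1) (nzd_of_ne h2') (nzd_of_ne h4), h,
      ts_mul_left hR (nzd_of_ne h1') (nzd_of_ne h2) (nzd_of_ne h4)]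
  unfold Phi4
  have n1 := ts_ne_zero hR (nzd_of_ne h1) (nzd_of_ne h4)
  have n2 := ts_ne_zero hR (nzd_of_ne h2) (nzd_of_ne h3)
  have n3 := ts_ne_zero hR (nzd_of_ne h1') (nzd_of_ne h4)
  have n4 := ts_ne_zero hR (nzd_of_ne h2') (nzd_of_ne h3)
  rw [← div_eq_mul_inv, ← div_eq_mul_inv, div_eq_div_iff (mul_ne_zero n1 n2) (mul_ne_zero n3 n4)]
  linear_combination (tameSymbol R α₁' β₂ * tameSymbol R α₂ β₂) * E1 -
    (tameSymbol R α₁' β₁ * tameSymbol R α₂ β₁) * E2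

theorem Phi4_congr_right (hR : ringKrullDim R = 1) {α₁ α₂ β₁ β₂ β₁' β₂' : R} (h1 : α₁ ≠ 0)
    (h2 : α₂ ≠ 0) (h3 : β₁ ≠ 0) (h4 : β₂ ≠ 0) (h3' : β₁' ≠ 0) (h4' : β₂' ≠ 0)
    (h : β₁ * β₂' = β₁' * β₂) : Phi4 R α₁ α₂ β₁ β₂ = Phi4 R α₁ α₂ β₁' β₂' := by
  have E1 : tameSymbol R α₁ β₁ * tameSymbol R α₁ β₂' = tameSymbol R α₁ β₁' * tameSymbol R α₁ β₂ := by
    rw [← ts_mul_right hR (nzd_of_ne h3) (nzd_of_ne h4') (nzd_of_ne h1), h,
      ts_mul_right hR (nzd_of_ne h3') (nzd_of_ne h4) (nzd_of_ne h1)]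
  have E2 : tameSymbol R α₂ β₁ * tameSymbol R α₂ β₂' = tameSymbol R α₂ β₁' * tameSymbol R α₂ β₂ := by
    rw [← ts_mul_right hR (nzd_of_ne h3) (nzd_of_ne h4') (nzd_of_ne h2), h,
      ts_mul_right hR (nzd_of_ne h3') (nzd_of_ne h4) (nzd_of_ne h2)]
  unfold Phi4
  have n1 := ts_ne_zero hR (nzd_of_ne h1) (nzd_of_ne h4)
  have n2 := ts_ne_zero hR (nzd_of_ne h2) (nzd_of_ne h3)
  have n3 := ts_ne_zero hR (nzd_of_ne h1) (nzd_of_ne h4')
  have n4 := ts_ne_zero hR (nzd_of_ne h2) (nzd_of_ne h3')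
  rw [← div_eq_mul_inv, ← div_eq_mul_inv, div_eq_div_iff (mul_ne_zero n1 n2) (mul_ne_zero n3 n4)]
  linear_combination (tameSymbol R α₂ β₂ * tameSymbol R α₂ β₁') * E1 -
    (tameSymbol R α₁ β₁' * tameSymbol R α₁ β₂) * E2

variable (R) (K : Type v) [Field K] [Algebra R K] [IsFractionRing R K]

/-- a numerator. -/
noncomputable def num (a : K) : R :=
  Classical.choose (IsFractionRing.div_surjective (A := R) a)

/-- a denominator. -/
noncomputable def den (a : K) : R :=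
  Classical.choose (Classical.choose_spec (IsFractionRing.div_surjective (A := R) a))

theorem den_mem (a : K) : den R K a ∈ nonZeroDivisors R :=
  (Classical.choose_spec (Classical.choose_spec (IsFractionRing.div_surjective (A := R) a))).1

theorem num_div_den (a : K) : algebraMap R K (num R K a) / algebraMap R K (den R K a) = a :=
  (Classical.choose_spec (Classical.choose_spec (IsFractionRing.div_surjective (A := R) a))).2

theorem den_ne_zero (a : K) : den R K a ≠ 0 := nonZeroDivisors.ne_zero (den_mem R K a)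

theorem num_ne_zero {a : K} (ha : a ≠ 0) : num R K a ≠ 0 := by
  intro h
  apply ha
  rw [← num_div_den R K a, h, map_zero, zero_div]

/-- the symbol on the fraction field. -/
noncomputable def PhiK (a b : K) : ResidueField R :=
  Phi4 R (num R K a) (den R K a) (num R K b) (den R K b)

theorem algebraMap_ne_zero {x : R} (hx : x ≠ 0) : algebraMap R K x ≠ 0 := fun h =>
  hx (IsFractionRing.injective R K (h.trans (map_zero _).symm))

theorem rel_of_div_eq {α₁ α₂ α₁' α₂' : R} (h2 : α₂ ≠ 0) (h2' : α₂' ≠ 0)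
    (h : algebraMap R K α₁ / algebraMap R K α₂ = algebraMap R K α₁' / algebraMap R K α₂') :
    α₁ * α₂' = α₁' * α₂ := by
  rw [div_eq_div_iff (algebraMap_ne_zero R K h2) (algebraMap_ne_zero R K h2'), ← map_mul,
    ← map_mul] at h
  exact IsFractionRing.injective R K h

theorem PhiK_eq (hR : ringKrullDim R = 1) {a b : K} (ha0 : a ≠ 0) (hb0 : b ≠ 0) {α₁ α₂ β₁ β₂ : R}
    (h1 : α₁ ≠ 0) (h2 : α₂ ≠ 0) (h3 : β₁ ≠ 0) (h4 : β₂ ≠ 0)
    (ha : a = algebraMap R K α₁ / algebraMap R K α₂)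
    (hb : b = algebraMap R K β₁ / algebraMap R K β₂) :
    PhiK R K a b = Phi4 R α₁ α₂ β₁ β₂ := by
  unfold PhiK
  rw [Phi4_congr_left hR (num_ne_zero R K ha0) (den_ne_zero R K a) h1 h2 (num_ne_zero R K hb0)
      (den_ne_zero R K b) (rel_of_div_eq R K (den_ne_zero R K a) h2
        ((num_div_den R K a).trans ha)),
    Phi4_congr_right hR h1 h2 (num_ne_zero R K hb0) (den_ne_zero R K b) h3 h4
      (rel_of_div_eq R K (den_ne_zero R K b) h4 ((num_div_den R K b).trans hb))]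

theorem PhiK_ne_zero (hR : ringKrullDim R = 1) {a b : K} (ha0 : a ≠ 0) (hb0 : b ≠ 0) :
    PhiK R K a b ≠ 0 :=
  Phi4_ne_zero hR (num_ne_zero R K ha0) (den_ne_zero R K a) (num_ne_zero R K hb0)
    (den_ne_zero R K b)

theorem ordFrac_algebraMap (hR : ringKrullDim R = 1) {x : R} (hx : x ≠ 0) :
    CycAlg.ordFrac R K (algebraMap R K x) = (mm R x : ℤ) := by
  haveI : Ring.KrullDimLE 1 R := Ring.krullDimLE_iff.2 hR.le
  have hcond : IsNoetherianRing R ∧ Ring.KrullDimLE 1 R ∧ Nontrivial R ∧ IsFractionRing R K :=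
    ⟨inferInstance, inferInstance, inferInstance, inferInstance⟩
  unfold CycAlg.ordFrac
  rw [dif_pos hcond]
  have hnzd : x ∈ nonZeroDivisors R := nzd_of_ne hx
  obtain ⟨n, hn⟩ := ENat.ne_top_iff_exists.mp (Ring.ord_ne_top hnzd)
  have h1 : Ring.ordFrac R (algebraMap R K x) = Multiplicative.ofAdd (n : ℤ) := by
    rw [Ring.ordFrac_eq_ord R hx, Ring.ordMonoidWithZeroHom_eq_coe R hnzd hn.symm]
  simp only [h1]
  unfold mm
  rw [← hn]
  rfl

theorem ordFrac_div (hR : ringKrullDim R = 1) {α₁ α₂ : R} (h1 : α₁ ≠ 0) (h2 : α₂ ≠ 0) :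
    CycAlg.ordFrac R K (algebraMap R K α₁ / algebraMap R K α₂) = (mm R α₁ : ℤ) - mm R α₂ := by
  rw [div_eq_mul_inv, Groth.Agent.H54.SecOrdGen.ordFrac_mul R K (algebraMap_ne_zero R K h1)
    (inv_ne_zero (algebraMap_ne_zero R K h2)),
    Groth.Agent.H54.SecOrdGen.ordFrac_inv R K (algebraMap_ne_zero R K h2),
    ordFrac_algebraMap R K hR h1, ordFrac_algebraMap R K hR h2]
  ring

theorem Phi4_mul_units (hR : ringKrullDim R = 1) {α₁ α₂ β₁ β₂ : R} (h1 : α₁ ≠ 0) (h2 : α₂ ≠ 0)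
    (h3 : β₁ ≠ 0) (h4 : β₂ ≠ 0) (w w' : Rˣ) :
    Phi4 R (α₁ * w) α₂ (β₁ * w') β₂ = Phi4 R α₁ α₂ β₁ β₂ *
      (residue R (w' : R) ^ mm R α₂ * (residue R (w' : R) ^ mm R α₁)⁻¹) *
      (residue R (w : R) ^ mm R β₁ * (residue R (w : R) ^ mm R β₂)⁻¹) := by
  have hw : (w : R) ∈ nonZeroDivisors R := w.isUnit.mem_nonZeroDivisors
  have hw' : (w' : R) ∈ nonZeroDivisors R := w'.isUnit.mem_nonZeroDivisors
  have hW : residue R (w : R) ≠ 0 := (residue_ne_zero_iff_isUnit _).2 w.isUnit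
  have hW' : residue R (w' : R) ≠ 0 := (residue_ne_zero_iff_isUnit _).2 w'.isUnit
  unfold Phi4
  rw [ts_mul_left hR (nzd_of_ne h1) hw (mul_mem (nzd_of_ne h3) hw'),
    ts_mul_right hR (nzd_of_ne h3) hw' (nzd_of_ne h1),
    ts_mul_right hR (nzd_of_ne h3) hw' hw,
    ts_mul_left hR (nzd_of_ne h1) hw (nzd_of_ne h4),
    ts_mul_right hR (nzd_of_ne h3) hw' (nzd_of_ne h2),
    ts_unit_right hR w' (nzd_of_ne h1), ts_unit_left hR w (nzd_of_ne h3), ts_unit_unit hR w w',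
    ts_unit_left hR w (nzd_of_ne h4), ts_unit_right hR w' (nzd_of_ne h2)]
  have n1 := ts_ne_zero hR (nzd_of_ne h1) (nzd_of_ne h4)
  have n2 := ts_ne_zero hR (nzd_of_ne h2) (nzd_of_ne h3)
  have p1 := pow_ne_zero (mm R α₁) hW'
  have p2 := pow_ne_zero (mm R α₂) hW'
  have p3 := pow_ne_zero (mm R β₁) hW
  have p4 := pow_ne_zero (mm R β₂) hW
  field_simp

theorem PhiK_mul_units (hR : ringKrullDim R = 1) {a b : K} (ha0 : a ≠ 0) (hb0 : b ≠ 0)
    (w w' : Rˣ) :
    PhiK R K (a * algebraMap R K (w : R)) (b * algebraMap R K (w' : R)) =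
      PhiK R K a b * residue R (w' : R) ^ (-(CycAlg.ordFrac R K a)) *
        residue R (w : R) ^ (CycAlg.ordFrac R K b) := by
  have hW : residue R (w : R) ≠ 0 := (residue_ne_zero_iff_isUnit _).2 w.isUnit
  have hW' : residue R (w' : R) ≠ 0 := (residue_ne_zero_iff_isUnit _).2 w'.isUnit
  have h1 := num_ne_zero R K ha0
  have h2 := den_ne_zero R K a
  have h3 := num_ne_zero R K hb0
  have h4 := den_ne_zero R K b
  have hwK : algebraMap R K (w : R) ≠ 0 := algebraMap_ne_zero R K w.ne_zero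
  have hw'K : algebraMap R K (w' : R) ≠ 0 := algebraMap_ne_zero R K w'.ne_zero
  have e1 : a * algebraMap R K (w : R) =
      algebraMap R K (num R K a * w) / algebraMap R K (den R K a) := by
    rw [map_mul, mul_div_right_comm, num_div_den]
  have e2 : b * algebraMap R K (w' : R) =
      algebraMap R K (num R K b * w') / algebraMap R K (den R K b) := by
    rw [map_mul, mul_div_right_comm, num_div_den]
  rw [PhiK_eq R K hR (mul_ne_zero ha0 hwK) (mul_ne_zero hb0 hw'K)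
    (mul_ne_zero h1 w.ne_zero) h2 (mul_ne_zero h3 w'.ne_zero) h4 e1 e2,
    Phi4_mul_units R hR h1 h2 h3 h4 w w']
  have o1 : CycAlg.ordFrac R K a = (mm R (num R K a) : ℤ) - mm R (den R K a) := by
    conv_lhs => rw [← num_div_den R K a]
    exact ordFrac_div R K hR h1 h2
  have o2 : CycAlg.ordFrac R K b = (mm R (num R K b) : ℤ) - mm R (den R K b) := by
    conv_lhs => rw [← num_div_den R K b]
    exact ordFrac_div R K hR h3 h4
  rw [o1, o2, neg_sub, zpow_sub₀ hW', zpow_sub₀ hW, zpow_natCast, zpow_natCast, zpow_natCast,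
    zpow_natCast]
  rfl

theorem PhiK_units (hR : ringKrullDim R = 1) (w w' : Rˣ) :
    PhiK R K (algebraMap R K (w : R)) (algebraMap R K (w' : R)) = 1 := by
  have hwK : algebraMap R K (w : R) ≠ 0 := algebraMap_ne_zero R K w.ne_zero
  have hw'K : algebraMap R K (w' : R) ≠ 0 := algebraMap_ne_zero R K w'.ne_zero
  rw [PhiK_eq R K hR hwK hw'K w.ne_zero one_ne_zero w'.ne_zero one_ne_zero
    (by rw [map_one, div_one]) (by rw [map_one, div_one])]
  unfold Phi4
  have h1 : (1 : R) = ((1 : Rˣ) : R) := rfl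
  rw [h1, ts_unit_unit hR, ts_unit_unit hR, ts_unit_unit hR, ts_unit_unit hR]
  simp

end Frac

end Groth.Agent.H63.C1
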