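import Mathlib
import Groth.Agent.H63.TameK

set_option autoImplicit false
set_option linter.style.haveILetI false
set_option linter.unusedSectionVars false
universe u

namespace Groth.Agent.H63.Tame

open IsLocalRing CycAlg

section OrdEquiv
variable {R R' : Type u} [CommRing R] [CommRing R']

/-- the order of vanishing is invariant under ring isomorphisms. -/
theorem ord_ringEquiv (ψ : R ≃+* R') (x : R) : Ring.ord R' (ψ x) = Ring.ord R x := by
  letI : Algebra R R' := (ψ : R →+* R').toAlgebra
  have hsurj : Function.Surjective (algebraMap R R') := ψ.surjective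
  unfold Ring.ord
  rw [← Module.length_eq_of_surjective (S := R) (R := R') (M := R' ⧸ Ideal.span {ψ x}) hsurj]
  symm
  let f : R ≃ₗ[R] R' :=
    { ψ with
      map_smul' := fun r y => by
        change ψ (r * y) = ψ r * ψ y
        exact map_mul ψ r y }
  have hf : ∀ y, f y = ψ y := fun y => rfl
  have hmap : Submodule.map (f : R →ₗ[R] R') (Ideal.span {x} : Ideal R) =
      Submodule.restrictScalars R (Ideal.span {ψ x} : Ideal R') := by
    ext z
    simp only [Submodule.mem_map, Submodule.restrictScalars_mem]
    constructor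
    · rintro ⟨y, hy, rfl⟩
      obtain ⟨c, rfl⟩ := Ideal.mem_span_singleton'.1 hy
      change ψ (c * x) ∈ _
      rw [map_mul]
      exact Ideal.mul_mem_left _ _ (Ideal.subset_span rfl)
    · intro hz
      obtain ⟨c, rfl⟩ := Ideal.mem_span_singleton'.1 hz
      refine ⟨ψ.symm c * x, Ideal.mul_mem_left _ _ (Ideal.subset_span rfl), ?_⟩
      change ψ (ψ.symm c * x) = _
      rw [map_mul, ψ.apply_symm_apply]
  exact ((Submodule.Quotient.equiv _ _ f hmap).trans
    (Submodule.Quotient.restrictScalarsEquiv R (Ideal.span {ψ x}))).length_eq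

end OrdEquiv

namespace Fac
variable {R R' : Type u} [CommRing R] [CommRing R'] {π x y : R}

/-- push a factorization forward along a ring hom. -/
def map (F : Fac R π x) (φ : R →+* R') : Fac R' (φ π) (φ x) where
  u := Units.map (φ : R →* R') F.u
  e := F.e
  eq := by
    have := congrArg φ F.eq
    simpa [map_mul, map_pow] using this

@[simp] theorem map_e (F : Fac R π x) (φ : R →+* R') : (F.map φ).e = F.e := rfl

@[simp] theorem map_u (F : Fac R π x) (φ : R →+* R') : ((F.map φ).u : R') = φ (F.u : R) := rfl

variable [IsLocalRing R] [IsLocalRing R']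

theorem th_map (F : Fac R π x) (G : Fac R π y) (φ : R →+* R') [IsLocalHom φ] :
    th (F.map φ) (G.map φ) = ResidueField.map φ (th F G) := by
  unfold th
  simp only [map_mul, map_pow, map_inv₀, map_neg, map_one, ResidueField.map_residue, map_e,
    map_u]

end Fac

section Units
variable {R : Type u} [CommRing R] [IsLocalRing R] [IsNoetherianRing R]

theorem tameSymbol_of_isUnit {x y : R} (hx : IsUnit x) (hy : IsUnit y) :
    tameSymbol R x y = 1 := by
  unfold tameSymbol
  split_ifs with h
  · exact value_eq_one_of_isUnit _ hx hy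
  · rfl

/-- a one-dimensional-or-less Noetherian local ring with a nonunit nonzerodivisor has
dimension exactly one. -/
theorem ringKrullDim_eq_one [Ring.KrullDimLE 1 R] {t : R} (ht : t ∈ nonZeroDivisors R)
    (htm : t ∈ maximalIdeal R) : ringKrullDim R = 1 := by
  have h1 : ringKrullDim R ≤ 1 := Ring.krullDimLE_iff.1 inferInstance
  refine le_antisymm h1 ?_
  by_contra hlt
  have h0 : ringKrullDim R ≤ 0 := by
    have h2 : ringKrullDim R < ((0 : ℕ) : WithBot ℕ∞) + 1 := by
      simpa using lt_of_not_ge hlt
    simpa using ENat.WithBot.lt_add_one_iff.1 h2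
  haveI : Ring.KrullDimLE 0 R := Ring.krullDimLE_iff.2 h0
  have hmin : maximalIdeal R ∈ minimalPrimes R := by
    rw [Ring.KrullDimLE.minimalPrimes_eq_setOfPred_isPrime]
    exact (inferInstance : (maximalIdeal R).IsPrime)
  exact Set.disjoint_left.1 (Ideal.disjoint_nonZeroDivisors_of_mem_minimalPrimes hmin) htm ht

end Units

section Ass
variable {A : Type u} [CommRing A] [IsLocalRing A] [IsNoetherianRing A]
variable {B : Type u} [CommRing B] [Algebra A B]

/-- if `𝔪` is not an associated prime of `B`, nonzerodivisors of `A` stay regular on `B`. -/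
theorem regular_of_not_ass (hB : IsFinExt A B (maximalIdeal A))
    (hass : maximalIdeal A ∉ associatedPrimes A B) {a : A} (ha : a ∈ nonZeroDivisors A) :
    algebraMap A B a ∈ nonZeroDivisors B := by
  obtain ⟨hinj, hfin, n, hn⟩ := hB
  rw [mem_nonZeroDivisors_iff_right]
  intro β hβ
  by_contra hne
  have hle : maximalIdeal A ^ n ≤ (⊥ : Submodule A B).colon {β} := by
    intro r hr
    rw [Submodule.mem_colon_singleton, Submodule.mem_bot]
    obtain ⟨c, hc⟩ := hn r hr β
    have h1 : algebraMap A B (c * a) = 0 := by
      rw [map_mul, hc, Algebra.smul_def, mul_assoc, hβ, mul_zero]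
    have h2 : c * a = 0 := hinj (by rw [h1, map_zero])
    have h3 : c = 0 := (mem_nonZeroDivisors_iff_right.1 ha) c h2
    rw [← hc, h3, map_zero]
  obtain ⟨P, hP, hPle⟩ := exists_le_isAssociatedPrime_of_isNoetherianRing A β hne
  haveI := hP.isPrime
  have h4 : maximalIdeal A ≤ P := Ideal.IsPrime.le_of_pow_le (hle.trans hPle)
  have h5 : P = maximalIdeal A :=
    ((maximalIdeal.isMaximal A).eq_of_le hP.isPrime.ne_top h4).symm
  exact hass (h5 ▸ hP)

end Ass

end Groth.Agent.H63.Tame
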