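import Mathlib
import Groth.Agent.H63.TameJ
import Groth.Agent.H63.TameM

set_option autoImplicit false
set_option linter.style.haveILetI false
set_option linter.unusedSectionVars false
set_option linter.unusedVariables false
universe u

namespace Groth.Agent.H63.C1

open IsLocalRing CycAlg Groth.Agent.H63.Tame

section Transport
variable {R R' : Type u} [CommRing R] [CommRing R'] [IsLocalRing R] [IsLocalRing R']
  [IsNoetherianRing R] [IsNoetherianRing R']

theorem mem_maximalIdeal_pow_symm (e : R ≃+* R') (n : ℕ) {r' : R'}
    (hr' : r' ∈ maximalIdeal R' ^ n) : e.symm r' ∈ maximalIdeal R ^ n := by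
  have h1 : (maximalIdeal R').map (e.symm : R' →+* R) ≤ maximalIdeal R := by
    rw [Ideal.map_le_iff_le_comap]
    intro z hz
    rw [Ideal.mem_comap, mem_maximalIdeal, mem_nonunits_iff]
    intro hu
    apply hz
    have := hu.map (e : R →+* R')
    simpa using this
  have h2 : e.symm r' ∈ ((maximalIdeal R') ^ n).map (e.symm : R' →+* R) :=
    Ideal.mem_map_of_mem _ hr'
  rw [Ideal.map_pow] at h2
  exact Ideal.pow_right_mono h1 n h2

/-- **the tame symbol is invariant under ring isomorphisms**. -/
theorem tameSymbol_ringEquiv (e : R ≃+* R') (hR : ringKrullDim R = 1) {x y : R}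
    (hx : x ∈ nonZeroDivisors R) (hy : y ∈ nonZeroDivisors R) :
    tameSymbol R' (e x) (e y) = ResidueField.mapEquiv e (tameSymbol R x y) := by
  classical
  have hR' : ringKrullDim R' = 1 := by rw [← ringKrullDim_eq_of_ringEquiv e]; exact hR
  have hx' : e x ∈ nonZeroDivisors R' := by
    rw [mem_nonZeroDivisors_iff_right] at hx ⊢
    intro z hz
    have : e.symm z * x = 0 := by
      apply e.injective
      rw [map_mul, e.apply_symm_apply, hz, map_zero]
    have h2 := hx _ this
    rw [← e.apply_symm_apply z, h2, map_zero]
  have hy' : e y ∈ nonZeroDivisors R' := by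
    rw [mem_nonZeroDivisors_iff_right] at hy ⊢
    intro z hz
    have : e.symm z * y = 0 := by
      apply e.injective
      rw [map_mul, e.apply_symm_apply, hz, map_zero]
    have h2 := hy _ this
    rw [← e.apply_symm_apply z, h2, map_zero]
  obtain ⟨S, hS⟩ := exists_base hR.le 2 ![x, y] (by
    intro i; fin_cases i
    · exact hx
    · exact hy)
  have F : ∀ q : MaximalSpectrum S.B,
      Fac (Localization.AtPrime q.asIdeal) (S.π q) (algebraMap R _ x) := fun q => (hS 0 q).some
  have G : ∀ q : MaximalSpectrum S.B,
      Fac (Localization.AtPrime q.asIdeal) (S.π q) (algebraMap R _ y) := fun q => (hS 1 q).some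
  rw [tameSymbol_eq hR hx hy (S.tame F G), S.tame_value]
  letI algR' : Algebra R' S.B := ((algebraMap R S.B).comp (e.symm : R' →+* R)).toAlgebra
  have halg : ∀ r' : R', algebraMap R' S.B r' = algebraMap R S.B (e.symm r') := fun _ => rfl
  letI algR'R : Algebra R' R := (e.symm : R' →+* R).toAlgebra
  haveI : IsScalarTower R' R S.B := IsScalarTower.of_algebraMap_eq fun _ => rfl
  haveI : Module.Finite R' R :=
    Module.Finite.of_surjective (Algebra.linearMap R' R) e.symm.surjective
  haveI : Module.Finite R' S.B := Module.Finite.trans R S.B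
  obtain ⟨hinj, -, n, hn⟩ := S.isFinExt
  have hfe' : IsFinExt R' S.B (maximalIdeal R') := by
    refine ⟨?_, inferInstance, n, ?_⟩
    · intro a b hab
      rw [halg, halg] at hab
      exact e.symm.injective (hinj hab)
    · intro r' hr' b
      obtain ⟨c, hc⟩ := hn _ (mem_maximalIdeal_pow_symm e n hr') b
      refine ⟨e c, ?_⟩
      change algebraMap R' S.B (e c) = r' • b
      rw [halg, e.symm_apply_apply]
      have hsm : r' • b = e.symm r' • b := by rw [Algebra.smul_def, Algebra.smul_def, halg]
      rw [hsm]
      exact hc
  let S' : Base R' := { B := S.B, isFinExt := hfe', π := S.π, π_mem := S.π_mem }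
  have hcast : ∀ (q : MaximalSpectrum S.B) (z : R),
      algebraMap R (Localization.AtPrime q.asIdeal) z =
        algebraMap R' (Localization.AtPrime q.asIdeal) (e z) := by
    intro q z
    rw [IsScalarTower.algebraMap_apply R S.B (Localization.AtPrime q.asIdeal),
      IsScalarTower.algebraMap_apply R' S.B (Localization.AtPrime q.asIdeal), halg,
      e.symm_apply_apply]
  let F' : ∀ q : MaximalSpectrum S'.B,
      Fac (Localization.AtPrime q.asIdeal) (S'.π q) (algebraMap R' _ (e x)) :=
    fun q => (F q).cast (hcast q x)
  let G' : ∀ q : MaximalSpectrum S'.B,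
      Fac (Localization.AtPrime q.asIdeal) (S'.π q) (algebraMap R' _ (e y)) :=
    fun q => (G q).cast (hcast q y)
  rw [tameSymbol_eq hR' hx' hy' (S'.tame F' G'), S'.tame_value]
  haveI := finite_maximalSpectrum (A := R) S.B
  haveI := Fintype.ofFinite (MaximalSpectrum S.B)
  rw [finprod_eq_prod_of_fintype, finprod_eq_prod_of_fintype, map_prod]
  refine Finset.prod_congr rfl fun q _ => ?_
  rw [map_pow]
  congr 1
  have he : (algebraMap (ResidueField R') (ResidueField (Localization.AtPrime q.asIdeal))).comp
      (ResidueField.mapEquiv e : ResidueField R →+* ResidueField R') =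
      algebraMap (ResidueField R) (ResidueField (Localization.AtPrime q.asIdeal)) := by
    ext r
    obtain ⟨r, rfl⟩ := residue_surjective r
    change algebraMap (ResidueField R') (ResidueField (Localization.AtPrime q.asIdeal))
      (ResidueField.map (e : R →+* R') (residue R r)) = _
    rw [ResidueField.map_residue, ResidueField.algebraMap_residue,
      ResidueField.algebraMap_residue]
    congr 1
    exact (hcast q r).symm
  exact (Algebra.norm_eq_of_ringEquiv (ResidueField.mapEquiv e) he _).symm

end Transport

end Groth.Agent.H63.C1
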