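import Mathlib
import Groth.Prelude.Def_CycAlg

set_option autoImplicit false
set_option linter.style.haveILetI false
set_option linter.unusedSectionVars false
universe u w

namespace Groth.Agent.H63.Glue

open IsLocalRing

/-- the primes containing `t` other than the maximal ideal, pairwise incomparable. -/
structure Ctx {A : Type u} [CommRing A] [IsLocalRing A] (t : A) {ι : Type w} (q : ι → Ideal A) :
    Prop where
  prime : ∀ i, (q i).IsPrime
  ne_max : ∀ i, q i ≠ maximalIdeal A
  mem : ∀ i, t ∈ q i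
  cover : ∀ p : Ideal A, p.IsPrime → t ∈ p → p = maximalIdeal A ∨ ∃ i, p = q i
  inc : ∀ i j, q i ≤ q j → i = j

variable {A : Type u} [CommRing A] [IsLocalRing A] [IsNoetherianRing A] {t : A} {ι : Type w}
  {q : ι → Ideal A}

theorem Ctx.exists_pow_le (h : Ctx t q) (i : ι) (n : ℕ) :
    ∃ M : ℕ, ∀ y ∈ (q i) ^ M, ∃ s, s ∉ q i ∧ ∃ c, s * y = t ^ n * c := by
  haveI := h.prime i
  set R := Localization.AtPrime (q i) with hR
  haveI : IsNoetherianRing R := IsLocalization.isNoetherianRing (q i).primeCompl R inferInstance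
  have hrad : maximalIdeal R ≤ (Ideal.span {algebraMap A R (t ^ n)}).radical := by
    rw [Ideal.radical_eq_sInf]
    refine le_sInf ?_
    rintro P ⟨hP, hPprime⟩
    have htP : algebraMap A R t ∈ P := by
      have h1 : algebraMap A R (t ^ n) ∈ P := hP (Ideal.subset_span rfl)
      rw [map_pow] at h1
      exact hPprime.mem_of_pow_mem _ h1
    have hp : (P.comap (algebraMap A R)).IsPrime := Ideal.comap_isPrime _ _
    have hle : P.comap (algebraMap A R) ≤ q i := by
      intro y hy
      by_contra hyq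
      have hu : IsUnit (algebraMap A R y) :=
        IsLocalization.map_units R (⟨y, hyq⟩ : (q i).primeCompl)
      exact hPprime.ne_top (Ideal.eq_top_of_isUnit_mem _ hy hu)
    rcases h.cover _ hp htP with hm | ⟨j, hj⟩
    · exfalso
      apply h.ne_max i
      exact le_antisymm (le_maximalIdeal (h.prime i).ne_top) (hm ▸ hle)
    · have hji : j = i := h.inc j i (hj ▸ hle)
      subst hji
      have h2 : Ideal.map (algebraMap A R) (P.comap (algebraMap A R)) = P :=
        IsLocalization.map_under (q j).primeCompl R P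
      rw [← h2, hj, Localization.AtPrime.map_eq_maximalIdeal]
  obtain ⟨M, hM⟩ := Ideal.exists_pow_le_of_le_radical_of_fg hrad (IsNoetherian.noetherian _)
  refine ⟨M, fun y hy => ?_⟩
  have h1 : algebraMap A R y ∈ maximalIdeal R ^ M := by
    rw [← Localization.AtPrime.map_eq_maximalIdeal, ← Ideal.map_pow]
    exact Ideal.mem_map_of_mem _ hy
  obtain ⟨r, hr⟩ := Ideal.mem_span_singleton'.1 (hM h1)
  obtain ⟨⟨c, s⟩, hcs⟩ := IsLocalization.surj (q i).primeCompl r
  have h2 : algebraMap A R (s * y) = algebraMap A R (t ^ n * c) := by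
    rw [map_mul, map_mul, ← hr, ← hcs]
    ring
  obtain ⟨s', hs'⟩ := (IsLocalization.eq_iff_exists (q i).primeCompl R).1 h2
  refine ⟨s' * s, ?_, s' * c, ?_⟩
  · exact (q i).primeCompl.mul_mem s'.2 s.2
  · calc (s' : A) * s * y = s' * (s * y) := by ring
      _ = s' * (t ^ n * c) := hs'
      _ = t ^ n * (s' * c) := by ring

theorem Ctx.exists_avoid (h : Ctx t q) {i j : ι} (hij : i ≠ j) (n : ℕ) :
    ∃ s, s ∉ q i ∧ ∃ s', s' ∉ q j ∧ ∃ c, s' * s = t ^ n * c := by
  obtain ⟨M, hM⟩ := h.exists_pow_le j n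
  have hnle : ¬ q j ≤ q i := fun hle => hij (h.inc j i hle).symm
  obtain ⟨z, hzj, hzi⟩ := Set.not_subset.1 hnle
  obtain ⟨s', hs', c, hc⟩ := hM (z ^ M) (Ideal.pow_mem_pow hzj M)
  haveI := h.prime i
  exact ⟨z ^ M, fun hz => hzi ((h.prime i).mem_of_pow_mem _ hz), s', hs', c, hc⟩

theorem Ctx.exists_pow_smul_mem (h : Ctx t q) {V : Type*} [AddCommGroup V] [Module A V]
    (W X : Submodule A V) (hX : X.FG) (n : ℕ) (ht : ∀ z ∈ X, t ^ n • z ∈ W)
    (hq : ∀ i, ∀ z ∈ X, ∃ s, s ∉ q i ∧ s • z ∈ W) :
    ∃ k : ℕ, ∀ μ ∈ maximalIdeal A ^ k, ∀ z ∈ X, μ • z ∈ W := by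
  classical
  have hrad : maximalIdeal A ≤ (W.colon (X : Set V)).radical := by
    rw [Ideal.radical_eq_sInf]
    refine le_sInf ?_
    rintro p ⟨hp, hpprime⟩
    have htp : t ∈ p := hpprime.mem_of_pow_mem n (hp (Submodule.mem_colon.2 ht))
    rcases h.cover p hpprime htp with hm | ⟨i, hi⟩
    · exact hm.ge
    · exfalso
      haveI := h.prime i
      obtain ⟨S, hS⟩ := hX
      choose! s hs hsW using hq i
      have hSX : ∀ g ∈ S, g ∈ X := fun g hg => hS ▸ Submodule.subset_span hg
      have hprod : (∏ g ∈ S, s g) ∉ q i := by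
        rw [Ideal.IsPrime.prod_mem_iff]
        rintro ⟨g, hg, hgq⟩
        exact hs g (hSX g hg) hgq
      apply hprod
      rw [← hi]
      apply hp
      rw [Submodule.mem_colon]
      have key : ∀ z ∈ Submodule.span A (S : Set V), (∏ g ∈ S, s g) • z ∈ W := by
        intro z hz'
        induction hz' using Submodule.span_induction with
        | mem g hg =>
          rw [← Finset.mul_prod_erase S s hg, mul_comm, mul_smul]
          exact W.smul_mem _ (hsW g (hSX g hg))
        | zero => rw [smul_zero]; exact W.zero_mem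
        | add x y _ _ hx hy => rw [smul_add]; exact W.add_mem hx hy
        | smul a x _ hx => rw [smul_comm]; exact W.smul_mem _ hx
      intro z hz
      exact key z (by rw [hS]; exact hz)
  obtain ⟨k, hk⟩ := Ideal.exists_pow_le_of_le_radical_of_fg hrad (IsNoetherian.noetherian _)
  exact ⟨k, fun μ hμ z hz => Submodule.mem_colon.1 (hk hμ) z hz⟩

end Groth.Agent.H63.Glue
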