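import Mathlib
import Groth.Prelude.Def_CycAlg
import Groth.Agent.H36.LatticeDist
import Groth.Agent.H10.ExactPeriodicQuot

set_option autoImplicit false
set_option linter.style.haveILetI false
set_option linter.unusedSectionVars false
universe u v

namespace Groth.Agent.H63.HerbSmul

open CycAlg Pointwise

section General
variable {R : Type u} [CommRing R] {M : Type v} [AddCommGroup M] [Module R M]

/-- `perH 0 τ ≃ I / A` when `A.submoduleOf I` is the range of `τ`. -/
theorem length_perH_zero (I A : Submodule R M) (τ : ↥I →ₗ[R] ↥I)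
    (hA : ∀ y : ↥I, y ∈ LinearMap.range τ ↔ (y : M) ∈ A) :
    Module.length R (perH (0 : ↥I →ₗ[R] ↥I) τ) = Module.length R (↥I ⧸ A.submoduleOf I) := by
  let f : ↥(LinearMap.ker (0 : ↥I →ₗ[R] ↥I)) ≃ₗ[R] ↥I :=
    (LinearEquiv.ofEq _ _ LinearMap.ker_zero).trans Submodule.topEquiv
  refine (Submodule.Quotient.equiv _ _ f ?_).length_eq
  ext n
  constructor
  · rintro ⟨⟨m, hm⟩, hmem, rfl⟩
    exact (hA m).1 hmem
  · intro hn
    exact ⟨⟨n, by simp⟩, (hA n).2 hn, rfl⟩

/-- `perH τ 0 ≃ ker τ`. -/
theorem length_perH_zero' {N : Type v} [AddCommGroup N] [Module R N] (τ : N →ₗ[R] N) :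
    Module.length R (perH τ (0 : N →ₗ[R] N)) = Module.length R (LinearMap.ker τ) := by
  have h : (LinearMap.range (0 : N →ₗ[R] N)).submoduleOf (LinearMap.ker τ) = ⊥ := by
    rw [LinearMap.range_zero]
    ext ⟨m, hm⟩
    simp [Submodule.submoduleOf]
  exact (Submodule.quotEquivOfEqBot _ h).length_eq

/-- **the Herbrand quotient after composing `φ` with a commuting endomorphism.** -/
theorem herbrand_comp_left (φ ψ σ : M →ₗ[R] M)
    (τ : ↥(LinearMap.range φ) →ₗ[R] ↥(LinearMap.range φ))
    (hτ : ∀ y : ↥(LinearMap.range φ), (τ y : M) = σ y.1)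
    (hper : IsPeriodic φ ψ) (hfin : FinCoh R φ ψ) (hσψ : σ ∘ₗ ψ = ψ ∘ₗ σ)
    (hτfin : FinCoh R (0 : ↥(LinearMap.range φ) →ₗ[R] ↥(LinearMap.range φ)) τ) :
    IsPeriodic (σ ∘ₗ φ) ψ ∧ FinCoh R (σ ∘ₗ φ) ψ ∧
      herbrand R (σ ∘ₗ φ) ψ = herbrand R φ ψ -
        herbrand R (0 : ↥(LinearMap.range φ) →ₗ[R] ↥(LinearMap.range φ)) τ := by
  obtain ⟨h1, h2⟩ := hper
  have hper' : IsPeriodic (σ ∘ₗ φ) ψ := by
    constructor
    · rw [LinearMap.comp_assoc, h1, LinearMap.comp_zero]
    · rw [← LinearMap.comp_assoc, ← hσψ, LinearMap.comp_assoc, h2, LinearMap.comp_zero]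
  have hIK' : LinearMap.range φ ≤ LinearMap.ker ψ := by
    rintro _ ⟨m, rfl⟩
    exact LinearMap.congr_fun h2 m
  have hI'K : LinearMap.range ψ ≤ LinearMap.ker φ := by
    rintro _ ⟨m, rfl⟩
    exact LinearMap.congr_fun h1 m
  have hAI : LinearMap.range (σ ∘ₗ φ) ≤ LinearMap.range φ := by
    rintro _ ⟨m, rfl⟩
    have := hτ ⟨φ m, ⟨m, rfl⟩⟩
    rw [LinearMap.comp_apply, ← this]
    exact (τ _).2
  have hKL : LinearMap.ker φ ≤ LinearMap.ker (σ ∘ₗ φ) := by
    intro m hm
    change σ (φ m) = 0
    rw [show φ m = 0 from hm, map_zero]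
  -- H¹
  have e1 : Module.length R (perH ψ (σ ∘ₗ φ)) =
      Module.length R (perH (0 : ↥(LinearMap.range φ) →ₗ[R] ↥(LinearMap.range φ)) τ) + Module.length R (perH ψ φ) := by
    change Module.length R (↥(LinearMap.ker ψ) ⧸ (LinearMap.range (σ ∘ₗ φ)).submoduleOf (LinearMap.ker ψ)) = _
    rw [Groth.Agent.H36.LatticeDist.length_tower hAI hIK']
    congr 1
    symm
    refine length_perH_zero (LinearMap.range φ) (LinearMap.range (σ ∘ₗ φ)) τ fun y => ?_
    constructor
    · rintro ⟨z, rfl⟩
      obtain ⟨m, hm⟩ := z.2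
      refine ⟨m, ?_⟩
      rw [hτ z, LinearMap.comp_apply, hm]
    · rintro ⟨m, hm⟩
      refine ⟨⟨φ m, ⟨m, rfl⟩⟩, Subtype.ext ?_⟩
      rw [hτ]
      exact hm
  -- H⁰
  have e2 : Module.length R (perH (σ ∘ₗ φ) ψ) =
      Module.length R (perH φ ψ) + Module.length R (perH τ (0 : ↥(LinearMap.range φ) →ₗ[R] ↥(LinearMap.range φ))) := by
    change Module.length R (↥(LinearMap.ker (σ ∘ₗ φ)) ⧸ (LinearMap.range ψ).submoduleOf (LinearMap.ker (σ ∘ₗ φ))) = _
    rw [Groth.Agent.H36.LatticeDist.length_tower hI'K hKL]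
    congr 1
    rw [length_perH_zero']
    let g : ↥(LinearMap.ker (σ ∘ₗ φ)) →ₗ[R] ↥(LinearMap.ker τ) :=
      { toFun := fun m => ⟨⟨φ m.1, ⟨m.1, rfl⟩⟩, by
          rw [LinearMap.mem_ker]
          apply Subtype.ext
          rw [hτ]
          exact m.2⟩
        map_add' := fun m m' => by
          apply Subtype.ext; apply Subtype.ext
          simp
        map_smul' := fun r m => by
          apply Subtype.ext; apply Subtype.ext
          simp }
    have hg : Function.Surjective g := by
      rintro ⟨⟨y, ⟨m, rfl⟩⟩, hz⟩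
      have hm : m ∈ LinearMap.ker (σ ∘ₗ φ) := by
        change σ (φ m) = 0
        have := congrArg Subtype.val (LinearMap.mem_ker.1 hz)
        rw [hτ] at this
        exact this
      exact ⟨⟨m, hm⟩, rfl⟩
    have hkg : LinearMap.ker g = (LinearMap.ker φ).submoduleOf (LinearMap.ker (σ ∘ₗ φ)) := by
      ext m
      rw [LinearMap.mem_ker]
      constructor
      · intro h
        have := congrArg (fun z : ↥(LinearMap.ker τ) => ((z : ↥(LinearMap.range φ)) : M)) h
        exact this
      · intro h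
        apply Subtype.ext; apply Subtype.ext
        exact h
    exact ((Submodule.quotEquivOfEq _ _ hkg.symm).trans
      (g.quotKerEquivOfSurjective hg)).length_eq
  obtain ⟨f1, f2⟩ := hfin
  obtain ⟨t1, t2⟩ := hτfin
  have hfin' : FinCoh R (σ ∘ₗ φ) ψ := by
    constructor
    · rw [e2]; exact ENat.add_lt_top.2 ⟨f1, t2⟩
    · rw [e1]; exact ENat.add_lt_top.2 ⟨t1, f2⟩
  refine ⟨hper', hfin', ?_⟩
  unfold herbrand
  rw [e1, e2, ENat.toNat_add f1.ne t2.ne, ENat.toNat_add t1.ne f2.ne]
  push_cast
  ring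


theorem herbrand_symm {N : Type v} [AddCommGroup N] [Module R N] (φ ψ : N →ₗ[R] N) :
    herbrand R φ ψ = - herbrand R ψ φ := by
  unfold herbrand
  ring

end General

section Local
variable {R : Type u} [CommRing R] [IsNoetherianRing R] [IsLocalRing R]
  {M : Type v} [AddCommGroup M] [Module R M] [Module.Finite R M]

theorem length_lt_top_of_smul_eq_zero (x : R)
    (hx : Module.supportDim R (M ⧸ x • (⊤ : Submodule R M)) ≤ 0)
    (P : Type v) [AddCommGroup P] [Module R P] [Module.Finite R P]
    (hP : ∀ z : P, x • z = 0) (hsupp : Module.support R P ⊆ Module.support R M) :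
    Module.length R P < ⊤ := by
  apply Groth.Agent.H10.EPQ.length_lt_top_of_support_subset R P
  intro p hp
  have hxp : x ∈ p.asIdeal := by
    rw [Module.mem_support_iff_exists_annihilator] at hp
    obtain ⟨m, hm⟩ := hp
    apply hm
    rw [Submodule.mem_annihilator_span_singleton]
    exact hP m
  have hpQ : p ∈ Module.support R (M ⧸ x • (⊤ : Submodule R M)) := by
    rw [Module.support_quotSMulTop]
    refine ⟨hsupp hp, ?_⟩
    simpa using hxp
  have hmQ : IsLocalRing.closedPoint R ∈ Module.support R (M ⧸ x • (⊤ : Submodule R M)) :=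
    Module.mem_support_mono (IsLocalRing.le_maximalIdeal p.2.ne_top) hpQ
  have hdim : Order.krullDim (Module.support R (M ⧸ x • (⊤ : Submodule R M))) ≤ 0 := hx
  rw [Order.krullDim_nonpos_iff_forall_isMax] at hdim
  have hmax := hdim ⟨p, hpQ⟩
  have hle : (⟨p, hpQ⟩ : Module.support R (M ⧸ x • (⊤ : Submodule R M))) ≤
      ⟨IsLocalRing.closedPoint R, hmQ⟩ :=
    IsLocalRing.le_maximalIdeal p.2.ne_top
  have hge := hmax hle
  exact le_antisymm (IsLocalRing.le_maximalIdeal p.2.ne_top) hge

theorem finCoh_zero_smul (x : R)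
    (hx : Module.supportDim R (M ⧸ x • (⊤ : Submodule R M)) ≤ 0) (N : Submodule R M) :
    FinCoh R (0 : ↥N →ₗ[R] ↥N) (x • LinearMap.id) := by
  constructor
  · apply length_lt_top_of_smul_eq_zero (M := M) x hx
    · intro z
      induction z using Submodule.Quotient.induction_on with
      | H z =>
        rw [← Submodule.Quotient.mk_smul, Submodule.Quotient.mk_eq_zero]
        exact ⟨z.1, rfl⟩
    · refine (Module.support_subset_of_surjective _ (Submodule.mkQ_surjective _)).trans ?_
      refine (Module.support_subset_of_injective _ (Submodule.injective_subtype _)).trans ?_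
      exact Module.support_subset_of_injective _ (Submodule.injective_subtype _)
  · apply length_lt_top_of_smul_eq_zero (M := M) x hx
    · intro z
      induction z using Submodule.Quotient.induction_on with
      | H z =>
        rw [← Submodule.Quotient.mk_smul, Submodule.Quotient.mk_eq_zero]
        have := z.2
        rw [LinearMap.mem_ker] at this
        change x • z ∈ _
        have h0 : x • z = 0 := by
          apply Subtype.ext
          exact this
        rw [h0]
        exact Submodule.zero_mem _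
    · refine (Module.support_subset_of_surjective _ (Submodule.mkQ_surjective _)).trans ?_
      refine (Module.support_subset_of_injective _ (Submodule.injective_subtype _)).trans ?_
      exact Module.support_subset_of_injective _ (Submodule.injective_subtype _)

theorem main (φ ψ : M →ₗ[R] M) (hper : IsPeriodic φ ψ) (hfin : FinCoh R φ ψ) (x : R)
    (hx : Module.supportDim R (M ⧸ x • (⊤ : Submodule R M)) ≤ 0) :
    FinCoh R (x • φ) ψ ∧ herbrand R (x • φ) ψ = herbrand R φ ψ -
      herbrand R (0 : ↥(LinearMap.range φ) →ₗ[R] ↥(LinearMap.range φ)) (x • LinearMap.id) := by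
  have h := herbrand_comp_left φ ψ (x • LinearMap.id) (x • LinearMap.id) (fun y => rfl) hper hfin
    (by ext m; simp) (finCoh_zero_smul x hx _)
  have e : (x • LinearMap.id : M →ₗ[R] M) ∘ₗ φ = x • φ := by
    ext m; simp
  rw [e] at h
  exact h.2

end Local
end Groth.Agent.H63.HerbSmul
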