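import Mathlib
import Groth.Prelude.Def_CycAlg
import Groth.Agent.H63.GlueA
import Groth.Agent.H63.HerbSmul
import Groth.Agent.H10.ExactPeriodicQuot

set_option autoImplicit false
set_option linter.style.haveILetI false
set_option linter.unusedSectionVars false
set_option linter.unusedVariables false
universe u w

namespace Groth.Agent.H63.KeyF

open IsLocalRing CycAlg Pointwise Groth.Agent.H63.Glue

section Defs
variable {A : Type u} [CommRing A]

/-- the contraction `tA_𝔮 ∩ A`. -/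
def Qq (𝔮 : Ideal A) [h𝔮 : 𝔮.IsPrime] (t : A) : Ideal A where
  carrier := {y | ∃ s, s ∉ 𝔮 ∧ ∃ c, s * y = t * c}
  add_mem' := by
    rintro y₁ y₂ ⟨s₁, hs₁, c₁, h₁⟩ ⟨s₂, hs₂, c₂, h₂⟩
    refine ⟨s₁ * s₂, fun hmem => (h𝔮.mem_or_mem hmem).elim hs₁ hs₂, s₂ * c₁ + s₁ * c₂, ?_⟩
    linear_combination s₂ * h₁ + s₁ * h₂
  zero_mem' := ⟨1, (Ideal.ne_top_iff_one 𝔮).1 h𝔮.ne_top, 0, by simp⟩
  smul_mem' := by
    rintro r y ⟨s, hs, c, hc⟩
    refine ⟨s, hs, r * c, ?_⟩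
    rw [smul_eq_mul]
    linear_combination r * hc

theorem mem_Qq {𝔮 : Ideal A} [𝔮.IsPrime] {t y : A} :
    y ∈ Qq 𝔮 t ↔ ∃ s, s ∉ 𝔮 ∧ ∃ c, s * y = t * c := Iff.rfl

theorem t_mem_Qq (𝔮 : Ideal A) [h𝔮 : 𝔮.IsPrime] (t : A) : t ∈ Qq 𝔮 t :=
  ⟨1, (Ideal.ne_top_iff_one 𝔮).1 h𝔮.ne_top, 1, by ring⟩

/-- multiplication by `z`. -/
abbrev zmul (N : Type*) [AddCommGroup N] [Module A N] (z : A) : N →ₗ[A] N := z • LinearMap.id

theorem zmul_pow (N : Type*) [AddCommGroup N] [Module A N] (z : A) (e : ℕ) :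
    (zmul N z) ^ e = zmul N (z ^ e) := by
  ext m
  induction e generalizing m with
  | zero => simp
  | succ e ih =>
    rw [pow_succ, Module.End.mul_apply, ih]
    simp [pow_succ, mul_smul, smul_comm z]

theorem smul_zmul (N : Type*) [AddCommGroup N] [Module A N] (z w : A) :
    z • zmul N w = zmul N (z * w) := by
  ext m
  simp [mul_smul]

/-- the local data at a prime. -/
structure LocData (𝔮 : Ideal A) (a b : A) where
  x : A
  e : ℕ
  f : ℕ
  a' : A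
  a'' : A
  b' : A
  b'' : A
  ha' : a' ∉ 𝔮
  ha'' : a'' ∉ 𝔮
  hb' : b' ∉ 𝔮
  hb'' : b'' ∉ 𝔮
  eqa : a' * a = a'' * x ^ e
  eqb : b' * b = b'' * x ^ f
  reg : ∀ c, x * c = 0 → ∃ s, s ∉ 𝔮 ∧ s * c = 0

/-- the order of `z` along `𝔮`. -/
noncomputable def ordq (𝔮 : Ideal A) (z : A) : ℤ :=
  ((Ring.ord (A ⧸ 𝔮) (Ideal.Quotient.mk 𝔮 z)).toNat : ℤ)

/-- the value `m (f (ord a'' - ord a') - e (ord b'' - ord b'))`. -/
noncomputable def LocData.val {𝔮 : Ideal A} [𝔮.IsPrime] {a b : A} (D : LocData 𝔮 a b) : ℤ :=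
  ((Ring.ord (Localization.AtPrime 𝔮) (algebraMap A (Localization.AtPrime 𝔮) D.x)).toNat : ℤ) *
    ((D.f : ℤ) * (ordq 𝔮 D.a'' - ordq 𝔮 D.a') - (D.e : ℤ) * (ordq 𝔮 D.b'' - ordq 𝔮 D.b'))

theorem LocData.reg_pow {𝔮 : Ideal A} [h𝔮 : 𝔮.IsPrime] {a b : A} (D : LocData 𝔮 a b) (j : ℕ) :
    ∀ c, D.x ^ j * c = 0 → ∃ s, s ∉ 𝔮 ∧ s * c = 0 := by
  induction j with
  | zero => intro c hc; exact ⟨1, (Ideal.ne_top_iff_one 𝔮).1 h𝔮.ne_top, by simpa using hc⟩
  | succ j ih =>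
    intro c hc
    obtain ⟨s, hs, hsc⟩ := ih (D.x * c) (by rw [← mul_assoc, ← pow_succ]; exact hc)
    obtain ⟨s', hs', hsc'⟩ := D.reg (s * c) (by rw [mul_left_comm]; exact hsc)
    exact ⟨s' * s, fun hmem => (h𝔮.mem_or_mem hmem).elim hs' hs, by rw [mul_assoc]; exact hsc'⟩

end Defs

section Supp
variable {A : Type u} [CommRing A] [IsLocalRing A] [IsNoetherianRing A] {t : A} {ι : Type w}
  {q : ι → Ideal A} [hqp : ∀ i, (q i).IsPrime]

theorem exists_mem_Qq_notMem (h : Ctx t q) {i j : ι} (hij : i ≠ j) :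
    ∃ y, y ∈ Qq (q i) t ∧ y ∉ q j := by
  obtain ⟨s, hs, s', hs', c, hc⟩ := h.exists_avoid (Ne.symm hij) 1
  exact ⟨s, ⟨s', hs', c, by rw [hc, pow_one]⟩, hs⟩

theorem support_subset (h : Ctx t q) (i : ι) (H : Type*) [AddCommGroup H] [Module A H]
    (h1 : ∀ y ∈ Qq (q i) t, ∀ z : H, y • z = 0) (h2 : ∀ z : H, ∃ s, s ∉ q i ∧ s • z = 0) :
    ∀ p ∈ Module.support A H, p.asIdeal = maximalIdeal A := by
  intro p hp
  rw [Module.mem_support_iff_exists_annihilator] at hp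
  obtain ⟨z, hz⟩ := hp
  have htp : t ∈ p.asIdeal := by
    apply hz
    rw [Submodule.mem_annihilator_span_singleton]
    exact h1 t (t_mem_Qq _ t) z
  rcases h.cover p.asIdeal p.2 htp with hm | ⟨j, hj⟩
  · exact hm
  · exfalso
    by_cases hij : i = j
    · subst hij
      obtain ⟨s, hs, hsz⟩ := h2 z
      apply hs
      rw [← hj]
      apply hz
      rw [Submodule.mem_annihilator_span_singleton]
      exact hsz
    · obtain ⟨y, hy, hyj⟩ := exists_mem_Qq_notMem h hij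
      apply hyj
      rw [← hj]
      apply hz
      rw [Submodule.mem_annihilator_span_singleton]
      exact h1 y hy z

theorem length_lt_top_of (h : Ctx t q) (i : ι) (H : Type u) [AddCommGroup H] [Module A H]
    [Module.Finite A H]
    (h1 : ∀ y ∈ Qq (q i) t, ∀ z : H, y • z = 0) (h2 : ∀ z : H, ∃ s, s ∉ q i ∧ s • z = 0) :
    Module.length A H < ⊤ :=
  Groth.Agent.H10.EPQ.length_lt_top_of_support_subset A H (support_subset h i H h1 h2)

theorem supportDim_le_zero_of (H : Type*) [AddCommGroup H] [Module A H]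
    (hs : ∀ p ∈ Module.support A H, p.asIdeal = maximalIdeal A) : Module.supportDim A H ≤ 0 := by
  unfold Module.supportDim
  rw [Order.krullDim_nonpos_iff_forall_isMax]
  intro x y hxy
  have : x = y := Subtype.ext (PrimeSpectrum.ext (by rw [hs x x.2, hs y y.2]))
  exact this ▸ le_rfl

end Supp

end Groth.Agent.H63.KeyF
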