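import Mathlib
import Groth.Agent.H10.LengthOrd
import Groth.Agent.H36.LatticeDist
import Groth.Agent.H63.TameF

set_option autoImplicit false
set_option linter.style.haveILetI false
set_option linter.unusedSectionVars false
universe u

namespace Groth.Agent.H63.LenOrd

open IsLocalRing CycAlg Pointwise Groth.Agent.H63.Tame

section
variable {A : Type u} [CommRing A] [IsNoetherianRing A] [IsLocalRing A]
variable {M : Type u} [AddCommGroup M] [Module A M] [Module.Finite A M]

theorem range_lsmul (x : A) : LinearMap.range (LinearMap.lsmul A M x) = x • (⊤ : Submodule A M) := by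
  ext m
  rw [Submodule.mem_smul_pointwise_iff_exists, LinearMap.mem_range]
  constructor
  · rintro ⟨y, rfl⟩
    exact ⟨y, Submodule.mem_top, rfl⟩
  · rintro ⟨y, -, rfl⟩
    exact ⟨y, rfl⟩

/-- elements off the associated primes act injectively. -/
theorem lsmul_injective (hMemb : ∀ p ∈ associatedPrimes A M, p ∈ minimalPrimes A) {x : A}
    (hx : x ∈ nonZeroDivisors A) : Function.Injective (LinearMap.lsmul A M x) := by
  rw [injective_iff_map_eq_zero]
  intro m hm
  by_contra hne
  obtain ⟨P, hP, hPle⟩ := exists_le_isAssociatedPrime_of_isNoetherianRing A m hne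
  have hxP : x ∈ P := hPle (by
    rw [Submodule.mem_colon_singleton, Submodule.mem_bot]
    exact hm)
  exact Set.disjoint_left.1 (Ideal.disjoint_nonZeroDivisors_of_mem_minimalPrimes (hMemb P hP))
    hxP hx

/-- the support dimension of `M/xM` is `≤ 0` for a nonzerodivisor `x` of a ring of dimension 1. -/
theorem supportDim_quot_le (hA : ringKrullDim A ≤ 1) {x : A} (hx : x ∈ nonZeroDivisors A) :
    Module.supportDim A (M ⧸ x • (⊤ : Submodule A M)) ≤ 0 := by
  unfold Module.supportDim
  haveI : Subsingleton ↥(Module.support A (M ⧸ x • (⊤ : Submodule A M))) := by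
    refine ⟨fun p p' => Subtype.ext (PrimeSpectrum.ext ?_)⟩
    have key : ∀ p ∈ Module.support A (M ⧸ x • (⊤ : Submodule A M)),
        p.asIdeal = maximalIdeal A := by
      intro p hp
      rw [Module.mem_support_iff_of_finite] at hp
      have h1 : x ∈ Module.annihilator A (M ⧸ x • (⊤ : Submodule A M)) := by
        rw [Module.mem_annihilator]
        intro y
        obtain ⟨y, rfl⟩ := Submodule.Quotient.mk_surjective _ y
        rw [← Submodule.Quotient.mk_smul, Submodule.Quotient.mk_eq_zero]
        exact Submodule.smul_mem_pointwise_smul y x ⊤ Submodule.mem_top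
      exact eq_maximalIdeal_of_mem hA hx p.asIdeal (hp h1)
    rw [key p.1 p.2, key p'.1 p'.2]
  exact Order.krullDim_nonpos_of_subsingleton

end

section Two
variable {A : Type u} [CommRing A] [IsNoetherianRing A] [IsLocalRing A]
variable {M : Type u} [AddCommGroup M] [Module A M] [Module.Finite A M]

theorem mul_colon_le (a b : A) : Ideal.span {a} * (Ideal.span {b}).colon (Ideal.span {a}) ≤
    Ideal.span {b} := by
  rw [Ideal.mul_le]
  intro r hr s hs
  obtain ⟨c, rfl⟩ := Ideal.mem_span_singleton'.1 hr
  have h1 := Submodule.mem_colon.1 hs a (Ideal.subset_span rfl)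
  have : c * a * s = c * (s • a) := by rw [smul_eq_mul]; ring
  rw [this]
  exact Ideal.mul_mem_left _ _ h1

theorem ideal_smul_top_le_range {J : Ideal A} {b : A} (h : J ≤ Ideal.span {b}) :
    J • (⊤ : Submodule A M) ≤ LinearMap.range (LinearMap.lsmul A M b) := by
  rw [Submodule.smul_le]
  intro r hr n _
  obtain ⟨c, rfl⟩ := Ideal.mem_span_singleton'.1 (h hr)
  exact ⟨c • n, by simp [mul_smul, smul_comm c b n]⟩

/-- the length identity `ℓ(M/P) + ℓ(M/bM) = ℓ(M/IM) + ℓ(M/aM)`. -/
theorem length_identity (a b : A) (ha : Function.Injective (LinearMap.lsmul A M a))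
    (I : Ideal A) (hle : Ideal.span {a} * I ≤ Ideal.span {b}) :
    Module.length A (M ⧸ Submodule.comap (LinearMap.lsmul A M b)
        ((Ideal.span {a} * I) • (⊤ : Submodule A M))) +
      Module.length A (M ⧸ b • (⊤ : Submodule A M)) =
    Module.length A (M ⧸ I • (⊤ : Submodule A M)) +
      Module.length A (M ⧸ a • (⊤ : Submodule A M)) := by
  set K : Submodule A M := (Ideal.span {a} * I) • (⊤ : Submodule A M) with hK
  have hKb : K ≤ LinearMap.range (LinearMap.lsmul A M b) := ideal_smul_top_le_range hle
  have hKa : K ≤ LinearMap.range (LinearMap.lsmul A M a) :=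
    ideal_smul_top_le_range (Ideal.mul_le_left)
  have e1 := length_quot_eq_add (LinearMap.lsmul A M b) K hKb
  have e2 := length_quot_eq_add (LinearMap.lsmul A M a) K hKa
  have hcomap : K.comap (LinearMap.lsmul A M a) = I • (⊤ : Submodule A M) := by
    have hK' : K = a • (I • (⊤ : Submodule A M)) := by
      rw [hK, Submodule.mul_smul, Submodule.ideal_span_singleton_smul]
    ext m
    rw [Submodule.mem_comap, hK', Submodule.mem_smul_pointwise_iff_exists]
    constructor
    · rintro ⟨n, hn, hnm⟩
      have : n = m := ha hnm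
      exact this ▸ hn
    · intro hm
      exact ⟨m, hm, rfl⟩
  rw [hcomap, range_lsmul] at e2
  rw [range_lsmul] at e1
  rw [← e1, ← e2]

end Two

section Sum
variable {A : Type u} [CommRing A] [IsNoetherianRing A] [IsLocalRing A]
variable {M : Type u} [AddCommGroup M] [Module A M] [Module.Finite A M]

theorem maximalIdeal_not_minimal (hA : ringKrullDim A = 1) :
    maximalIdeal A ∉ minimalPrimes A := by
  intro hmin
  have h0 : Ring.KrullDimLE 0 A := by
    rw [Ring.krullDimLE_zero_iff]
    intro I hI
    have h1 : I ≤ maximalIdeal A := le_maximalIdeal hI.ne_top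
    have h2 : maximalIdeal A ≤ I := hmin.2 ⟨hI, bot_le⟩ h1
    rw [le_antisymm h1 h2]
    infer_instance
  have h1 : ringKrullDim A ≤ 0 := Ring.krullDimLE_iff.1 h0
  rw [hA] at h1
  exact absurd h1 (by simp)

theorem ne_maximalIdeal_iff (hA : ringKrullDim A = 1) (p : PrimeSpectrum A) :
    p.asIdeal ≠ maximalIdeal A ↔ p.asIdeal ∈ minimalPrimes A := by
  haveI : Ring.KrullDimLE 1 A := Ring.krullDimLE_iff.2 hA.le
  constructor
  · intro hne
    rcases (Ring.krullDimLE_one_iff (R := A)).1 inferInstance p.asIdeal p.isPrime with h | h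
    · exact h
    · exact absurd (eq_maximalIdeal h) hne
  · intro hmin heq
    exact maximalIdeal_not_minimal hA (heq ▸ hmin)

/-- `ℓ(M/xM) = Σ_q ord_{A/q}(x) · ℓ(M_q)` over the minimal primes. -/
theorem length_quot_eq_sum (hA : ringKrullDim A = 1)
    (hMemb : ∀ p ∈ associatedPrimes A M, p ∈ minimalPrimes A)
    (hsupp : Module.support A M = Set.univ) {x : A} (hx : x ∈ nonZeroDivisors A) :
    Module.length A (M ⧸ x • (⊤ : Submodule A M)) =
      ∑ᶠ (q : PrimeSpectrum A) (_ : q.asIdeal ∈ minimalPrimes A),
        Ring.ord (A ⧸ q.asIdeal) (Ideal.Quotient.mk q.asIdeal x) *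
          Module.length (Localization.AtPrime q.asIdeal)
            (LocalizedModule q.asIdeal.primeCompl M) := by
  have h := Groth.Agent.H10.length_quot_eq_length_ker_add_sum (R := A) M x
    ((Module.supportDim_le_ringKrullDim A M).trans hA.le) (supportDim_quot_le hA.le hx)
  rw [LinearMap.ker_eq_bot.2 (lsmul_injective hMemb hx), Module.length_bot, zero_add] at h
  rw [h]
  refine finsum_congr fun q => ?_
  have : (q ∈ Module.support A M ∧ q.asIdeal ≠ maximalIdeal A) =
      (q.asIdeal ∈ minimalPrimes A) := by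
    apply propext
    rw [hsupp, ne_maximalIdeal_iff hA]
    simp
  rw [this]

theorem ord_quot_ne_top (hA : ringKrullDim A = 1) {x : A} (hx : x ∈ nonZeroDivisors A)
    (q : PrimeSpectrum A) (hq : q.asIdeal ∈ minimalPrimes A) :
    Ring.ord (A ⧸ q.asIdeal) (Ideal.Quotient.mk q.asIdeal x) ≠ ⊤ := by
  haveI : Ring.KrullDimLE 1 (A ⧸ q.asIdeal) :=
    Ring.krullDimLE_iff.2 ((ringKrullDim_quotient_le q.asIdeal).trans hA.le)
  have hxq : x ∉ q.asIdeal := fun hxq =>
    Set.disjoint_left.1 (Ideal.disjoint_nonZeroDivisors_of_mem_minimalPrimes hq) hxq hx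
  refine Ring.ord_ne_top (mem_nonZeroDivisors_of_ne_zero ?_)
  rwa [Ne, Ideal.Quotient.eq_zero_iff_mem]

theorem length_localized_ne_top (q : PrimeSpectrum A) (hq : q.asIdeal ∈ minimalPrimes A) :
    Module.length (Localization.AtPrime q.asIdeal) (LocalizedModule q.asIdeal.primeCompl M) ≠ ⊤ := by
  haveI : Ring.KrullDimLE 0 (Localization.AtPrime q.asIdeal) := by
    rw [Ring.krullDimLE_iff, IsLocalization.AtPrime.ringKrullDim_eq_height q.asIdeal,
      Ideal.height_eq_zero_iff.2 hq]
    rfl
  haveI : IsArtinianRing (Localization.AtPrime q.asIdeal) :=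
    isArtinianRing_iff_krullDimLE_zero.2 inferInstance
  exact Module.length_ne_top

end Sum

end Groth.Agent.H63.LenOrd
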