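import Mathlib
import Groth.Agent.H63.TameC

set_option autoImplicit false
set_option linter.style.haveILetI false
set_option linter.unusedSectionVars false
universe u

/-!
# Characteristic polynomials modulo the maximal ideal

`A` local, `B` a finite free `A`-algebra with trivial residue field extensions at all maximal
ideals.  The characteristic polynomial of multiplication by `x ∈ B`, reduced modulo `𝔪_A`, is the
product over the maximal ideals `q` of `B` of `(X - x(q))^{e_q}`, `e_q = length(B_q/𝔪_A B_q)`.
-/

namespace Groth.Agent.H63.NormTame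

open IsLocalRing Polynomial

section Loc
variable {B : Type u} [CommRing B] (q : Ideal B) [q.IsPrime]

/-- the localization of `B/J` at `q` is `B_q/JB_q`. -/
theorem length_localizedModule_quot (J : Ideal B) :
    Module.length (Localization.AtPrime q) (LocalizedModule q.primeCompl (B ⧸ J)) =
      Module.length (Localization.AtPrime q)
        (Localization.AtPrime q ⧸ J.map (algebraMap B (Localization.AtPrime q))) := by
  let f : B →ₗ[B] Localization.AtPrime q := Algebra.linearMap B (Localization.AtPrime q)
  let M' : Submodule B B := J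
  let g := M'.toLocalizedQuotient' (Localization.AtPrime q) q.primeCompl f
  have hloc : M'.localized' (Localization.AtPrime q) q.primeCompl f =
      J.map (algebraMap B (Localization.AtPrime q)) :=
    Ideal.localized'_eq_map (Localization.AtPrime q) q.primeCompl J
  let e1 : LocalizedModule q.primeCompl (B ⧸ J) ≃ₗ[B]
      (Localization.AtPrime q ⧸ M'.localized' (Localization.AtPrime q) q.primeCompl f) :=
    IsLocalizedModule.linearEquiv q.primeCompl
      (LocalizedModule.mkLinearMap q.primeCompl (B ⧸ J)) g
  let e2 := e1.extendScalarsOfIsLocalization q.primeCompl (Localization.AtPrime q)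
  rw [e2.length_eq]
  exact (Submodule.quotEquivOfEq _ _ hloc).length_eq

end Loc

section Quot
variable {A B : Type u} [CommRing A] [CommRing B] [Algebra A B] [IsLocalRing A]
  [Module.Finite A B] [Module.Free A B]

local notation "p" => maximalIdeal A
local notation "pB" => Ideal.map (algebraMap A B) p

attribute [local instance] Ideal.Quotient.field

theorem finite_quotient_map : Module.Finite (A ⧸ p) (B ⧸ pB) :=
  Module.Finite.of_restrictScalars_finite A _ _

attribute [local instance] finite_quotient_map

/-- characteristic polynomial of multiplication commutes with reduction modulo `p`. -/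
theorem charpoly_quotient_mk (x : B) :
    (Algebra.lmul (A ⧸ p) (B ⧸ pB) (Ideal.Quotient.mk pB x)).charpoly =
      ((Algebra.lmul A B x).charpoly).map (Ideal.Quotient.mk p) := by
  classical
  let ι := Module.Free.ChooseBasisIndex A B
  let b : Module.Basis ι A B := Module.Free.chooseBasis A B
  rw [← LinearMap.charpoly_toMatrix _ b, ← LinearMap.charpoly_toMatrix _ (basisQuotient b),
    ← Matrix.charpoly_map]
  congr 1
  ext i j
  simp only [Algebra.coe_lmul_eq_mul, LinearMap.toMatrix_apply,
    basisQuotient_apply, LinearMap.mul_apply', Matrix.map_apply, ← map_mul,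
    basisQuotient_repr]

/-- the generalized eigenspace bound: kernel of multiplication by `(x - c)^N` on `B/pB`. -/
theorem finrank_ker_le_rootMultiplicity (x : B) (c : A) (N : ℕ) :
    Module.finrank (A ⧸ p) (LinearMap.ker (Algebra.lmul (A ⧸ p) (B ⧸ pB)
        (Ideal.Quotient.mk pB ((x - algebraMap A B c) ^ N)))) ≤
      ((Algebra.lmul (A ⧸ p) (B ⧸ pB) (Ideal.Quotient.mk pB x)).charpoly).rootMultiplicity
        (Ideal.Quotient.mk p c) := by
  have h := LinearMap.finrank_genEigenspace_le
    (Algebra.lmul (A ⧸ p) (B ⧸ pB) (Ideal.Quotient.mk pB x)) (Ideal.Quotient.mk p c) N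
  rw [Module.End.genEigenspace_nat] at h
  have e : Algebra.lmul (A ⧸ p) (B ⧸ pB) (Ideal.Quotient.mk pB ((x - algebraMap A B c) ^ N)) =
      (Algebra.lmul (A ⧸ p) (B ⧸ pB) (Ideal.Quotient.mk pB x) - Ideal.Quotient.mk p c • 1) ^ N := by
    rw [map_pow, map_sub, map_pow, map_sub]
    congr 2
    rw [← Ideal.Quotient.algebraMap_quotient_map_quotient, AlgHom.commutes,
      Algebra.algebraMap_eq_smul_one]
  rw [e]
  exact h

theorem finrank_ker_eq_finrank_quot (g : B) :
    Module.finrank (A ⧸ p) (LinearMap.ker (Algebra.lmul (A ⧸ p) (B ⧸ pB) (Ideal.Quotient.mk pB g))) =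
    Module.finrank (A ⧸ p) ((B ⧸ pB) ⧸
      LinearMap.range (Algebra.lmul (A ⧸ p) (B ⧸ pB) (Ideal.Quotient.mk pB g))) := by
  have h1 := LinearMap.finrank_range_add_finrank_ker
    (Algebra.lmul (A ⧸ p) (B ⧸ pB) (Ideal.Quotient.mk pB g))
  have h2 := Submodule.finrank_quotient_add_finrank
    (LinearMap.range (Algebra.lmul (A ⧸ p) (B ⧸ pB) (Ideal.Quotient.mk pB g)))
  omega

/-- the cokernel of multiplication by `g` on `B/pB` is `B/(pB + gB)`. -/
noncomputable def quotEquiv (g : B) :
    (B ⧸ (pB ⊔ Ideal.span {g})) ≃ₗ[A] ((B ⧸ pB) ⧸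
      LinearMap.range (Algebra.lmul (A ⧸ p) (B ⧸ pB) (Ideal.Quotient.mk pB g))) := by
  let P := LinearMap.range (Algebra.lmul (A ⧸ p) (B ⧸ pB) (Ideal.Quotient.mk pB g))
  let f : B →ₗ[A] ((B ⧸ pB) ⧸ P) :=
    (P.mkQ.restrictScalars A) ∘ₗ (IsScalarTower.toAlgHom A B (B ⧸ pB)).toLinearMap
  have hf : Function.Surjective f := by
    intro y
    obtain ⟨v, rfl⟩ := Submodule.Quotient.mk_surjective _ y
    obtain ⟨b, rfl⟩ := Ideal.Quotient.mk_surjective v
    exact ⟨b, rfl⟩
  have hk : LinearMap.ker f = (pB ⊔ Ideal.span {g}).restrictScalars A := by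
    ext b
    simp only [LinearMap.mem_ker, Submodule.restrictScalars_mem]
    change P.mkQ (Ideal.Quotient.mk pB b) = 0 ↔ _
    rw [Submodule.mkQ_apply, Submodule.Quotient.mk_eq_zero, LinearMap.mem_range]
    constructor
    · rintro ⟨v, hv⟩
      obtain ⟨b', rfl⟩ := Ideal.Quotient.mk_surjective v
      rw [Algebra.coe_lmul_eq_mul, LinearMap.mul_apply', ← map_mul, Ideal.Quotient.eq] at hv
      rw [Submodule.mem_sup]
      refine ⟨b - g * b', ?_, g * b', Ideal.mul_mem_right _ _ (Ideal.mem_span_singleton_self g),
        by ring⟩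
      have := (pB).neg_mem hv
      rwa [neg_sub] at this
    · intro hb
      rw [Submodule.mem_sup] at hb
      obtain ⟨y, hy, z, hz, rfl⟩ := hb
      obtain ⟨b', rfl⟩ := Ideal.mem_span_singleton'.1 hz
      refine ⟨Ideal.Quotient.mk pB b', ?_⟩
      rw [Algebra.coe_lmul_eq_mul, LinearMap.mul_apply', ← map_mul, Ideal.Quotient.eq]
      have : g * b' - (y + b' * g) = -y := by ring
      rw [this]
      exact (pB).neg_mem hy
  exact ((Submodule.Quotient.restrictScalarsEquiv A (pB ⊔ Ideal.span {g})).symm.trans
    (Submodule.quotEquivOfEq _ _ hk.symm)).trans (f.quotKerEquivOfSurjective hf)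

/-- the local length at `q` of the fibre. -/
noncomputable def len (A : Type u) [CommRing A] [IsLocalRing A] {B : Type u} [CommRing B]
    [Algebra A B] (q : MaximalSpectrum B) : ℕ∞ :=
  Module.length (Localization.AtPrime q.asIdeal) (Localization.AtPrime q.asIdeal ⧸
    (Ideal.map (algebraMap A B) (maximalIdeal A)).map (algebraMap B (Localization.AtPrime q.asIdeal)))

theorem length_quot_sup_eq_finrank_ker (g : B) :
    Module.length A (B ⧸ (pB ⊔ Ideal.span {g})) =
      (Module.finrank (A ⧸ p) (LinearMap.ker (Algebra.lmul (A ⧸ p) (B ⧸ pB)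
        (Ideal.Quotient.mk pB g))) : ℕ∞) := by
  rw [(quotEquiv g).length_eq, finrank_ker_eq_finrank_quot,
    Module.length_eq_of_surjective (S := A) (R := A ⧸ p) Ideal.Quotient.mk_surjective,
    Module.length_eq_finrank]

theorem length_quotient_map_ne_top : Module.length A (B ⧸ pB) ≠ ⊤ := by
  rw [Module.length_eq_of_surjective (S := A) (R := A ⧸ p) (M := B ⧸ pB)
    Ideal.Quotient.mk_surjective, Module.length_eq_finrank]
  exact ENat.natCast_ne_top _

theorem isFiniteLength_quot (J : Ideal B) (hJ : pB ≤ J) : IsFiniteLength B (B ⧸ J) := by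
  have h1 : Module.length A (B ⧸ J) ≠ ⊤ := by
    have hs : Function.Surjective ((Ideal.Quotient.factorₐ A hJ).toLinearMap) :=
      Ideal.Quotient.factor_surjective hJ
    exact ne_top_of_le_ne_top length_quotient_map_ne_top (Module.length_le_of_surjective _ hs)
  rw [Module.length_ne_top_iff, isFiniteLength_iff_isNoetherian_isArtinian] at h1
  obtain ⟨h2, h3⟩ := h1
  rw [isFiniteLength_iff_isNoetherian_isArtinian]
  exact ⟨isNoetherian_of_tower A h2, isArtinian_of_tower A h3⟩

variable (hres : ∀ (q : MaximalSpectrum B) (b : B), ∃ a : A, b - algebraMap A B a ∈ q.asIdeal)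
include hres

theorem finrank_quot_eq_one (q : MaximalSpectrum B) :
    Module.finrank (A ⧸ q.asIdeal.comap (algebraMap A B)) (B ⧸ q.asIdeal) = 1 := by
  haveI := q.isMaximal
  haveI : (q.asIdeal.comap (algebraMap A B)).IsMaximal := by
    rw [Groth.Agent.H63.Tame.comap_eq B q]; infer_instance
  letI := Ideal.Quotient.field (q.asIdeal.comap (algebraMap A B))
  have hs : Function.Surjective (Algebra.linearMap (A ⧸ q.asIdeal.comap (algebraMap A B))
      (B ⧸ q.asIdeal)) := by
    intro y
    obtain ⟨b, rfl⟩ := Ideal.Quotient.mk_surjective y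
    obtain ⟨a, ha⟩ := hres q b
    refine ⟨Ideal.Quotient.mk _ a, ?_⟩
    rw [Algebra.linearMap_apply]
    have e : algebraMap (A ⧸ q.asIdeal.comap (algebraMap A B)) (B ⧸ q.asIdeal)
        (Ideal.Quotient.mk _ a) = Ideal.Quotient.mk q.asIdeal (algebraMap A B a) := rfl
    rw [e]
    exact (Ideal.Quotient.eq.2 ha).symm
  have hi : Function.Injective (Algebra.linearMap (A ⧸ q.asIdeal.comap (algebraMap A B))
      (B ⧸ q.asIdeal)) := (algebraMap (A ⧸ q.asIdeal.comap (algebraMap A B))
      (B ⧸ q.asIdeal)).injective
  rw [← (LinearEquiv.ofBijective _ ⟨hi, hs⟩).finrank_eq, Module.finrank_self]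

theorem length_quot_eq_finsum (J : Ideal B) (hJ : pB ≤ J) :
    Module.length A (B ⧸ J) = ∑ᶠ q : MaximalSpectrum B,
      Module.length (Localization.AtPrime q.asIdeal)
        (Localization.AtPrime q.asIdeal ⧸ J.map (algebraMap B (Localization.AtPrime q.asIdeal))) := by
  haveI := Groth.Agent.H63.Tame.finite_maximalSpectrum (A := A) B
  rw [Groth.Agent.S6320.result (Groth.Agent.H63.Tame.comap_eq B)
    (Groth.Agent.H63.Tame.finite_quot B) (B ⧸ J) (isFiniteLength_quot J hJ)]
  refine finsum_congr fun q => ?_
  haveI := q.isMaximal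
  rw [finrank_quot_eq_one hres q, length_localizedModule_quot q.asIdeal J, Nat.cast_one, one_mul]

open scoped Classical in
theorem sum_len_le_finrank_ker [Fintype (MaximalSpectrum B)] (x : B) (c : A) (N : ℕ)
    (hN : ∀ q : MaximalSpectrum B, maximalIdeal (Localization.AtPrime q.asIdeal) ^ N ≤
      (pB).map (algebraMap B (Localization.AtPrime q.asIdeal))) :
    ∑ q ∈ Finset.univ.filter (fun q : MaximalSpectrum B => x - algebraMap A B c ∈ q.asIdeal),
        len A q ≤
      (Module.finrank (A ⧸ p) (LinearMap.ker (Algebra.lmul (A ⧸ p) (B ⧸ pB)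
        (Ideal.Quotient.mk pB ((x - algebraMap A B c) ^ N)))) : ℕ∞) := by
  rw [← length_quot_sup_eq_finrank_ker, length_quot_eq_finsum hres _ le_sup_left,
    finsum_eq_sum_of_fintype]
  refine le_trans (le_of_eq ?_) (Finset.sum_le_sum_of_subset (Finset.filter_subset (fun q : MaximalSpectrum B => x - algebraMap A B c ∈ q.asIdeal) Finset.univ))
  refine Finset.sum_congr rfl fun q hq => ?_
  rw [Finset.mem_filter] at hq
  haveI := q.isMaximal
  have hmem : algebraMap B (Localization.AtPrime q.asIdeal) ((x - algebraMap A B c) ^ N) ∈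
      (pB).map (algebraMap B (Localization.AtPrime q.asIdeal)) := by
    apply hN q
    rw [map_pow]
    exact Ideal.pow_mem_pow
      ((IsLocalization.AtPrime.to_map_mem_maximal_iff _ q.asIdeal _).2 hq.2) N
  have hJ : (pB ⊔ Ideal.span {(x - algebraMap A B c) ^ N}).map
      (algebraMap B (Localization.AtPrime q.asIdeal)) =
      (pB).map (algebraMap B (Localization.AtPrime q.asIdeal)) := by
    rw [Ideal.map_sup, Ideal.map_span, Set.image_singleton, sup_eq_left,
      Ideal.span_singleton_le_iff_mem]
    exact hmem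
  unfold len
  rw [hJ]

theorem sum_len_eq_finrank [Fintype (MaximalSpectrum B)] :
    ∑ q : MaximalSpectrum B, len A q = (Module.finrank A B : ℕ∞) := by
  have h := length_quot_eq_finsum hres pB le_rfl
  rw [finsum_eq_sum_of_fintype] at h
  unfold len
  rw [← h, Module.length_eq_of_surjective (S := A) (R := A ⧸ p) Ideal.Quotient.mk_surjective,
    Module.length_eq_finrank, finrank_quotient_map]

theorem len_ne_top (q : MaximalSpectrum B) : len A q ≠ ⊤ := by
  classical
  haveI := Groth.Agent.H63.Tame.finite_maximalSpectrum (A := A) B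
  letI := Fintype.ofFinite (MaximalSpectrum B)
  have h := sum_len_eq_finrank hres
  intro hq
  have : ∑ q : MaximalSpectrum B, len A q = ⊤ := by
    rw [← Finset.add_sum_erase _ _ (Finset.mem_univ q), hq, top_add]
  rw [this] at h
  exact ENat.top_ne_natCast _ h

theorem sum_toNat_len [Fintype (MaximalSpectrum B)] :
    ∑ q : MaximalSpectrum B, (len A q).toNat = Module.finrank A B := by
  have h := sum_len_eq_finrank hres
  have h2 : ∀ q : MaximalSpectrum B, len A q = ((len A q).toNat : ℕ∞) := fun q =>
    (ENat.natCast_toNat (len_ne_top hres q)).symm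
  rw [Finset.sum_congr rfl (fun q _ => h2 q), ← Nat.cast_sum] at h
  exact_mod_cast h

omit hres in
/-- **the characteristic polynomial modulo `p`** of multiplication by `x` on `B`. -/
theorem charpoly_map_eq_prod [Fintype (MaximalSpectrum B)] (N : ℕ)
    (hN : ∀ q : MaximalSpectrum B, maximalIdeal (Localization.AtPrime q.asIdeal) ^ N ≤
      (pB).map (algebraMap B (Localization.AtPrime q.asIdeal)))
    (cc : MaximalSpectrum B → B → A ⧸ p)
    (hc : ∀ q x, ∃ a : A, x - algebraMap A B a ∈ q.asIdeal ∧ cc q x = Ideal.Quotient.mk p a)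
    (x : B) :
    ((Algebra.lmul A B x).charpoly).map (Ideal.Quotient.mk p) =
      ∏ q : MaximalSpectrum B, (X - C (cc q x)) ^ (len A q).toNat := by
  classical
  have hres : ∀ (q : MaximalSpectrum B) (b : B), ∃ a : A, b - algebraMap A B a ∈ q.asIdeal :=
    fun q b => (hc q b).imp fun a h => h.1
  rw [← charpoly_quotient_mk]
  set χ := (Algebra.lmul (A ⧸ p) (B ⧸ pB) (Ideal.Quotient.mk pB x)).charpoly with hχ
  set P : (A ⧸ p)[X] := ∏ q : MaximalSpectrum B, (X - C (cc q x)) ^ (len A q).toNat with hP
  have hPm : P.Monic := monic_prod_of_monic _ _ fun q _ => (monic_X_sub_C _).pow _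
  have hχm : χ.Monic := LinearMap.charpoly_monic _
  have hPdeg : P.natDegree = Module.finrank A B := by
    rw [hP, natDegree_prod_of_monic _ _ fun q _ => (monic_X_sub_C _).pow _]
    simp only [(monic_X_sub_C _).natDegree_pow, natDegree_X_sub_C, mul_one]
    exact sum_toNat_len hres
  have hχdeg : χ.natDegree = Module.finrank A B := by
    rw [hχ, LinearMap.charpoly_natDegree, finrank_quotient_map]
  have hPs : P.Splits := by
    rw [hP]
    exact Splits.prod fun q _ => (Splits.X_sub_C _).pow _
  have hroots : P.roots ≤ χ.roots := by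
    rw [Multiset.le_iff_count]
    intro μ
    obtain ⟨c, rfl⟩ := Ideal.Quotient.mk_surjective μ
    rw [count_roots χ, hP, roots_prod _ _ (hP ▸ hPm.ne_zero), Multiset.count_bind]
    simp only [roots_pow, roots_X_sub_C, Multiset.count_nsmul, Multiset.count_singleton]
    change (∑ q : MaximalSpectrum B, _) ≤ _
    simp only [mul_ite, mul_one, mul_zero]
    rw [← Finset.sum_filter]
    have hfil : Finset.univ.filter (fun q : MaximalSpectrum B => Ideal.Quotient.mk p c = cc q x) =
        Finset.univ.filter (fun q : MaximalSpectrum B => x - algebraMap A B c ∈ q.asIdeal) := by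
      ext q
      simp only [Finset.mem_filter, Finset.mem_univ, true_and]
      obtain ⟨a, ha, hca⟩ := hc q x
      rw [hca, Ideal.Quotient.eq, ← Groth.Agent.H63.Tame.comap_eq B q, Ideal.mem_comap, map_sub]
      constructor
      · intro h
        have := q.asIdeal.sub_mem ha h
        convert this using 1
        ring
      · intro h
        have := q.asIdeal.sub_mem ha h
        convert this using 1
        ring
    rw [hfil]
    have h1 := sum_len_le_finrank_ker hres x c N hN
    have h2 := finrank_ker_le_rootMultiplicity x c N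
    have h3 : ((∑ q ∈ Finset.univ.filter
        (fun q : MaximalSpectrum B => x - algebraMap A B c ∈ q.asIdeal), (len A q).toNat : ℕ) : ℕ∞) =
        ∑ q ∈ Finset.univ.filter
          (fun q : MaximalSpectrum B => x - algebraMap A B c ∈ q.asIdeal), len A q := by
      rw [Nat.cast_sum]
      exact Finset.sum_congr rfl fun q _ => ENat.natCast_toNat (len_ne_top hres q)
    rw [← h3] at h1
    exact (Nat.cast_le.1 h1).trans h2
  have hdvd : P ∣ χ := hPs.dvd_of_roots_le_roots hPm.ne_zero hroots
  exact eq_of_monic_of_dvd_of_natDegree_le hPm hχm hdvd (by rw [hPdeg, hχdeg])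

end Quot
end Groth.Agent.H63.NormTame
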