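import Mathlib
import Groth.Agent.H63.KeyA
import Groth.Agent.H63.NormTameA
import Groth.Agent.H63.LenOrd
import Groth.Agent.S1831
import Groth.Agent.S1832
import Groth.Agent.S1833

set_option autoImplicit false
set_option linter.style.haveILetI false
set_option linter.unusedSectionVars false
set_option linter.unusedVariables false
universe u w

namespace Groth.Agent.H63.KeyF

open IsLocalRing CycAlg Pointwise Groth.Agent.H63.Glue

section PerH
variable {A : Type u} [CommRing A] {N : Type*} [AddCommGroup N] [Module A N]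

theorem perH_smul_eq_zero (φ ψ : N →ₗ[A] N) (y : A) (hy : ∀ n : N, y • n = 0) (z : perH φ ψ) :
    y • z = 0 := by
  induction z using Submodule.Quotient.induction_on with
  | H z =>
    rw [← Submodule.Quotient.mk_smul]
    have : y • z = 0 := Subtype.ext (hy z.1)
    rw [this, Submodule.Quotient.mk_zero]

theorem perH_exists_smul (φ ψ : N →ₗ[A] N) (S : Set A)
    (hloc : ∀ n : N, φ n = 0 → ∃ s ∈ S, s • n ∈ LinearMap.range ψ) (z : perH φ ψ) :
    ∃ s ∈ S, s • z = 0 := by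
  induction z using Submodule.Quotient.induction_on with
  | H z =>
    obtain ⟨s, hs, hsz⟩ := hloc z.1 z.2
    refine ⟨s, hs, ?_⟩
    rw [← Submodule.Quotient.mk_smul, Submodule.Quotient.mk_eq_zero]
    exact hsz

theorem length_perH_zero_left {P : Type*} [AddCommGroup P] [Module A P] (τ : P →ₗ[A] P) :
    Module.length A (perH (0 : P →ₗ[A] P) τ) = Module.length A (P ⧸ LinearMap.range τ) := by
  let f : ↥(LinearMap.ker (0 : P →ₗ[A] P)) ≃ₗ[A] P :=
    (LinearEquiv.ofEq _ _ LinearMap.ker_zero).trans Submodule.topEquiv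
  refine (Submodule.Quotient.equiv _ _ f ?_).length_eq
  ext n
  constructor
  · rintro ⟨⟨m, hm⟩, hmem, rfl⟩
    exact hmem
  · intro hn
    exact ⟨⟨n, by simp⟩, hn, rfl⟩

theorem subsingleton_perH_of_le (φ ψ : N →ₗ[A] N) (hle : LinearMap.ker φ ≤ LinearMap.range ψ) :
    Subsingleton (perH φ ψ) := by
  rw [Submodule.Quotient.subsingleton_iff]
  rw [eq_top_iff]
  intro z _
  exact hle z.2

theorem herbrand_eq_zero_of_exact (φ ψ : N →ₗ[A] N) (h1 : LinearMap.ker φ ≤ LinearMap.range ψ)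
    (h2 : LinearMap.ker ψ ≤ LinearMap.range φ) :
    FinCoh A φ ψ ∧ herbrand A φ ψ = 0 := by
  haveI := subsingleton_perH_of_le φ ψ h1
  haveI := subsingleton_perH_of_le ψ φ h2
  have e1 : Module.length A (perH φ ψ) = 0 := Module.length_eq_zero
  have e2 : Module.length A (perH ψ φ) = 0 := Module.length_eq_zero
  refine ⟨⟨by rw [e1]; exact WithTop.top_pos, by rw [e2]; exact WithTop.top_pos⟩, ?_⟩
  unfold herbrand
  rw [e1, e2]
  simp

end PerH

section Local
variable {A : Type u} [CommRing A] [IsLocalRing A] [IsNoetherianRing A] {t : A} {ι : Type w}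
  {q : ι → Ideal A} [hqp : ∀ i, (q i).IsPrime]

/-- the module `A / (tA_𝔮 ∩ A)`. -/
abbrev NQ (𝔮 : Ideal A) [𝔮.IsPrime] (t : A) : Type u := A ⧸ Qq 𝔮 t

theorem Qq_smul_eq_zero (𝔮 : Ideal A) [𝔮.IsPrime] {y : A} (hy : y ∈ Qq 𝔮 t) (n : NQ 𝔮 t) :
    y • n = 0 := by
  induction n using Submodule.Quotient.induction_on with
  | H z =>
    rw [← Submodule.Quotient.mk_smul, Submodule.Quotient.mk_eq_zero, smul_eq_mul]
    exact (Qq 𝔮 t).mul_mem_right z hy

/-- local exactness of a pair of scalars on `A / Q`. -/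
theorem locally_exact_of (𝔮 : Ideal A) [𝔮.IsPrime] (w₁ w₂ : A)
    (hw : ∀ y : A, w₁ * y ∈ Qq 𝔮 t → ∃ s, s ∉ 𝔮 ∧ ∃ y', s * y - w₂ * y' ∈ Qq 𝔮 t) :
    ∀ n : NQ 𝔮 t, zmul (NQ 𝔮 t) w₁ n = 0 →
      ∃ s ∈ {s : A | s ∉ 𝔮}, s • n ∈ LinearMap.range (zmul (NQ 𝔮 t) w₂) := by
  intro n hn
  induction n using Submodule.Quotient.induction_on with
  | H z =>
    have h1 : w₁ * z ∈ Qq 𝔮 t := by
      have : zmul (NQ 𝔮 t) w₁ (Submodule.Quotient.mk z) = Submodule.Quotient.mk (w₁ * z) := by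
        change w₁ • (Submodule.Quotient.mk z : NQ 𝔮 t) = _
        rw [← Submodule.Quotient.mk_smul, smul_eq_mul]
      rw [this, Submodule.Quotient.mk_eq_zero] at hn
      exact hn
    obtain ⟨s, hs, y', hy'⟩ := hw z h1
    refine ⟨s, hs, Submodule.Quotient.mk y', ?_⟩
    have e1 : zmul (NQ 𝔮 t) w₂ (Submodule.Quotient.mk y') = Submodule.Quotient.mk (w₂ * y') := by
      change w₂ • (Submodule.Quotient.mk y' : NQ 𝔮 t) = _
      rw [← Submodule.Quotient.mk_smul, smul_eq_mul]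
    rw [e1, ← Submodule.Quotient.mk_smul, eq_comm, Submodule.Quotient.eq, smul_eq_mul]
    exact hy'

theorem length_perH_lt_top (h : Ctx t q) (i : ι) (φ ψ : NQ (q i) t →ₗ[A] NQ (q i) t)
    (hloc : ∀ n : NQ (q i) t, φ n = 0 →
      ∃ s ∈ {s : A | s ∉ q i}, s • n ∈ LinearMap.range ψ) :
    Module.length A (perH φ ψ) < ⊤ := by
  refine length_lt_top_of h i (perH φ ψ) ?_ ?_
  · intro y hy z
    exact perH_smul_eq_zero φ ψ y (fun n => Qq_smul_eq_zero (q i) hy n) z
  · intro z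
    obtain ⟨s, hs, hsz⟩ := perH_exists_smul φ ψ {s : A | s ∉ q i} hloc z
    exact ⟨s, hs, hsz⟩

end Local

end Groth.Agent.H63.KeyF
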