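import Mathlib
import Groth.Agent.H63.KeyB

set_option autoImplicit false
set_option linter.style.haveILetI false
set_option linter.unusedSectionVars false
set_option linter.unusedVariables false
universe u w

namespace Groth.Agent.H63.KeyF

open IsLocalRing CycAlg Pointwise Groth.Agent.H63.Glue

section Local
variable {A : Type u} [CommRing A] [IsLocalRing A] [IsNoetherianRing A] {t : A} {ι : Type w}
  {q : ι → Ideal A} [hqp : ∀ i, (q i).IsPrime]

theorem finCoh_ab (h : Ctx t q) (i : ι) {a b : A} (ha : a ∈ nonZeroDivisors A)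
    (hb : b ∈ nonZeroDivisors A) (ht : t = a * b) :
    FinCoh A (zmul (NQ (q i) t) a) (zmul (NQ (q i) t) b) := by
  constructor
  · apply length_perH_lt_top h i
    apply locally_exact_of
    intro y hy
    obtain ⟨s, hs, c, hc⟩ := hy
    refine ⟨s, hs, c, ?_⟩
    have h1 : a * (s * y - b * c) = 0 := by
      rw [ht] at hc
      linear_combination hc
    have h2 : s * y - b * c = 0 := (mem_nonZeroDivisors_iff.1 ha).1 _ h1
    rw [h2]
    exact zero_mem _
  · apply length_perH_lt_top h i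
    apply locally_exact_of
    intro y hy
    obtain ⟨s, hs, c, hc⟩ := hy
    refine ⟨s, hs, c, ?_⟩
    have h1 : b * (s * y - a * c) = 0 := by
      rw [ht] at hc
      linear_combination hc
    have h2 : s * y - a * c = 0 := (mem_nonZeroDivisors_iff.1 hb).1 _ h1
    rw [h2]
    exact zero_mem _

theorem isPeriodic_of_mul_mem (𝔮 : Ideal A) [𝔮.IsPrime] {w₁ w₂ : A} (hw : w₁ * w₂ ∈ Qq 𝔮 t) :
    IsPeriodic (zmul (NQ 𝔮 t) w₁) (zmul (NQ 𝔮 t) w₂) := by
  constructor
  · refine LinearMap.ext fun n => ?_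
    change w₁ • w₂ • n = 0
    rw [smul_smul]
    exact Qq_smul_eq_zero 𝔮 hw _
  · refine LinearMap.ext fun n => ?_
    change w₂ • w₁ • n = 0
    rw [smul_smul, mul_comm]
    exact Qq_smul_eq_zero 𝔮 hw _

variable {a b : A}

theorem LocData.rel {𝔮 : Ideal A} (D : LocData 𝔮 a b) (ht : t = a * b) :
    (D.a' * D.b') * t = (D.a'' * D.b'') * D.x ^ (D.e + D.f) := by
  rw [ht, pow_add]
  linear_combination (D.b' * b) * D.eqa + (D.a'' * D.x ^ D.e) * D.eqb

theorem LocData.pow_mem_Qq {𝔮 : Ideal A} [h𝔮 : 𝔮.IsPrime] (D : LocData 𝔮 a b) (ht : t = a * b) :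
    D.x ^ (D.e + D.f) ∈ Qq 𝔮 t :=
  ⟨D.a'' * D.b'', fun hmem => (h𝔮.mem_or_mem hmem).elim D.ha'' D.hb'', D.a' * D.b', by
    rw [← D.rel ht]; ring⟩

theorem LocData.pos {𝔮 : Ideal A} [h𝔮 : 𝔮.IsPrime] (D : LocData 𝔮 a b) (ht : t = a * b)
    (htq : t ∈ 𝔮) : 0 < D.e + D.f := by
  by_contra hcon
  have h0 : D.e + D.f = 0 := by omega
  have h1 := D.rel ht
  rw [h0, pow_zero, mul_one] at h1
  have h2 : D.a'' * D.b'' ∈ 𝔮 := by
    rw [← h1]
    exact 𝔮.mul_mem_left _ htq
  exact (h𝔮.mem_or_mem h2).elim D.ha'' D.hb''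

theorem pow_main (h : Ctx t q) (i : ι) (ht : t = a * b) (D : LocData (q i) a b) :
    FinCoh A (zmul (NQ (q i) t) (D.x ^ D.e)) (zmul (NQ (q i) t) (D.x ^ D.f)) ∧
      herbrand A (zmul (NQ (q i) t) (D.x ^ D.e)) (zmul (NQ (q i) t) (D.x ^ D.f)) = 0 := by
  have hpos := D.pos ht (h.mem i)
  have hxn := D.pow_mem_Qq (t := t) ht
  have hφ : (zmul (NQ (q i) t) D.x) ^ (D.e + D.f) = 0 := by
    rw [zmul_pow]
    refine LinearMap.ext fun n => ?_
    exact Qq_smul_eq_zero (q i) hxn n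
  have hfin : Module.length A
      (perH (zmul (NQ (q i) t) D.x) ((zmul (NQ (q i) t) D.x) ^ (D.e + D.f - 1))) < ⊤ := by
    rw [zmul_pow]
    apply length_perH_lt_top h i
    apply locally_exact_of
    intro y hy
    obtain ⟨s₁, hs₁, c, hc⟩ := hy
    have hrel := D.rel ht
    have hn : D.x ^ (D.e + D.f) = D.x * D.x ^ (D.e + D.f - 1) := by
      rw [← pow_succ', Nat.sub_add_cancel hpos]
    have h1 : D.x * (D.a' * D.b' * s₁ * y - D.a'' * D.b'' * D.x ^ (D.e + D.f - 1) * c) = 0 := by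
      rw [hn] at hrel
      linear_combination (D.a' * D.b') * hc + c * hrel
    obtain ⟨s₂, hs₂, h2⟩ := D.reg _ h1
    refine ⟨s₂ * (D.a' * D.b' * s₁), ?_, s₂ * (D.a'' * D.b'' * c), ?_⟩
    · intro hmem
      rcases (hqp i).mem_or_mem hmem with h3 | h3
      · exact hs₂ h3
      · rcases (hqp i).mem_or_mem h3 with h4 | h4
        · rcases (hqp i).mem_or_mem h4 with h5 | h5
          · exact D.ha' h5
          · exact D.hb' h5
        · exact hs₁ h4
    · have : s₂ * (D.a' * D.b' * s₁) * y - D.x ^ (D.e + D.f - 1) * (s₂ * (D.a'' * D.b'' * c)) = 0 := by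
        linear_combination h2
      rw [this]
      exact zero_mem _
  have := Groth.Agent.S1831.result (zmul (NQ (q i) t) D.x) (D.e + D.f) hpos hφ hfin D.e
    (Nat.le_add_right _ _)
  rw [Nat.add_sub_cancel_left, zmul_pow, zmul_pow] at this
  exact this

end Local

end Groth.Agent.H63.KeyF
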