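import Mathlib
import Groth.Agent.H63.KeyC

set_option autoImplicit false
set_option linter.style.haveILetI false
set_option linter.unusedSectionVars false
set_option linter.unusedVariables false
universe u w

namespace Groth.Agent.H63.KeyF

open IsLocalRing CycAlg Pointwise Groth.Agent.H63.Glue

section Eterm
variable {A : Type u} [CommRing A] [IsLocalRing A] [IsNoetherianRing A] {t : A} {ι : Type w}
  {q : ι → Ideal A} [hqp : ∀ i, (q i).IsPrime]

theorem support_cases (h : Ctx t q) (i : ι) (P : Type*) [AddCommGroup P] [Module A P]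
    (h1 : ∀ y ∈ Qq (q i) t, ∀ z : P, y • z = 0) :
    ∀ p ∈ Module.support A P, p.asIdeal = maximalIdeal A ∨ p.asIdeal = q i := by
  intro p hp
  rw [Module.mem_support_iff_exists_annihilator] at hp
  obtain ⟨z, hz⟩ := hp
  have htp : t ∈ p.asIdeal := by
    apply hz
    rw [Submodule.mem_annihilator_span_singleton]
    exact h1 t (t_mem_Qq _ t) z
  rcases h.cover p.asIdeal p.2 htp with hm | ⟨j, hj⟩
  · exact Or.inl hm
  · right
    by_cases hij : i = j
    · rw [hj, hij]
    · exfalso
      obtain ⟨y, hy, hyj⟩ := exists_mem_Qq_notMem h hij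
      apply hyj
      rw [← hj]
      apply hz
      rw [Submodule.mem_annihilator_span_singleton]
      exact h1 y hy z

theorem supportDim_le_one_of (h : Ctx t q) (i : ι) (P : Type*) [AddCommGroup P] [Module A P]
    (hs : ∀ p ∈ Module.support A P, p.asIdeal = maximalIdeal A ∨ p.asIdeal = q i) :
    Module.supportDim A P ≤ 1 := by
  unfold Module.supportDim
  rw [Order.krullDim_le_one_iff]
  intro x
  rcases hs x x.2 with hx | hx
  · right
    intro y hxy
    change y.1.asIdeal ≤ x.1.asIdeal
    rw [hx]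
    exact le_maximalIdeal y.1.2.ne_top
  · left
    intro y hyx
    change x.1.asIdeal ≤ y.1.asIdeal
    rcases hs y y.2 with hy | hy
    · rw [hy]
      exact le_maximalIdeal x.1.2.ne_top
    · rw [hx, hy]

theorem finsum_eq_single (h : Ctx t q) (i : ι) (P : Type*) [AddCommGroup P] [Module A P]
    (hs : ∀ p ∈ Module.support A P, p.asIdeal = maximalIdeal A ∨ p.asIdeal = q i)
    (G : PrimeSpectrum A → ℕ∞) (hG : ∀ p, p ∉ Module.support A P → G p = 0) :
    ∑ᶠ (p : PrimeSpectrum A)
      (_ : p ∈ Module.support A P ∧ p.asIdeal ≠ maximalIdeal A), G p = G ⟨q i, hqp i⟩ := by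
  by_cases hq : (⟨q i, hqp i⟩ : PrimeSpectrum A) ∈ Module.support A P
  · have hset : {p : PrimeSpectrum A | p ∈ Module.support A P ∧ p.asIdeal ≠ maximalIdeal A} =
        {⟨q i, hqp i⟩} := by
      ext p
      simp only [Set.mem_setOf_eq, Set.mem_singleton_iff]
      constructor
      · rintro ⟨hp, hpm⟩
        rcases hs p hp with h1 | h1
        · exact absurd h1 hpm
        · exact PrimeSpectrum.ext h1
      · rintro rfl
        exact ⟨hq, h.ne_max i⟩
    have : ∑ᶠ (p : PrimeSpectrum A)
        (_ : p ∈ Module.support A P ∧ p.asIdeal ≠ maximalIdeal A), G p =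
        ∑ᶠ p ∈ {p : PrimeSpectrum A | p ∈ Module.support A P ∧ p.asIdeal ≠ maximalIdeal A},
          G p := rfl
    rw [this, hset, finsum_mem_singleton]
  · rw [hG _ hq]
    have hno : ∀ p : PrimeSpectrum A,
        ¬ (p ∈ Module.support A P ∧ p.asIdeal ≠ maximalIdeal A) := by
      rintro p ⟨hp1, hp2⟩
      rcases hs p hp1 with h1 | h1
      · exact hp2 h1
      · apply hq
        have : p = ⟨q i, hqp i⟩ := PrimeSpectrum.ext h1
        rw [← this]
        exact hp1
    simp [hno]

theorem Eterm_eq (h : Ctx t q) (i : ι) (φ : NQ (q i) t →ₗ[A] NQ (q i) t) (z : A) (hz : z ∉ q i) :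
    herbrand A (0 : ↥(LinearMap.range φ) →ₗ[A] ↥(LinearMap.range φ)) (z • LinearMap.id) =
      ordq (q i) z * ((Module.length (Localization.AtPrime (q i))
        (LocalizedModule (q i).primeCompl ↥(LinearMap.range φ))).toNat : ℤ) := by
  have hQ : ∀ y ∈ Qq (q i) t, ∀ p : ↥(LinearMap.range φ), y • p = 0 :=
    fun y hy p => Subtype.ext (Qq_smul_eq_zero (q i) hy p.1)
  have hcases := support_cases h i ↥(LinearMap.range φ) hQ
  have h1 : Module.supportDim A ↥(LinearMap.range φ) ≤ 1 := supportDim_le_one_of h i _ hcases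
  have hQ' : ∀ y ∈ Qq (q i) t,
      ∀ p : ↥(LinearMap.range φ) ⧸ z • (⊤ : Submodule A ↥(LinearMap.range φ)), y • p = 0 := by
    intro y hy p
    induction p using Submodule.Quotient.induction_on with
    | H p => rw [← Submodule.Quotient.mk_smul, hQ y hy p, Submodule.Quotient.mk_zero]
  have hz' : ∀ p : ↥(LinearMap.range φ) ⧸ z • (⊤ : Submodule A ↥(LinearMap.range φ)),
      ∃ s, s ∉ q i ∧ s • p = 0 := by
    intro p
    refine ⟨z, hz, ?_⟩
    induction p using Submodule.Quotient.induction_on with
    | H p =>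
      rw [← Submodule.Quotient.mk_smul, Submodule.Quotient.mk_eq_zero]
      exact Submodule.smul_mem_pointwise_smul _ _ _ Submodule.mem_top
  have h0 : Module.supportDim A
      (↥(LinearMap.range φ) ⧸ z • (⊤ : Submodule A ↥(LinearMap.range φ))) ≤ 0 :=
    supportDim_le_zero_of _ (support_subset h i _ hQ' hz')
  have key := Groth.Agent.S1833.result A ↥(LinearMap.range φ) z h1 h0
  rw [finsum_eq_single h i ↥(LinearMap.range φ) hcases
    (fun p => Ring.ord (A ⧸ p.asIdeal) (Ideal.Quotient.mk p.asIdeal z) *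
      Module.length (Localization.AtPrime p.asIdeal)
        (LocalizedModule p.asIdeal.primeCompl ↥(LinearMap.range φ))) ?_] at key
  swap
  · intro p hp
    rw [Module.notMem_support_iff] at hp
    rw [Module.length_eq_zero, mul_zero]
  have hLfin : Module.length A
      (↥(LinearMap.range φ) ⧸ z • (⊤ : Submodule A ↥(LinearMap.range φ))) < ⊤ :=
    length_lt_top_of h i _ hQ' hz'
  have hzid : (z • LinearMap.id : ↥(LinearMap.range φ) →ₗ[A] ↥(LinearMap.range φ)) =
      LinearMap.lsmul A ↥(LinearMap.range φ) z := LinearMap.ext fun _ => rfl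
  have eL : Module.length A (perH (0 : ↥(LinearMap.range φ) →ₗ[A] ↥(LinearMap.range φ))
      (z • LinearMap.id)) =
      Module.length A (↥(LinearMap.range φ) ⧸ z • (⊤ : Submodule A ↥(LinearMap.range φ))) := by
    rw [length_perH_zero_left, hzid]
    exact (Submodule.quotEquivOfEq _ _
      (Groth.Agent.H63.LenOrd.range_lsmul (M := ↥(LinearMap.range φ)) z)).length_eq
  have eK : Module.length A (perH (z • LinearMap.id :
      ↥(LinearMap.range φ) →ₗ[A] ↥(LinearMap.range φ)) 0) =
      Module.length A (LinearMap.ker (LinearMap.lsmul A ↥(LinearMap.range φ) z)) := by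
    rw [Groth.Agent.H63.HerbSmul.length_perH_zero', hzid]
  unfold herbrand
  rw [eL, eK, key]
  rw [key] at hLfin
  obtain ⟨hK, hF⟩ := ENat.add_lt_top.1 hLfin
  rw [ENat.toNat_add hK.ne hF.ne, ENat.toNat_mul]
  unfold ordq
  push_cast
  ring

end Eterm

end Groth.Agent.H63.KeyF
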