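import Mathlib
import Groth.Agent.H63.KeyD

set_option autoImplicit false
set_option linter.style.haveILetI false
set_option linter.unusedSectionVars false
set_option linter.unusedVariables false
universe u w

namespace Groth.Agent.H63.KeyF

open IsLocalRing CycAlg Pointwise Groth.Agent.H63.Glue

section Loc
variable {A : Type u} [CommRing A] [IsLocalRing A] [IsNoetherianRing A] {t : A} {ι : Type w}
  {q : ι → Ideal A} [hqp : ∀ i, (q i).IsPrime]

theorem algebraMap_mem_nonZeroDivisors_of_reg (𝔮 : Ideal A) [𝔮.IsPrime] (x : A)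
    (hreg : ∀ c, x * c = 0 → ∃ s, s ∉ 𝔮 ∧ s * c = 0) :
    algebraMap A (Localization.AtPrime 𝔮) x ∈ nonZeroDivisors (Localization.AtPrime 𝔮) := by
  rw [mem_nonZeroDivisors_iff_right]
  intro r hr
  obtain ⟨⟨c, s⟩, hcs⟩ := IsLocalization.surj 𝔮.primeCompl r
  have h1 : algebraMap A (Localization.AtPrime 𝔮) (x * c) = 0 := by
    rw [map_mul, ← hcs]
    calc algebraMap A (Localization.AtPrime 𝔮) x * (r * algebraMap A _ (s : A))
        = (r * algebraMap A _ x) * algebraMap A _ (s : A) := by ring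
      _ = 0 := by rw [hr, zero_mul]
  obtain ⟨s', hs'⟩ := (IsLocalization.map_eq_zero_iff 𝔮.primeCompl _ (x * c)).1 h1
  obtain ⟨s'', hs'', h2⟩ := hreg ((s' : A) * c) (by rw [mul_left_comm]; exact hs')
  have h3 : algebraMap A (Localization.AtPrime 𝔮) c = 0 := by
    rw [IsLocalization.map_eq_zero_iff 𝔮.primeCompl]
    exact ⟨⟨s'', hs''⟩ * s', by simpa [mul_assoc] using h2⟩
  have hu : IsUnit (algebraMap A (Localization.AtPrime 𝔮) (s : A)) := IsLocalization.map_units _ s
  apply hu.mul_left_eq_zero.1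
  rw [hcs, h3]

theorem length_localized_range (i : ι) (w w' s₁ s₂ : A) (hs₁ : s₁ ∉ q i) (hs₂ : s₂ ∉ q i)
    (hrel : w * w' * s₁ = t * s₂) (hreg : ∀ c, w * c = 0 → ∃ s, s ∉ q i ∧ s * c = 0) :
    Module.length (Localization.AtPrime (q i))
      (LocalizedModule (q i).primeCompl ↥(LinearMap.range (zmul (NQ (q i) t) w))) =
      Ring.ord (Localization.AtPrime (q i)) (algebraMap A (Localization.AtPrime (q i)) w') := by
  set g : A →ₗ[A] NQ (q i) t := (zmul (NQ (q i) t) w) ∘ₗ (Qq (q i) t).mkQ with hg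
  have hrange : LinearMap.range g = LinearMap.range (zmul (NQ (q i) t) w) :=
    LinearMap.range_comp_of_range_eq_top _ (Submodule.range_mkQ _)
  set J : Ideal A := LinearMap.ker g with hJdef
  have hJ : ∀ y, y ∈ J ↔ w * y ∈ Qq (q i) t := by
    intro y
    rw [hJdef, LinearMap.mem_ker]
    change w • (Submodule.Quotient.mk y : NQ (q i) t) = 0 ↔ _
    rw [← Submodule.Quotient.mk_smul, Submodule.Quotient.mk_eq_zero, smul_eq_mul]
  let eP : (A ⧸ J) ≃ₗ[A] ↥(LinearMap.range (zmul (NQ (q i) t) w)) :=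
    g.quotKerEquivRange.trans (LinearEquiv.ofEq _ _ hrange)
  let e1 : LocalizedModule (q i).primeCompl (A ⧸ J) ≃ₗ[A]
      LocalizedModule (q i).primeCompl ↥(LinearMap.range (zmul (NQ (q i) t) w)) :=
    IsLocalizedModule.linearEquiv (q i).primeCompl
      (LocalizedModule.mkLinearMap (q i).primeCompl (A ⧸ J))
      ((LocalizedModule.mkLinearMap (q i).primeCompl
        ↥(LinearMap.range (zmul (NQ (q i) t) w))) ∘ₗ eP.toLinearMap)
  let e2 := e1.extendScalarsOfIsLocalization (q i).primeCompl (Localization.AtPrime (q i))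
  rw [← e2.length_eq, Groth.Agent.H63.NormTame.length_localizedModule_quot (q i) J]
  have hmap : J.map (algebraMap A (Localization.AtPrime (q i))) =
      Ideal.span {algebraMap A (Localization.AtPrime (q i)) w'} := by
    apply le_antisymm
    · rw [Ideal.map_le_iff_le_comap]
      intro y hy
      rw [Ideal.mem_comap, Ideal.mem_span_singleton']
      obtain ⟨s, hs, c, hc⟩ := (hJ y).1 hy
      have h1 : w * (s * s₂ * y - w' * s₁ * c) = 0 := by
        linear_combination s₂ * hc - c * hrel
      obtain ⟨s', hs', h2⟩ := hreg _ h1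
      have hd : s' * s * s₂ ∈ (q i).primeCompl :=
        (q i).primeCompl.mul_mem ((q i).primeCompl.mul_mem hs' hs) hs₂
      refine ⟨IsLocalization.mk' (Localization.AtPrime (q i)) (s' * s₁ * c) ⟨s' * s * s₂, hd⟩, ?_⟩
      have hu : IsUnit (algebraMap A (Localization.AtPrime (q i)) (s' * s * s₂)) :=
        IsLocalization.map_units _ (⟨s' * s * s₂, hd⟩ : (q i).primeCompl)
      rw [← hu.mul_left_inj, mul_right_comm, IsLocalization.mk'_spec, ← map_mul, ← map_mul]
      congr 1
      linear_combination (-1 : A) * h2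
    · rw [Ideal.span_le, Set.singleton_subset_iff]
      exact Ideal.mem_map_of_mem _ ((hJ w').2 ⟨s₁, hs₁, s₂, by linear_combination hrel⟩)
  rw [hmap]
  rfl

end Loc

end Groth.Agent.H63.KeyF
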