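import Mathlib
import Groth.Agent.H63.KeyE

set_option autoImplicit false
set_option linter.style.haveILetI false
set_option linter.unusedSectionVars false
set_option linter.unusedVariables false
universe u w

namespace Groth.Agent.H63.KeyF

open IsLocalRing CycAlg Pointwise Groth.Agent.H63.Glue

section Loc
variable {A : Type u} [CommRing A] [IsLocalRing A] [IsNoetherianRing A] {t : A} {ι : Type w}
  {q : ι → Ideal A} [hqp : ∀ i, (q i).IsPrime] {a b : A}

theorem supportDim_quot_le_zero (h : Ctx t q) (i : ι) (z : A) (hz : z ∉ q i) :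
    Module.supportDim A (NQ (q i) t ⧸ z • (⊤ : Submodule A (NQ (q i) t))) ≤ 0 := by
  refine supportDim_le_zero_of _ (support_subset h i _ ?_ ?_)
  · intro y hy p
    induction p using Submodule.Quotient.induction_on with
    | H p => rw [← Submodule.Quotient.mk_smul, Qq_smul_eq_zero (q i) hy p, Submodule.Quotient.mk_zero]
  · intro p
    refine ⟨z, hz, ?_⟩
    induction p using Submodule.Quotient.induction_on with
    | H p =>
      rw [← Submodule.Quotient.mk_smul, Submodule.Quotient.mk_eq_zero]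
      exact Submodule.smul_mem_pointwise_smul _ _ _ Submodule.mem_top

theorem toNat_nsmul_ord (n : ℕ) (m : ℕ∞) : ((n • m).toNat : ℤ) = (n : ℤ) * (m.toNat : ℤ) := by
  rw [nsmul_eq_mul, ENat.toNat_mul, ENat.toNat_natCast]
  push_cast
  ring

/-- **the local Herbrand quotient**. -/
theorem herbrand_local (h : Ctx t q) (i : ι) (ha : a ∈ nonZeroDivisors A)
    (hb : b ∈ nonZeroDivisors A) (ht : t = a * b) (D : LocData (q i) a b) :
    herbrand A (zmul (NQ (q i) t) a) (zmul (NQ (q i) t) b) = - D.val := by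
  set N := NQ (q i) t with hN
  obtain ⟨fin0, e0⟩ := pow_main h i ht D
  have hxn := D.pow_mem_Qq (t := t) ht
  have per0 : IsPeriodic (zmul N (D.x ^ D.e)) (zmul N (D.x ^ D.f)) :=
    isPeriodic_of_mul_mem (q i) (by rw [← pow_add]; exact hxn)
  have S1 := (Groth.Agent.S1832.result _ _ per0 fin0 D.a''
    (supportDim_quot_le_zero h i D.a'' D.ha'')).1
  rw [smul_zmul] at S1
  have per1 : IsPeriodic (zmul N (D.a'' * D.x ^ D.e)) (zmul N (D.x ^ D.f)) :=
    isPeriodic_of_mul_mem (q i) (by
      rw [mul_assoc, ← pow_add]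
      exact (Qq (q i) t).mul_mem_left _ hxn)
  have S2 := (Groth.Agent.S1832.result _ _ per1 S1.1 D.b''
    (supportDim_quot_le_zero h i D.b'' D.hb'')).2
  rw [smul_zmul] at S2
  have perab : IsPeriodic (zmul N a) (zmul N b) :=
    isPeriodic_of_mul_mem (q i) (by rw [← ht]; exact t_mem_Qq _ t)
  have finab := finCoh_ab h i ha hb ht
  have S3 := (Groth.Agent.S1832.result _ _ perab finab D.a'
    (supportDim_quot_le_zero h i D.a' D.ha')).1
  rw [smul_zmul] at S3
  have per3 : IsPeriodic (zmul N (D.a' * a)) (zmul N b) :=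
    isPeriodic_of_mul_mem (q i) (by
      rw [mul_assoc, ← ht]
      exact (Qq (q i) t).mul_mem_left _ (t_mem_Qq _ t))
  have S4 := (Groth.Agent.S1832.result _ _ per3 S3.1 D.b'
    (supportDim_quot_le_zero h i D.b' D.hb')).2
  rw [smul_zmul] at S4
  -- the correction terms
  have hxR := algebraMap_mem_nonZeroDivisors_of_reg (q i) D.x D.reg
  have hrel := D.rel ht
  have n1 : D.a'' * D.b'' ∉ q i := fun hmem => ((hqp i).mem_or_mem hmem).elim D.ha'' D.hb''
  have n2 : D.a' * D.b' ∉ q i := fun hmem => ((hqp i).mem_or_mem hmem).elim D.ha' D.hb'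
  have one_nm : (1 : A) ∉ q i := (Ideal.ne_top_iff_one (q i)).1 (hqp i).ne_top
  have E1 := Eterm_eq h i (zmul N (D.x ^ D.e)) D.a'' D.ha''
  rw [length_localized_range i (D.x ^ D.e) (D.x ^ D.f) (D.a'' * D.b'') (D.a' * D.b') n1 n2
    (by rw [← pow_add]; linear_combination (-1 : A) * hrel) (D.reg_pow D.e), map_pow,
    Ring.ord_pow hxR, toNat_nsmul_ord] at E1
  have E2 := Eterm_eq h i (zmul N (D.x ^ D.f)) D.b'' D.hb''
  rw [length_localized_range i (D.x ^ D.f) (D.x ^ D.e) (D.a'' * D.b'') (D.a' * D.b') n1 n2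
    (by rw [← pow_add, add_comm]; linear_combination (-1 : A) * hrel) (D.reg_pow D.f), map_pow,
    Ring.ord_pow hxR, toNat_nsmul_ord] at E2
  have ordb : Ring.ord (Localization.AtPrime (q i)) (algebraMap A _ b) =
      D.f • Ring.ord (Localization.AtPrime (q i)) (algebraMap A _ D.x) := by
    have hu' : IsUnit (algebraMap A (Localization.AtPrime (q i)) D.b') :=
      IsLocalization.map_units _ (⟨D.b', D.hb'⟩ : (q i).primeCompl)
    have hu'' : IsUnit (algebraMap A (Localization.AtPrime (q i)) D.b'') :=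
      IsLocalization.map_units _ (⟨D.b'', D.hb''⟩ : (q i).primeCompl)
    have := congrArg (fun y => Ring.ord (Localization.AtPrime (q i)) (algebraMap A _ y)) D.eqb
    simp only [map_mul, map_pow] at this
    rw [Ring.ord_mul_of_isUnit_left hu', Ring.ord_mul_of_isUnit_left hu'',
      Ring.ord_pow hxR] at this
    exact this
  have orda : Ring.ord (Localization.AtPrime (q i)) (algebraMap A _ a) =
      D.e • Ring.ord (Localization.AtPrime (q i)) (algebraMap A _ D.x) := by
    have hu' : IsUnit (algebraMap A (Localization.AtPrime (q i)) D.a') :=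
      IsLocalization.map_units _ (⟨D.a', D.ha'⟩ : (q i).primeCompl)
    have hu'' : IsUnit (algebraMap A (Localization.AtPrime (q i)) D.a'') :=
      IsLocalization.map_units _ (⟨D.a'', D.ha''⟩ : (q i).primeCompl)
    have := congrArg (fun y => Ring.ord (Localization.AtPrime (q i)) (algebraMap A _ y)) D.eqa
    simp only [map_mul, map_pow] at this
    rw [Ring.ord_mul_of_isUnit_left hu', Ring.ord_mul_of_isUnit_left hu'',
      Ring.ord_pow hxR] at this
    exact this
  have rega : ∀ c, a * c = 0 → ∃ s, s ∉ q i ∧ s * c = 0 := fun c hc =>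
    ⟨1, one_nm, by rw [one_mul]; exact (mem_nonZeroDivisors_iff.1 ha).1 _ hc⟩
  have regb : ∀ c, b * c = 0 → ∃ s, s ∉ q i ∧ s * c = 0 := fun c hc =>
    ⟨1, one_nm, by rw [one_mul]; exact (mem_nonZeroDivisors_iff.1 hb).1 _ hc⟩
  have E3 := Eterm_eq h i (zmul N a) D.a' D.ha'
  rw [length_localized_range i a b 1 1 one_nm one_nm (by rw [ht]) rega, ordb,
    toNat_nsmul_ord] at E3
  have E4 := Eterm_eq h i (zmul N b) D.b' D.hb'
  rw [length_localized_range i b a 1 1 one_nm one_nm (by rw [ht]; ring) regb, orda,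
    toNat_nsmul_ord] at E4
  unfold LocData.val
  have T1 := S1.2
  have T2 := S2.2
  have T3 := S3.2
  have T4 := S4.2
  rw [D.eqa] at T3
  rw [D.eqa, D.eqb] at T4
  rw [E1, e0] at T1
  rw [E2, T1] at T2
  rw [E3] at T3
  rw [E4, T3, T2] at T4
  linear_combination (-1 : ℤ) * T4

end Loc

end Groth.Agent.H63.KeyF
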