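import Mathlib
import Groth.Agent.H63.KeyG
import Groth.Agent.S1870

set_option autoImplicit false
set_option linter.style.haveILetI false
set_option linter.unusedSectionVars false
set_option linter.unusedVariables false
universe u w

namespace Groth.Agent.H63.KeyF

open IsLocalRing CycAlg Pointwise Groth.Agent.H63.Glue

section Pi
variable {A : Type u} [CommRing A] {ι : Type w} [Fintype ι] (N : ι → Type u)
  [∀ i, AddCommGroup (N i)] [∀ i, Module A (N i)] (a b : A)

/-- the map from the kernel on the product to the product of cohomologies. -/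
noncomputable def piTheta :
    ↥(LinearMap.ker (zmul (∀ i, N i) a)) →ₗ[A] ∀ i, perH (zmul (N i) a) (zmul (N i) b) :=
  LinearMap.pi fun i =>
    (Submodule.mkQ _) ∘ₗ
      (LinearMap.codRestrict (LinearMap.ker (zmul (N i) a))
        ((LinearMap.proj i) ∘ₗ (LinearMap.ker (zmul (∀ i, N i) a)).subtype) (by
          intro ν
          rw [LinearMap.mem_ker]
          have := congrFun (LinearMap.mem_ker.1 ν.2) i
          exact this))

theorem piTheta_apply (ν : ↥(LinearMap.ker (zmul (∀ i, N i) a))) (i : ι) :
    piTheta N a b ν i = Submodule.Quotient.mk ⟨ν.1 i, by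
      rw [LinearMap.mem_ker]
      exact congrFun (LinearMap.mem_ker.1 ν.2) i⟩ := rfl

theorem piTheta_surjective : Function.Surjective (piTheta N a b) := by
  intro c
  choose n hn using fun i => Submodule.Quotient.mk_surjective _ (c i)
  refine ⟨⟨fun i => (n i).1, ?_⟩, ?_⟩
  · rw [LinearMap.mem_ker]
    funext i
    exact LinearMap.mem_ker.1 (n i).2
  · funext i
    rw [piTheta_apply, ← hn i]

theorem ker_piTheta : LinearMap.ker (piTheta N a b) =
    (LinearMap.range (zmul (∀ i, N i) b)).submoduleOf (LinearMap.ker (zmul (∀ i, N i) a)) := by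
  ext ν
  rw [LinearMap.mem_ker]
  change _ ↔ ν.1 ∈ LinearMap.range (zmul (∀ i, N i) b)
  constructor
  · intro hν
    have h1 : ∀ i, ∃ m : N i, zmul (N i) b m = ν.1 i := by
      intro i
      have := congrFun hν i
      rw [piTheta_apply, Pi.zero_apply, Submodule.Quotient.mk_eq_zero] at this
      exact this
    choose m hm using h1
    exact ⟨m, funext hm⟩
  · rintro ⟨m, hm⟩
    funext i
    rw [piTheta_apply, Pi.zero_apply, Submodule.Quotient.mk_eq_zero]
    exact ⟨m i, congrFun hm i⟩

theorem length_perH_pi :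
    Module.length A (perH (zmul (∀ i, N i) a) (zmul (∀ i, N i) b)) =
      ∑ i, Module.length A (perH (zmul (N i) a) (zmul (N i) b)) := by
  rw [← Module.length_pi_of_fintype]
  exact ((Submodule.quotEquivOfEq _ _ (ker_piTheta N a b).symm).trans
    ((piTheta N a b).quotKerEquivOfSurjective (piTheta_surjective N a b))).length_eq

theorem herbrand_pi (hfin : ∀ i, FinCoh A (zmul (N i) a) (zmul (N i) b)) :
    FinCoh A (zmul (∀ i, N i) a) (zmul (∀ i, N i) b) ∧
      herbrand A (zmul (∀ i, N i) a) (zmul (∀ i, N i) b) =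
        ∑ i, herbrand A (zmul (N i) a) (zmul (N i) b) := by
  have h1 := length_perH_pi N a b
  have h2 := length_perH_pi N b a
  have f1 : ∑ i, Module.length A (perH (zmul (N i) a) (zmul (N i) b)) < ⊤ :=
    ENat.sum_lt_top.2 fun i _ => (hfin i).1
  have f2 : ∑ i, Module.length A (perH (zmul (N i) b) (zmul (N i) a)) < ⊤ :=
    ENat.sum_lt_top.2 fun i _ => (hfin i).2
  refine ⟨⟨h1 ▸ f1, h2 ▸ f2⟩, ?_⟩
  unfold herbrand
  rw [h1, h2, Finset.sum_sub_distrib]
  congr 1
  · rw [← Nat.cast_sum]
    congr 1
    exact ENat.toNat_sum fun i _ => (hfin i).1.ne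
  · rw [← Nat.cast_sum]
    congr 1
    exact ENat.toNat_sum fun i _ => (hfin i).2.ne

end Pi

end Groth.Agent.H63.KeyF
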