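import Mathlib
import Groth.Agent.H63.KeyH

set_option autoImplicit false
set_option linter.style.haveILetI false
set_option linter.unusedSectionVars false
set_option linter.unusedVariables false
universe u

namespace Groth.Agent.H63.KeyF

open IsLocalRing CycAlg Pointwise Groth.Agent.H63.Glue

section Global
variable {A : Type u} [CommRing A] [IsLocalRing A] [IsNoetherianRing A] {t : A} {ι : Type u}
  {q : ι → Ideal A} [hqp : ∀ i, (q i).IsPrime] {a b : A}

theorem support_subset' (h : Ctx t q) (H : Type*) [AddCommGroup H] [Module A H]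
    (h1 : ∀ z : H, t • z = 0) (h2 : ∀ i, ∀ z : H, ∃ s, s ∉ q i ∧ s • z = 0) :
    ∀ p ∈ Module.support A H, p.asIdeal = maximalIdeal A := by
  intro p hp
  rw [Module.mem_support_iff_exists_annihilator] at hp
  obtain ⟨z, hz⟩ := hp
  have htp : t ∈ p.asIdeal := by
    apply hz
    rw [Submodule.mem_annihilator_span_singleton]
    exact h1 z
  rcases h.cover p.asIdeal p.2 htp with hm | ⟨j, hj⟩
  · exact hm
  · exfalso
    obtain ⟨s, hs, hsz⟩ := h2 j z
    apply hs
    rw [← hj]
    apply hz
    rw [Submodule.mem_annihilator_span_singleton]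
    exact hsz

theorem span_le_Qq (i : ι) : Ideal.span {t} ≤ Qq (q i) t :=
  (Ideal.span_singleton_le_iff_mem _).2 (t_mem_Qq _ t)

/-- the comparison map `A/(t) → ∏ A/Q_i`. -/
noncomputable def gmap (t : A) (q : ι → Ideal A) [∀ i, (q i).IsPrime] :
    (A ⧸ Ideal.span {t}) →ₗ[A] ∀ i, NQ (q i) t :=
  LinearMap.pi fun i => Submodule.factor (span_le_Qq i)

theorem gmap_mk (y : A) (i : ι) :
    gmap t q (Submodule.Quotient.mk y) i = Submodule.Quotient.mk y := rfl

variable [Fintype ι]

theorem length_ker_gmap (h : Ctx t q) : Module.length A (LinearMap.ker (gmap t q)) < ⊤ := by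
  refine Groth.Agent.H10.EPQ.length_lt_top_of_support_subset A _ (support_subset' h _ ?_ ?_)
  · rintro ⟨z, hz⟩
    apply Subtype.ext
    induction z using Submodule.Quotient.induction_on with
    | H y =>
      change t • (Submodule.Quotient.mk y : A ⧸ Ideal.span {t}) = 0
      rw [← Submodule.Quotient.mk_smul, Submodule.Quotient.mk_eq_zero, smul_eq_mul]
      exact Ideal.mul_mem_right _ _ (Ideal.subset_span rfl)
  · rintro i ⟨z, hz⟩
    induction z using Submodule.Quotient.induction_on with
    | H y =>
      have h1 : y ∈ Qq (q i) t := by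
        have := congrFun (LinearMap.mem_ker.1 hz) i
        rw [gmap_mk, Pi.zero_apply, Submodule.Quotient.mk_eq_zero] at this
        exact this
      obtain ⟨s, hs, c, hc⟩ := h1
      refine ⟨s, hs, Subtype.ext ?_⟩
      change s • (Submodule.Quotient.mk y : A ⧸ Ideal.span {t}) = 0
      rw [← Submodule.Quotient.mk_smul, Submodule.Quotient.mk_eq_zero, smul_eq_mul, hc]
      exact Ideal.mul_mem_right _ _ (Ideal.subset_span rfl)

theorem length_coker_gmap (h : Ctx t q) :
    Module.length A ((∀ i, NQ (q i) t) ⧸ LinearMap.range (gmap t q)) < ⊤ := by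
  classical
  refine Groth.Agent.H10.EPQ.length_lt_top_of_support_subset A _ (support_subset' h _ ?_ ?_)
  · intro z
    induction z using Submodule.Quotient.induction_on with
    | H ν =>
      rw [← Submodule.Quotient.mk_smul]
      have : t • ν = 0 := by
        funext i
        exact Qq_smul_eq_zero (q i) (t_mem_Qq _ t) (ν i)
      rw [this, Submodule.Quotient.mk_zero]
  · intro i₀ z
    induction z using Submodule.Quotient.induction_on with
    | H ν =>
      have hav : ∀ j, j ≠ i₀ → ∃ y, y ∈ Qq (q j) t ∧ y ∉ q i₀ :=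
        fun j hj => exists_mem_Qq_notMem h hj
      choose! yj hyj hyj' using hav
      set s := ∏ j ∈ Finset.univ.erase i₀, yj j with hs
      have hsq : s ∉ q i₀ := by
        rw [hs, Ideal.IsPrime.prod_mem_iff]
        rintro ⟨j, hj, hjq⟩
        exact hyj' j (Finset.ne_of_mem_erase hj) hjq
      have hsQ : ∀ j, j ≠ i₀ → s ∈ Qq (q j) t := by
        intro j hj
        have hmem : j ∈ Finset.univ.erase i₀ := Finset.mem_erase.2 ⟨hj, Finset.mem_univ j⟩
        rw [hs, ← Finset.mul_prod_erase _ yj hmem]
        exact (Qq (q j) t).mul_mem_right _ (hyj j hj)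
      obtain ⟨y₀, hy₀⟩ := Submodule.Quotient.mk_surjective _ (ν i₀)
      refine ⟨s, hsq, ?_⟩
      rw [← Submodule.Quotient.mk_smul, Submodule.Quotient.mk_eq_zero]
      refine ⟨Submodule.Quotient.mk (s * y₀), ?_⟩
      funext j
      rw [gmap_mk]
      by_cases hj : j = i₀
      · subst hj
        rw [Pi.smul_apply, ← hy₀, ← Submodule.Quotient.mk_smul, smul_eq_mul]
      · rw [Pi.smul_apply, Qq_smul_eq_zero (q j) (hsQ j hj), Submodule.Quotient.mk_eq_zero]
        exact (Qq (q j) t).mul_mem_right _ (hsQ j hj)

/-- **the factorized key lemma**: the local values sum to zero. -/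
theorem sum_val_eq_zero (h : Ctx t q) (ha : a ∈ nonZeroDivisors A) (hb : b ∈ nonZeroDivisors A)
    (ht : t = a * b) (D : ∀ i, LocData (q i) a b) : ∑ i, (D i).val = 0 := by
  set M := A ⧸ Ideal.span {t} with hM
  have hex1 : LinearMap.ker (zmul M a) ≤ LinearMap.range (zmul M b) := by
    intro m hm
    induction m using Submodule.Quotient.induction_on with
    | H y =>
      rw [LinearMap.mem_ker] at hm
      change a • (Submodule.Quotient.mk y : M) = 0 at hm
      rw [← Submodule.Quotient.mk_smul, Submodule.Quotient.mk_eq_zero, smul_eq_mul,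
        Ideal.mem_span_singleton'] at hm
      obtain ⟨c, hc⟩ := hm
      have h1 : a * (y - c * b) = 0 := by rw [ht] at hc; linear_combination (-1 : A) * hc
      have h2 : y = c * b := sub_eq_zero.1 ((mem_nonZeroDivisors_iff.1 ha).1 _ h1)
      refine ⟨Submodule.Quotient.mk c, ?_⟩
      change b • (Submodule.Quotient.mk c : M) = _
      rw [← Submodule.Quotient.mk_smul, smul_eq_mul, h2, mul_comm]
  have hex2 : LinearMap.ker (zmul M b) ≤ LinearMap.range (zmul M a) := by
    intro m hm
    induction m using Submodule.Quotient.induction_on with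
    | H y =>
      rw [LinearMap.mem_ker] at hm
      change b • (Submodule.Quotient.mk y : M) = 0 at hm
      rw [← Submodule.Quotient.mk_smul, Submodule.Quotient.mk_eq_zero, smul_eq_mul,
        Ideal.mem_span_singleton'] at hm
      obtain ⟨c, hc⟩ := hm
      have h1 : b * (y - c * a) = 0 := by rw [ht] at hc; linear_combination (-1 : A) * hc
      have h2 : y = c * a := sub_eq_zero.1 ((mem_nonZeroDivisors_iff.1 hb).1 _ h1)
      refine ⟨Submodule.Quotient.mk c, ?_⟩
      change a • (Submodule.Quotient.mk c : M) = _
      rw [← Submodule.Quotient.mk_smul, smul_eq_mul, h2, mul_comm]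
  obtain ⟨finM, eM⟩ := herbrand_eq_zero_of_exact (zmul M a) (zmul M b) hex1 hex2
  have perM : IsPeriodic (zmul M a) (zmul M b) := by
    have hkill : ∀ m : M, (a * b) • m = 0 := by
      intro m
      induction m using Submodule.Quotient.induction_on with
      | H y =>
        rw [← Submodule.Quotient.mk_smul, Submodule.Quotient.mk_eq_zero, smul_eq_mul, ← ht]
        exact Ideal.mul_mem_right _ _ (Ideal.subset_span rfl)
    constructor
    · refine LinearMap.ext fun m => ?_
      change a • b • m = 0
      rw [smul_smul]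
      exact hkill m
    · refine LinearMap.ext fun m => ?_
      change b • a • m = 0
      rw [smul_smul, mul_comm]
      exact hkill m
  have perP : IsPeriodic (zmul (∀ i, NQ (q i) t) a) (zmul (∀ i, NQ (q i) t) b) := by
    have hkill : ∀ ν : (∀ i, NQ (q i) t), (a * b) • ν = 0 := by
      intro ν
      funext i
      rw [← ht]
      exact Qq_smul_eq_zero (q i) (t_mem_Qq _ t) (ν i)
    constructor
    · refine LinearMap.ext fun m => ?_
      change a • b • m = 0
      rw [smul_smul]
      exact hkill m
    · refine LinearMap.ext fun m => ?_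
      change b • a • m = 0
      rw [smul_smul, mul_comm]
      exact hkill m
  obtain ⟨finP, eP⟩ := herbrand_pi (fun i => NQ (q i) t) a b (fun i => finCoh_ab h i ha hb ht)
  have key := Groth.Agent.S1870.result (zmul M a) (zmul M b)
    (zmul (∀ i, NQ (q i) t) a) (zmul (∀ i, NQ (q i) t) b) perM perP (gmap t q)
    (LinearMap.ext fun m => ((gmap t q).map_smul a m).symm)
    (LinearMap.ext fun m => ((gmap t q).map_smul b m).symm)
    finM finP (length_ker_gmap h) (length_coker_gmap h)
  rw [eM, eP] at key
  have : ∑ i, herbrand A (zmul (NQ (q i) t) a) (zmul (NQ (q i) t) b) = ∑ i, - (D i).val :=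
    Finset.sum_congr rfl fun i _ => herbrand_local h i ha hb ht (D i)
  rw [this, Finset.sum_neg_distrib] at key
  linarith

end Global

end Groth.Agent.H63.KeyF
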