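import Mathlib
import Groth.Agent.H63.GlueA

set_option autoImplicit false
set_option linter.style.haveILetI false
set_option linter.unusedSectionVars false
universe u w

namespace Groth.Agent.H63.Glue

open IsLocalRing

section Construction
variable {A : Type u} [CommRing A] [IsLocalRing A] [IsNoetherianRing A] (t : A) {ι : Type w}
  {q : ι → Ideal A} [hqp : ∀ i, (q i).IsPrime]
variable (B : ι → Type u) [∀ i, CommRing (B i)] [∀ i, Algebra (Localization.AtPrime (q i)) (B i)]
  [∀ i, Algebra A (B i)] [∀ i, IsScalarTower A (Localization.AtPrime (q i)) (B i)]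

/-- `B_i[1/t]`. -/
abbrev Bt (i : ι) : Type u := Localization.Away (algebraMap A (B i) t)

/-- the map `A[1/t] → B_i[1/t]`. -/
noncomputable def rho (i : ι) : Localization.Away t →ₐ[A] Bt t B i :=
  IsLocalization.Away.liftAlgHom t (f := Algebra.ofId A (Bt t B i)) (by
    change IsUnit (algebraMap A (Bt t B i) t)
    rw [IsScalarTower.algebraMap_apply A (B i) (Bt t B i)]
    exact IsLocalization.Away.algebraMap_isUnit _)

theorem iota_injective (i : ι) (hreg : algebraMap A (B i) t ∈ nonZeroDivisors (B i)) :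
    Function.Injective (algebraMap (B i) (Bt t B i)) :=
  IsLocalization.injective (Bt t B i) (Submonoid.powers_le.2 hreg)

/-- elements of `A[1/t]` landing in every `B_i`. -/
noncomputable def D : Subalgebra A (Localization.Away t) :=
  ⨅ i, (IsScalarTower.toAlgHom A (B i) (Bt t B i)).range.comap (rho t B i)

theorem mem_D {z : Localization.Away t} :
    z ∈ D t B ↔ ∀ i, ∃ β : B i, algebraMap (B i) (Bt t B i) β = rho t B i z := by
  simp [D, Algebra.mem_iInf, Subalgebra.mem_comap, AlgHom.mem_range]

/-- `t^{-n} A`. -/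
noncomputable def T (n : ℕ) : Submodule A (Localization.Away t) :=
  (1 : Submodule A (Localization.Away t)).comap
    (LinearMap.mulLeft A (algebraMap A (Localization.Away t) t ^ n))

theorem mem_T {n : ℕ} {z : Localization.Away t} :
    z ∈ T t n ↔ ∃ y : A, algebraMap A (Localization.Away t) y =
      algebraMap A (Localization.Away t) t ^ n * z := by
  simp [T, Submodule.mem_comap, Submodule.mem_one]

theorem isUnit_t : IsUnit (algebraMap A (Localization.Away t) t) :=
  IsLocalization.Away.algebraMap_isUnit t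

theorem fg_of_le_T (n : ℕ) (N : Submodule A (Localization.Away t)) (hN : N ≤ T t n) : N.FG := by
  set f := LinearMap.mulLeft A (algebraMap A (Localization.Away t) t ^ n) with hf
  have hfinj : Function.Injective f := by
    intro x y hxy
    exact ((isUnit_t t).pow n).mul_right_injective hxy
  set g := Algebra.linearMap A (Localization.Away t) with hg
  have hle : N.map f ≤ LinearMap.range g := by
    rintro _ ⟨z, hz, rfl⟩
    obtain ⟨y, hy⟩ := (mem_T t).1 (hN hz)
    exact ⟨y, hy⟩
  have h1 : ((N.map f).comap g).map g = N.map f := Submodule.map_comap_eq_of_le hle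
  have h2 : ((N.map f).comap g).FG := IsNoetherian.noetherian _
  have h3 : (N.map f).FG := h1 ▸ h2.map g
  exact Submodule.fg_of_fg_map_injective f hfinj h3

variable {t B}

theorem exists_smul_eq_zero_of_rho_eq_zero (i : ι)
    (hinj : Function.Injective (algebraMap (Localization.AtPrime (q i)) (B i)))
    (hreg : algebraMap A (B i) t ∈ nonZeroDivisors (B i))
    {z : Localization.Away t} (hz : rho t B i z = 0) : ∃ s, s ∉ q i ∧ s • z = 0 := by
  obtain ⟨⟨y, tk⟩, h⟩ := IsLocalization.surj (Submonoid.powers t) z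
  have h1 : algebraMap A (Bt t B i) y = 0 := by
    have := congrArg (rho t B i) h
    rw [map_mul, hz, zero_mul, AlgHom.commutes] at this
    exact this.symm
  have h2 : algebraMap A (B i) y = 0 := by
    apply iota_injective t B i hreg
    rw [← IsScalarTower.algebraMap_apply A (B i) (Bt t B i), h1, map_zero]
  have h3 : algebraMap A (Localization.AtPrime (q i)) y = 0 := by
    apply hinj
    rw [← IsScalarTower.algebraMap_apply A (Localization.AtPrime (q i)) (B i), h2, map_zero]
  obtain ⟨s, hs⟩ := (IsLocalization.map_eq_zero_iff (q i).primeCompl _ y).1 h3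
  refine ⟨s, s.2, ?_⟩
  have hu : IsUnit (algebraMap A (Localization.Away t) (tk : A)) :=
    IsLocalization.map_units _ tk
  apply hu.mul_left_eq_zero.1
  rw [smul_mul_assoc, h, Algebra.smul_def, ← map_mul, hs, map_zero]

theorem exists_smul_mem_T (i : ι)
    (hinj : Function.Injective (algebraMap (Localization.AtPrime (q i)) (B i)))
    (hreg : algebraMap A (B i) t ∈ nonZeroDivisors (B i)) (n : ℕ)
    (hcond : ∀ b : B i, ∃ r : Localization.AtPrime (q i),
      algebraMap (Localization.AtPrime (q i)) (B i) r = algebraMap A (B i) t ^ n * b)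
    {z : Localization.Away t} (hz : z ∈ D t B) : ∃ s, s ∉ q i ∧ s • z ∈ T t n := by
  obtain ⟨β, hβ⟩ := (mem_D t B).1 hz i
  obtain ⟨r, hr⟩ := hcond β
  obtain ⟨⟨y, s'⟩, hys⟩ := IsLocalization.surj (q i).primeCompl r
  -- in `B i`: image of `y` is `t^n β s'`
  have h1 : algebraMap A (B i) y = algebraMap A (B i) t ^ n * β * algebraMap A (B i) (s' : A) := by
    rw [IsScalarTower.algebraMap_apply A (Localization.AtPrime (q i)) (B i) y, ← hys, map_mul, hr,
      ← IsScalarTower.algebraMap_apply A (Localization.AtPrime (q i)) (B i)]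
  have h2 : rho t B i (algebraMap A _ y - algebraMap A _ t ^ n * ((s' : A) • z)) = 0 := by
    rw [map_sub, map_mul, map_pow, AlgHom.commutes, AlgHom.commutes, map_smul, ← hβ,
      IsScalarTower.algebraMap_apply A (B i) (Bt t B i) y, h1,
      IsScalarTower.algebraMap_apply A (B i) (Bt t B i) t, Algebra.smul_def,
      IsScalarTower.algebraMap_apply A (B i) (Bt t B i) (s' : A)]
    simp only [map_mul, map_pow]
    ring
  obtain ⟨s'', hs'', h3⟩ := exists_smul_eq_zero_of_rho_eq_zero i hinj hreg h2
  refine ⟨s'' * s', (q i).primeCompl.mul_mem hs'' s'.2, ?_⟩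
  rw [mem_T]
  refine ⟨s'' * y, ?_⟩
  rw [smul_sub, sub_eq_zero] at h3
  rw [map_mul, ← Algebra.smul_def, h3, mul_smul]
  simp only [Algebra.smul_def]
  ring

/-- `W = D ∩ t^{-n}A`. -/
noncomputable def Wn (t : A) (B : ι → Type u) [∀ i, CommRing (B i)]
    [∀ i, Algebra A (B i)] (n : ℕ) :
    Submodule A (Localization.Away t) :=
  Subalgebra.toSubmodule (D t B) ⊓ T t n

theorem Wn_le_T (n : ℕ) : Wn t B n ≤ T t n := inf_le_right

theorem Wn_le_D (n : ℕ) : Wn t B n ≤ Subalgebra.toSubmodule (D t B) := inf_le_left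

theorem one_le_Wn (n : ℕ) : (1 : Submodule A (Localization.Away t)) ≤ Wn t B n := by
  intro z hz
  obtain ⟨y, rfl⟩ := Submodule.mem_one.1 hz
  refine ⟨(D t B).algebraMap_mem y, ?_⟩
  rw [SetLike.mem_coe, mem_T]
  exact ⟨t ^ n * y, by rw [map_mul, map_pow]⟩

theorem WW_le_D (n : ℕ) : Wn t B n * Wn t B n ≤ Subalgebra.toSubmodule (D t B) := by
  rw [Submodule.mul_le]
  intro x hx y hy
  exact (D t B).mul_mem (Wn_le_D n hx) (Wn_le_D n hy)

theorem smul_WW_mem (n : ℕ) {z : Localization.Away t} (hz : z ∈ Wn t B n * Wn t B n) :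
    t ^ n • z ∈ Wn t B n := by
  refine Submodule.mul_induction_on hz ?_ ?_
  · intro x hx y hy
    obtain ⟨a, ha⟩ := (mem_T t).1 (Wn_le_T n hx)
    have : t ^ n • (x * y) = a • y := by
      rw [Algebra.smul_def, Algebra.smul_def, map_pow, ← mul_assoc, ← ha]
    rw [this]
    exact (Wn t B n).smul_mem a hy
  · intro x y hx hy
    rw [smul_add]
    exact (Wn t B n).add_mem hx hy

theorem exists_K [Finite ι] (h : Ctx t q)
    (hinj : ∀ i, Function.Injective (algebraMap (Localization.AtPrime (q i)) (B i)))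
    (hreg : ∀ i, algebraMap A (B i) t ∈ nonZeroDivisors (B i)) (n : ℕ)
    (hcond : ∀ i, ∀ b : B i, ∃ r : Localization.AtPrime (q i),
      algebraMap (Localization.AtPrime (q i)) (B i) r = algebraMap A (B i) t ^ n * b) :
    ∃ k : ℕ, ∀ μ ∈ maximalIdeal A ^ k, ∀ z ∈ Wn t B n * Wn t B n, μ • z ∈ Wn t B n := by
  refine h.exists_pow_smul_mem (Wn t B n) (Wn t B n * Wn t B n)
    ((fg_of_le_T t n _ (Wn_le_T n)).mul (fg_of_le_T t n _ (Wn_le_T n))) n
    (fun z hz => smul_WW_mem n hz) ?_
  intro i z hz
  have hzD : z ∈ D t B := WW_le_D n hz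
  obtain ⟨s, hs, hsT⟩ := exists_smul_mem_T i (hinj i) (hreg i) n (hcond i) hzD
  exact ⟨s, hs, (D t B).smul_mem hzD s, hsT⟩

end Construction

end Groth.Agent.H63.Glue
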