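import Mathlib
import Groth.Agent.H63.GlueB
import Groth.Agent.H63.TameC

set_option autoImplicit false
set_option linter.style.haveILetI false
set_option linter.unusedSectionVars false
universe u w

namespace Groth.Agent.H63.Glue

open IsLocalRing

section Ring
variable {A : Type u} [CommRing A] [IsLocalRing A] [IsNoetherianRing A] (t : A) {ι : Type w}
variable (B : ι → Type u) [∀ i, CommRing (B i)] [∀ i, Algebra A (B i)]

/-- `m^N W`. -/
noncomputable def Jn (n N : ℕ) : Submodule A (Localization.Away t) :=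
  (maximalIdeal A) ^ N • Wn t B n

/-- `A + m^N W`. -/
noncomputable def Cs (n N : ℕ) : Submodule A (Localization.Away t) :=
  1 ⊔ Jn t B n N

variable {t B}

theorem Jn_le_Wn (n N : ℕ) : Jn t B n N ≤ Wn t B n :=
  Submodule.smul_le.2 fun r _ z hz => (Wn t B n).smul_mem r hz

theorem Jn_le_Cs (n N : ℕ) : Jn t B n N ≤ Cs t B n N := le_sup_right

theorem Cs_le_Wn (n N : ℕ) : Cs t B n N ≤ Wn t B n :=
  sup_le (one_le_Wn n) (Jn_le_Wn n N)

theorem one_mem_Cs (n N : ℕ) : (1 : Localization.Away t) ∈ Cs t B n N :=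
  (le_sup_left : (1 : Submodule A (Localization.Away t)) ≤ Cs t B n N) (Submodule.one_le.1 le_rfl)

theorem mem_Cs {n N : ℕ} {z : Localization.Away t} :
    z ∈ Cs t B n N ↔ ∃ a : A, ∃ j ∈ Jn t B n N, algebraMap A (Localization.Away t) a + j = z := by
  unfold Cs
  rw [Submodule.mem_sup]
  constructor
  · rintro ⟨x, hx, j, hj, rfl⟩
    obtain ⟨a, rfl⟩ := Submodule.mem_one.1 hx
    exact ⟨a, j, hj, rfl⟩
  · rintro ⟨a, j, hj, rfl⟩
    exact ⟨_, Submodule.mem_one.2 ⟨a, rfl⟩, j, hj, rfl⟩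

/-- the key multiplicativity: `J · J ⊆ m J`. -/
theorem mul_mem_smul_Jn (n k : ℕ)
    (hK : ∀ μ ∈ maximalIdeal A ^ k, ∀ z ∈ Wn t B n * Wn t B n, μ • z ∈ Wn t B n)
    {x y : Localization.Away t} (hx : x ∈ Jn t B n (k + 1)) (hy : y ∈ Jn t B n (k + 1)) :
    x * y ∈ maximalIdeal A • Jn t B n (k + 1) := by
  have hJ : Jn t B n (k + 1) = maximalIdeal A • ((maximalIdeal A) ^ k • Wn t B n) := by
    unfold Jn
    rw [pow_succ', Submodule.mul_smul]
  have hy' := hy
  rw [hJ] at hy'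
  refine Submodule.smul_induction_on hy' ?_ ?_
  · intro ν hν y' hy''
    refine Submodule.smul_induction_on hy'' ?_ ?_
    · intro κ hκ w' hw'
      have hx' : x ∈ (maximalIdeal A) ^ (k + 1) • Wn t B n := hx
      refine Submodule.smul_induction_on hx' ?_ ?_
      · intro μ hμ w hw
        have e : (μ • w) * (ν • κ • w') = ν • μ • (κ • (w * w')) := by
          simp only [Algebra.smul_def]
          ring
        rw [e]
        exact Submodule.smul_mem_smul hν
          (Submodule.smul_mem_smul hμ (hK κ hκ _ (Submodule.mul_mem_mul hw hw')))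
      · intro x1 x2 h1 h2
        rw [add_mul]
        exact add_mem h1 h2
    · intro y1 y2 h1 h2
      rw [smul_add, mul_add]
      exact add_mem h1 h2
  · intro y1 y2 h1 h2
    rw [mul_add]
    exact add_mem h1 h2

theorem smul_Jn_le (n N : ℕ) : maximalIdeal A • Jn t B n N ≤ Jn t B n N :=
  Submodule.smul_le.2 fun r _ z hz => (Jn t B n N).smul_mem r hz

theorem Cs_mul_mem (n k : ℕ)
    (hK : ∀ μ ∈ maximalIdeal A ^ k, ∀ z ∈ Wn t B n * Wn t B n, μ • z ∈ Wn t B n)
    (x y : Localization.Away t) (hx : x ∈ Cs t B n (k + 1)) (hy : y ∈ Cs t B n (k + 1)) :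
    x * y ∈ Cs t B n (k + 1) := by
  obtain ⟨a, j, hj, rfl⟩ := mem_Cs.1 hx
  obtain ⟨a', j', hj', rfl⟩ := mem_Cs.1 hy
  refine mem_Cs.2 ⟨a * a', a • j' + a' • j + j * j', ?_, ?_⟩
  · exact add_mem (add_mem ((Jn t B n (k+1)).smul_mem a hj') ((Jn t B n (k+1)).smul_mem a' hj))
      (smul_Jn_le n (k+1) (mul_mem_smul_Jn n k hK hj hj'))
  · simp only [Algebra.smul_def, map_mul]
    ring

/-- the glued ring. -/
noncomputable def Cn (n k : ℕ)
    (hK : ∀ μ ∈ maximalIdeal A ^ k, ∀ z ∈ Wn t B n * Wn t B n, μ • z ∈ Wn t B n) :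
    Subalgebra A (Localization.Away t) :=
  (Cs t B n (k + 1)).toSubalgebra (one_mem_Cs n (k + 1)) (Cs_mul_mem n k hK)

variable {n k : ℕ}
  {hK : ∀ μ ∈ maximalIdeal A ^ k, ∀ z ∈ Wn t B n * Wn t B n, μ • z ∈ Wn t B n}

theorem mem_Cn {z : Localization.Away t} : z ∈ Cn n k hK ↔ z ∈ Cs t B n (k + 1) := Iff.rfl

theorem Cn_toSubmodule : Subalgebra.toSubmodule (Cn n k hK) = Cs t B n (k + 1) :=
  Submodule.toSubalgebra_toSubmodule _ _ _

instance finite_Cn : Module.Finite A (Cn n k hK) := by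
  have h1 : (Subalgebra.toSubmodule (Cn n k hK)).FG := by
    rw [Cn_toSubmodule]
    exact fg_of_le_T t n _ ((Cs_le_Wn n (k+1)).trans (Wn_le_T n))
  exact Module.Finite.iff_fg.2 h1

theorem exists_eq_pow_mul (c : Cn n k hK) :
    ∃ a : A, algebraMap A (Cn n k hK) a = algebraMap A (Cn n k hK) t ^ n * c := by
  obtain ⟨a, ha⟩ := (mem_T t).1 (Wn_le_T n (Cs_le_Wn n (k+1) c.2))
  exact ⟨a, Subtype.ext ha⟩

/-- elements of `m · C` lie in the extended ideal. -/
theorem mem_map_of_mem_smul {z : Localization.Away t}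
    (hz : z ∈ maximalIdeal A • Cs t B n (k + 1)) (hzC : z ∈ Cn n k hK) :
    (⟨z, hzC⟩ : Cn n k hK) ∈ Ideal.map (algebraMap A (Cn n k hK)) (maximalIdeal A) := by
  set P : Submodule A (Localization.Away t) :=
    ((Ideal.map (algebraMap A (Cn n k hK)) (maximalIdeal A)).restrictScalars A).map
      (Cn n k hK).val.toLinearMap with hP
  have hle : maximalIdeal A • Cs t B n (k + 1) ≤ P := by
    rw [Submodule.smul_le]
    intro μ hμ c' hc'
    refine ⟨algebraMap A (Cn n k hK) μ * ⟨c', hc'⟩, ?_, ?_⟩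
    · exact Ideal.mul_mem_right _ _ (Ideal.mem_map_of_mem _ hμ)
    · simp [Algebra.smul_def]
  obtain ⟨x, hx, hxz⟩ := hle hz
  have : (⟨z, hzC⟩ : Cn n k hK) = x := Subtype.ext hxz.symm
  rw [this]
  exact hx

theorem Jn_mem_of_isMaximal (M : Ideal (Cn n k hK)) [hM : M.IsMaximal]
    {j : Localization.Away t} (hj : j ∈ Jn t B n (k + 1)) :
    (⟨j, Jn_le_Cs n (k+1) hj⟩ : Cn n k hK) ∈ M := by
  have hcomap : M.comap (algebraMap A (Cn n k hK)) = maximalIdeal A :=
    Groth.Agent.H63.Tame.comap_eq (A := A) (Cn n k hK) ⟨M, hM⟩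
  have hjj : j * j ∈ maximalIdeal A • Cs t B n (k + 1) :=
    Submodule.smul_mono le_rfl (Jn_le_Cs n (k+1)) (mul_mem_smul_Jn n k hK hj hj)
  have h1 := mem_map_of_mem_smul (hK := hK) hjj
    (Cs_mul_mem n k hK j j (Jn_le_Cs n (k+1) hj) (Jn_le_Cs n (k+1) hj))
  have h2 : Ideal.map (algebraMap A (Cn n k hK)) (maximalIdeal A) ≤ M :=
    Ideal.map_le_iff_le_comap.2 hcomap.ge
  have h3 : (⟨j, Jn_le_Cs n (k+1) hj⟩ : Cn n k hK) ^ 2 ∈ M := by
    rw [pow_two]
    exact h2 h1
  exact hM.isPrime.mem_of_pow_mem 2 h3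

theorem isUnit_of_eq (c : Cn n k hK) (a : A) (ha : IsUnit a)
    {j : Localization.Away t} (hj : j ∈ Jn t B n (k + 1))
    (hc : (c : Localization.Away t) = algebraMap A _ a + j) : IsUnit c := by
  by_contra hnu
  obtain ⟨M, hM, hcM⟩ := exists_max_ideal_of_mem_nonunits hnu
  have hcomap : M.comap (algebraMap A (Cn n k hK)) = maximalIdeal A :=
    Groth.Agent.H63.Tame.comap_eq (A := A) (Cn n k hK) ⟨M, hM⟩
  have hjM := Jn_mem_of_isMaximal (hK := hK) M hj
  have h4 : algebraMap A (Cn n k hK) a ∈ M := by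
    have : algebraMap A (Cn n k hK) a = c - ⟨j, Jn_le_Cs n (k+1) hj⟩ := by
      apply Subtype.ext
      change algebraMap A _ a = (c : Localization.Away t) - j
      rw [hc]
      ring
    rw [this]
    exact M.sub_mem hcM hjM
  have h5 : a ∈ maximalIdeal A := by
    rw [← hcomap]
    exact h4
  exact h5 ha

theorem nontrivial_away (htnz : t ∈ nonZeroDivisors A) : Nontrivial (Localization.Away t) := by
  have hinj : Function.Injective (algebraMap A (Localization.Away t)) :=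
    IsLocalization.injective _ (Submonoid.powers_le.2 htnz)
  exact hinj.nontrivial

theorem isLocalRing_Cn (htnz : t ∈ nonZeroDivisors A) : IsLocalRing (Cn n k hK) := by
  haveI := nontrivial_away htnz
  refine IsLocalRing.of_isUnit_or_isUnit_one_sub_self fun c => ?_
  obtain ⟨a, j, hj, hc⟩ := mem_Cs.1 (mem_Cn.1 c.2)
  by_cases ha : IsUnit a
  · left
    exact isUnit_of_eq c a ha hj hc.symm
  · right
    refine isUnit_of_eq (1 - c) (1 - a) (IsLocalRing.isUnit_one_sub_self_of_mem_nonunits a ha)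
      (neg_mem hj) ?_
    change (1 : Localization.Away t) - (c : Localization.Away t) = _
    rw [← hc, map_sub, map_one]
    ring

theorem exists_sub_mem_maximalIdeal [IsLocalRing (Cn n k hK)] (c : Cn n k hK) :
    ∃ a : A, c - algebraMap A (Cn n k hK) a ∈ maximalIdeal (Cn n k hK) := by
  obtain ⟨a, j, hj, hc⟩ := mem_Cs.1 (mem_Cn.1 c.2)
  refine ⟨a, ?_⟩
  have : c - algebraMap A (Cn n k hK) a = ⟨j, Jn_le_Cs n (k+1) hj⟩ := by
    apply Subtype.ext
    change (c : Localization.Away t) - algebraMap A _ a = j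
    rw [← hc]
    ring
  rw [this]
  exact Jn_mem_of_isMaximal (hK := hK) _ hj

end Ring

end Groth.Agent.H63.Glue
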