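import Mathlib
import Groth.Agent.H63.GlueC

set_option autoImplicit false
set_option linter.style.haveILetI false
set_option linter.unusedSectionVars false
set_option linter.unusedVariables false
universe u w

namespace Groth.Agent.H63.Glue

open IsLocalRing

section Phi
variable {A : Type u} [CommRing A] [IsLocalRing A] [IsNoetherianRing A] {t : A} {ι : Type w}
  {q : ι → Ideal A} [hqp : ∀ i, (q i).IsPrime]
variable {B : ι → Type u} [∀ i, CommRing (B i)] [∀ i, Algebra (Localization.AtPrime (q i)) (B i)]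
  [∀ i, Algebra A (B i)] [∀ i, IsScalarTower A (Localization.AtPrime (q i)) (B i)]
variable {n k : ℕ}
  {hK : ∀ μ ∈ maximalIdeal A ^ k, ∀ z ∈ Wn t B n * Wn t B n, μ • z ∈ Wn t B n}

theorem rho_mem_range (i : ι) (c : Cn n k hK) :
    rho t B i (c : Localization.Away t) ∈ (IsScalarTower.toAlgHom A (B i) (Bt t B i)).range := by
  have hD : (c : Localization.Away t) ∈ D t B := Wn_le_D n (Cs_le_Wn n (k+1) c.2)
  obtain ⟨β, hβ⟩ := (mem_D t B).1 hD i
  exact ⟨β, hβ⟩

/-- the map `C → B_i`. -/
noncomputable def phi (i : ι) (hreg : algebraMap A (B i) t ∈ nonZeroDivisors (B i)) :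
    Cn n k hK →ₐ[A] B i :=
  ((AlgEquiv.ofInjective (IsScalarTower.toAlgHom A (B i) (Bt t B i))
    (iota_injective t B i hreg)).symm : _ →ₐ[A] B i).comp
    (((rho t B i).comp (Cn n k hK).val).codRestrict _ (rho_mem_range i))

theorem phi_spec (i : ι) (hreg : algebraMap A (B i) t ∈ nonZeroDivisors (B i)) (c : Cn n k hK) :
    algebraMap (B i) (Bt t B i) (phi (hK := hK) i hreg c) = rho t B i (c : Localization.Away t) := by
  set e := AlgEquiv.ofInjective (IsScalarTower.toAlgHom A (B i) (Bt t B i))
    (iota_injective t B i hreg) with he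
  set y : (IsScalarTower.toAlgHom A (B i) (Bt t B i)).range :=
    ((rho t B i).comp (Cn n k hK).val).codRestrict _ (rho_mem_range i) c with hy
  have h1 : phi (hK := hK) i hreg c = e.symm y := rfl
  have h2 : (e (e.symm y) : Bt t B i) = algebraMap (B i) (Bt t B i) (e.symm y) := rfl
  rw [h1, ← h2, e.apply_symm_apply]
  rfl

theorem phi_eq_zero (i : ι)
    (hinj : Function.Injective (algebraMap (Localization.AtPrime (q i)) (B i)))
    (hreg : algebraMap A (B i) t ∈ nonZeroDivisors (B i)) (c : Cn n k hK)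
    (hc : phi (hK := hK) i hreg c = 0) : ∃ s, s ∉ q i ∧ s • c = 0 := by
  have h1 : rho t B i (c : Localization.Away t) = 0 := by
    rw [← phi_spec i hreg c, hc, map_zero]
  obtain ⟨s, hs, hsz⟩ := exists_smul_eq_zero_of_rho_eq_zero i hinj hreg h1
  exact ⟨s, hs, Subtype.ext hsz⟩

/-- membership in the `j`-th component of `D` by clearing a denominator. -/
theorem exists_eq_rho_of_smul (j : ι) {z : Localization.Away t} (s' : A) (hs' : s' ∉ q j) (y' : A)
    (h : s' • z = algebraMap A (Localization.Away t) y') :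
    ∃ β : B j, algebraMap (B j) (Bt t B j) β = rho t B j z := by
  refine ⟨algebraMap (Localization.AtPrime (q j)) (B j)
    (IsLocalization.mk' (Localization.AtPrime (q j)) y' (⟨s', hs'⟩ : (q j).primeCompl)), ?_⟩
  have hu : IsUnit (algebraMap A (Bt t B j) s') := by
    rw [IsScalarTower.algebraMap_apply A (B j) (Bt t B j) s',
      IsScalarTower.algebraMap_apply A (Localization.AtPrime (q j)) (B j) s']
    exact ((IsLocalization.map_units (Localization.AtPrime (q j))
      (⟨s', hs'⟩ : (q j).primeCompl)).map _).map _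
  rw [← hu.mul_left_inj]
  have e1 : rho t B j z * algebraMap A (Bt t B j) s' = algebraMap A (Bt t B j) y' := by
    rw [mul_comm, ← Algebra.smul_def, ← map_smul, h, AlgHom.commutes]
  rw [e1, IsScalarTower.algebraMap_apply A (B j) (Bt t B j) s',
    IsScalarTower.algebraMap_apply A (Localization.AtPrime (q j)) (B j) s', ← map_mul, ← map_mul,
    IsLocalization.mk'_spec,
    ← IsScalarTower.algebraMap_apply A (Localization.AtPrime (q j)) (B j) y',
    ← IsScalarTower.algebraMap_apply A (B j) (Bt t B j) y']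

theorem exists_phi_eq [Finite ι] (h : Ctx t q)
    (hreg : ∀ i, algebraMap A (B i) t ∈ nonZeroDivisors (B i))
    (hcond : ∀ i, ∀ b : B i, ∃ r : Localization.AtPrime (q i),
      algebraMap (Localization.AtPrime (q i)) (B i) r = algebraMap A (B i) t ^ n * b)
    (i : ι) (β : B i) :
    ∃ s, s ∉ q i ∧ ∃ c : Cn n k hK, phi (hK := hK) i (hreg i) c = algebraMap A (B i) s * β := by
  classical
  haveI := Fintype.ofFinite ι
  obtain ⟨r, hr⟩ := hcond i β
  obtain ⟨⟨y, s0⟩, hys⟩ := IsLocalization.surj (q i).primeCompl r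
  have h1 : algebraMap A (B i) y = algebraMap A (B i) t ^ n * β * algebraMap A (B i) (s0 : A) := by
    rw [IsScalarTower.algebraMap_apply A (Localization.AtPrime (q i)) (B i) y, ← hys, map_mul, hr,
      ← IsScalarTower.algebraMap_apply A (Localization.AtPrime (q i)) (B i)]
  have hav : ∀ j, i ≠ j → ∃ s, s ∉ q i ∧ ∃ s', s' ∉ q j ∧ ∃ c, s' * s = t ^ n * c :=
    fun j hj => h.exists_avoid hj n
  choose! sj hsj s'j hs'j cj hcj using hav
  set s1 := ∏ j ∈ Finset.univ.erase i, sj j with hs1def
  have hs1 : s1 ∉ q i := by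
    rw [hs1def, Ideal.IsPrime.prod_mem_iff]
    rintro ⟨j, hj, hjq⟩
    exact hsj j (Finset.ne_of_mem_erase hj).symm hjq
  set u : Localization.Away t := IsLocalization.Away.invSelf t with hu
  have htu : algebraMap A (Localization.Away t) t * u = 1 := IsLocalization.Away.mul_invSelf t
  set z0 : Localization.Away t := algebraMap A _ y * u ^ n with hz0def
  have hz0 : algebraMap A (Localization.Away t) t ^ n * z0 = algebraMap A _ y := by
    rw [hz0def, mul_left_comm, ← mul_pow, htu, one_pow, mul_one]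
  -- a non-unit outside `q i`
  obtain ⟨μ, hμm, hμq⟩ : ∃ μ, μ ∈ maximalIdeal A ∧ μ ∉ q i := by
    by_contra hcon
    push Not at hcon
    exact h.ne_max i (le_antisymm (le_maximalIdeal (hqp i).ne_top) hcon)
  set z1 : Localization.Away t := s1 • z0 with hz1def
  have hz1T : z1 ∈ T t n := by
    rw [mem_T]
    refine ⟨s1 * y, ?_⟩
    rw [hz1def, map_mul, ← hz0, Algebra.smul_def]
    ring
  have hrho_i : rho t B i z1 = algebraMap (B i) (Bt t B i) (algebraMap A (B i) (s1 * s0) * β) := by
    have hut : IsUnit (algebraMap A (Bt t B i) t ^ n) := by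
      refine IsUnit.pow n ?_
      rw [IsScalarTower.algebraMap_apply A (B i) (Bt t B i)]
      exact IsLocalization.Away.algebraMap_isUnit _
    apply hut.mul_left_injective
    have e1 : rho t B i z1 * algebraMap A (Bt t B i) t ^ n = algebraMap A (Bt t B i) (s1 * y) := by
      rw [← AlgHom.commutes (rho t B i), ← map_pow, ← map_mul, hz1def, smul_mul_assoc, mul_comm z0,
        hz0, Algebra.smul_def, ← map_mul, AlgHom.commutes]
    have e2 : algebraMap A (Bt t B i) (s1 * y) =
        algebraMap (B i) (Bt t B i) (algebraMap A (B i) (s1 * y)) :=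
      IsScalarTower.algebraMap_apply A (B i) (Bt t B i) _
    change rho t B i z1 * algebraMap A (Bt t B i) t ^ n = _ * algebraMap A (Bt t B i) t ^ n
    rw [e1, e2, IsScalarTower.algebraMap_apply A (B i) (Bt t B i) t, ← map_pow, ← map_mul]
    congr 1
    rw [map_mul, h1, map_mul]
    ring
  have hz1D : z1 ∈ D t B := by
    rw [mem_D]
    intro j
    by_cases hij : i = j
    · subst hij
      exact ⟨_, hrho_i.symm⟩
    · have hmem : j ∈ Finset.univ.erase i := Finset.mem_erase.2 ⟨fun e => hij e.symm, Finset.mem_univ j⟩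
      refine exists_eq_rho_of_smul j (s'j j) (hs'j j hij)
        (cj j * (∏ j' ∈ (Finset.univ.erase i).erase j, sj j') * y) ?_
      have e3 : s'j j * s1 = t ^ n * cj j * ∏ j' ∈ (Finset.univ.erase i).erase j, sj j' := by
        rw [hs1def, ← Finset.mul_prod_erase _ sj hmem, ← mul_assoc, hcj j hij]
      rw [hz1def, smul_smul, e3, Algebra.smul_def]
      simp only [map_mul, map_pow]
      rw [← hz0]
      ring
  have hz1W : z1 ∈ Wn t B n := ⟨hz1D, hz1T⟩
  have hz2J : (μ ^ (k + 1)) • z1 ∈ Jn t B n (k + 1) :=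
    Submodule.smul_mem_smul (Ideal.pow_mem_pow hμm _) hz1W
  refine ⟨μ ^ (k + 1) * (s1 * s0), ?_, ⟨_, Jn_le_Cs n (k+1) hz2J⟩, ?_⟩
  · exact (q i).primeCompl.mul_mem (pow_mem (show μ ∈ (q i).primeCompl from hμq) _)
      ((q i).primeCompl.mul_mem hs1 s0.2)
  · apply iota_injective t B i (hreg i)
    rw [phi_spec]
    change rho t B i (μ ^ (k + 1) • z1) = _
    rw [map_smul, hrho_i, Algebra.smul_def, IsScalarTower.algebraMap_apply A (B i) (Bt t B i),
      ← map_mul]
    congr 1
    simp only [map_mul, map_pow]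
    ring

end Phi

end Groth.Agent.H63.Glue
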