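import Mathlib
import Groth.Agent.H63.GlueD

set_option autoImplicit false
set_option linter.style.haveILetI false
set_option linter.unusedSectionVars false
set_option linter.unusedVariables false
universe u w

namespace Groth.Agent.H63.Glue

open IsLocalRing

section Main
variable {A : Type u} [CommRing A] [IsLocalRing A] [IsNoetherianRing A] {t : A} {ι : Type w}
  {q : ι → Ideal A} [hqp : ∀ i, (q i).IsPrime]
variable (B : ι → Type u) [∀ i, CommRing (B i)] [∀ i, Algebra (Localization.AtPrime (q i)) (B i)]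
  [∀ i, Algebra A (B i)] [∀ i, IsScalarTower A (Localization.AtPrime (q i)) (B i)]

/-- **Gluing**: a local finite extension `C ⊆ A[1/t]` of `A` with the same residue field whose
localizations at the `q i` are the given `B i`. -/
theorem exists_glue [Finite ι] (h : Ctx t q) (htnz : t ∈ nonZeroDivisors A)
    (hinj : ∀ i, Function.Injective (algebraMap (Localization.AtPrime (q i)) (B i)))
    (hreg : ∀ i, algebraMap A (B i) t ∈ nonZeroDivisors (B i)) (n : ℕ)
    (hcond : ∀ i, ∀ b : B i, ∃ r : Localization.AtPrime (q i),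
      algebraMap (Localization.AtPrime (q i)) (B i) r = algebraMap A (B i) t ^ n * b) :
    ∃ C : Subalgebra A (Localization.Away t), Module.Finite A C ∧ IsLocalRing C ∧
      (∀ c : C, ∃ a : A, c - algebraMap A C a ∈ nonunits C) ∧
      (∀ c : C, ∃ a : A, algebraMap A C a = algebraMap A C t ^ n * c) ∧
      ∃ φ : ∀ i, C →ₐ[A] B i,
        (∀ i (β : B i), ∃ s, s ∉ q i ∧ ∃ c : C, φ i c = algebraMap A (B i) s * β) ∧
        (∀ i (c : C), φ i c = 0 → ∃ s, s ∉ q i ∧ s • c = 0) := by
  obtain ⟨k, hK⟩ := exists_K h hinj hreg n hcond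
  haveI hloc : IsLocalRing (Cn n k hK) := isLocalRing_Cn htnz
  refine ⟨Cn n k hK, inferInstance, hloc, ?_, exists_eq_pow_mul, fun i => phi i (hreg i), ?_, ?_⟩
  · intro c
    obtain ⟨a, ha⟩ := exists_sub_mem_maximalIdeal c
    exact ⟨a, ha⟩
  · intro i β
    exact exists_phi_eq h hreg hcond i β
  · intro i c hc
    exact phi_eq_zero i (hinj i) (hreg i) c hc

end Main

section Dim
variable {A : Type u} [CommRing A] [IsLocalRing A] [IsNoetherianRing A]

/-- in a two-dimensional local ring, primes containing a nonzerodivisor and different from the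
maximal ideal are pairwise incomparable. -/
theorem eq_of_le_of_dim_two (hA : ringKrullDim A = 2) {t : A} (htnz : t ∈ nonZeroDivisors A)
    {p₁ p₂ : Ideal A} [hp₁ : p₁.IsPrime] [hp₂ : p₂.IsPrime] (ht₁ : t ∈ p₁)
    (h₂ : p₂ ≠ maximalIdeal A) (hle : p₁ ≤ p₂) : p₁ = p₂ := by
  by_contra hne
  have hlt : p₁ < p₂ := lt_of_le_of_ne hle hne
  obtain ⟨p₀, hp₀, hp₀le⟩ := Ideal.exists_minimalPrimes_le (bot_le : (⊥ : Ideal A) ≤ p₁)
  haveI := hp₀.1.1
  have hp₀' : p₀ ∈ minimalPrimes A := hp₀
  have hne0 : p₀ ≠ p₁ := by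
    rintro rfl
    exact notMem_nonZeroDivisors_of_mem_mem_minimalPrimes ht₁ hp₀' htnz
  have hlt0 : p₀ < p₁ := lt_of_le_of_ne hp₀le hne0
  have hlt2 : p₂ < maximalIdeal A := lt_of_le_of_ne (le_maximalIdeal hp₂.ne_top) h₂
  have e1 : p₀.height < p₁.height := Ideal.height_strict_mono_of_isPrime hlt0
  have e2 : p₁.height < p₂.height := Ideal.height_strict_mono_of_isPrime hlt
  have e3 : p₂.height < (maximalIdeal A).height := Ideal.height_strict_mono_of_isPrime hlt2
  have e4 : ((maximalIdeal A).height : WithBot ℕ∞) ≤ 2 := by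
    rw [← hA]
    exact Ideal.height_le_ringKrullDim_of_isPrime
  have e5 : (3 : ℕ∞) ≤ (maximalIdeal A).height := by
    have a1 : (1 : ℕ∞) ≤ p₁.height := Order.one_le_iff_pos.2 ((zero_le : (0 : ℕ∞) ≤ p₀.height).trans_lt e1)
    have a2 : (2 : ℕ∞) ≤ p₂.height := by
      have := Order.add_one_le_of_lt e2
      calc (2 : ℕ∞) = 1 + 1 := by norm_num
        _ ≤ p₁.height + 1 := by gcongr
        _ ≤ p₂.height := this
    have := Order.add_one_le_of_lt e3
    calc (3 : ℕ∞) = 2 + 1 := by norm_num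
      _ ≤ p₂.height + 1 := by gcongr
      _ ≤ _ := this
  have e6 : ((3 : ℕ∞) : WithBot ℕ∞) ≤ ((2 : ℕ∞) : WithBot ℕ∞) := (WithBot.coe_le_coe.2 e5).trans e4
  have e7 : (3 : ℕ∞) ≤ 2 := WithBot.coe_le_coe.1 e6
  exact absurd e7 (by norm_num)

end Dim

end Groth.Agent.H63.Glue
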