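import Mathlib
import Groth.Agent.H63.KeyA
import Groth.Agent.H63.TameM

set_option autoImplicit false
set_option linter.style.haveILetI false
set_option linter.unusedSectionVars false
set_option linter.unusedVariables false
universe u

namespace Groth.Agent.H63.KeyF

open IsLocalRing

section AtPrime
variable {C : Type u} [CommRing C] (q' : Ideal C) [hq' : q'.IsPrime] (L : Type u) [CommRing L]
  [Algebra C L] [IsLocalization.AtPrime L q']

theorem nzd_of_reg (x : C) (hreg : ∀ c, x * c = 0 → ∃ s, s ∉ q' ∧ s * c = 0) :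
    algebraMap C L x ∈ nonZeroDivisors L := by
  rw [mem_nonZeroDivisors_iff_right]
  intro r hr
  obtain ⟨⟨c, s⟩, hcs⟩ := IsLocalization.surj q'.primeCompl r
  have h1 : algebraMap C L (x * c) = 0 := by
    rw [map_mul, ← hcs]
    calc algebraMap C L x * (r * algebraMap C L (s : C))
        = (r * algebraMap C L x) * algebraMap C L (s : C) := by ring
      _ = 0 := by rw [hr, zero_mul]
  obtain ⟨s', hs'⟩ := (IsLocalization.map_eq_zero_iff q'.primeCompl L (x * c)).1 h1
  obtain ⟨s'', hs'', h2⟩ := hreg ((s' : C) * c) (by rw [mul_left_comm]; exact hs')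
  have h3 : algebraMap C L c = 0 := by
    rw [IsLocalization.map_eq_zero_iff q'.primeCompl]
    exact ⟨⟨s'', hs''⟩ * s', by simpa [mul_assoc] using h2⟩
  have hu : IsUnit (algebraMap C L (s : C)) := IsLocalization.map_units _ s
  apply hu.mul_left_eq_zero.1
  rw [hcs, h3]

theorem ord_eq_ord_atPrime (x : C) :
    Ring.ord L (algebraMap C L x) =
      Ring.ord (Localization.AtPrime q') (algebraMap C (Localization.AtPrime q') x) := by
  let ψ := IsLocalization.algEquiv q'.primeCompl (Localization.AtPrime q') L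
  have h1 : ψ (algebraMap C (Localization.AtPrime q') x) = algebraMap C L x := ψ.commutes x
  rw [← h1]
  exact Groth.Agent.H63.Tame.ord_ringEquiv ψ.toRingEquiv _

theorem exists_locData (a b : C) (π : L) (hπ : π ∈ nonZeroDivisors L) (v₁ v₂ : Lˣ) (e f : ℕ)
    (h₁ : algebraMap C L a = v₁ * π ^ e) (h₂ : algebraMap C L b = v₂ * π ^ f) :
    Nonempty (LocData q' a b) := by
  obtain ⟨⟨x, σ⟩, hxσ⟩ := IsLocalization.surj q'.primeCompl π
  have hσu : IsUnit (algebraMap C L (σ : C)) := IsLocalization.map_units _ σ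
  -- general transport of one factorization
  have key : ∀ (z : C) (v : Lˣ) (k : ℕ), algebraMap C L z = v * π ^ k →
      ∃ z' z'' : C, z' ∉ q' ∧ z'' ∉ q' ∧ z' * z = z'' * x ^ k := by
    intro z v k hz
    obtain ⟨⟨c₁, c₂⟩, hc⟩ := IsLocalization.surj q'.primeCompl (v : L)
    have hc₁ : c₁ ∈ q'.primeCompl := by
      rw [← IsLocalization.AtPrime.isUnit_to_map_iff L q', ← hc]
      exact v.isUnit.mul (IsLocalization.map_units _ c₂)
    have h3 : algebraMap C L ((c₂ : C) * (σ : C) ^ k * z) = algebraMap C L (c₁ * x ^ k) := by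
      simp only [map_mul, map_pow]
      rw [hz, ← hc, ← hxσ]
      ring
    obtain ⟨c₃, hc₃⟩ := (IsLocalization.eq_iff_exists q'.primeCompl L).1 h3
    refine ⟨c₃ * ((c₂ : C) * (σ : C) ^ k), c₃ * c₁, ?_, ?_, ?_⟩
    · exact q'.primeCompl.mul_mem c₃.2 (q'.primeCompl.mul_mem c₂.2 (pow_mem σ.2 k))
    · exact q'.primeCompl.mul_mem c₃.2 hc₁
    · calc (c₃ : C) * ((c₂ : C) * (σ : C) ^ k) * z = c₃ * ((c₂ : C) * (σ : C) ^ k * z) := by ring
        _ = c₃ * (c₁ * x ^ k) := hc₃
        _ = c₃ * c₁ * x ^ k := by ring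
  obtain ⟨a', a'', ha', ha'', eqa⟩ := key a v₁ e h₁
  obtain ⟨b', b'', hb', hb'', eqb⟩ := key b v₂ f h₂
  refine ⟨⟨x, e, f, a', a'', b', b'', ha', ha'', hb', hb'', eqa, eqb, ?_⟩⟩
  intro c hc
  have hxnz : algebraMap C L x ∈ nonZeroDivisors L := by
    rw [← hxσ]
    exact mul_mem hπ hσu.mem_nonZeroDivisors
  have h4 : algebraMap C L c = 0 := by
    have := congrArg (algebraMap C L) hc
    rw [map_mul, map_zero] at this
    exact (mem_nonZeroDivisors_iff.1 hxnz).1 _ this
  obtain ⟨s, hs⟩ := (IsLocalization.map_eq_zero_iff q'.primeCompl L c).1 h4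
  exact ⟨s, s.2, hs⟩

end AtPrime

end Groth.Agent.H63.KeyF
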