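import Mathlib
import Groth.Agent.H48.NormAlg2
import Groth.Agent.H10.Len1
import Groth.Agent.H63.KeyL

set_option autoImplicit false
set_option linter.style.haveILetI false
set_option linter.unusedSectionVars false
set_option linter.unusedVariables false
universe u

namespace Groth.Agent.H63.KeyF

open IsLocalRing

section Abstract
variable {A₀ B₀ K F : Type u} [CommRing A₀] [IsDomain A₀] [IsNoetherianRing A₀]
  [Ring.KrullDimLE 1 A₀]
  [CommRing B₀] [IsDomain B₀] [Algebra A₀ B₀] [Module.Finite A₀ B₀] [IsLocalRing B₀]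
  [Field K] [Algebra A₀ K] [IsFractionRing A₀ K]
  [Field F] [Algebra B₀ F] [IsFractionRing B₀ F] [Algebra A₀ F] [IsScalarTower A₀ B₀ F]
  [Algebra K F] [IsScalarTower A₀ K F]

theorem ordFrac_norm_eq_ord
    (hres : ∀ b : B₀, ∃ a : A₀, b - algebraMap A₀ B₀ a ∈ maximalIdeal B₀)
    (b : B₀) (hb : b ≠ 0) :
    CycAlg.ordFrac A₀ K (Algebra.norm K (algebraMap B₀ F b)) = ((Ring.ord B₀ b).toNat : ℤ) := by
  rw [Groth.Agent.H48.NormAlg.ordFrac_norm_eq_length (K := K) (F := F) b hb]
  congr 2
  unfold Ring.ord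
  exact (Groth.Agent.H10.Len.length_eq_of_local hres (B₀ ⧸ Ideal.span {b})).symm

end Abstract

section Concrete
variable {A : Type u} [CommRing A] [IsLocalRing A] [IsNoetherianRing A] (q : Ideal A) [q.IsPrime]
  [Ring.KrullDimLE 1 (A ⧸ q)]
  {C : Type u} [CommRing C] [IsLocalRing C] [Algebra A C] [Module.Finite A C]
  (q' : Ideal C) [q'.IsPrime] [q'.LiesOver q]
  (L : Type u) [CommRing L] [IsLocalRing L] [Algebra C L] [IsLocalization.AtPrime L q']
  [Algebra (Localization.AtPrime q) L] [Algebra A L] [IsScalarTower A C L]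
  [IsScalarTower A (Localization.AtPrime q) L]
  [IsLocalHom (algebraMap (Localization.AtPrime q) L)]

theorem ordFrac_norm_residue
    (hres : ∀ c : C, ∃ a : A, c - algebraMap A C a ∈ maximalIdeal C)
    (z : C) (hz : z ∉ q') :
    CycAlg.ordFrac (A ⧸ q) q.ResidueField
      (Algebra.norm q.ResidueField (residue L (algebraMap C L z))) = ordq q' z := by
  classical
  letI algBF : Algebra (C ⧸ q') (ResidueField L) :=
    (Ideal.Quotient.lift q' ((residue L).comp (algebraMap C L)) (fun c hc => by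
      rw [RingHom.comp_apply, residue_eq_zero_iff]
      exact (IsLocalization.AtPrime.to_map_mem_maximal_iff L q' c).2 hc)).toAlgebra
  have halgBF : ∀ c : C, algebraMap (C ⧸ q') (ResidueField L) (Ideal.Quotient.mk q' c) =
      residue L (algebraMap C L c) := fun c => rfl
  have hinjBF : Function.Injective (algebraMap (C ⧸ q') (ResidueField L)) := by
    rw [injective_iff_map_eq_zero]
    intro x hx
    obtain ⟨c, rfl⟩ := Ideal.Quotient.mk_surjective x
    rw [halgBF, residue_eq_zero_iff, IsLocalization.AtPrime.to_map_mem_maximal_iff L q' c] at hx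
    exact Ideal.Quotient.eq_zero_iff_mem.2 hx
  haveI : IsFractionRing (C ⧸ q') (ResidueField L) := by
    refine ⟨?_, ?_, ?_⟩
    · intro y
      exact isUnit_iff_ne_zero.mpr (map_ne_zero_of_mem_nonZeroDivisors _ hinjBF y.2)
    · intro x
      obtain ⟨x, rfl⟩ := residue_surjective x
      obtain ⟨x, ⟨s, hs⟩, rfl⟩ := IsLocalization.exists_mk'_eq q'.primeCompl x
      refine ⟨⟨Ideal.Quotient.mk _ x, ⟨Ideal.Quotient.mk _ s, ?_⟩⟩, ?_⟩
      · rwa [mem_nonZeroDivisors_iff_ne_zero, ne_eq, Ideal.Quotient.eq_zero_iff_mem]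
      · change residue L _ * algebraMap (C ⧸ q') (ResidueField L) (Ideal.Quotient.mk _ s) =
          algebraMap (C ⧸ q') (ResidueField L) (Ideal.Quotient.mk _ x)
        rw [halgBF, halgBF, ← map_mul, IsLocalization.mk'_spec]
    · intro x y e
      exact ⟨1, by rw [hinjBF e]⟩
  letI algAF : Algebra (A ⧸ q) (ResidueField L) :=
    ((algebraMap q.ResidueField (ResidueField L)).comp
      (algebraMap (A ⧸ q) q.ResidueField)).toAlgebra
  haveI : IsScalarTower (A ⧸ q) q.ResidueField (ResidueField L) :=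
    IsScalarTower.of_algebraMap_eq fun _ => rfl
  haveI : IsScalarTower (A ⧸ q) (C ⧸ q') (ResidueField L) := by
    refine IsScalarTower.of_algebraMap_eq fun x => ?_
    obtain ⟨x, rfl⟩ := Ideal.Quotient.mk_surjective x
    change algebraMap q.ResidueField (ResidueField L)
      (algebraMap (A ⧸ q) q.ResidueField (Ideal.Quotient.mk q x)) = _
    rw [Ideal.Quotient.algebraMap_mk_of_liesOver, halgBF,
      Ideal.algebraMap_quotient_residueField_mk,
      IsScalarTower.algebraMap_apply A (Localization.AtPrime q) q.ResidueField x,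
      IsLocalRing.ResidueField.algebraMap_eq, IsLocalRing.ResidueField.algebraMap_residue,
      ← IsScalarTower.algebraMap_apply A (Localization.AtPrime q) L,
      ← IsScalarTower.algebraMap_apply A C L]
  haveI : Nontrivial (C ⧸ q') := Ideal.Quotient.nontrivial_iff.2 (Ideal.IsPrime.ne_top inferInstance)
  haveI : IsLocalRing (C ⧸ q') := .of_surjective' _ Ideal.Quotient.mk_surjective
  haveI : IsLocalHom (Ideal.Quotient.mk q') :=
    IsLocalHom.of_surjective (Ideal.Quotient.mk q') Ideal.Quotient.mk_surjective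
  have hres' : ∀ b : C ⧸ q', ∃ a : A ⧸ q,
      b - algebraMap (A ⧸ q) (C ⧸ q') a ∈ maximalIdeal (C ⧸ q') := by
    intro b
    obtain ⟨c, rfl⟩ := Ideal.Quotient.mk_surjective b
    obtain ⟨a, ha⟩ := hres c
    refine ⟨Ideal.Quotient.mk q a, ?_⟩
    rw [Ideal.Quotient.algebraMap_mk_of_liesOver, ← map_sub]
    intro hu
    apply ha
    exact (isUnit_map_iff (Ideal.Quotient.mk q') _).1 hu
  have hz' : Ideal.Quotient.mk q' z ≠ 0 := fun h => hz (Ideal.Quotient.eq_zero_iff_mem.1 h)
  have := ordFrac_norm_eq_ord (A₀ := A ⧸ q) (B₀ := C ⧸ q') (K := q.ResidueField)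
    (F := ResidueField L) hres' (Ideal.Quotient.mk q' z) hz'
  rw [halgBF] at this
  exact this

end Concrete

end Groth.Agent.H63.KeyF
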