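import Mathlib
import Groth.Agent.H54.SecOrdGen

set_option autoImplicit false
set_option linter.style.haveILetI false
set_option linter.unusedSectionVars false
set_option linter.unusedVariables false
universe u v

namespace Groth.Agent.H63.KeyF

open Groth.Agent.H54.SecOrdGen

section Ord
variable (R₀ : Type u) [CommRing R₀] (K : Type v) [Field K] [Algebra R₀ K]

theorem ordFrac_prod {ι : Type*} (s : Finset ι) (g : ι → K) (hg : ∀ i ∈ s, g i ≠ 0) :
    CycAlg.ordFrac R₀ K (∏ i ∈ s, g i) = ∑ i ∈ s, CycAlg.ordFrac R₀ K (g i) := by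
  classical
  induction s using Finset.induction_on with
  | empty => simp [ordFrac_one]
  | insert i s hi ih =>
    rw [Finset.prod_insert hi, Finset.sum_insert hi,
      ordFrac_mul R₀ K (hg i (Finset.mem_insert_self i s))
        (Finset.prod_ne_zero_iff.2 fun j hj => hg j (Finset.mem_insert_of_mem hj)),
      ih fun j hj => hg j (Finset.mem_insert_of_mem hj)]

theorem ordFrac_eq_zero_of_sq {y : K} (hy : y * y = 1) : CycAlg.ordFrac R₀ K y = 0 := by
  have hy0 : y ≠ 0 := by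
    rintro rfl
    simp at hy
  have h := ordFrac_mul R₀ K hy0 hy0
  rw [hy, ordFrac_one] at h
  omega

variable (F : Type v) [Field F] [Algebra K F]

/-- `ν y = ord (Nm y)`. -/
noncomputable def nu (y : F) : ℤ := CycAlg.ordFrac R₀ K (Algebra.norm K y)

variable {F}

theorem norm_ne_zero' {y : F} (hy : y ≠ 0) : Algebra.norm K y ≠ 0 := by
  intro h
  have h1 : Algebra.norm K y * Algebra.norm K y⁻¹ = 1 := by
    rw [← map_mul, mul_inv_cancel₀ hy, map_one]
  rw [h, zero_mul] at h1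
  exact zero_ne_one h1

theorem nu_mul {y z : F} (hy : y ≠ 0) (hz : z ≠ 0) : nu R₀ K F (y * z) = nu R₀ K F y + nu R₀ K F z := by
  unfold nu
  rw [map_mul, ordFrac_mul R₀ K (norm_ne_zero' K hy) (norm_ne_zero' K hz)]

theorem nu_one : nu R₀ K F 1 = 0 := by
  unfold nu
  rw [map_one, ordFrac_one]

theorem nu_inv {y : F} (hy : y ≠ 0) : nu R₀ K F y⁻¹ = - nu R₀ K F y := by
  have h := nu_mul R₀ K hy (inv_ne_zero hy)
  rw [mul_inv_cancel₀ hy, nu_one] at h
  omega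

theorem nu_pow {y : F} (hy : y ≠ 0) (n : ℕ) : nu R₀ K F (y ^ n) = n * nu R₀ K F y := by
  induction n with
  | zero => simp [nu_one]
  | succ n ih =>
    rw [pow_succ, nu_mul R₀ K (pow_ne_zero n hy) hy, ih]
    push_cast
    ring

theorem nu_neg_one_pow (k : ℕ) : nu R₀ K F ((-1 : F) ^ k) = 0 := by
  have h1 : ((-1 : F) ^ k) ≠ 0 := pow_ne_zero _ (neg_ne_zero.2 one_ne_zero)
  have h := nu_mul R₀ K h1 h1
  rw [← pow_add, ← two_mul, pow_mul, neg_one_sq, one_pow, nu_one] at h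
  omega

theorem ordFrac_norm_pow (y : F) (hy : y ≠ 0) (m : ℕ) :
    CycAlg.ordFrac R₀ K (Algebra.norm K y ^ m) = m * nu R₀ K F y := by
  rw [ordFrac_pow R₀ K (norm_ne_zero' K hy)]
  rfl

/-- the order of the norm of the local tame expression. -/
theorem nu_th (a' a'' b' b'' : F) (ha' : a' ≠ 0) (ha'' : a'' ≠ 0) (hb' : b' ≠ 0) (hb'' : b'' ≠ 0)
    (e f : ℕ) :
    nu R₀ K F ((-1 : F) ^ (e * f) * (a'' * a'⁻¹) ^ f * ((b'' * b'⁻¹) ^ e)⁻¹) =
      (f : ℤ) * (nu R₀ K F a'' - nu R₀ K F a') - (e : ℤ) * (nu R₀ K F b'' - nu R₀ K F b') := by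
  have h1 : ((-1 : F) ^ (e * f)) ≠ 0 := pow_ne_zero _ (neg_ne_zero.2 one_ne_zero)
  have h2 : a'' * a'⁻¹ ≠ 0 := mul_ne_zero ha'' (inv_ne_zero ha')
  have h3 : b'' * b'⁻¹ ≠ 0 := mul_ne_zero hb'' (inv_ne_zero hb')
  rw [nu_mul R₀ K (mul_ne_zero h1 (pow_ne_zero _ h2)) (inv_ne_zero (pow_ne_zero _ h3)),
    nu_mul R₀ K h1 (pow_ne_zero _ h2), nu_neg_one_pow, nu_inv R₀ K (pow_ne_zero _ h3),
    nu_pow R₀ K h2, nu_pow R₀ K h3, nu_mul R₀ K ha'' (inv_ne_zero ha'),
    nu_mul R₀ K hb'' (inv_ne_zero hb'), nu_inv R₀ K ha', nu_inv R₀ K hb']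
  ring

end Ord

end Groth.Agent.H63.KeyF
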