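import Mathlib
import Groth.Agent.H63.KeyM
import Groth.Agent.H63.KeyN
import Groth.Agent.H63.TameJ
import Groth.Agent.H63.TameM

set_option autoImplicit false
set_option linter.style.haveILetI false
set_option linter.unusedSectionVars false
set_option linter.unusedVariables false
universe u

namespace Groth.Agent.H63.KeyF

open IsLocalRing CycAlg Groth.Agent.H63.Tame

section FacOf
variable {C L : Type u} [CommRing C] [CommRing L] [Algebra C L] (q' : Ideal C) [q'.IsPrime]
  [IsLocalization.AtPrime L q']

/-- the factorization coming from a relation `z' z = z'' x^k` with `z', z'' ∉ q'`. -/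
noncomputable def facOf (x z z' z'' : C) (k : ℕ) (hz' : z' ∉ q') (hz'' : z'' ∉ q')
    (h : z' * z = z'' * x ^ k) : Fac L (algebraMap C L x) (algebraMap C L z) where
  u := (IsLocalization.map_units L (⟨z'', hz''⟩ : q'.primeCompl)).unit *
    (IsLocalization.map_units L (⟨z', hz'⟩ : q'.primeCompl)).unit⁻¹
  e := k
  eq := by
    have hu : IsUnit (algebraMap C L z') := IsLocalization.map_units L (⟨z', hz'⟩ : q'.primeCompl)
    rw [← hu.mul_right_inj]
    have h1 := congrArg (algebraMap C L) h
    rw [map_mul, map_mul, map_pow] at h1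
    rw [h1, Units.val_mul]
    have h2 : algebraMap C L z' * ((IsLocalization.map_units L (⟨z', hz'⟩ : q'.primeCompl)).unit⁻¹ : Lˣ) = 1 :=
      (IsLocalization.map_units L (⟨z', hz'⟩ : q'.primeCompl)).mul_val_inv
    calc algebraMap C L z'' * algebraMap C L x ^ k
        = (algebraMap C L z' * ((IsLocalization.map_units L (⟨z', hz'⟩ : q'.primeCompl)).unit⁻¹ : Lˣ)) *
            (algebraMap C L z'' * algebraMap C L x ^ k) := by rw [h2, one_mul]
      _ = _ := by
        simp only [IsUnit.unit_spec]
        ring

theorem facOf_e (x z z' z'' : C) (k : ℕ) (hz' : z' ∉ q') (hz'' : z'' ∉ q')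
    (h : z' * z = z'' * x ^ k) : (facOf (L := L) q' x z z' z'' k hz' hz'' h).e = k := rfl

theorem residue_facOf_u [IsLocalRing L] (x z z' z'' : C) (k : ℕ) (hz' : z' ∉ q') (hz'' : z'' ∉ q')
    (h : z' * z = z'' * x ^ k) :
    residue L ((facOf (L := L) q' x z z' z'' k hz' hz'' h).u : L) =
      residue L (algebraMap C L z'') * (residue L (algebraMap C L z'))⁻¹ := by
  unfold facOf
  simp only [Units.val_mul, map_mul, IsUnit.unit_spec]
  congr 1
  rw [map_units_inv, IsUnit.unit_spec]

end FacOf

section Aux
variable {A : Type u} [CommRing A] [IsLocalRing A] (q : Ideal A) [q.IsPrime]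
  {C : Type u} [CommRing C] [Algebra A C]
  (Bq : Type u) [CommRing Bq] [Algebra (Localization.AtPrime q) Bq] [Algebra A Bq]
  [IsScalarTower A (Localization.AtPrime q) Bq] [Algebra C Bq] [IsScalarTower A C Bq]
  [IsLocalization (Algebra.algebraMapSubmonoid C q.primeCompl) Bq]

include q in
theorem isLocalization_atPrime_comap (l : Ideal Bq) [l.IsPrime] :
    IsLocalization.AtPrime (Localization.AtPrime l) (l.comap (algebraMap C Bq)) :=
  IsLocalization.isLocalization_isLocalization_atPrime_isLocalization
    (Algebra.algebraMapSubmonoid C q.primeCompl) _ l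

theorem comap_comap_eq' [Module.Finite (Localization.AtPrime q) Bq] (l : MaximalSpectrum Bq) :
    Ideal.comap (algebraMap A C) (l.asIdeal.comap (algebraMap C Bq)) = q := by
  rw [Ideal.comap_comap, ← IsScalarTower.algebraMap_eq,
    IsScalarTower.algebraMap_eq A (Localization.AtPrime q) Bq, ← Ideal.comap_comap,
    comap_eq Bq l]
  exact IsLocalization.AtPrime.under_maximalIdeal (Localization.AtPrime q) q

theorem liesOver_comap [Module.Finite (Localization.AtPrime q) Bq] (l : MaximalSpectrum Bq) :
    (l.asIdeal.comap (algebraMap C Bq)).LiesOver q :=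
  ⟨(comap_comap_eq' q Bq l).symm⟩

theorem isScalarTower_A_C_loc (l : Ideal Bq) [l.IsPrime] :
    IsScalarTower A C (Localization.AtPrime l) := by
  refine IsScalarTower.of_algebraMap_eq fun x => ?_
  rw [IsScalarTower.algebraMap_apply A Bq (Localization.AtPrime l),
    IsScalarTower.algebraMap_apply C Bq (Localization.AtPrime l),
    ← IsScalarTower.algebraMap_apply A C Bq]

theorem isScalarTower_A_R_loc' (l : Ideal Bq) [l.IsPrime] :
    IsScalarTower A (Localization.AtPrime q) (Localization.AtPrime l) := by
  refine IsScalarTower.of_algebraMap_eq fun x => ?_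
  rw [IsScalarTower.algebraMap_apply A Bq (Localization.AtPrime l),
    IsScalarTower.algebraMap_apply (Localization.AtPrime q) Bq (Localization.AtPrime l),
    ← IsScalarTower.algebraMap_apply A (Localization.AtPrime q) Bq]

theorem algebraMap_C_loc' (l : Ideal Bq) [l.IsPrime] (z : A) :
    algebraMap C (Localization.AtPrime l) (algebraMap A C z) =
      algebraMap (Localization.AtPrime q) (Localization.AtPrime l)
        (algebraMap A (Localization.AtPrime q) z) := by
  haveI := isScalarTower_A_C_loc (A := A) (C := C) Bq l
  haveI := isScalarTower_A_R_loc' q Bq l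
  rw [← IsScalarTower.algebraMap_apply A C,
    ← IsScalarTower.algebraMap_apply A (Localization.AtPrime q)]

end Aux

section T
variable {A : Type u} [CommRing A] [IsLocalRing A] [IsNoetherianRing A] (q : Ideal A) [q.IsPrime]
  [Ring.KrullDimLE 1 (A ⧸ q)]
  {C : Type u} [CommRing C] [IsLocalRing C] [Algebra A C] [Module.Finite A C]
  (Bq : Type u) [CommRing Bq] [Algebra (Localization.AtPrime q) Bq] [Algebra A Bq]
  [IsScalarTower A (Localization.AtPrime q) Bq] [Algebra C Bq] [IsScalarTower A C Bq]
  [IsLocalization (Algebra.algebraMapSubmonoid C q.primeCompl) Bq]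

theorem ordFrac_tameSymbol_eq
    (hR : ringKrullDim (Localization.AtPrime q) = 1)
    (hres : ∀ c : C, ∃ a : A, c - algebraMap A C a ∈ maximalIdeal C)
    (hfe : IsFinExt (Localization.AtPrime q) Bq (maximalIdeal (Localization.AtPrime q)))
    (a b : A)
    (ha : algebraMap A (Localization.AtPrime q) a ∈ nonZeroDivisors (Localization.AtPrime q))
    (hb : algebraMap A (Localization.AtPrime q) b ∈ nonZeroDivisors (Localization.AtPrime q))
    (D : ∀ l : MaximalSpectrum Bq, LocData (l.asIdeal.comap (algebraMap C Bq))
      (algebraMap A C a) (algebraMap A C b)) :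
    CycAlg.ordFrac (A ⧸ q) q.ResidueField
      (tameSymbol (Localization.AtPrime q) (algebraMap A (Localization.AtPrime q) a)
        (algebraMap A (Localization.AtPrime q) b)) = ∑ᶠ l, (D l).val := by
  classical
  haveI : IsNoetherianRing (Localization.AtPrime q) :=
    IsLocalization.isNoetherianRing q.primeCompl _ inferInstance
  haveI hfin : Module.Finite (Localization.AtPrime q) Bq := hfe.2.1
  haveI := finite_maximalSpectrum (A := Localization.AtPrime q) Bq
  haveI := Fintype.ofFinite (MaximalSpectrum Bq)
  have hLoc : ∀ l : MaximalSpectrum Bq, IsLocalization.AtPrime (Localization.AtPrime l.asIdeal)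
      (l.asIdeal.comap (algebraMap C Bq)) := fun l =>
    IsLocalization.isLocalization_isLocalization_atPrime_isLocalization
      (Algebra.algebraMapSubmonoid C q.primeCompl) _ l.asIdeal
  have hover : ∀ l : MaximalSpectrum Bq, (l.asIdeal.comap (algebraMap C Bq)).LiesOver q := by
    intro l
    constructor
    change q = Ideal.comap (algebraMap A C) (l.asIdeal.comap (algebraMap C Bq))
    rw [Ideal.comap_comap, ← IsScalarTower.algebraMap_eq,
      IsScalarTower.algebraMap_eq A (Localization.AtPrime q) Bq, ← Ideal.comap_comap,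
      comap_eq Bq l]
    exact (IsLocalization.AtPrime.under_maximalIdeal (Localization.AtPrime q) q).symm
  have hlh : ∀ l : MaximalSpectrum Bq,
      IsLocalHom (algebraMap (Localization.AtPrime q) (Localization.AtPrime l.asIdeal)) :=
    fun l => isLocalHom_algebraMap Bq l
  have htAC : ∀ l : MaximalSpectrum Bq, IsScalarTower A C (Localization.AtPrime l.asIdeal) := by
    intro l
    refine IsScalarTower.of_algebraMap_eq fun x => ?_
    rw [IsScalarTower.algebraMap_apply A Bq (Localization.AtPrime l.asIdeal),
      IsScalarTower.algebraMap_apply C Bq (Localization.AtPrime l.asIdeal),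
      ← IsScalarTower.algebraMap_apply A C Bq]
  have htAR : ∀ l : MaximalSpectrum Bq,
      IsScalarTower A (Localization.AtPrime q) (Localization.AtPrime l.asIdeal) := by
    intro l
    refine IsScalarTower.of_algebraMap_eq fun x => ?_
    rw [IsScalarTower.algebraMap_apply A Bq (Localization.AtPrime l.asIdeal),
      IsScalarTower.algebraMap_apply (Localization.AtPrime q) Bq (Localization.AtPrime l.asIdeal),
      ← IsScalarTower.algebraMap_apply A (Localization.AtPrime q) Bq]
  let S : Base (Localization.AtPrime q) :=
    { B := Bq, isFinExt := hfe,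
      π := fun l => algebraMap C (Localization.AtPrime l.asIdeal) (D l).x,
      π_mem := fun l => by
        haveI := hLoc l
        exact nzd_of_reg (l.asIdeal.comap (algebraMap C Bq)) _ (D l).x (D l).reg }
  have hcastC : ∀ (l : MaximalSpectrum Bq) (z : A),
      algebraMap C (Localization.AtPrime l.asIdeal) (algebraMap A C z) =
        algebraMap (Localization.AtPrime q) (Localization.AtPrime l.asIdeal)
          (algebraMap A (Localization.AtPrime q) z) := by
    intro l z
    haveI := htAC l
    haveI := htAR l
    rw [← IsScalarTower.algebraMap_apply A C, ← IsScalarTower.algebraMap_apply A (Localization.AtPrime q)]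
  let F : ∀ l : MaximalSpectrum S.B, Fac (Localization.AtPrime l.asIdeal) (S.π l)
      (algebraMap (Localization.AtPrime q) _ (algebraMap A (Localization.AtPrime q) a)) := fun l =>
    haveI := hLoc l
    (facOf (L := Localization.AtPrime l.asIdeal) (l.asIdeal.comap (algebraMap C Bq)) (D l).x
      (algebraMap A C a) (D l).a' (D l).a'' (D l).e (D l).ha' (D l).ha'' (D l).eqa).cast (hcastC l a)
  let G : ∀ l : MaximalSpectrum S.B, Fac (Localization.AtPrime l.asIdeal) (S.π l)
      (algebraMap (Localization.AtPrime q) _ (algebraMap A (Localization.AtPrime q) b)) := fun l =>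
    haveI := hLoc l
    (facOf (L := Localization.AtPrime l.asIdeal) (l.asIdeal.comap (algebraMap C Bq)) (D l).x
      (algebraMap A C b) (D l).b' (D l).b'' (D l).f (D l).hb' (D l).hb'' (D l).eqb).cast (hcastC l b)
  rw [tameSymbol_eq hR ha hb (S.tame F G), S.tame_value F G, finprod_eq_prod_of_fintype,
    finsum_eq_sum_of_fintype, ordFrac_prod]
  · refine Finset.sum_congr rfl fun l _ => ?_
    haveI := hLoc l
    haveI := hover l
    haveI := hlh l
    haveI := htAC l
    haveI := htAR l
    rw [ordFrac_norm_pow (A ⧸ q) q.ResidueField _ (Fac.th_ne_zero _ _)]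
    have hne : ∀ z : C, z ∉ l.asIdeal.comap (algebraMap C Bq) →
        residue (Localization.AtPrime l.asIdeal)
          (algebraMap C (Localization.AtPrime l.asIdeal) z) ≠ 0 := by
      intro z hz
      rw [ne_eq, residue_eq_zero_iff, IsLocalization.AtPrime.to_map_mem_maximal_iff
        (Localization.AtPrime l.asIdeal) (l.asIdeal.comap (algebraMap C Bq)) z]
      exact hz
    have hth : Fac.th (F l) (G l) =
        (-1 : ResidueField (Localization.AtPrime l.asIdeal)) ^ ((D l).e * (D l).f) *
          (residue _ (algebraMap C (Localization.AtPrime l.asIdeal) (D l).a'') *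
            (residue _ (algebraMap C (Localization.AtPrime l.asIdeal) (D l).a'))⁻¹) ^ (D l).f *
          ((residue _ (algebraMap C (Localization.AtPrime l.asIdeal) (D l).b'') *
            (residue _ (algebraMap C (Localization.AtPrime l.asIdeal) (D l).b'))⁻¹) ^ (D l).e)⁻¹ := by
      unfold Fac.th
      simp only [F, G, Fac.cast_u, Fac.cast_e, facOf_e, residue_facOf_u]
    rw [hth, nu_th (A ⧸ q) q.ResidueField _ _ _ _ (hne _ (D l).ha') (hne _ (D l).ha'')
      (hne _ (D l).hb') (hne _ (D l).hb'')]
    unfold nu
    rw [ordFrac_norm_residue q _ _ hres _ (D l).ha'', ordFrac_norm_residue q _ _ hres _ (D l).ha',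
      ordFrac_norm_residue q _ _ hres _ (D l).hb'', ordFrac_norm_residue q _ _ hres _ (D l).hb']
    unfold LocData.val
    rw [← ord_eq_ord_atPrime (l.asIdeal.comap (algebraMap C Bq)) (Localization.AtPrime l.asIdeal)]
  · intro l _
    exact pow_ne_zero _ (norm_ne_zero' _ (Fac.th_ne_zero _ _))

end T

end Groth.Agent.H63.KeyF
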