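import Mathlib
import Groth.Agent.H63.GlueE
import Groth.Agent.H63.KeyT

set_option autoImplicit false
set_option linter.style.haveILetI false
set_option linter.unusedSectionVars false
set_option linter.unusedVariables false
universe u

namespace Groth.Agent.H63.KeyF

open IsLocalRing CycAlg Groth.Agent.H63.Glue Groth.Agent.H63.Tame

section V1
variable {A : Type u} [CommRing A] [IsLocalRing A] [IsNoetherianRing A]

/-- the index set: height-one primes containing `t`. -/
abbrev Idx (A : Type u) [CommRing A] (t : A) : Type u :=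
  {p : PrimeSpectrum A // p.asIdeal.height = 1 ∧ t ∈ p.asIdeal}

theorem ne_max_of_height_one (hA : ringKrullDim A = 2) {p : Ideal A} (hp : p.height = 1) :
    p ≠ maximalIdeal A := by
  rintro rfl
  have h1 := IsLocalRing.maximalIdeal_height_eq_ringKrullDim (R := A)
  rw [hA, hp] at h1
  have h2 : ((1 : ℕ∞) : WithBot ℕ∞) = ((2 : ℕ∞) : WithBot ℕ∞) := h1
  have h3 : (1 : ℕ∞) = 2 := WithBot.coe_injective h2
  exact absurd h3 (by norm_num)

theorem height_eq_one_of_mem (hA : ringKrullDim A = 2) {t : A} (htnz : t ∈ nonZeroDivisors A)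
    {p : Ideal A} [hp : p.IsPrime] (htp : t ∈ p) (hpm : p ≠ maximalIdeal A) : p.height = 1 := by
  have h0 : p.height ≠ 0 := by
    intro h
    rw [Ideal.height_eq_zero_iff] at h
    exact notMem_nonZeroDivisors_of_mem_mem_minimalPrimes htp h htnz
  have hlt : p < maximalIdeal A := lt_of_le_of_ne (le_maximalIdeal hp.ne_top) hpm
  have e3 : p.height < (maximalIdeal A).height := Ideal.height_strict_mono_of_isPrime hlt
  have e4 : ((maximalIdeal A).height : WithBot ℕ∞) = ((2 : ℕ∞) : WithBot ℕ∞) := by
    rw [IsLocalRing.maximalIdeal_height_eq_ringKrullDim, hA]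
    rfl
  have e5 : (maximalIdeal A).height = 2 := WithBot.coe_injective e4
  rw [e5] at e3
  have e6 : p.height ≤ 1 := by
    have : (2 : ℕ∞) = 1 + 1 := by norm_num
    rw [this] at e3
    exact Order.le_of_lt_add_one e3
  exact le_antisymm e6 (Order.one_le_iff_pos.2 (pos_iff_ne_zero.2 h0))

theorem ctx_of_dim_two (hA : ringKrullDim A = 2) {t : A} (htnz : t ∈ nonZeroDivisors A) :
    Ctx t (fun i : Idx A t => i.1.asIdeal) := by
  refine ⟨fun i => i.1.2, fun i => ne_max_of_height_one hA i.2.1, fun i => i.2.2, ?_, ?_⟩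
  · intro p hp htp
    by_cases hpm : p = maximalIdeal A
    · exact Or.inl hpm
    · exact Or.inr ⟨⟨⟨p, hp⟩, height_eq_one_of_mem hA htnz htp hpm, htp⟩, rfl⟩
  · intro i j hle
    haveI := i.1.2
    haveI := j.1.2
    exact Subtype.ext (PrimeSpectrum.ext
      (eq_of_le_of_dim_two hA htnz i.2.2 (ne_max_of_height_one hA j.2.1) hle))

theorem finite_idx (hA : ringKrullDim A = 2) {t : A} (htnz : t ∈ nonZeroDivisors A) :
    Finite (Idx A t) := by
  have hfin := Ideal.finite_minimalPrimes_of_isNoetherianRing A (Ideal.span {t})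
  haveI := hfin.to_subtype
  refine Finite.of_injective (fun i : Idx A t =>
    (⟨i.1.asIdeal, ?_⟩ : (Ideal.span {t}).minimalPrimes)) ?_
  · haveI := i.1.2
    refine ⟨⟨i.1.2, (Ideal.span_singleton_le_iff_mem _).2 i.2.2⟩, ?_⟩
    rintro p ⟨hp, htp⟩ hle
    haveI := hp
    exact (eq_of_le_of_dim_two hA htnz ((Ideal.span_singleton_le_iff_mem _).1 htp)
      (ne_max_of_height_one hA i.2.1) hle).ge
  · intro i j h
    exact Subtype.ext (PrimeSpectrum.ext (congrArg Subtype.val h))

end V1

section V2
variable {A : Type u} [CommRing A] [IsLocalRing A] {t : A} {ι : Type u} {q : ι → Ideal A}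

theorem krullDimLE_one_quot (h : Ctx t q) (i : ι) [hqi : (q i).IsPrime] :
    Ring.KrullDimLE 1 (A ⧸ q i) := by
  refine Ring.KrullDimLE.mk₁' fun P hP0 hPp => ?_
  haveI := hPp
  have hcm : (P.comap (Ideal.Quotient.mk (q i))).IsPrime := Ideal.comap_isPrime _ _
  have hle : q i ≤ P.comap (Ideal.Quotient.mk (q i)) := by
    intro x hx
    rw [Ideal.mem_comap, Ideal.Quotient.eq_zero_iff_mem.2 hx]
    exact P.zero_mem
  have hne : q i ≠ P.comap (Ideal.Quotient.mk (q i)) := by
    intro heq
    apply hP0
    rw [eq_bot_iff]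
    intro x hx
    obtain ⟨x, rfl⟩ := Ideal.Quotient.mk_surjective x
    have : x ∈ P.comap (Ideal.Quotient.mk (q i)) := hx
    rw [← heq] at this
    rw [Ideal.mem_bot, Ideal.Quotient.eq_zero_iff_mem]
    exact this
  have hmax : P.comap (Ideal.Quotient.mk (q i)) = maximalIdeal A := by
    rcases h.cover _ hcm (hle (h.mem i)) with hm | ⟨j, hj⟩
    · exact hm
    · exfalso
      have hij : i = j := h.inc i j (hj ▸ hle)
      subst hij
      exact hne hj.symm
  have hPeq : P = Ideal.map (Ideal.Quotient.mk (q i)) (maximalIdeal A) := by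
    rw [← hmax, Ideal.map_comap_of_surjective _ Ideal.Quotient.mk_surjective]
  rcases Ideal.map_eq_top_or_isMaximal_of_surjective (Ideal.Quotient.mk (q i))
    Ideal.Quotient.mk_surjective (maximalIdeal.isMaximal A) with htop | hmx
  · exact absurd (hPeq.trans htop) hPp.ne_top
  · rw [hPeq]
    exact hmx

end V2

section V3
variable {A : Type u} [CommRing A] [IsLocalRing A] {t : A} {ι : Type u} {q : ι → Ideal A}
  [hqp : ∀ i, (q i).IsPrime]
  {C : Type u} [CommRing C] [IsLocalRing C] [Algebra A C] [Module.Finite A C]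
  (B : ι → Type u) [∀ i, CommRing (B i)] [∀ i, Algebra (Localization.AtPrime (q i)) (B i)]
  [∀ i, Algebra A (B i)] [∀ i, IsScalarTower A (Localization.AtPrime (q i)) (B i)]
  [∀ i, Algebra C (B i)] [∀ i, IsScalarTower A C (B i)]
  [∀ i, IsLocalization (Algebra.algebraMapSubmonoid C (q i).primeCompl) (B i)]
  [∀ i, Module.Finite (Localization.AtPrime (q i)) (B i)]

/-- the primes of `C` over the `q i`. -/
def qC (k : Σ i, MaximalSpectrum (B i)) : Ideal C :=
  k.2.asIdeal.comap (algebraMap C (B k.1))

instance qC_isPrime (k : Σ i, MaximalSpectrum (B i)) : (qC (C := C) B k).IsPrime :=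
  Ideal.comap_isPrime _ _

theorem comap_maximalIdeal_C : (maximalIdeal C).comap (algebraMap A C) = maximalIdeal A := by
  haveI : Algebra.IsIntegral A C := Algebra.IsIntegral.of_finite A C
  exact eq_maximalIdeal (Ideal.isMaximal_comap_of_isIntegral_of_isMaximal (maximalIdeal C))

theorem ctx_C (h : Ctx t q) : Ctx (algebraMap A C t) (qC (C := C) B) := by
  haveI : Algebra.IsIntegral A C := Algebra.IsIntegral.of_finite A C
  have hcomap : ∀ k : Σ i, MaximalSpectrum (B i),
      (qC (C := C) B k).comap (algebraMap A C) = q k.1 := fun k =>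
    comap_comap_eq' (q k.1) (B k.1) k.2
  refine ⟨fun k => inferInstance, ?_, ?_, ?_, ?_⟩
  · intro k heq
    have := hcomap k
    rw [heq, comap_maximalIdeal_C] at this
    exact h.ne_max k.1 this.symm
  · intro k
    have h2 : t ∈ (qC (C := C) B k).comap (algebraMap A C) := by
      rw [hcomap k]
      exact h.mem k.1
    exact h2
  · intro P hP htP
    haveI := hP
    have hp : (P.comap (algebraMap A C)).IsPrime := Ideal.comap_isPrime _ _
    rcases h.cover _ hp htP with hm | ⟨i, hi⟩
    · left
      have hmax : (P.comap (algebraMap A C)).IsMaximal := hm ▸ maximalIdeal.isMaximal A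
      exact eq_maximalIdeal (Ideal.isMaximal_of_isIntegral_of_isMaximal_comap P hmax)
    · right
      have hdisj : Disjoint ((Algebra.algebraMapSubmonoid C (q i).primeCompl : Submonoid C) : Set C)
          (P : Set C) := by
        rw [Set.disjoint_left]
        rintro _ ⟨s, hs, rfl⟩ hsP
        apply hs
        rw [← hi]
        exact hsP
      have hP'prime : (P.map (algebraMap C (B i))).IsPrime :=
        IsLocalization.isPrime_of_isPrime_disjoint
          (Algebra.algebraMapSubmonoid C (q i).primeCompl) (B i) P hP hdisj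
      have hP'comap : (P.map (algebraMap C (B i))).comap (algebraMap C (B i)) = P :=
        IsLocalization.under_map_of_isPrime_disjoint
          (Algebra.algebraMapSubmonoid C (q i).primeCompl) (B i) hP hdisj
      have hP'A : (P.map (algebraMap C (B i))).comap (algebraMap A (B i)) = q i := by
        rw [IsScalarTower.algebraMap_eq A C (B i), ← Ideal.comap_comap, hP'comap, hi]
      have hJ : ((P.map (algebraMap C (B i))).comap
          (algebraMap (Localization.AtPrime (q i)) (B i))).comap
            (algebraMap A (Localization.AtPrime (q i))) = q i := by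
        rw [Ideal.comap_comap, ← IsScalarTower.algebraMap_eq]
        exact hP'A
      have hP'R : (P.map (algebraMap C (B i))).comap
          (algebraMap (Localization.AtPrime (q i)) (B i)) =
            maximalIdeal (Localization.AtPrime (q i)) := by
        rw [← IsLocalization.map_under (q i).primeCompl (Localization.AtPrime (q i))
          ((P.map (algebraMap C (B i))).comap (algebraMap (Localization.AtPrime (q i)) (B i)))]
        change Ideal.map _ (Ideal.comap _ _) = _
        rw [hJ, IsLocalization.AtPrime.map_eq_maximalIdeal]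
      have hP'max : (P.map (algebraMap C (B i))).IsMaximal := by
        haveI : Algebra.IsIntegral (Localization.AtPrime (q i)) (B i) :=
          Algebra.IsIntegral.of_finite _ _
        exact Ideal.isMaximal_of_isIntegral_of_isMaximal_comap
          (R := Localization.AtPrime (q i)) _ (hP'R ▸ maximalIdeal.isMaximal _)
      exact ⟨⟨i, ⟨_, hP'max⟩⟩, hP'comap.symm⟩
  · rintro ⟨i, l⟩ ⟨j, l'⟩ hle
    have hij : i = j := h.inc i j (by
      rw [← hcomap ⟨i, l⟩, ← hcomap ⟨j, l'⟩]
      exact Ideal.comap_mono hle)
    subst hij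
    have hll : l.asIdeal ≤ l'.asIdeal := by
      rw [← IsLocalization.map_under (Algebra.algebraMapSubmonoid C (q i).primeCompl) (B i)
        l.asIdeal, ← IsLocalization.map_under (Algebra.algebraMapSubmonoid C (q i).primeCompl)
        (B i) l'.asIdeal]
      exact Ideal.map_mono hle
    have := l.isMaximal.eq_of_le l'.isMaximal.ne_top hll
    rw [MaximalSpectrum.ext this]

end V3

end Groth.Agent.H63.KeyF
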