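import Mathlib
import Groth.Agent.H63.TameI

set_option autoImplicit false
set_option linter.style.haveILetI false
set_option linter.unusedSectionVars false
universe u

namespace Groth.Agent.H63.Tame

open IsLocalRing CycAlg

section Exist
variable {A : Type u} [CommRing A] [IsLocalRing A] [IsNoetherianRing A]

/-- **Existence of local factorizations** inside `A[1/a₀]`, over a given finite subalgebra. -/
theorem exists_factorizations_over (hA : ringKrullDim A ≤ 1) (r : ℕ) (a : Fin r → A)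
    (a₀ : A) (ha₀ : a₀ ∈ nonZeroDivisors A) (ha₀m : a₀ ∈ maximalIdeal A)
    (hdvd : ∀ i, a i ∣ a₀)
    (B₀ : Subalgebra A (Localization.Away a₀)) [Module.Finite A B₀] :
    ∃ B' : Subalgebra A (Localization.Away a₀), B₀ ≤ B' ∧ Module.Finite A B' ∧
      ∀ q : MaximalSpectrum B', ∃ π : Localization.AtPrime q.asIdeal,
        π ∈ nonZeroDivisors (Localization.AtPrime q.asIdeal) ∧
        ∀ i, ∃ (v : (Localization.AtPrime q.asIdeal)ˣ) (e : ℕ),
          algebraMap A (Localization.AtPrime q.asIdeal) (a i) =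
            (v : Localization.AtPrime q.asIdeal) * π ^ e := by
  classical
  set Q := Localization.Away a₀ with hQ
  have ha₀Q : IsUnit (algebraMap A Q a₀) := IsLocalization.Away.algebraMap_isUnit a₀
  have ha : ∀ i, a i ∈ nonZeroDivisors A := fun i => by
    obtain ⟨c, hc⟩ := hdvd i
    rw [hc] at ha₀
    exact (mul_mem_nonZeroDivisors.1 ha₀).1
  have haQ : ∀ i, IsUnit (algebraMap A Q (a i)) := fun i =>
    isUnit_of_dvd_unit (map_dvd _ (hdvd i)) ha₀Q
  have hmonQ : ∀ s : Fin r → ℕ, IsUnit (algebraMap A Q (mon a s)) := by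
    intro s
    rw [map_mon]
    unfold mon
    exact Finset.prod_induction _ IsUnit (fun _ _ => IsUnit.mul) isUnit_one
      (fun i _ => (haQ i).pow _)
  -- the bounds
  have hfinlen : ∀ i, Module.length A (A ⧸ Ideal.span {a i}) ≠ ⊤ := by
    intro i
    haveI : Ring.KrullDimLE 1 A := Ring.krullDimLE_iff.2 hA
    exact Module.length_ne_top_iff.2 (isFiniteLength_quotient_span_singleton A (ha i))
  obtain ⟨Li, hLi⟩ : ∃ Li : Fin r → ℕ, ∀ i,
      Module.length A (A ⧸ Ideal.span {a i}) = (Li i : ℕ∞) :=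
    ⟨fun i => (Module.length A (A ⧸ Ideal.span {a i})).toNat,
      fun i => (ENat.natCast_toNat (hfinlen i)).symm⟩
  obtain ⟨L, hL⟩ : ∃ L : ℕ, L = ∑ i, Li i := ⟨_, rfl⟩
  have hLiL : ∀ i, Li i ≤ L := fun i => by
    rw [hL]
    exact Finset.single_le_sum (f := Li) (fun _ _ => Nat.zero_le _) (Finset.mem_univ i)
  obtain ⟨N, hN⟩ : ∃ N : ℕ, N = Nbound L r := ⟨_, rfl⟩
  -- the list of pairs of monomials
  let T := Fin r → Fin (N + 1)
  let F : T × T → Q × Q := fun p =>
    (algebraMap A Q (mon a (fun i => (p.1 i : ℕ))), algebraMap A Q (mon a (fun i => (p.2 i : ℕ))))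
  let Lst : List (Q × Q) := (Finset.univ : Finset (T × T)).toList.map F
  have hLst : ∀ p ∈ Lst, p.1 ∈ B₀ ∧ p.2 ∈ B₀ ∧ IsUnit p.1 := by
    intro p hp
    obtain ⟨p', -, rfl⟩ := List.mem_map.1 hp
    exact ⟨Subalgebra.algebraMap_mem _ _, Subalgebra.algebraMap_mem _ _, hmonQ _⟩
  obtain ⟨B', hB₀B', hfinB', hB'⟩ := principalize_list hA a₀ ha₀m ha₀Q Lst B₀ hLst
  haveI := hfinB'
  have hpair : ∀ t t' : Fin r → ℕ, (∀ k, t k ≤ N) → (∀ k, t' k ≤ N) →
      ∃ e c₁ c₂ : Q, e ∈ B' ∧ c₁ ∈ B' ∧ c₂ ∈ B' ∧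
        (algebraMap A Q (mon a t) + e * algebraMap A Q (mon a t')) * c₁ = algebraMap A Q (mon a t) ∧
        (algebraMap A Q (mon a t) + e * algebraMap A Q (mon a t')) * c₂ =
          algebraMap A Q (mon a t') := by
    intro t t' ht ht'
    let p : T × T := (fun k => ⟨t k, Nat.lt_succ_of_le (ht k)⟩, fun k => ⟨t' k, Nat.lt_succ_of_le (ht' k)⟩)
    have hp : F p ∈ Lst := List.mem_map.2 ⟨p, Finset.mem_toList.2 (Finset.mem_univ p), rfl⟩
    exact hB' (F p) hp
  refine ⟨B', hB₀B', hfinB', ?_⟩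
  intro q
  haveI := q.isMaximal
  set R := Localization.AtPrime q.asIdeal with hR
  haveI : IsNoetherianRing B' := IsNoetherianRing.of_finite A B'
  haveI : Ring.KrullDimLE 1 R := krullDimLE_one_localization (A := A) B' hA q.asIdeal
  set x : Fin r → R := fun i => algebraMap A R (a i) with hx
  have hxmem : ∀ i, x i ∈ nonZeroDivisors R := by
    intro i
    have h1 : algebraMap A B' (a i) ∈ nonZeroDivisors B' := by
      rw [mem_nonZeroDivisors_iff_right]
      intro z hz
      have h2 : (z : Q) * algebraMap A Q (a i) = 0 := congrArg Subtype.val hz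
      exact Subtype.ext ((haQ i).mul_left_eq_zero.1 h2)
    have : x i = algebraMap B' R (algebraMap A B' (a i)) :=
      IsScalarTower.algebraMap_apply A B' R (a i)
    rw [this]
    exact IsLocalization.map_nonZeroDivisors_le q.asIdeal.primeCompl _
      (Submonoid.mem_map_of_mem _ h1)
  have hℓL : ∀ i, (Ring.ord R (x i)).toNat ≤ L := by
    intro i
    have h1 := ord_le_length hA a₀ ha₀ B' (a i) (haQ i) q
    have h2 : Ring.ord R (x i) ≤ (Li i : ℕ∞) := by
      rw [← hLi i]
      exact h1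
    have h3 : (Ring.ord R (x i)).toNat ≤ Li i := by
      have h4 : (Ring.ord R (x i)).toNat ≤ ((Li i : ℕ∞)).toNat :=
        ENat.toNat_le_toNat h2 (ENat.natCast_ne_top _)
      simpa using h4
    exact h3.trans (hLiL i)
  -- dichotomy transported to `R`
  have hdich : ∀ t t' : Fin r → ℕ, (∀ k, t k ≤ N) → (∀ k, t' k ≤ N) →
      mon x t ∣ mon x t' ∨ mon x t' ∣ mon x t := by
    intro t t' ht ht'
    have h := hpair t t' ht ht'
    have := dich B' q.asIdeal ⟨algebraMap A Q (mon a t), Subalgebra.algebraMap_mem _ _⟩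
      ⟨algebraMap A Q (mon a t'), Subalgebra.algebraMap_mem _ _⟩ (hmonQ t) h
    have e1 : ∀ t : Fin r → ℕ, algebraMap B' R
        ⟨algebraMap A Q (mon a t), Subalgebra.algebraMap_mem _ _⟩ = mon x t := by
      intro t
      have : (⟨algebraMap A Q (mon a t), Subalgebra.algebraMap_mem _ _⟩ : B') =
          algebraMap A B' (mon a t) := rfl
      rw [this, ← IsScalarTower.algebraMap_apply]
      change algebraMap A R (∏ i, a i ^ t i) = ∏ i, (algebraMap A R (a i)) ^ t i
      rw [map_prod]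
      simp only [map_pow]
    rw [e1, e1] at this
    exact this
  exact local_fact x hxmem L N hℓL (le_of_eq hN.symm) hdich

end Exist

end Groth.Agent.H63.Tame
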