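import Mathlib
import Groth.Agent.H63.KeyV
import Groth.Agent.H63.KeyI
import Groth.Agent.H63.TameL

set_option autoImplicit false
set_option linter.style.haveILetI false
set_option linter.unusedSectionVars false
set_option linter.unusedVariables false
universe u

namespace Groth.Agent.H63.KeyF

open IsLocalRing CycAlg Groth.Agent.H63.Glue Groth.Agent.H63.Tame

section W
variable {A : Type u} [CommRing A] [IsLocalRing A] [IsNoetherianRing A]

theorem sum_ordFrac_eq_zero (hA : ringKrullDim A = 2) (a b : A) (ha : a ∈ nonZeroDivisors A)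
    (hb : b ∈ nonZeroDivisors A) (hnu : ¬ IsUnit (a * b)) [Fintype (Idx A (a * b))] :
    ∑ i : Idx A (a * b), CycAlg.ordFrac (A ⧸ i.1.asIdeal) i.1.asIdeal.ResidueField
      (tameSymbol (Localization.AtPrime i.1.asIdeal)
        (algebraMap A (Localization.AtPrime i.1.asIdeal) a)
        (algebraMap A (Localization.AtPrime i.1.asIdeal) b)) = 0 := by
  classical
  obtain ⟨t, ht⟩ : ∃ t, t = a * b := ⟨_, rfl⟩
  rw [← ht] at hnu
  have htnz : t ∈ nonZeroDivisors A := ht ▸ mul_mem ha hb
  have htm : t ∈ maximalIdeal A := hnu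
  let q : Idx A (a * b) → Ideal A := fun i => i.1.asIdeal
  haveI hqp : ∀ i, (q i).IsPrime := fun i => i.1.2
  have hctx : Ctx t q := by
    subst ht
    exact ctx_of_dim_two hA htnz
  have hRdim : ∀ i, ringKrullDim (Localization.AtPrime (q i)) = 1 := fun i => by
    rw [IsLocalization.AtPrime.ringKrullDim_eq_height (q i) (Localization.AtPrime (q i)), i.2.1]
    rfl
  haveI hRn : ∀ i, IsNoetherianRing (Localization.AtPrime (q i)) := fun i =>
    IsLocalization.isNoetherianRing (q i).primeCompl _ inferInstance
  have hnzR : ∀ i (z : A), z ∈ nonZeroDivisors A →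
      algebraMap A (Localization.AtPrime (q i)) z ∈ nonZeroDivisors (Localization.AtPrime (q i)) :=
    fun i z hz => IsLocalization.map_nonZeroDivisors_le (q i).primeCompl _
      (Submonoid.mem_map_of_mem _ hz)
  have htR_max : ∀ i, algebraMap A (Localization.AtPrime (q i)) t ∈
      maximalIdeal (Localization.AtPrime (q i)) := fun i =>
    (IsLocalization.AtPrime.to_map_mem_maximal_iff _ (q i) t).2 (hctx.mem i)
  have hdvd : ∀ i (j : Fin 2), (![algebraMap A (Localization.AtPrime (q i)) a,
      algebraMap A (Localization.AtPrime (q i)) b] : Fin 2 → Localization.AtPrime (q i)) j ∣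
        algebraMap A (Localization.AtPrime (q i)) t := by
    intro i j
    fin_cases j
    · exact map_dvd _ ⟨b, ht⟩
    · exact map_dvd _ ⟨a, by rw [ht, mul_comm]⟩
  have hex := fun i => exists_factorizations_over (A := Localization.AtPrime (q i))
    (hRdim i).le 2 ![algebraMap A _ a, algebraMap A _ b] (algebraMap A _ t) (hnzR i t htnz)
    (htR_max i) (hdvd i) ⊥
  choose B' hB'le hB'fin hB'fac using hex
  haveI := hB'fin
  have hfe : ∀ i, IsFinExt (Localization.AtPrime (q i)) (B' i)
      (maximalIdeal (Localization.AtPrime (q i))) := fun i =>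
    isFinExt_subalgebra (hRdim i).le (algebraMap A _ t) (hnzR i t htnz) (B' i)
  have hinjB : ∀ i, Function.Injective (algebraMap (Localization.AtPrime (q i)) (B' i)) :=
    fun i => (hfe i).1
  have hunit : ∀ i, IsUnit (algebraMap (Localization.AtPrime (q i))
      (Localization.Away (algebraMap A (Localization.AtPrime (q i)) t))
      (algebraMap A (Localization.AtPrime (q i)) t)) := fun i =>
    IsLocalization.Away.algebraMap_isUnit _
  have hreg : ∀ i, algebraMap A (B' i) t ∈ nonZeroDivisors (B' i) := by
    intro i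
    rw [IsScalarTower.algebraMap_apply A (Localization.AtPrime (q i)) (B' i) t,
      mem_nonZeroDivisors_iff_right]
    intro z hz
    have h2 : (z : Localization.Away (algebraMap A (Localization.AtPrime (q i)) t)) *
        algebraMap (Localization.AtPrime (q i)) _ (algebraMap A (Localization.AtPrime (q i)) t) = 0 :=
      congrArg Subtype.val hz
    exact Subtype.ext ((hunit i).mul_left_eq_zero.1 h2)
  choose k hk using fun i => exists_conductor (algebraMap A (Localization.AtPrime (q i)) t) (B' i)
  obtain ⟨n, hn⟩ : ∃ n : ℕ, ∀ i, k i ≤ n := ⟨∑ i, k i, fun i =>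
    Finset.single_le_sum (f := k) (fun _ _ => Nat.zero_le _) (Finset.mem_univ i)⟩
  have hcond : ∀ i, ∀ β : B' i, ∃ r : Localization.AtPrime (q i),
      algebraMap (Localization.AtPrime (q i)) (B' i) r = algebraMap A (B' i) t ^ n * β := by
    intro i β
    obtain ⟨c, hc⟩ := hk i β
    refine ⟨algebraMap A (Localization.AtPrime (q i)) t ^ (n - k i) * c, Subtype.ext ?_⟩
    rw [IsScalarTower.algebraMap_apply A (Localization.AtPrime (q i)) (B' i) t]
    change algebraMap (Localization.AtPrime (q i)) _ (algebraMap A (Localization.AtPrime (q i)) t ^ (n - k i) * c) =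
      (algebraMap (Localization.AtPrime (q i)) _ (algebraMap A (Localization.AtPrime (q i)) t)) ^ n *
        (β : Localization.Away (algebraMap A (Localization.AtPrime (q i)) t))
    rw [map_mul, hc, map_pow, map_pow, ← mul_assoc, ← pow_add, Nat.sub_add_cancel (hn i)]
  obtain ⟨C, hfin, hloc, hresC, hpow, φ, hsurj, hker⟩ :=
    exists_glue (fun i => ↥(B' i)) hctx htnz hinjB hreg n hcond
  haveI := hfin
  haveI := hloc
  letI algCB : ∀ i, Algebra C (B' i) := fun i => (φ i).toRingHom.toAlgebra
  haveI twr : ∀ i, IsScalarTower A C (B' i) := fun i =>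
    IsScalarTower.of_algebraMap_eq fun a => ((φ i).commutes a).symm
  haveI hlocB : ∀ i, IsLocalization (Algebra.algebraMapSubmonoid C (q i).primeCompl) (B' i) := by
    intro i
    refine ⟨?_, ?_, ?_⟩
    · rintro ⟨_, s, hs, rfl⟩
      change IsUnit (φ i (algebraMap A C s))
      rw [(φ i).commutes, IsScalarTower.algebraMap_apply A (Localization.AtPrime (q i)) (B' i)]
      exact (IsLocalization.map_units (Localization.AtPrime (q i))
        (⟨s, hs⟩ : (q i).primeCompl)).map _
    · intro β
      obtain ⟨s, hs, c, hc⟩ := hsurj i β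
      refine ⟨(c, ⟨algebraMap A C s, s, hs, rfl⟩), ?_⟩
      change β * φ i (algebraMap A C s) = φ i c
      rw [hc, (φ i).commutes, mul_comm]
    · intro c₁ c₂ h12
      have h0 : φ i (c₁ - c₂) = 0 := by
        rw [map_sub]
        exact sub_eq_zero.2 h12
      obtain ⟨s, hs, hsc⟩ := hker i _ h0
      refine ⟨⟨algebraMap A C s, s, hs, rfl⟩, ?_⟩
      change algebraMap A C s * c₁ = algebraMap A C s * c₂
      rw [← sub_eq_zero, ← mul_sub, ← Algebra.smul_def]
      exact hsc
  haveI : IsNoetherianRing C := IsNoetherianRing.of_finite A C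
  have hctxC : Ctx (algebraMap A C t) (qC (C := C) (fun i => ↥(B' i))) :=
    ctx_C (fun i => ↥(B' i)) hctx
  have hinjQ : Function.Injective (algebraMap A (Localization.Away t)) :=
    IsLocalization.injective _ (Submonoid.powers_le.2 htnz)
  have htQ : IsUnit (algebraMap A (Localization.Away t) t) :=
    IsLocalization.Away.algebraMap_isUnit t
  have hnzC : ∀ z : A, z ∣ t → algebraMap A C z ∈ nonZeroDivisors C := by
    intro z hz
    have hzu : IsUnit (algebraMap A (Localization.Away t) z) :=
      isUnit_of_dvd_unit (map_dvd _ hz) htQ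
    rw [mem_nonZeroDivisors_iff_right]
    intro c hc
    have h2 : (c : Localization.Away t) * algebraMap A (Localization.Away t) z = 0 :=
      congrArg Subtype.val hc
    exact Subtype.ext (hzu.mul_left_eq_zero.1 h2)
  have haC : algebraMap A C a ∈ nonZeroDivisors C := hnzC a ⟨b, ht⟩
  have hbC : algebraMap A C b ∈ nonZeroDivisors C := hnzC b ⟨a, by rw [ht, mul_comm]⟩
  have htC : algebraMap A C t = algebraMap A C a * algebraMap A C b :=
    (congrArg (algebraMap A C) ht).trans (map_mul _ _ _)
  have hD : ∀ κ : Σ i, MaximalSpectrum (B' i),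
      Nonempty (LocData (qC (C := C) (fun i => ↥(B' i)) κ) (algebraMap A C a) (algebraMap A C b)) := by
    rintro ⟨i, l⟩
    obtain ⟨π, hπ, hfac⟩ := hB'fac i l
    obtain ⟨v₁, e, h₁⟩ := hfac 0
    obtain ⟨v₂, f, h₂⟩ := hfac 1
    haveI := isLocalization_atPrime_comap (q i) (C := C) (B' i) l.asIdeal
    refine exists_locData (l.asIdeal.comap (algebraMap C (B' i))) (Localization.AtPrime l.asIdeal)
      _ _ π hπ v₁ v₂ e f ?_ ?_
    · rw [algebraMap_C_loc' (q i) (B' i) l.asIdeal a]
      exact h₁
    · rw [algebraMap_C_loc' (q i) (B' i) l.asIdeal b]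
      exact h₂
  let D := fun κ => Classical.choice (hD κ)
  haveI hfinMS : ∀ i, Finite (MaximalSpectrum (B' i)) := fun i =>
    finite_maximalSpectrum (A := Localization.AtPrime (q i)) (B' i)
  haveI hftMS : ∀ i, Fintype (MaximalSpectrum (B' i)) := fun i => Fintype.ofFinite _
  have hsum := sum_val_eq_zero hctxC haC hbC htC D
  have hT : ∀ i : Idx A (a * b), CycAlg.ordFrac (A ⧸ i.1.asIdeal) i.1.asIdeal.ResidueField
      (tameSymbol (Localization.AtPrime i.1.asIdeal)
        (algebraMap A (Localization.AtPrime i.1.asIdeal) a)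
        (algebraMap A (Localization.AtPrime i.1.asIdeal) b)) = ∑ l, (D ⟨i, l⟩).val := by
    intro i
    haveI := krullDimLE_one_quot hctx i
    rw [← finsum_eq_sum_of_fintype]
    exact ordFrac_tameSymbol_eq (q i) (B' i) (hRdim i) hresC (hfe i) a b (hnzR i a ha)
      (hnzR i b hb) (fun l => D ⟨i, l⟩)
  rw [Finset.sum_congr rfl fun i _ => hT i, ← hsum, Fintype.sum_sigma]

end W

end Groth.Agent.H63.KeyF
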