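import Mathlib
import Groth.Agent.S1851
import Groth.Agent.H63.C1A
import Groth.Agent.H63.C1B
import Groth.Agent.H48.OrdFracLib

set_option autoImplicit false
set_option linter.style.haveILetI false
set_option linter.unusedSectionVars false
set_option linter.unusedVariables false
universe u

namespace Groth.Agent.H63.C1

open IsLocalRing CycAlg Groth.Agent.H63.Tame Groth.Agent.H63.KeyF

section KeyFrac
variable {A : Type u} [CommRing A] [IsDomain A] [IsNoetherianRing A] [IsLocalRing A]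
  (K : Type u) [Field K] [Algebra A K] [IsFractionRing A K]
  {J : Type u} (Rj : J → Type u) [∀ j, CommRing (Rj j)] [∀ j, IsLocalRing (Rj j)]
  [∀ j, Algebra A (Rj j)] [∀ j, Algebra (Rj j) K] [∀ j, IsScalarTower A (Rj j) K]
  (p : J → Ideal A) [hpp : ∀ j, (p j).IsPrime] [hloc : ∀ j, IsLocalization.AtPrime (Rj j) (p j)]
  (σ : ∀ j, A →+* ResidueField (Rj j))

/-- the order term attached to `j`. -/
noncomputable def ordJ (j : J) (g : ResidueField (Rj j)) : ℤ :=
  @CycAlg.ordFrac (A ⧸ RingHom.ker (σ j)) _ (ResidueField (Rj j)) _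
    ((Ideal.Quotient.lift (RingHom.ker (σ j)) (σ j)
      (fun _ ha => RingHom.mem_ker.mp ha)).toAlgebra) g

theorem ker_sigma (hσ : ∀ j r, σ j r = residue (Rj j) (algebraMap A (Rj j) r)) (j : J) :
    RingHom.ker (σ j) = p j := by
  ext r
  rw [RingHom.mem_ker, hσ, residue_eq_zero_iff,
    IsLocalization.AtPrime.to_map_mem_maximal_iff (Rj j) (p j) r]

include hloc in
theorem ordJ_tameSymbol (hσ : ∀ j r, σ j r = residue (Rj j) (algebraMap A (Rj j) r))
    (hp1 : ∀ j, (p j).height = 1) (j : J) (c d : A) (hc : c ≠ 0) (hd : d ≠ 0) :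
    ordJ Rj σ j (tameSymbol (Rj j) (algebraMap A (Rj j) c) (algebraMap A (Rj j) d)) =
      CycAlg.ordFrac (A ⧸ p j) (p j).ResidueField
        (tameSymbol (Localization.AtPrime (p j)) (algebraMap A (Localization.AtPrime (p j)) c)
          (algebraMap A (Localization.AtPrime (p j)) d)) := by
  haveI : IsNoetherianRing (Localization.AtPrime (p j)) :=
    IsLocalization.isNoetherianRing (p j).primeCompl _ inferInstance
  haveI : IsNoetherianRing (Rj j) :=
    IsLocalization.isNoetherianRing (p j).primeCompl _ inferInstance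
  have hdim : ringKrullDim (Localization.AtPrime (p j)) = 1 := by
    rw [IsLocalization.AtPrime.ringKrullDim_eq_height (p j) (Localization.AtPrime (p j)), hp1 j]
    rfl
  let e : Localization.AtPrime (p j) ≃ₐ[A] Rj j :=
    IsLocalization.algEquiv (p j).primeCompl _ _
  have hnz : ∀ z : A, z ≠ 0 → algebraMap A (Localization.AtPrime (p j)) z ∈
      nonZeroDivisors (Localization.AtPrime (p j)) := fun z hz =>
    IsLocalization.map_nonZeroDivisors_le (p j).primeCompl _
      (Submonoid.mem_map_of_mem _ (mem_nonZeroDivisors_of_ne_zero hz))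
  have h1 := tameSymbol_ringEquiv e.toRingEquiv hdim (hnz c hc) (hnz d hd)
  have ec : ∀ z : A, e.toRingEquiv (algebraMap A (Localization.AtPrime (p j)) z) =
      algebraMap A (Rj j) z := fun z => e.commutes z
  rw [ec, ec] at h1
  rw [h1]
  unfold ordJ
  letI : Algebra (A ⧸ RingHom.ker (σ j)) (ResidueField (Rj j)) :=
    (Ideal.Quotient.lift (RingHom.ker (σ j)) (σ j) (fun _ ha => RingHom.mem_ker.mp ha)).toAlgebra
  refine Groth.Agent.H48.OrdFracLib.ordFrac_ringEquiv
    (Ideal.quotEquivOfEq (ker_sigma Rj p σ hσ j).symm) (ResidueField.mapEquiv e.toRingEquiv) ?_ _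
  intro r
  obtain ⟨r, rfl⟩ := Ideal.Quotient.mk_surjective r
  rw [Ideal.quotEquivOfEq_mk]
  change ResidueField.map (e.toRingEquiv : Localization.AtPrime (p j) →+* Rj j)
    (algebraMap (A ⧸ p j) (p j).ResidueField (Ideal.Quotient.mk (p j) r)) = σ j r
  rw [Ideal.algebraMap_quotient_residueField_mk,
    IsScalarTower.algebraMap_apply A (Localization.AtPrime (p j)) (p j).ResidueField r,
    IsLocalRing.ResidueField.algebraMap_eq, ResidueField.map_residue, hσ]
  congr 1
  exact ec r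

variable [hfr : ∀ j, IsFractionRing (Rj j) K]

theorem ordJ_mul (j : J) {g g' : ResidueField (Rj j)} (hg : g ≠ 0) (hg' : g' ≠ 0) :
    ordJ Rj σ j (g * g') = ordJ Rj σ j g + ordJ Rj σ j g' := by
  unfold ordJ
  letI : Algebra (A ⧸ RingHom.ker (σ j)) (ResidueField (Rj j)) :=
    (Ideal.Quotient.lift (RingHom.ker (σ j)) (σ j) (fun _ ha => RingHom.mem_ker.mp ha)).toAlgebra
  exact Groth.Agent.H54.SecOrdGen.ordFrac_mul _ _ hg hg'

theorem ordJ_inv (j : J) {g : ResidueField (Rj j)} (hg : g ≠ 0) :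
    ordJ Rj σ j g⁻¹ = - ordJ Rj σ j g := by
  unfold ordJ
  letI : Algebra (A ⧸ RingHom.ker (σ j)) (ResidueField (Rj j)) :=
    (Ideal.Quotient.lift (RingHom.ker (σ j)) (σ j) (fun _ ha => RingHom.mem_ker.mp ha)).toAlgebra
  exact Groth.Agent.H54.SecOrdGen.ordFrac_inv _ _ hg

theorem ordJ_one (j : J) : ordJ Rj σ j 1 = 0 := by
  unfold ordJ
  letI : Algebra (A ⧸ RingHom.ker (σ j)) (ResidueField (Rj j)) :=
    (Ideal.Quotient.lift (RingHom.ker (σ j)) (σ j) (fun _ ha => RingHom.mem_ker.mp ha)).toAlgebra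
  exact Groth.Agent.H54.SecOrdGen.ordFrac_one _ _

include hloc in
theorem key_frac (hA : ringKrullDim A = 2)
    (hσ : ∀ j r, σ j r = residue (Rj j) (algebraMap A (Rj j) r))
    (hp1 : ∀ j, (p j).height = 1) (hinj : Function.Injective p)
    (hsurj : ∀ q : Ideal A, q.IsPrime → q.height = 1 → ∃ j, p j = q)
    (a b : K) (ha : a ≠ 0) (hb : b ≠ 0) :
    ∑ᶠ j, ordJ Rj σ j (PhiK (Rj j) K a b) = 0 := by
  classical
  obtain ⟨α₁, α₂, hα₂, rfl⟩ := IsFractionRing.div_surjective (A := A) a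
  obtain ⟨β₁, β₂, hβ₂, rfl⟩ := IsFractionRing.div_surjective (A := A) b
  have h2 : α₂ ≠ 0 := nonZeroDivisors.ne_zero hα₂
  have h4 : β₂ ≠ 0 := nonZeroDivisors.ne_zero hβ₂
  have h1 : α₁ ≠ 0 := by
    rintro rfl
    exact ha (by rw [map_zero, zero_div])
  have h3 : β₁ ≠ 0 := by
    rintro rfl
    exact hb (by rw [map_zero, zero_div])
  -- per-j facts
  have hdom : ∀ j, IsDomain (Rj j) := fun j =>
    IsLocalization.isDomain_of_le_nonZeroDivisors (Rj j) (p j).primeCompl_le_nonZeroDivisors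
  have hnoe : ∀ j, IsNoetherianRing (Rj j) := fun j =>
    IsLocalization.isNoetherianRing (p j).primeCompl _ inferInstance
  have hdim : ∀ j, ringKrullDim (Rj j) = 1 := fun j => by
    rw [IsLocalization.AtPrime.ringKrullDim_eq_height (p j) (Rj j), hp1 j]
    rfl
  have hφ0 : ∀ j (z : A), z ≠ 0 → algebraMap A (Rj j) z ≠ 0 := fun j z hz h0 =>
    hz (IsLocalization.injective (Rj j) (p j).primeCompl_le_nonZeroDivisors
      (h0.trans (map_zero _).symm))
  -- the four sums
  set T : A → A → J → ℤ := fun c d j =>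
    ordJ Rj σ j (tameSymbol (Rj j) (algebraMap A (Rj j) c) (algebraMap A (Rj j) d)) with hT
  have hTne : ∀ j (c d : A), c ≠ 0 → d ≠ 0 →
      tameSymbol (Rj j) (algebraMap A (Rj j) c) (algebraMap A (Rj j) d) ≠ 0 := by
    intro j c d hc hd
    haveI := hdom j
    haveI := hnoe j
    exact ts_ne_zero (hdim j) (mem_nonZeroDivisors_of_ne_zero (hφ0 j c hc))
      (mem_nonZeroDivisors_of_ne_zero (hφ0 j d hd))
  have hterm : ∀ j, ordJ Rj σ j (PhiK (Rj j) K
      (algebraMap A K α₁ / algebraMap A K α₂) (algebraMap A K β₁ / algebraMap A K β₂)) =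
      T α₁ β₁ j + T α₂ β₂ j - (T α₁ β₂ j + T α₂ β₁ j) := by
    intro j
    haveI := hdom j
    haveI := hnoe j
    rw [PhiK_eq (Rj j) K (hdim j) ha hb (hφ0 j α₁ h1) (hφ0 j α₂ h2) (hφ0 j β₁ h3) (hφ0 j β₂ h4)
      (by rw [← IsScalarTower.algebraMap_apply, ← IsScalarTower.algebraMap_apply])
      (by rw [← IsScalarTower.algebraMap_apply, ← IsScalarTower.algebraMap_apply])]
    unfold Phi4
    rw [ordJ_mul Rj σ j (mul_ne_zero (hTne j _ _ h1 h3) (hTne j _ _ h2 h4))
      (inv_ne_zero (mul_ne_zero (hTne j _ _ h1 h4) (hTne j _ _ h2 h3))),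
      ordJ_mul Rj σ j (hTne j _ _ h1 h3) (hTne j _ _ h2 h4),
      ordJ_inv Rj σ j (mul_ne_zero (hTne j _ _ h1 h4) (hTne j _ _ h2 h3)),
      ordJ_mul Rj σ j (hTne j _ _ h1 h4) (hTne j _ _ h2 h3)]
    ring
  have hzero : ∀ (c d : A) (j : J), c * d ∉ p j → T c d j = 0 := by
    intro c d j hcd
    haveI := hnoe j
    have hcu : IsUnit (algebraMap A (Rj j) c) :=
      (IsLocalization.AtPrime.isUnit_to_map_iff _ (p j) c).2
        (fun h => hcd ((p j).mul_mem_right _ h))
    have hdu : IsUnit (algebraMap A (Rj j) d) :=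
      (IsLocalization.AtPrime.isUnit_to_map_iff _ (p j) d).2
        (fun h => hcd ((p j).mul_mem_left _ h))
    change ordJ Rj σ j (tameSymbol (Rj j) (algebraMap A (Rj j) c) (algebraMap A (Rj j) d)) = 0
    rw [tameSymbol_of_isUnit hcu hdu, ordJ_one]
  have hfin : ∀ c d : A, c ≠ 0 → d ≠ 0 → (Function.support (T c d)).Finite := by
    intro c d hc hd
    have hcd : c * d ∈ nonZeroDivisors A := mem_nonZeroDivisors_of_ne_zero (mul_ne_zero hc hd)
    haveI := finite_idx hA hcd
    have hS : Finite {j : J | c * d ∈ p j} := by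
      refine Finite.of_injective (fun j : {j : J | c * d ∈ p j} =>
        (⟨⟨p j.1, hpp j.1⟩, hp1 j.1, j.2⟩ : Idx A (c * d))) ?_
      intro j j' h
      have h' : p j.1 = p j'.1 := congrArg (fun i : Idx A (c * d) => i.1.asIdeal) h
      exact Subtype.ext (hinj h')
    refine (Set.finite_coe_iff.mp hS).subset ?_
    intro j hj
    by_contra hmem
    exact hj (hzero c d j hmem)
  have hsum : ∀ c d : A, c ≠ 0 → d ≠ 0 → ∑ᶠ j, T c d j = 0 := by
    intro c d hc hd
    have key := Groth.Agent.S1851.result A hA c d (mem_nonZeroDivisors_of_ne_zero hc)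
      (mem_nonZeroDivisors_of_ne_zero hd)
    rw [← finsum_subtype_eq_finsum_cond (f := fun q : PrimeSpectrum A =>
        CycAlg.ordFrac (A ⧸ q.asIdeal) q.asIdeal.ResidueField
          (CycAlg.tameSymbol (Localization.AtPrime q.asIdeal)
            (algebraMap A (Localization.AtPrime q.asIdeal) c)
            (algebraMap A (Localization.AtPrime q.asIdeal) d)))
        (fun q => q.asIdeal.height = 1)] at key
    rw [← key]
    refine finsum_eq_of_bijective
      (fun j => (⟨⟨p j, hpp j⟩, hp1 j⟩ : {q : PrimeSpectrum A // q.asIdeal.height = 1})) ⟨?_, ?_⟩ ?_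
    · intro j j' h
      have h' : p j = p j' :=
        congrArg (fun i : {q : PrimeSpectrum A // q.asIdeal.height = 1} => i.1.asIdeal) h
      exact hinj h'
    · rintro ⟨q, hq⟩
      obtain ⟨j, hj⟩ := hsurj q.asIdeal q.2 hq
      exact ⟨j, Subtype.ext (PrimeSpectrum.ext hj)⟩
    · intro j
      exact ordJ_tameSymbol Rj p σ hσ hp1 j c d hc hd
  rw [finsum_congr hterm, finsum_sub_distrib, finsum_add_distrib (hfin _ _ h1 h3) (hfin _ _ h2 h4),
    finsum_add_distrib (hfin _ _ h1 h4) (hfin _ _ h2 h3), hsum _ _ h1 h3, hsum _ _ h2 h4,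
    hsum _ _ h1 h4, hsum _ _ h2 h3]
  · simp
  · exact ((hfin _ _ h1 h3).union (hfin _ _ h2 h4)).subset (Function.support_add _ _)
  · exact ((hfin _ _ h1 h4).union (hfin _ _ h2 h3)).subset (Function.support_add _ _)

end KeyFrac

end Groth.Agent.H63.C1
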