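import Mathlib
import Groth.Prelude.Def_C1
import Groth.Agent.H54.C1Indep
import Groth.Agent.H54.OrdAtOrd
import Groth.Agent.H54.DivZero
import Groth.Agent.H63.C1A

set_option autoImplicit false
set_option linter.style.haveILetI false
set_option linter.unusedSectionVars false
set_option linter.unusedVariables false
universe u
open CategoryTheory CategoryTheory.Limits AlgebraicGeometry TopologicalSpace Opposite Order

namespace Groth.Agent.H63.C1

open Groth.Agent.H8 Groth.Agent.H54.SecOrd Groth.Agent.H54.SecOrdGen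

variable {X : Scheme.{u}} [IsIntegral X]

/-- a local free generator near a point. -/
structure Chart (L : X.Modules) (y : X) where
  U : X.Opens
  mem : y ∈ U
  σ : Γ(L, U)
  free : IsFreeGen L U σ

theorem chart_nonempty {L : X.Modules} (hL : PicF.IsInvertible L) (y : X) :
    Nonempty (Chart L y) := by
  obtain ⟨U, hyU, σ, hσ⟩ := exists_isFreeGen_of_isInvertible hL y
  exact ⟨⟨U, hyU, σ, hσ⟩⟩

theorem genericPoint_specializes' (y : X) : genericPoint X ⤳ y :=
  (genericPoint_spec X).specializes (Set.mem_univ y)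

namespace Chart
variable {L : X.Modules} {y : X}

theorem gen_mem (c : Chart L y) : genericPoint X ∈ c.U :=
  (genericPoint_specializes' y).mem_open c.U.2 c.mem

/-- the chart seen at a generization. -/
def gen (c : Chart L y) {ξ : X} (h : ξ ⤳ y) : Chart L ξ :=
  ⟨c.U, h.mem_open c.U.2 c.mem, c.σ, c.free⟩

/-- the generator of the stalk. -/
noncomputable def g (c : Chart L y) : L.presheaf.stalk y := L.presheaf.germ c.U y c.mem c.σ

/-- the generator at the generic point. -/
noncomputable def gη (c : Chart L y) : L.presheaf.stalk (genericPoint X) :=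
  L.presheaf.germ c.U (genericPoint X) c.gen_mem c.σ

theorem g_bijective (c : Chart L y) :
    Function.Bijective (fun r : X.presheaf.stalk y => r • c.g) := c.free.germ_bijective c.mem

theorem gη_bijective (c : Chart L y) :
    Function.Bijective (fun r : X.presheaf.stalk (genericPoint X) => r • c.gη) :=
  c.free.germ_bijective c.gen_mem

theorem spec_g (c : Chart L y) :
    (L.presheaf.stalkSpecializes (genericPoint_specializes' y)) c.g = c.gη :=
  TopCat.Presheaf.germ_stalkSpecializes_apply _ _ _ _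

theorem gen_gη (c : Chart L y) {ξ : X} (h : ξ ⤳ y) : (c.gen h).gη = c.gη := rfl

theorem spec_g_gen (c : Chart L y) {ξ : X} (h : ξ ⤳ y) :
    (L.presheaf.stalkSpecializes h) c.g = (c.gen h).g :=
  TopCat.Presheaf.germ_stalkSpecializes_apply _ _ _ _

/-- the coordinate of a rational section. -/
noncomputable def coord (c : Chart L y) (s0 : L.presheaf.stalk (genericPoint X)) :
    X.functionField :=
  Classical.choose (c.gη_bijective.2 s0)

theorem coord_spec (c : Chart L y) (s0 : L.presheaf.stalk (genericPoint X)) :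
    (c.coord s0 : X.presheaf.stalk (genericPoint X)) • c.gη = s0 :=
  Classical.choose_spec (c.gη_bijective.2 s0)

theorem coord_eq (c : Chart L y) (s0 : L.presheaf.stalk (genericPoint X))
    (a : X.presheaf.stalk (genericPoint X)) (h : a • c.gη = s0) : c.coord s0 = a :=
  c.gη_bijective.1 ((c.coord_spec s0).trans h.symm)

theorem coord_gen (c : Chart L y) {ξ : X} (h : ξ ⤳ y) (s0 : L.presheaf.stalk (genericPoint X)) :
    (c.gen h).coord s0 = c.coord s0 := rfl

theorem coord_ne_zero (c : Chart L y) {s0 : L.presheaf.stalk (genericPoint X)} (hs0 : s0 ≠ 0) :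
    c.coord s0 ≠ 0 := by
  intro h
  apply hs0
  rw [← c.coord_spec s0, h, zero_smul]

/-- change of chart. -/
theorem exists_unit (c c' : Chart L y) :
    ∃ w : (X.presheaf.stalk y)ˣ, c.g = (w : X.presheaf.stalk y) • c'.g := by
  obtain ⟨w0, hw0⟩ := c'.g_bijective.2 c.g
  obtain ⟨w1, hw1⟩ := c.g_bijective.2 c'.g
  have hw0' : w0 • c'.g = c.g := hw0
  have hw1' : w1 • c.g = c'.g := hw1
  have h1 : w0 * w1 = 1 := by
    apply c.g_bijective.1
    change (w0 * w1) • c.g = (1 : X.presheaf.stalk y) • c.g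
    rw [mul_smul, hw1', hw0', one_smul]
  have hu : IsUnit w0 := IsUnit.of_mul_eq_one w1 h1
  exact ⟨hu.unit, by rw [IsUnit.unit_spec, hw0']⟩

theorem coord_change (c c' : Chart L y) (w : (X.presheaf.stalk y)ˣ)
    (hw : c.g = (w : X.presheaf.stalk y) • c'.g) (s0 : L.presheaf.stalk (genericPoint X)) :
    c'.coord s0 = c.coord s0 * algebraMap (X.presheaf.stalk y) X.functionField (w : _) := by
  apply c'.coord_eq
  have h1 : c.gη = (X.presheaf.stalkSpecializes (genericPoint_specializes' y)).hom
      (w : X.presheaf.stalk y) • c'.gη := by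
    rw [← c.spec_g, hw, stalkSpecializes_smul, c'.spec_g]
  have h2 : algebraMap (X.presheaf.stalk y) X.functionField (w : X.presheaf.stalk y) =
      (X.presheaf.stalkSpecializes (genericPoint_specializes' y)).hom (w : X.presheaf.stalk y) :=
    rfl
  rw [h2, mul_smul, ← h1]
  exact c.coord_spec s0

/-- a nonzero element of the fibre is a unit multiple of the generator. -/
theorem exists_unit_coord (c : Chart L y) (w : Cyc.secFibre L y) (hw : w ≠ 0) :
    ∃ c0 : (X.presheaf.stalk y)ˣ,
      w = Submodule.Quotient.mk ((c0 : X.presheaf.stalk y) • c.g) := by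
  obtain ⟨w0, rfl⟩ := Submodule.Quotient.mk_surjective _ w
  obtain ⟨a, ha⟩ := c.g_bijective.2 w0
  have ha' : a • c.g = w0 := ha
  have ham := Groth.Agent.H54.C1Indep.not_mem_of_mk_ne_zero L c.free c.mem a w0 ha'.symm hw
  have hunit : IsUnit a := by
    by_contra hnu
    exact ham ((IsLocalRing.mem_maximalIdeal _).mpr hnu)
  exact ⟨hunit.unit, by rw [IsUnit.unit_spec, ha']⟩

/-- the order of a section written in a chart at the specialization. -/
theorem secOrdAt_chart' {x ξ : X} (c : Chart L x) (h : ξ ⤳ x) (c0 : (X.presheaf.stalk ξ)ˣ) :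
    Cyc.secOrdAt L ξ x h (Submodule.Quotient.mk ((c0 : X.presheaf.stalk ξ) • (c.gen h).g)) =
      Cyc.ordAt x ξ h (X.residue ξ (c0 : X.presheaf.stalk ξ)) :=
  Groth.Agent.H54.C1Indep.secOrdAt_chart L c.free h c.mem (c0 : X.presheaf.stalk ξ)
    (fun hm => (IsLocalRing.mem_maximalIdeal _).mp hm c0.isUnit) _ rfl

end Chart

section Ord
variable [IsLocallyNoetherian X]

theorem ord_eq_ordFrac (z : X) (hz : coheight z = 1) (f : X.functionField) :
    Scheme.ord f z = CycAlg.ordFrac (X.presheaf.stalk z) X.functionField f := by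
  haveI : Ring.KrullDimLE 1 (X.presheaf.stalk z) := krullDimLE_of_coheight_le hz.le
  have hcond : IsNoetherianRing (X.presheaf.stalk z) ∧ Ring.KrullDimLE 1 (X.presheaf.stalk z) ∧
      Nontrivial (X.presheaf.stalk z) ∧ IsFractionRing (X.presheaf.stalk z) X.functionField :=
    ⟨inferInstance, inferInstance, inferInstance, inferInstance⟩
  unfold CycAlg.ordFrac
  rw [dif_pos hcond, Scheme.ord_eq_ordHom_of_coheight_eq_one hz]
  change Multiplicative.toAdd
    (WithZero.unzeroD 1 (Ring.ordFrac (X.presheaf.stalk z) (f : X.functionField))) = _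
  generalize Ring.ordFrac (X.presheaf.stalk z) (f : X.functionField) = w
  induction w using WithZero.recZeroCoe with
  | zero => rfl
  | coe a => rfl

theorem secOrdAt_generic {L : X.Modules} {ξ : X} (c : Chart L ξ) (hξ : coheight ξ = 1)
    (s0 : L.presheaf.stalk (genericPoint X)) (hs0 : s0 ≠ 0) :
    Cyc.secOrdAt L (genericPoint X) ξ (genericPoint_specializes' ξ)
        (Submodule.Quotient.mk s0) =
      CycAlg.ordFrac (X.presheaf.stalk ξ) X.functionField (c.coord s0) := by
  rw [← ord_eq_ordFrac ξ hξ]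
  refine Groth.Agent.H54.OrdAtOrd.secOrdAt_eq_ord L ξ hξ (genericPoint_specializes' ξ) c.g
    c.g_bijective ?_ (c.coord s0) (c.coord_ne_zero hs0) _ ?_
  · rw [c.spec_g]
    exact c.gη_bijective.1
  · rw [c.spec_g, c.coord_spec]

end Ord

/-- the open set where a rational section is a unit multiple of any local generator. -/
theorem exists_unit_locus {L : X.Modules} (hL : PicF.IsInvertible L)
    (s0 : L.presheaf.stalk (genericPoint X)) (hs0 : s0 ≠ 0) :
    ∃ U₀ : X.Opens, genericPoint X ∈ U₀ ∧ ∀ ξ ∈ U₀, ∀ c : Chart L ξ,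
      ∃ w : (X.presheaf.stalk ξ)ˣ,
        c.coord s0 = algebraMap (X.presheaf.stalk ξ) X.functionField (w : X.presheaf.stalk ξ) := by
  obtain ⟨c₁⟩ := chart_nonempty hL (genericPoint X)
  have hr0 : c₁.coord s0 ≠ 0 := c₁.coord_ne_zero hs0
  obtain ⟨V₁, hηV₁, a₁, ha₁⟩ := X.presheaf.exists_germ_eq (c₁.coord s0)
  let V : X.Opens := V₁ ⊓ c₁.U
  have hηV : genericPoint X ∈ V := ⟨hηV₁, c₁.mem⟩
  let a : Γ(X, V) := X.presheaf.map (homOfLE (inf_le_left : V ≤ V₁)).op a₁
  have hgerma : ∀ (z : X) (hz : z ∈ V), X.presheaf.germ V z hz a = X.presheaf.germ V₁ z hz.1 a₁ :=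
    fun z hz => TopCat.Presheaf.germ_res_apply X.presheaf (homOfLE inf_le_left) z hz a₁
  refine ⟨X.basicOpen a, ?_, ?_⟩
  · rw [Scheme.mem_basicOpen X a (genericPoint X) hηV, hgerma, ha₁]
    exact IsUnit.mk0 (G₀ := X.functionField) _ hr0
  · intro ξ hξ c
    have hξV : ξ ∈ V := X.basicOpen_le a hξ
    have hu : IsUnit (X.presheaf.germ V ξ hξV a) := (Scheme.mem_basicOpen X a ξ hξV).mp hξ
    let c₁' : Chart L ξ := ⟨c₁.U, hξV.2, c₁.σ, c₁.free⟩
    have hc₁' : c₁'.coord s0 = c₁.coord s0 := rfl
    obtain ⟨w, hw⟩ := c₁'.exists_unit c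
    refine ⟨hu.unit * w, ?_⟩
    rw [c₁'.coord_change c w hw s0, hc₁', Units.val_mul, map_mul, IsUnit.unit_spec]
    congr 1
    change _ = (X.presheaf.stalkSpecializes (genericPoint_specializes' ξ)).hom
      (X.presheaf.germ V ξ hξV a)
    rw [TopCat.Presheaf.germ_stalkSpecializes_apply, hgerma, ha₁]

end Groth.Agent.H63.C1
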