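import Mathlib
import Groth.Agent.H63.C1D

set_option autoImplicit false
set_option linter.style.haveILetI false
set_option linter.unusedSectionVars false
set_option linter.unusedVariables false
universe u
open CategoryTheory CategoryTheory.Limits AlgebraicGeometry TopologicalSpace Opposite Order

namespace Groth.Agent.H63.C1

open Groth.Agent.H8 Groth.Agent.H54.SecOrd Groth.Agent.H54.SecOrdGen

variable {X : Scheme.{u}} [IsIntegral X] [IsLocallyNoetherian X]

theorem ringKrullDim_stalk_of_coheight {ξ : X} (hξ : coheight ξ = 1) :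
    ringKrullDim (X.presheaf.stalk ξ) = 1 := by
  rw [ringKrullDim_stalk_eq_coheight, hξ]
  rfl

theorem residue_unit_ne_zero (ξ : X) (c0 : (X.presheaf.stalk ξ)ˣ) :
    X.residue ξ (c0 : X.presheaf.stalk ξ) ≠ 0 := fun h0 =>
  (IsLocalRing.mem_maximalIdeal _).mp ((residue_eq_zero_iff ξ _).mp h0) c0.isUnit

section F
variable {L N : X.Modules} (hL : PicF.IsInvertible L) (hN : PicF.IsInvertible N)
  (s0 : L.presheaf.stalk (genericPoint X)) (hs0 : s0 ≠ 0)
  (t0 : N.presheaf.stalk (genericPoint X)) (ht0 : t0 ≠ 0)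
  (u : (ξ : X) → Cyc.secFibre N ξ) (hu : ∀ ξ, u ξ ≠ 0)
  (v : (ξ : X) → Cyc.secFibre L ξ) (hv : ∀ ξ, v ξ ≠ 0)

include hL hN hs0 ht0 hu hv in
theorem exists_f (ξ : X) (hξ : coheight ξ = 1) :
    ∃ f : X.residueField ξ, f ≠ 0 ∧
      (∀ (x : X) (h : ξ ⤳ x) (cL : Chart L x) (cN : Chart N x),
        Cyc.ordAt x ξ h f =
          Cyc.ordAt x ξ h (PhiK (X.presheaf.stalk ξ) X.functionField (cL.coord s0) (cN.coord t0)) +
          Cyc.secOrdAt L (genericPoint X) ξ (genericPoint_specializes' ξ)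
              (Submodule.Quotient.mk s0) * Cyc.secOrdAt N ξ x h (u ξ) -
          Cyc.secOrdAt N (genericPoint X) ξ (genericPoint_specializes' ξ)
              (Submodule.Quotient.mk t0) * Cyc.secOrdAt L ξ x h (v ξ)) ∧
      ((∀ c : Chart L ξ, ∃ w : (X.presheaf.stalk ξ)ˣ,
          c.coord s0 = algebraMap (X.presheaf.stalk ξ) X.functionField (w : X.presheaf.stalk ξ)) →
        (∀ c : Chart N ξ, ∃ w : (X.presheaf.stalk ξ)ˣ,
          c.coord t0 = algebraMap (X.presheaf.stalk ξ) X.functionField (w : X.presheaf.stalk ξ)) →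
        f = 1) := by
  classical
  have hR := ringKrullDim_stalk_of_coheight hξ
  obtain ⟨cLξ⟩ := chart_nonempty hL ξ
  obtain ⟨cNξ⟩ := chart_nonempty hN ξ
  obtain ⟨c0, hc0⟩ := cNξ.exists_unit_coord (u ξ) (hu ξ)
  obtain ⟨d0, hd0⟩ := cLξ.exists_unit_coord (v ξ) (hv ξ)
  set mL := Cyc.secOrdAt L (genericPoint X) ξ (genericPoint_specializes' ξ)
    (Submodule.Quotient.mk s0) with hmL
  set mN := Cyc.secOrdAt N (genericPoint X) ξ (genericPoint_specializes' ξ)
    (Submodule.Quotient.mk t0) with hmN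
  have hC : X.residue ξ (c0 : X.presheaf.stalk ξ) ≠ 0 := residue_unit_ne_zero ξ c0
  have hD : X.residue ξ (d0 : X.presheaf.stalk ξ) ≠ 0 := residue_unit_ne_zero ξ d0
  have ha0 : cLξ.coord s0 ≠ 0 := cLξ.coord_ne_zero hs0
  have hb0 : cNξ.coord t0 ≠ 0 := cNξ.coord_ne_zero ht0
  let P : X.residueField ξ :=
    PhiK (X.presheaf.stalk ξ) X.functionField (cLξ.coord s0) (cNξ.coord t0)
  have hP0 : P ≠ 0 := PhiK_ne_zero _ _ hR ha0 hb0
  refine ⟨P * (X.residue ξ (c0 : X.presheaf.stalk ξ)) ^ mL *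
      (X.residue ξ (d0 : X.presheaf.stalk ξ)) ^ (-mN), ?_, ?_, ?_⟩
  · exact mul_ne_zero (mul_ne_zero hP0 (zpow_ne_zero _ hC)) (zpow_ne_zero _ hD)
  · intro x h cL cN
    obtain ⟨w, hw⟩ := (cL.gen h).exists_unit cLξ
    obtain ⟨w', hw'⟩ := (cN.gen h).exists_unit cNξ
    have ea : cLξ.coord s0 = cL.coord s0 *
        algebraMap (X.presheaf.stalk ξ) X.functionField (w : X.presheaf.stalk ξ) :=
      (cL.gen h).coord_change cLξ w hw s0
    have eb : cNξ.coord t0 = cN.coord t0 *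
        algebraMap (X.presheaf.stalk ξ) X.functionField (w' : X.presheaf.stalk ξ) :=
      (cN.gen h).coord_change cNξ w' hw' t0
    have ha0' : cL.coord s0 ≠ 0 := cL.coord_ne_zero hs0
    have hb0' : cN.coord t0 ≠ 0 := cN.coord_ne_zero ht0
    have emL : mL = CycAlg.ordFrac (X.presheaf.stalk ξ) X.functionField (cL.coord s0) :=
      secOrdAt_generic (cL.gen h) hξ s0 hs0
    have emN : mN = CycAlg.ordFrac (X.presheaf.stalk ξ) X.functionField (cN.coord t0) :=
      secOrdAt_generic (cN.gen h) hξ t0 ht0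
    have hW : X.residue ξ (w : X.presheaf.stalk ξ) ≠ 0 := residue_unit_ne_zero ξ w
    have hW' : X.residue ξ (w' : X.presheaf.stalk ξ) ≠ 0 := residue_unit_ne_zero ξ w'
    let P' : X.residueField ξ :=
      PhiK (X.presheaf.stalk ξ) X.functionField (cL.coord s0) (cN.coord t0)
    have hP'0 : P' ≠ 0 := PhiK_ne_zero _ _ hR ha0' hb0'
    have hPP' : P = P' * (X.residue ξ (w' : X.presheaf.stalk ξ)) ^ (-mL) *
        (X.residue ξ (w : X.presheaf.stalk ξ)) ^ mN := by
      change PhiK (X.presheaf.stalk ξ) X.functionField (cLξ.coord s0) (cNξ.coord t0) = _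
      rw [ea, eb, PhiK_mul_units _ _ hR ha0' hb0' w w', ← emL, ← emN]
      rfl
    -- the orders of `u ξ`, `v ξ`
    have hu' : u ξ = Submodule.Quotient.mk
        (((c0 * w'⁻¹ : (X.presheaf.stalk ξ)ˣ) : X.presheaf.stalk ξ) • (cN.gen h).g) := by
      rw [hc0, hw', ← mul_smul, Units.val_mul, mul_assoc, Units.inv_mul, mul_one]
    have hv' : v ξ = Submodule.Quotient.mk
        (((d0 * w⁻¹ : (X.presheaf.stalk ξ)ˣ) : X.presheaf.stalk ξ) • (cL.gen h).g) := by
      rw [hd0, hw, ← mul_smul, Units.val_mul, mul_assoc, Units.inv_mul, mul_one]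
    have e1 : Cyc.secOrdAt N ξ x h (u ξ) =
        Cyc.ordAt x ξ h (X.residue ξ (c0 : X.presheaf.stalk ξ)) -
          Cyc.ordAt x ξ h (X.residue ξ (w' : X.presheaf.stalk ξ)) := by
      rw [hu', Chart.secOrdAt_chart' cN h (c0 * w'⁻¹), Units.val_mul, map_mul,
        ordAt_mul x ξ h hC (residue_unit_ne_zero ξ w'⁻¹)]
      have : X.residue ξ ((w'⁻¹ : (X.presheaf.stalk ξ)ˣ) : X.presheaf.stalk ξ) =
          (X.residue ξ (w' : X.presheaf.stalk ξ))⁻¹ := by
        apply eq_inv_of_mul_eq_one_left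
        rw [← map_mul, Units.inv_mul, map_one]
      rw [this, ordAt_inv x ξ h hW']
      ring
    have e2 : Cyc.secOrdAt L ξ x h (v ξ) =
        Cyc.ordAt x ξ h (X.residue ξ (d0 : X.presheaf.stalk ξ)) -
          Cyc.ordAt x ξ h (X.residue ξ (w : X.presheaf.stalk ξ)) := by
      rw [hv', Chart.secOrdAt_chart' cL h (d0 * w⁻¹), Units.val_mul, map_mul,
        ordAt_mul x ξ h hD (residue_unit_ne_zero ξ w⁻¹)]
      have : X.residue ξ ((w⁻¹ : (X.presheaf.stalk ξ)ˣ) : X.presheaf.stalk ξ) =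
          (X.residue ξ (w : X.presheaf.stalk ξ))⁻¹ := by
        apply eq_inv_of_mul_eq_one_left
        rw [← map_mul, Units.inv_mul, map_one]
      rw [this, ordAt_inv x ξ h hW]
      ring
    rw [e1, e2, hPP']
    change Cyc.ordAt x ξ h (P' * _ * _ * _ * _) = Cyc.ordAt x ξ h P' + _ - _
    rw [ordAt_mul x ξ h (mul_ne_zero (mul_ne_zero (mul_ne_zero hP'0 (zpow_ne_zero _ hW'))
        (zpow_ne_zero _ hW)) (zpow_ne_zero _ hC)) (zpow_ne_zero _ hD),
      ordAt_mul x ξ h (mul_ne_zero (mul_ne_zero hP'0 (zpow_ne_zero _ hW'))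
        (zpow_ne_zero _ hW)) (zpow_ne_zero _ hC),
      ordAt_mul x ξ h (mul_ne_zero hP'0 (zpow_ne_zero _ hW')) (zpow_ne_zero _ hW),
      ordAt_mul x ξ h hP'0 (zpow_ne_zero _ hW'),
      ordAt_zpow x ξ h hW', ordAt_zpow x ξ h hW, ordAt_zpow x ξ h hC, ordAt_zpow x ξ h hD]
    ring
  · intro hLu hNu
    obtain ⟨w, hw⟩ := hLu cLξ
    obtain ⟨w', hw'⟩ := hNu cNξ
    have hmL0 : mL = 0 := by
      rw [hmL, secOrdAt_generic cLξ hξ s0 hs0, hw, ordFrac_algebraMap _ _ hR w.ne_zero, mm_unit]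
      rfl
    have hmN0 : mN = 0 := by
      rw [hmN, secOrdAt_generic cNξ hξ t0 ht0, hw', ordFrac_algebraMap _ _ hR w'.ne_zero, mm_unit]
      rfl
    have hP1 : P = 1 := by
      change PhiK (X.presheaf.stalk ξ) X.functionField (cLξ.coord s0) (cNξ.coord t0) = 1
      rw [hw, hw']
      exact PhiK_units _ _ hR w w'
    rw [hP1, hmL0, hmN0]
    simp

end F

end Groth.Agent.H63.C1
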