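import Mathlib
import Groth.Agent.H63.C1C
import Groth.Agent.H63.C1E
import Groth.Agent.H48.CycDim2
import Groth.Agent.H15.StalkLoc

set_option autoImplicit false
set_option linter.style.haveILetI false
set_option linter.unusedSectionVars false
set_option linter.unusedVariables false
universe u
open CategoryTheory CategoryTheory.Limits AlgebraicGeometry TopologicalSpace Opposite Order

namespace Groth.Agent.H63.C1

open Groth.Agent.H15.StalkLoc

variable {X : Scheme.{u}}

/-- the point of `Spec O_{X,x}` attached to a generization. -/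
noncomputable def genPt {x ξ : X} (h : ξ ⤳ x) : PrimeSpectrum (X.presheaf.stalk x) :=
  ⟨genPrime h, inferInstance⟩

theorem fromSpecStalk_genPt {x ξ : X} (h : ξ ⤳ x) :
    X.fromSpecStalk x (genPt h) = ξ := by
  have h1 := Scheme.fromSpecStalk_closedPoint (X := X) (x := ξ)
  rw [← Scheme.SpecMap_stalkSpecializes_fromSpecStalk h] at h1
  exact h1

theorem genPrime_injective {x ξ ξ' : X} (h : ξ ⤳ x) (h' : ξ' ⤳ x)
    (he : genPrime h = genPrime h') : ξ = ξ' := by
  have h1 : genPt h = genPt h' := PrimeSpectrum.ext he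
  rw [← fromSpecStalk_genPt h, ← fromSpecStalk_genPt h', h1]

theorem exists_genPrime_eq {x : X} (q : PrimeSpectrum (X.presheaf.stalk x)) :
    ∃ (ξ : X) (h : ξ ⤳ x), genPrime h = q.asIdeal := by
  have hmem : X.fromSpecStalk x q ∈ Set.range (X.fromSpecStalk x) := ⟨q, rfl⟩
  rw [Scheme.range_fromSpecStalk] at hmem
  refine ⟨X.fromSpecStalk x q, hmem, ?_⟩
  have h1 := fromSpecStalk_genPt hmem
  have hinj : Function.Injective (X.fromSpecStalk x) :=
    (X.fromSpecStalk x).isEmbedding.injective
  exact congrArg PrimeSpectrum.asIdeal (hinj h1)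

section Sum
variable [IsIntegral X] [IsLocallyNoetherian X] (δ : X → ℤ) (hδ : Cyc.IsDimFun X δ)

include hδ in
theorem sum_ordAt_PhiK_eq_zero (x : X) (hx : δ x + 2 = δ (genericPoint X))
    (a b : X.functionField) (ha : a ≠ 0) (hb : b ≠ 0) :
    ∑ᶠ j : {ξ : X // ξ ⤳ x ∧ δ ξ + 1 = δ (genericPoint X)},
      Cyc.ordAt x j.1 j.2.1 (PhiK (X.presheaf.stalk j.1) X.functionField a b) = 0 := by
  classical
  letI algj : ∀ j : {ξ : X // ξ ⤳ x ∧ δ ξ + 1 = δ (genericPoint X)},
      Algebra (X.presheaf.stalk x) (X.presheaf.stalk j.1) := fun j =>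
    (X.presheaf.stalkSpecializes j.2.1).hom.toAlgebra
  haveI twr : ∀ j : {ξ : X // ξ ⤳ x ∧ δ ξ + 1 = δ (genericPoint X)},
      IsScalarTower (X.presheaf.stalk x) (X.presheaf.stalk j.1) X.functionField := by
    intro j
    refine IsScalarTower.of_algebraMap_eq fun r => ?_
    change (X.presheaf.stalkSpecializes (genericPoint_specializes' x)).hom r =
      (X.presheaf.stalkSpecializes (genericPoint_specializes' j.1)).hom
        ((X.presheaf.stalkSpecializes j.2.1).hom r)
    rw [← CommRingCat.comp_apply, TopCat.Presheaf.stalkSpecializes_comp]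
  haveI hloc : ∀ j : {ξ : X // ξ ⤳ x ∧ δ ξ + 1 = δ (genericPoint X)},
      IsLocalization.AtPrime (X.presheaf.stalk j.1) (genPrime j.2.1) := fun j =>
    isLocalization_stalkSpecializes j.2.1
  have hA : ringKrullDim (X.presheaf.stalk x) = 2 := by
    rw [Groth.Agent.H48.CycDim2.ringKrullDim_stalk_eq X δ hδ x]
    have : (δ (genericPoint X) - δ x).toNat = 2 := by omega
    rw [this]
    rfl
  have hdimj : ∀ j : {ξ : X // ξ ⤳ x ∧ δ ξ + 1 = δ (genericPoint X)},
      ringKrullDim (X.presheaf.stalk j.1) = 1 := by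
    intro j
    rw [Groth.Agent.H48.CycDim2.ringKrullDim_stalk_eq_one_iff X δ hδ j.1]
    have := j.2.2
    omega
  have key := key_frac (A := X.presheaf.stalk x) X.functionField
    (fun j : {ξ : X // ξ ⤳ x ∧ δ ξ + 1 = δ (genericPoint X)} => X.presheaf.stalk j.1)
    (fun j => genPrime j.2.1) (fun j => Cyc.specMap x j.1 j.2.1) hA (fun j r => rfl) ?_ ?_ ?_
    a b ha hb
  · exact key
  · intro j
    have h1 := IsLocalization.AtPrime.ringKrullDim_eq_height (genPrime j.2.1)
      (X.presheaf.stalk j.1)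
    rw [hdimj j] at h1
    exact (WithBot.coe_injective h1).symm
  · intro j j' he
    exact Subtype.ext (genPrime_injective j.2.1 j'.2.1 he)
  · intro q hq hq1
    obtain ⟨ξ, h, he⟩ := exists_genPrime_eq (⟨q, hq⟩ : PrimeSpectrum (X.presheaf.stalk x))
    have he' : genPrime h = q := he
    have hdim : ringKrullDim (X.presheaf.stalk ξ) = 1 := by
      letI := (X.presheaf.stalkSpecializes h).hom.toAlgebra
      haveI := isLocalization_stalkSpecializes h
      rw [IsLocalization.AtPrime.ringKrullDim_eq_height (genPrime h) (X.presheaf.stalk ξ), he',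
        hq1]
      rfl
    rw [Groth.Agent.H48.CycDim2.ringKrullDim_stalk_eq_one_iff X δ hδ ξ] at hdim
    exact ⟨⟨ξ, h, by omega⟩, he'⟩

end Sum

end Groth.Agent.H63.C1
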