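import Mathlib
import Groth.Prelude.Def_C1
import Groth.Agent.H54.C1Cap
import Groth.Agent.H48.ClosedOrd

set_option autoImplicit false
set_option linter.style.haveILetI false
set_option linter.unusedSectionVars false
set_option linter.unusedVariables false
universe u
open CategoryTheory CategoryTheory.Limits AlgebraicGeometry TopologicalSpace Opposite

namespace Groth.Agent.H63.C1

open Groth.Agent.H54.C1Cap

section Finsum

theorem finsum_sigma' {ι : Type*} {β : ι → Type*} {M : Type*} [AddCommMonoid M]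
    (f : (Σ i, β i) → M) (hf : (Function.support f).Finite) :
    ∑ᶠ j, f j = ∑ᶠ i, ∑ᶠ b : β i, f ⟨i, b⟩ := by
  classical
  set I : Set ι := Sigma.fst '' Function.support f with hI
  have hIfin : I.Finite := hf.image _
  set t : ι → Set (Σ i, β i) := fun i => Set.range (Sigma.mk i) ∩ Function.support f with ht_def
  have ht : ∀ i ∈ I, (t i).Finite := fun i _ => hf.subset Set.inter_subset_right
  have hdisj : I.PairwiseDisjoint t := by
    intro i _ i' _ hne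
    rw [Function.onFun, Set.disjoint_iff]
    rintro j ⟨⟨⟨b, rfl⟩, -⟩, ⟨⟨b', hb'⟩, -⟩⟩
    exact hne (congrArg Sigma.fst hb').symm
  have h1 : ∑ᶠ j, f j = ∑ᶠ j ∈ ⋃ i ∈ I, t i, f j := by
    rw [← finsum_mem_univ]
    apply finsum_mem_inter_support_eq
    ext j
    simp only [Set.mem_inter_iff, Set.mem_univ, true_and, Set.mem_iUnion]
    constructor
    · intro hj
      exact ⟨⟨j.1, ⟨j, hj, rfl⟩, ⟨⟨j.2, rfl⟩, hj⟩⟩, hj⟩
    · intro hj
      exact hj.2
  rw [h1, finsum_mem_biUnion hdisj hIfin ht]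
  have h2 : ∀ i, ∑ᶠ j ∈ t i, f j = ∑ᶠ b : β i, f ⟨i, b⟩ := by
    intro i
    rw [← finsum_mem_range sigma_mk_injective]
    apply finsum_mem_inter_support_eq
    ext j
    simp only [ht_def, Set.mem_inter_iff]
    tauto
  simp_rw [h2]
  rw [← finsum_mem_univ (f := fun i => ∑ᶠ b : β i, f ⟨i, b⟩)]
  apply finsum_mem_inter_support_eq
  ext i
  simp only [Set.mem_inter_iff, Set.mem_univ, true_and]
  constructor
  · intro h
    exact h.2
  · intro h
    refine ⟨?_, h⟩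
    by_contra hi
    apply h
    apply finsum_eq_zero_of_forall_eq_zero
    intro b
    by_contra hb
    exact hi ⟨⟨i, b⟩, hb, rfl⟩

end Finsum

variable {X : Scheme.{u}}

/-- function-level rational equivalence to zero, with witnesses in `C`. -/
def RatZeroOn (δ : X → ℤ) (k : ℤ) (C : Set X) (g : X → ℤ) : Prop :=
  ∃ (ι : Type u) (ξ : ι → X) (f : (i : ι) → X.residueField (ξ i)),
    (∀ i, ξ i ∈ C) ∧ (∀ i, δ (ξ i) = k + 1) ∧ (∀ i, f i ≠ 0) ∧
    (∀ x : X, ∃ U : Set X, IsOpen U ∧ x ∈ U ∧ {i | (closure {ξ i} ∩ U).Nonempty}.Finite) ∧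
    ∀ x : X, g x = ∑ᶠ i, Cyc.divFun δ (ξ i) (f i) x

theorem ratEquivZero_of_ratZeroOn {δ : X → ℤ} {k : ℤ} {C : Set X} (γ : AlgebraicCycle X ℤ)
    (h : RatZeroOn δ k C ⇑γ) : Cyc.RatEquivZero δ k γ := by
  obtain ⟨ι, ξ, f, -, h2, h3, h4, h5⟩ := h
  exact ⟨ι, ξ, f, h2, h3, h4, h5⟩

theorem RatZeroOn.mono {δ : X → ℤ} {k : ℤ} {C C' : Set X} {g : X → ℤ}
    (h : RatZeroOn δ k C g) (hCC' : C ⊆ C') : RatZeroOn δ k C' g := by
  obtain ⟨ι, ξ, f, h1, h2, h3, h4, h5⟩ := h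
  exact ⟨ι, ξ, f, fun i => hCC' (h1 i), h2, h3, h4, h5⟩

theorem RatZeroOn.congr {δ : X → ℤ} {k : ℤ} {C : Set X} {g g' : X → ℤ}
    (h : RatZeroOn δ k C g) (hgg' : ∀ x, g' x = g x) : RatZeroOn δ k C g' := by
  obtain ⟨ι, ξ, f, h1, h2, h3, h4, h5⟩ := h
  exact ⟨ι, ξ, f, h1, h2, h3, h4, fun x => (hgg' x).trans (h5 x)⟩

theorem ratZeroOn_zero (δ : X → ℤ) (k : ℤ) (C : Set X) : RatZeroOn δ k C (fun _ => 0) := by
  refine ⟨PEmpty, fun i => i.elim, fun i => i.elim, fun i => i.elim, fun i => i.elim,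
    fun i => i.elim, fun x => ⟨Set.univ, isOpen_univ, trivial, Set.toFinite _⟩, fun x => ?_⟩
  rw [finsum_of_isEmpty]

theorem RatZeroOn.zsmul {δ : X → ℤ} {k : ℤ} {C : Set X} {g : X → ℤ}
    (h : RatZeroOn δ k C g) (n : ℤ) : RatZeroOn δ k C (fun x => n * g x) := by
  obtain ⟨ι, ξ, f, h1, h2, h3, h4, h5⟩ := h
  refine ⟨ι, ξ, fun i => (f i) ^ n, h1, h2, fun i => zpow_ne_zero n (h3 i), h4, fun x => ?_⟩
  change n * g x = _
  rw [h5 x, mul_finsum]
  exact finsum_congr fun i => (divFun_zpow δ (ξ i) (h3 i) n x).symm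

theorem RatZeroOn.neg {δ : X → ℤ} {k : ℤ} {C : Set X} {g : X → ℤ}
    (h : RatZeroOn δ k C g) : RatZeroOn δ k C (fun x => - g x) :=
  (h.zsmul (-1)).congr fun x => by ring

theorem finite_support_divFun {δ : X → ℤ} {ι : Type*} (ξ : ι → X)
    (f : (i : ι) → X.residueField (ξ i)) (x : X) {U : Set X} (hxU : x ∈ U)
    (hfin : {i | (closure {ξ i} ∩ U).Nonempty}.Finite) :
    (Function.support fun i => Cyc.divFun δ (ξ i) (f i) x).Finite := by
  refine hfin.subset ?_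
  intro i hi
  have hcond : ξ i ⤳ x ∧ δ x + 1 = δ (ξ i) := by
    by_contra hcon
    apply hi
    simp only [Cyc.divFun]
    rw [dif_neg hcon]
  exact ⟨x, specializes_iff_mem_closure.mp hcond.1, hxU⟩

/-- locally finite sums of functions rationally equivalent to zero. -/
theorem ratZeroOn_sum {δ : X → ℤ} {k : ℤ} {A : Type u} (C : A → Set X)
    (hC : ∀ a, IsClosed (C a))
    (hLF : ∀ x : X, ∃ U : Set X, IsOpen U ∧ x ∈ U ∧ {a | (C a ∩ U).Nonempty}.Finite)
    (g : A → X → ℤ) (hg : ∀ a, RatZeroOn δ k (C a) (g a)) :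
    RatZeroOn δ k (⋃ a, C a) (fun x => ∑ᶠ a, g a x) := by
  classical
  choose ι ξ f h1 h2 h3 h4 h5 using hg
  have hLF' : ∀ x : X, ∃ U : Set X, IsOpen U ∧ x ∈ U ∧
      {p : Σ a, ι a | (closure {ξ p.1 p.2} ∩ U).Nonempty}.Finite := by
    intro x
    obtain ⟨U₀, hU₀, hxU₀, hfin₀⟩ := hLF x
    choose V hV hxV hfinV using fun a => h4 a x
    refine ⟨U₀ ∩ ⋂ a ∈ hfin₀.toFinset, V a, hU₀.inter (isOpen_biInter_finset fun a _ => hV a),
      ⟨hxU₀, Set.mem_iInter₂.mpr fun a _ => hxV a⟩, ?_⟩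
    have hfin : (⋃ a ∈ hfin₀.toFinset,
        Sigma.mk a '' {i | (closure {ξ a i} ∩ V a).Nonempty}).Finite :=
      hfin₀.toFinset.finite_toSet.biUnion fun a _ => (hfinV a).image _
    refine hfin.subset ?_
    rintro ⟨a, i⟩ ⟨y, hy, hyU₀, hyV⟩
    have hyC : y ∈ C a := (hC a).closure_subset_iff.mpr
      (Set.singleton_subset_iff.mpr (h1 a i)) hy
    have ha : a ∈ hfin₀.toFinset := hfin₀.mem_toFinset.mpr ⟨y, hyC, hyU₀⟩
    refine Set.mem_biUnion ha ⟨i, ⟨y, hy, ?_⟩, rfl⟩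
    exact Set.mem_iInter₂.mp hyV a ha
  refine ⟨Σ a, ι a, fun p => ξ p.1 p.2, fun p => f p.1 p.2,
    fun p => Set.mem_iUnion.mpr ⟨p.1, h1 p.1 p.2⟩, fun p => h2 p.1 p.2, fun p => h3 p.1 p.2,
    hLF', fun x => ?_⟩
  obtain ⟨U, hU, hxU, hfin⟩ := hLF' x
  rw [finsum_sigma' _ (finite_support_divFun (δ := δ) (fun p : Σ a, ι a => ξ p.1 p.2)
    (fun p => f p.1 p.2) x hxU hfin)]
  exact finsum_congr fun a => h5 a x

/-- pushforward of a function-level rational equivalence along a closed immersion. -/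
theorem ratZeroOn_push {W : Scheme.{u}} (j : W ⟶ X) [IsClosedImmersion j] (δ : X → ℤ) (k : ℤ)
    (g' : W → ℤ) (h' : RatZeroOn (X := W) (fun w : W => δ (j w)) k Set.univ g')
    (g : X → ℤ) (hg1 : ∀ w, g (j w) = g' w) (hg2 : ∀ x, x ∉ Set.range j → g x = 0) :
    RatZeroOn δ k (Set.range j) g := by
  classical
  obtain ⟨ι, ξ', f', -, h2, h3, h4, h5⟩ := h'
  have hcl : IsClosed (Set.range j) := j.isClosedEmbedding.isClosed_range
  have hsp : ∀ a b : W, j a ⤳ j b ↔ a ⤳ b := fun a b =>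
    j.isEmbedding.isInducing.specializes_iff
  have hsurj : ∀ i, ∃ t : X.residueField (j (ξ' i)), (j.residueFieldMap (ξ' i)).hom t = f' i :=
    fun i => Groth.Agent.H48.ClosedOrd.residueFieldMap_surjective j (ξ' i)
      (j.stalkMap_surjective (ξ' i)) (f' i)
  choose f hf using hsurj
  refine ⟨ι, fun i => j (ξ' i), f, fun i => ⟨ξ' i, rfl⟩, h2, ?_, ?_, ?_⟩
  · intro i h0
    apply h3 i
    rw [← hf i, h0, map_zero]
  · intro x
    by_cases hx : x ∈ Set.range j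
    · obtain ⟨w, rfl⟩ := hx
      obtain ⟨U', hU', hwU', hfin⟩ := h4 w
      obtain ⟨V, hV, hVU'⟩ := j.isEmbedding.isInducing.isOpen_iff.mp hU'
      refine ⟨V, hV, ?_, hfin.subset ?_⟩
      · have : w ∈ (j : W → X) ⁻¹' V := by rw [hVU']; exact hwU'
        exact this
      · rintro i ⟨y, hy, hyV⟩
        have hspy : j (ξ' i) ⤳ y := specializes_iff_mem_closure.mpr hy
        obtain ⟨w', rfl⟩ := hspy.mem_closed hcl ⟨ξ' i, rfl⟩
        refine ⟨w', specializes_iff_mem_closure.mp ((hsp _ _).mp hspy), ?_⟩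
        rw [← hVU']
        exact hyV
    · refine ⟨(Set.range j)ᶜ, hcl.isOpen_compl, hx, ?_⟩
      have hempty : {i | (closure {j (ξ' i)} ∩ (Set.range j)ᶜ).Nonempty} = ∅ := by
        apply Set.eq_empty_of_forall_notMem
        rintro i ⟨y, hy, hyn⟩
        apply hyn
        have hspy : j (ξ' i) ⤳ y := specializes_iff_mem_closure.mpr hy
        exact hspy.mem_closed hcl ⟨ξ' i, rfl⟩
      rw [hempty]
      exact Set.finite_empty
  · intro x
    by_cases hx : x ∈ Set.range j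
    · obtain ⟨w, rfl⟩ := hx
      rw [hg1, h5 w]
      refine finsum_congr fun i => ?_
      rw [Groth.Agent.H48.ClosedOrd.divFun_map_of_isClosedImmersion j δ (ξ' i) w (f i), hf i]
    · rw [hg2 x hx]
      symm
      apply finsum_eq_zero_of_forall_eq_zero
      intro i
      exact Groth.Agent.H48.ClosedOrd.divFun_eq_zero_of_notMem_range j δ (ξ' i) (f i) x hx

end Groth.Agent.H63.C1
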