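import Mathlib
import Groth.Agent.H63.C1I
import Groth.Agent.H63.C1J
import Groth.Agent.H63.C1K
import Groth.Agent.H48.ClosedDim
import Groth.Prelude.Def_PicLoc

set_option autoImplicit false
set_option linter.style.haveILetI false
set_option linter.unusedSectionVars false
set_option linter.unusedVariables false
universe u
open CategoryTheory CategoryTheory.Limits AlgebraicGeometry TopologicalSpace Opposite

namespace Groth.Agent.H63.C1

theorem finsum_comp_of_support_subset {α β M : Type*} [AddCommMonoid M] (e : β → α)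
    (he : Function.Injective e) (f : α → M) (hs : Function.support f ⊆ Set.range e) :
    ∑ᶠ a, f a = ∑ᶠ b, f (e b) := by
  rw [← finsum_mem_range he, ← finsum_mem_univ]
  apply finsum_mem_inter_support_eq
  ext a
  simp only [Set.mem_inter_iff, Set.mem_univ, true_and]
  exact ⟨fun h => ⟨hs h, h⟩, fun h => h.2⟩

variable {W X : Scheme.{u}} (j : W ⟶ X) [IsClosedImmersion j]

/-- representatives of a family of fibre elements. -/
noncomputable def rep {N : X.Modules} (u : (ξ : X) → Cyc.secFibre N ξ) (ξ : X) :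
    N.presheaf.stalk ξ :=
  Classical.choose (Submodule.Quotient.mk_surjective _ (u ξ))

theorem mk_rep {N : X.Modules} (u : (ξ : X) → Cyc.secFibre N ξ) (ξ : X) :
    (Submodule.Quotient.mk (rep u ξ) : Cyc.secFibre N ξ) = u ξ :=
  Classical.choose_spec (Submodule.Quotient.mk_surjective _ (u ξ))

/-- the pulled back family of sections. -/
noncomputable def pullFam (N : X.Modules) (u : (ξ : X) → Cyc.secFibre N ξ) (w : W) :
    Cyc.secFibre ((Scheme.Modules.pullback j).obj N) w :=
  Submodule.Quotient.mk (pullStalk j N w (rep u (j w)))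

theorem pullFam_ne_zero (N : X.Modules) (hN : PicF.IsInvertible N)
    (u : (ξ : X) → Cyc.secFibre N ξ) (hu : ∀ ξ, u ξ ≠ 0) (w : W) : pullFam j N u w ≠ 0 :=
  mk_pullStalk_ne_zero j N hN w _ (by rw [mk_rep]; exact hu (j w))

/-- transfer of `c1CapFun ∘ secDivFun` along a closed immersion. -/
theorem c1CapFun_pull (δ : X → ℤ) (L N : X.Modules) (hL : PicF.IsInvertible L)
    (hN : PicF.IsInvertible N) (ζ : W) (s0 : L.presheaf.stalk (j ζ))
    (hs0 : (Submodule.Quotient.mk s0 : Cyc.secFibre L (j ζ)) ≠ 0)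
    (u : (ξ : X) → Cyc.secFibre N ξ) (hu : ∀ ξ, u ξ ≠ 0) (w : W) :
    Cyc.c1CapFun δ N (Cyc.secDivFun δ L (j ζ) (Submodule.Quotient.mk s0)) u (j w) =
      Cyc.c1CapFun (X := W) (fun w : W => δ (j w)) ((Scheme.Modules.pullback j).obj N)
        (Cyc.secDivFun (X := W) (fun w : W => δ (j w)) ((Scheme.Modules.pullback j).obj L) ζ
          (Submodule.Quotient.mk (pullStalk j L ζ s0))) (pullFam j N u) w := by
  unfold Cyc.c1CapFun
  rw [finsum_comp_of_support_subset j j.isEmbedding.injective]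
  · refine finsum_congr fun w' => ?_
    rw [secDivFun_pull j L δ hL ζ w' s0 hs0]
    congr 1
    have h1 := secDivFun_pull j N δ hN w' w (rep u (j w'))
      (by rw [mk_rep]; exact hu (j w'))
    rw [mk_rep] at h1
    exact h1.symm
  · intro ξ hξ
    by_contra hnr
    apply hξ
    change Cyc.secDivFun δ L (j ζ) (Submodule.Quotient.mk s0) ξ * _ = 0
    rw [secDivFun_eq_zero_of_notMem_range j L δ ζ _ ξ hnr, zero_mul]

theorem c1CapFun_eq_zero_of_notMem_range (δ : X → ℤ) (L N : X.Modules) (ζ : W)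
    (s : Cyc.secFibre L (j ζ)) (u : (ξ : X) → Cyc.secFibre N ξ) (x : X)
    (hx : x ∉ Set.range j) :
    Cyc.c1CapFun δ N (Cyc.secDivFun δ L (j ζ) s) u x = 0 := by
  unfold Cyc.c1CapFun
  apply finsum_eq_zero_of_forall_eq_zero
  intro ξ
  by_cases hξ : ξ ∈ Set.range j
  · obtain ⟨w', rfl⟩ := hξ
    rw [secDivFun_eq_zero_of_notMem_range j N δ w' _ x hx, mul_zero]
  · rw [secDivFun_eq_zero_of_notMem_range j L δ ζ _ ξ hξ, zero_mul]

/-- the commutativity of `c₁` on the closure of a point (given as an integral closed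
subscheme). -/
theorem c1_comm_rel [IsIntegral W] (δ : X → ℤ) [IsLocallyNoetherian X] (hδ : Cyc.IsDimFun X δ)
    (L N : X.Modules) (hL : PicF.IsInvertible L) (hN : PicF.IsInvertible N)
    (s : Cyc.secFibre L (j (genericPoint W))) (hs : s ≠ 0)
    (t : Cyc.secFibre N (j (genericPoint W))) (ht : t ≠ 0)
    (u : (ξ : X) → Cyc.secFibre N ξ) (hu : ∀ ξ, u ξ ≠ 0)
    (v : (ξ : X) → Cyc.secFibre L ξ) (hv : ∀ ξ, v ξ ≠ 0) :
    RatZeroOn δ (δ (j (genericPoint W)) - 2) (Set.range j)
      (fun x => Cyc.c1CapFun δ N (Cyc.secDivFun δ L (j (genericPoint W)) s) u x -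
          Cyc.c1CapFun δ L (Cyc.secDivFun δ N (j (genericPoint W)) t) v x) := by
  haveI : IsLocallyNoetherian W := LocallyOfFiniteType.isLocallyNoetherian j
  have hδ' := Groth.Agent.H48.ClosedDim.isDimFun_comp j δ hδ
  obtain ⟨s0, rfl⟩ := Submodule.Quotient.mk_surjective _ s
  obtain ⟨t0, rfl⟩ := Submodule.Quotient.mk_surjective _ t
  have hL' := PicLoc.isInvertible_pullback j hL
  have hN' := PicLoc.isInvertible_pullback j hN
  obtain ⟨ι, ξ, f, h1, h2, h3, h4⟩ := c1_comm_fun (X := W) (fun w : W => δ (j w)) hδ'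
    ((Scheme.Modules.pullback j).obj L) ((Scheme.Modules.pullback j).obj N) hL' hN'
    (Submodule.Quotient.mk (pullStalk j L (genericPoint W) s0))
    (mk_pullStalk_ne_zero j L hL _ s0 hs)
    (Submodule.Quotient.mk (pullStalk j N (genericPoint W) t0))
    (mk_pullStalk_ne_zero j N hN _ t0 ht)
    (pullFam j N u) (pullFam_ne_zero j N hN u hu)
    (pullFam j L v) (pullFam_ne_zero j L hL v hv)
  refine ratZeroOn_push j δ _ _ ⟨ι, ξ, f, fun _ => trivial, h1, h2, h3, h4⟩ _ ?_ ?_
  · intro w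
    beta_reduce
    rw [c1CapFun_pull j δ L N hL hN _ s0 hs u hu w, c1CapFun_pull j δ N L hN hL _ t0 ht v hv w]
  · intro x hx
    beta_reduce
    rw [c1CapFun_eq_zero_of_notMem_range j δ L N _ _ u x hx,
      c1CapFun_eq_zero_of_notMem_range j δ N L _ _ v x hx, sub_zero]

end Groth.Agent.H63.C1
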