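import Mathlib
import Groth.Agent.H63.C1L
import Groth.Agent.H22.CompLift
import Groth.Agent.H48.DivLocFin

set_option autoImplicit false
set_option linter.style.haveILetI false
set_option linter.unusedSectionVars false
set_option linter.unusedVariables false
universe u
open CategoryTheory CategoryTheory.Limits AlgebraicGeometry TopologicalSpace Opposite

namespace Groth.Agent.H63.C1

variable {X : Scheme.{u}}

theorem exists_closure_subscheme (ξ : X) :
    ∃ (W : Scheme.{u}) (j : W ⟶ X) (_ : IsClosedImmersion j) (_ : IsIntegral W),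
      j (genericPoint W) = ξ ∧ Set.range j = closure {ξ} := by
  let T : TopologicalSpace.Closeds X := ⟨closure {ξ}, isClosed_closure⟩
  have hT : IsIrreducible (T : Set X) := isIrreducible_singleton.closure
  haveI : IsIntegral (Scheme.IdealSheafData.vanishingIdeal T).subscheme :=
    Groth.Agent.H22.CompLift.isIntegral_subscheme_vanishingIdeal T hT
  exact ⟨_, (Scheme.IdealSheafData.vanishingIdeal T).subschemeι, inferInstance, inferInstance,
    Groth.Agent.H22.CompLift.subschemeι_genericPoint T ξ rfl,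
    Groth.Agent.H22.CompLift.range_subschemeι_vanishingIdeal T⟩

/-- commutativity of `c₁` on the closure of an arbitrary point. -/
theorem c1_comm_pt (δ : X → ℤ) [IsLocallyNoetherian X] (hδ : Cyc.IsDimFun X δ)
    (L N : X.Modules) (hL : PicF.IsInvertible L) (hN : PicF.IsInvertible N) (ξ : X)
    (s : Cyc.secFibre L ξ) (hs : s ≠ 0) (t : Cyc.secFibre N ξ) (ht : t ≠ 0)
    (u : (ξ : X) → Cyc.secFibre N ξ) (hu : ∀ ξ, u ξ ≠ 0)
    (v : (ξ : X) → Cyc.secFibre L ξ) (hv : ∀ ξ, v ξ ≠ 0) :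
    RatZeroOn δ (δ ξ - 2) (closure {ξ})
      (fun x => Cyc.c1CapFun δ N (Cyc.secDivFun δ L ξ s) u x -
          Cyc.c1CapFun δ L (Cyc.secDivFun δ N ξ t) v x) := by
  obtain ⟨W, j, hj, hW, hη, hr⟩ := exists_closure_subscheme ξ
  subst hη
  rw [← hr]
  exact c1_comm_rel j δ hδ L N hL hN s hs t ht u hu v hv

open Groth.Agent.H8 in
/-- on a chart, the divisor of a rational section is a principal divisor. -/
theorem secDivFun_chart (δ : X → ℤ) (N : X.Modules) {U : X.Opens} {σ : Γ(N, U)}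
    (hσ : IsFreeGen N U σ) (ξ : X) (hξU : ξ ∈ U) (a : X.presheaf.stalk ξ)
    (ha : a ∉ IsLocalRing.maximalIdeal (X.presheaf.stalk ξ)) (ξ' : X) (hξ' : ξ' ∈ U) :
    Cyc.secDivFun δ N ξ (Submodule.Quotient.mk (a • N.presheaf.germ U ξ hξU σ)) ξ' =
      Cyc.divFun δ ξ (X.residue ξ a) ξ' := by
  unfold Cyc.secDivFun Cyc.divFun
  by_cases h : ξ ⤳ ξ' ∧ δ ξ' + 1 = δ ξ
  · rw [dif_pos h, dif_pos h]
    exact Groth.Agent.H54.C1Indep.secOrdAt_chart N hσ h.1 hξ' a ha _ rfl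
  · rw [dif_neg h, dif_neg h]

open Groth.Agent.H8 in
/-- local finiteness of the divisor of a rational section. -/
theorem finite_secDivFun_support (δ : X → ℤ) [IsLocallyNoetherian X] (hδ : Cyc.IsDimFun X δ)
    (N : X.Modules) (hN : PicF.IsInvertible N) (ξ : X) (s : Cyc.secFibre N ξ) (hs : s ≠ 0)
    (x : X) : {ξ' : X | ξ' ⤳ x ∧ Cyc.secDivFun δ N ξ s ξ' ≠ 0}.Finite := by
  by_cases hξx : ξ ⤳ x
  · obtain ⟨U, hxU, σ, hσ⟩ := exists_isFreeGen_of_isInvertible hN x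
    have hξU : ξ ∈ U := hξx.mem_open U.2 hxU
    obtain ⟨m, rfl⟩ := Submodule.Quotient.mk_surjective _ s
    obtain ⟨a, ha⟩ := (hσ.germ_bijective hξU).2 m
    have ha' : m = a • N.presheaf.germ U ξ hξU σ := ha.symm
    have hane := Groth.Agent.H54.C1Indep.not_mem_of_mk_ne_zero N hσ hξU a m ha' hs
    have hf : X.residue ξ a ≠ 0 := fun h0 =>
      hane ((Groth.Agent.H54.SecOrdGen.residue_eq_zero_iff ξ a).mp h0)
    obtain ⟨t, ht, hfin⟩ := Groth.Agent.H48.DivLocFin.iUnion_support_divFun_locallyFinite δ hδ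
      (fun _ : PUnit.{u + 1} => ξ) (fun _ => X.residue ξ a) (fun _ => hf)
      (fun y => ⟨Set.univ, isOpen_univ, trivial, Set.toFinite _⟩) x
    obtain ⟨O, hOt, hO, hxO⟩ := mem_nhds_iff.mp ht
    refine hfin.subset ?_
    rintro ξ' ⟨hsp, hne⟩
    refine ⟨hOt (hsp.mem_open hO hxO), Set.mem_iUnion.mpr ⟨PUnit.unit, ?_⟩⟩
    have hξ'U : ξ' ∈ U := hsp.mem_open U.2 hxU
    rw [ha', secDivFun_chart δ N hσ ξ hξU a hane ξ' hξ'U] at hne
    exact hne
  · convert Set.finite_empty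
    apply Set.eq_empty_of_forall_notMem
    rintro ξ' ⟨hsp, hne⟩
    apply hne
    unfold Cyc.secDivFun
    rw [dif_neg]
    rintro ⟨h1, -⟩
    exact hξx (h1.trans hsp)

/-- `c₁(L) ∩ -` commutes with locally finite sums. -/
theorem c1CapFun_finsum {A : Type*} (δ : X → ℤ) (L : X.Modules) (β : A → X → ℤ)
    (s : (ξ : X) → Cyc.secFibre L ξ) (x : X)
    (hfin : {p : A × X | β p.1 p.2 ≠ 0 ∧ p.2 ⤳ x}.Finite) :
    Cyc.c1CapFun δ L (fun ξ' => ∑ᶠ a, β a ξ') s x = ∑ᶠ a, Cyc.c1CapFun δ L (β a) s x := by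
  unfold Cyc.c1CapFun
  have hsd : ∀ ξ' : X, ¬ ξ' ⤳ x → Cyc.secDivFun δ L ξ' (s ξ') x = 0 := by
    intro ξ' h
    unfold Cyc.secDivFun
    rw [dif_neg (fun h' => h h'.1)]
  have h1 : ∀ ξ' : X, (∑ᶠ a, β a ξ') * Cyc.secDivFun δ L ξ' (s ξ') x =
      ∑ᶠ a, β a ξ' * Cyc.secDivFun δ L ξ' (s ξ') x := fun ξ' => finsum_mul _ _
  rw [finsum_congr h1]
  have hsupp : (Function.support (fun p : A × X =>
      β p.1 p.2 * Cyc.secDivFun δ L p.2 (s p.2) x)).Finite := by
    refine hfin.subset ?_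
    rintro ⟨a, ξ'⟩ hp
    refine ⟨?_, ?_⟩
    · intro h0
      apply hp
      change β a ξ' * _ = 0
      rw [h0, zero_mul]
    · by_contra hn
      apply hp
      change _ * Cyc.secDivFun δ L ξ' (s ξ') x = 0
      rw [hsd ξ' hn, mul_zero]
  have hsupp' : (Function.support (fun p : X × A =>
      β p.2 p.1 * Cyc.secDivFun δ L p.1 (s p.1) x)).Finite := by
    refine (hsupp.image (Equiv.prodComm A X)).subset ?_
    rintro ⟨ξ', a⟩ hp
    exact ⟨(a, ξ'), hp, rfl⟩
  rw [← finsum_curry (fun p : A × X => β p.1 p.2 * Cyc.secDivFun δ L p.2 (s p.2) x) hsupp,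
    ← finsum_curry (fun p : X × A => β p.2 p.1 * Cyc.secDivFun δ L p.1 (s p.1) x) hsupp']
  exact (finsum_comp_equiv (Equiv.prodComm X A)
    (f := fun p : A × X => β p.1 p.2 * Cyc.secDivFun δ L p.2 (s p.2) x))

end Groth.Agent.H63.C1
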