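import Mathlib
import Groth.Agent.H63.C1M
import Groth.Agent.H54.C1Struct
import Groth.Prelude.Def_PicLoc

set_option autoImplicit false
set_option linter.style.haveILetI false
set_option linter.unusedSectionVars false
set_option linter.unusedVariables false
universe u
open CategoryTheory CategoryTheory.Limits AlgebraicGeometry TopologicalSpace Opposite

namespace Groth.Agent.H63.C1

open Groth.Agent.H54.C1Cap

variable {X : Scheme.{u}}

theorem secDivFun_ne_zero_specializes {δ : X → ℤ} {L : X.Modules} {ξ : X}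
    {s : Cyc.secFibre L ξ} {x : X} (h : Cyc.secDivFun δ L ξ s x ≠ 0) : ξ ⤳ x := by
  by_contra hn
  apply h
  unfold Cyc.secDivFun
  rw [dif_neg (fun h' => hn h'.1)]

theorem divFun_ne_zero_specializes {δ : X → ℤ} {ξ : X}
    {f : X.residueField ξ} {x : X} (h : Cyc.divFun δ ξ f x ≠ 0) : ξ ⤳ x := by
  by_contra hn
  apply h
  unfold Cyc.divFun
  rw [dif_neg (fun h' => hn h'.1)]

theorem c1CapFun_mul_left (δ : X → ℤ) (L : X.Modules) (n : ℤ) (b : X → ℤ)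
    (s : (ξ : X) → Cyc.secFibre L ξ) (x : X) :
    Cyc.c1CapFun δ L (fun ξ' => n * b ξ') s x = n * Cyc.c1CapFun δ L b s x := by
  unfold Cyc.c1CapFun
  rw [mul_finsum]
  exact finsum_congr fun ξ' => mul_assoc _ _ _

theorem c1CapFun_ne_zero_exists {δ : X → ℤ} {L : X.Modules} {b : X → ℤ}
    {s : (ξ : X) → Cyc.secFibre L ξ} {x : X} (h : Cyc.c1CapFun δ L b s x ≠ 0) :
    ∃ ξ' : X, b ξ' ≠ 0 ∧ ξ' ⤳ x := by
  by_contra hn
  apply h
  unfold Cyc.c1CapFun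
  apply finsum_eq_zero_of_forall_eq_zero
  intro ξ'
  by_cases hb : b ξ' = 0
  · rw [hb, zero_mul]
  · by_cases hsp : ξ' ⤳ x
    · exact absurd ⟨ξ', hb, hsp⟩ hn
    · have : Cyc.secDivFun δ L ξ' (s ξ') x = 0 := by
        by_contra h0
        exact hsp (secDivFun_ne_zero_specializes h0)
      rw [this, mul_zero]

theorem locallyFinite_closure_support (α : AlgebraicCycle X ℤ) (x : X) :
    ∃ U : Set X, IsOpen U ∧ x ∈ U ∧
      {a : {ξ : X // α ξ ≠ 0} | (closure {a.1} ∩ U).Nonempty}.Finite := by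
  obtain ⟨t, ht, hfin⟩ := α.supportLocallyFiniteWithinDomain x (Set.mem_univ x)
  obtain ⟨U, hUt, hU, hxU⟩ := mem_nhds_iff.mp ht
  refine ⟨U, hU, hxU, ?_⟩
  refine (hfin.preimage Subtype.val_injective.injOn).subset ?_
  rintro a ⟨y, hy, hyU⟩
  have hsp : a.1 ⤳ y := specializes_iff_mem_closure.mpr hy
  exact ⟨hUt (hsp.mem_open hU hyU), a.2⟩

/-- **`c₁(L) ∩ c₁(N) ∩ α ∼ c₁(N) ∩ c₁(L) ∩ α`.** -/
theorem c1c1_comm (δ : X → ℤ) (hX : Cyc.IsSetup X δ) (L N : X.Modules)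
    (hL : PicF.IsInvertible L) (hN : PicF.IsInvertible N) (k : ℤ) (α : AlgebraicCycle X ℤ)
    (hα : α ∈ Cyc.Zk X δ (k + 2)) (sL sL' : (ξ : X) → Cyc.secFibre L ξ)
    (sN sN' : (ξ : X) → Cyc.secFibre N ξ) (hsL : ∀ ξ, sL ξ ≠ 0) (hsL' : ∀ ξ, sL' ξ ≠ 0)
    (hsN : ∀ ξ, sN ξ ≠ 0) (hsN' : ∀ ξ, sN' ξ ≠ 0) (γ₁ γ₂ : AlgebraicCycle X ℤ)
    (h₁ : ⇑γ₁ = Cyc.c1CapFun δ L (Cyc.c1CapFun δ N ⇑α sN) sL)
    (h₂ : ⇑γ₂ = Cyc.c1CapFun δ N (Cyc.c1CapFun δ L ⇑α sL') sN') :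
    Cyc.RatEquiv δ k γ₁ γ₂ := by
  classical
  haveI : IsLocallyNoetherian X := hX.1
  have hδ := hX.2.2
  set P : X → X → ℤ := fun ξ x =>
    Cyc.c1CapFun δ L (Cyc.secDivFun δ N ξ (sN ξ)) sL x with hP
  set Q : X → X → ℤ := fun ξ x =>
    Cyc.c1CapFun δ N (Cyc.secDivFun δ L ξ (sL' ξ)) sN' x with hQ
  -- the iterated caps as sums over the points of `α`
  have key : ∀ (L N : X.Modules) (hN : PicF.IsInvertible N)
      (sL : (ξ : X) → Cyc.secFibre L ξ) (sN : (ξ : X) → Cyc.secFibre N ξ)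
      (hsN : ∀ ξ, sN ξ ≠ 0) (x : X),
      Cyc.c1CapFun δ L (Cyc.c1CapFun δ N ⇑α sN) sL x =
        ∑ᶠ ξ : X, α ξ * Cyc.c1CapFun δ L (Cyc.secDivFun δ N ξ (sN ξ)) sL x := by
    intro L N hN sL sN hsN x
    have hfin : {p : X × X | α p.1 * Cyc.secDivFun δ N p.1 (sN p.1) p.2 ≠ 0 ∧
        p.2 ⤳ x}.Finite := by
      have hF := finite_gen_support α x
      have hS := fun ξ : X => finite_secDivFun_support δ hδ N hN ξ (sN ξ) (hsN ξ) x
      refine (hF.biUnion fun ξ _ => (hS ξ).image (Prod.mk ξ)).subset ?_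
      rintro ⟨ξ, ξ'⟩ ⟨hne, hsp⟩
      have h1 : α ξ ≠ 0 := left_ne_zero_of_mul hne
      have h2 : Cyc.secDivFun δ N ξ (sN ξ) ξ' ≠ 0 := right_ne_zero_of_mul hne
      have h3 : ξ ⤳ x := (secDivFun_ne_zero_specializes h2).trans hsp
      exact Set.mem_biUnion (show ξ ∈ {ξ | α ξ ≠ 0 ∧ ξ ⤳ x} from ⟨h1, h3⟩)
        ⟨ξ', ⟨hsp, h2⟩, rfl⟩
    have h0 := c1CapFun_finsum δ L (fun ξ ξ' => α ξ * Cyc.secDivFun δ N ξ (sN ξ) ξ') sL x hfin
    have h0' : Cyc.c1CapFun δ L (Cyc.c1CapFun δ N ⇑α sN) sL x =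
        Cyc.c1CapFun δ L (fun ξ' => ∑ᶠ ξ, α ξ * Cyc.secDivFun δ N ξ (sN ξ) ξ') sL x := rfl
    rw [h0', h0]
    exact finsum_congr fun ξ => c1CapFun_mul_left δ L (α ξ) _ sL x
  have hsuppP : ∀ (L N : X.Modules) (sL : (ξ : X) → Cyc.secFibre L ξ)
      (sN : (ξ : X) → Cyc.secFibre N ξ) (x : X),
      (Function.support fun ξ : X =>
        α ξ * Cyc.c1CapFun δ L (Cyc.secDivFun δ N ξ (sN ξ)) sL x).Finite := by
    intro L N sL sN x
    refine (finite_gen_support α x).subset ?_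
    intro ξ hξ
    have h1 : α ξ ≠ 0 := left_ne_zero_of_mul hξ
    have h2 := right_ne_zero_of_mul hξ
    obtain ⟨ξ', hb, hsp⟩ := c1CapFun_ne_zero_exists h2
    exact ⟨h1, (secDivFun_ne_zero_specializes hb).trans hsp⟩
  have hdim : ∀ ξ : X, α ξ ≠ 0 → δ ξ = k + 2 := by
    intro ξ hξ
    by_contra hne
    exact hξ (hα ξ hne)
  have hg : ∀ a : {ξ : X // α ξ ≠ 0}, RatZeroOn δ k (closure {a.1})
      (fun x => α a.1 * (P a.1 x - Q a.1 x)) := by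
    intro a
    have h := c1_comm_pt δ hδ N L hN hL a.1 (sN a.1) (hsN a.1) (sL' a.1) (hsL' a.1)
      sL hsL sN' hsN'
    have hk : δ a.1 - 2 = k := by rw [hdim a.1 a.2]; ring
    rw [hk] at h
    exact h.zsmul (α a.1)
  have hsum := ratZeroOn_sum (δ := δ) (k := k) (fun a : {ξ : X // α ξ ≠ 0} => closure {a.1})
    (fun a => isClosed_closure) (locallyFinite_closure_support α) _ hg
  unfold Cyc.RatEquiv
  refine ratEquivZero_of_ratZeroOn (γ₁ - γ₂) (hsum.congr fun x => ?_)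
  have hcoe : (γ₁ - γ₂) x = γ₁ x - γ₂ x := rfl
  rw [hcoe, h₁, h₂, key L N hN sL sN hsN x, key N L hL sN' sL' hsL' x,
    ← finsum_sub_distrib (hsuppP L N sL sN x) (hsuppP N L sN' sL' x)]
  rw [finsum_eq_finsum_subtype (fun ξ : X => α ξ * Cyc.c1CapFun δ L (Cyc.secDivFun δ N ξ (sN ξ)) sL x -
    α ξ * Cyc.c1CapFun δ N (Cyc.secDivFun δ L ξ (sL' ξ)) sN' x) (fun ξ => α ξ ≠ 0)]
  · refine finsum_congr fun a => ?_
    rw [hP, hQ]
    ring
  · intro ξ hξ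
    have : α ξ = 0 := not_not.mp hξ
    rw [this, zero_mul, zero_mul, sub_zero]

end Groth.Agent.H63.C1
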