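import Mathlib
import Groth.Agent.H63.C1N

set_option autoImplicit false
set_option linter.style.haveILetI false
set_option linter.unusedSectionVars false
set_option linter.unusedVariables false
universe u
open CategoryTheory CategoryTheory.Limits AlgebraicGeometry TopologicalSpace Opposite

namespace Groth.Agent.H63.C1

open Groth.Agent.H54.C1Cap Groth.Agent.H54.C1Struct Groth.Agent.H54.SecOrdGen

variable {X : Scheme.{u}}

/-- the divisor of the rational section `a • 1` of the structure sheaf is `div(ā)`. -/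
theorem secDivFun_struct (δ : X → ℤ) (ξ : X) (a : X.presheaf.stalk ξ)
    (ha : a ∉ IsLocalRing.maximalIdeal (X.presheaf.stalk ξ)) :
    Cyc.secDivFun δ (Coh.structureModule X) ξ (Submodule.Quotient.mk (a • one ξ)) =
      Cyc.divFun δ ξ (X.residue ξ a) := by
  funext x
  unfold Cyc.secDivFun Cyc.divFun
  split_ifs with h
  · refine secOrdAt_eq_ordAt _ h.1 (one x) (one_bijective x) ?_ a ha _ ?_
    · rw [spec_one]
      exact one_bijective ξ
    · rw [spec_one]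
  · rfl

theorem divFun_one' (δ : X → ℤ) (ξ x : X) : Cyc.divFun δ ξ (1 : X.residueField ξ) x = 0 := by
  unfold Cyc.divFun
  split_ifs with h
  · exact ordFrac_one _ _
  · rfl

/-- the unit sections of the structure sheaf. -/
noncomputable def oneFam (X : Scheme.{u}) (ξ : X) : Cyc.secFibre (Coh.structureModule X) ξ :=
  Submodule.Quotient.mk (one ξ)

theorem oneFam_ne_zero (ξ : X) : oneFam X ξ ≠ 0 := by
  intro h0
  have h1 : (Submodule.Quotient.mk ((1 : X.presheaf.stalk ξ) • one ξ) :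
      Cyc.secFibre (Coh.structureModule X) ξ) = 0 := by
    rw [one_smul]
    exact h0
  have := (mk_smul_eq_zero_iff _ ξ _ (one_bijective ξ) 1).mp h1
  exact (IsLocalRing.mem_maximalIdeal _).mp this isUnit_one

theorem secDivFun_oneFam (δ : X → ℤ) (ξ x : X) :
    Cyc.secDivFun δ (Coh.structureModule X) ξ (oneFam X ξ) x = 0 := by
  have h1 : oneFam X ξ = Submodule.Quotient.mk ((1 : X.presheaf.stalk ξ) • one ξ) := by
    rw [one_smul]
    rfl
  have hne : (1 : X.presheaf.stalk ξ) ∉ IsLocalRing.maximalIdeal (X.presheaf.stalk ξ) :=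
    fun h => (IsLocalRing.mem_maximalIdeal _).mp h isUnit_one
  rw [h1, secDivFun_struct δ ξ 1 hne, map_one]
  exact divFun_one' δ ξ x

theorem c1CapFun_oneFam (δ : X → ℤ) (b : X → ℤ) (x : X) :
    Cyc.c1CapFun δ (Coh.structureModule X) b (oneFam X) x = 0 := by
  unfold Cyc.c1CapFun
  apply finsum_eq_zero_of_forall_eq_zero
  intro ξ
  rw [secDivFun_oneFam, mul_zero]

/-- `c₁(L) ∩ div(f) ∼ 0`. -/
theorem c1Cap_divFun (δ : X → ℤ) [IsLocallyNoetherian X] (hδ : Cyc.IsDimFun X δ)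
    (L : X.Modules) (hL : PicF.IsInvertible L) (ξ : X) (f : X.residueField ξ) (hf : f ≠ 0)
    (s : (ξ : X) → Cyc.secFibre L ξ) (hs : ∀ ξ, s ξ ≠ 0) :
    RatZeroOn δ (δ ξ - 2) (closure {ξ}) (fun x => Cyc.c1CapFun δ L (Cyc.divFun δ ξ f) s x) := by
  obtain ⟨a, rfl⟩ := IsLocalRing.residue_surjective (R := X.presheaf.stalk ξ) f
  have ha : a ∉ IsLocalRing.maximalIdeal (X.presheaf.stalk ξ) := by
    intro hmem
    exact hf ((residue_eq_zero_iff ξ a).mpr hmem)
  have ht : (Submodule.Quotient.mk (a • one ξ) :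
      Cyc.secFibre (Coh.structureModule X) ξ) ≠ 0 := by
    intro h0
    exact ha ((mk_smul_eq_zero_iff _ ξ _ (one_bijective ξ) a).mp h0)
  have h := c1_comm_pt δ hδ L (Coh.structureModule X) hL
    (PicLoc.isInvertible_structureModule X) ξ (s ξ) (hs ξ) _ ht (oneFam X) oneFam_ne_zero s hs
  refine h.neg.congr fun x => ?_
  rw [c1CapFun_oneFam, secDivFun_struct δ ξ a ha, zero_sub, neg_neg]
  rfl

/-- **`c₁(L) ∩ α ∼ 0` for `α ∼ 0`.** -/
theorem c1Cap_ratEquivZero (δ : X → ℤ) (hX : Cyc.IsSetup X δ) (L : X.Modules)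
    (hL : PicF.IsInvertible L) (k : ℤ) (α : AlgebraicCycle X ℤ)
    (h0 : Cyc.RatEquivZero δ (k + 1) α) (s : (ξ : X) → Cyc.secFibre L ξ) (hs : ∀ ξ, s ξ ≠ 0)
    (γ : AlgebraicCycle X ℤ) (hγ : ⇑γ = Cyc.c1CapFun δ L ⇑α s) : Cyc.RatEquivZero δ k γ := by
  classical
  haveI : IsLocallyNoetherian X := hX.1
  have hδ := hX.2.2
  obtain ⟨ι, ξ, f, hξ, hf, hlf, hsum⟩ := h0
  have hg : ∀ i : ι, RatZeroOn δ k (closure {ξ i})
      (fun x => Cyc.c1CapFun δ L (Cyc.divFun δ (ξ i) (f i)) s x) := by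
    intro i
    have h := c1Cap_divFun δ hδ L hL (ξ i) (f i) (hf i) s hs
    have hk : δ (ξ i) - 2 = k := by rw [hξ i]; ring
    rw [hk] at h
    exact h
  have hsumZ := ratZeroOn_sum (δ := δ) (k := k) (fun i : ι => closure {ξ i})
    (fun i => isClosed_closure) hlf _ hg
  refine ratEquivZero_of_ratZeroOn γ (hsumZ.congr fun x => ?_)
  rw [hγ]
  have hα : (⇑α : X → ℤ) = fun ξ' => ∑ᶠ i, Cyc.divFun δ (ξ i) (f i) ξ' := funext hsum
  rw [hα]
  apply c1CapFun_finsum
  -- finiteness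
  obtain ⟨U, hU, hxU, hfin⟩ := hlf x
  have hS : ∀ i : ι, {ξ' : X | ξ' ⤳ x ∧ Cyc.divFun δ (ξ i) (f i) ξ' ≠ 0}.Finite := by
    intro i
    obtain ⟨t, ht, hfint⟩ := Groth.Agent.H48.DivLocFin.iUnion_support_divFun_locallyFinite δ hδ
      (fun _ : PUnit.{u + 1} => ξ i) (fun _ => f i) (fun _ => hf i)
      (fun y => ⟨Set.univ, isOpen_univ, trivial, Set.toFinite _⟩) x
    obtain ⟨O, hOt, hO, hxO⟩ := mem_nhds_iff.mp ht
    refine hfint.subset ?_
    rintro ξ' ⟨hsp, hne⟩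
    exact ⟨hOt (hsp.mem_open hO hxO), Set.mem_iUnion.mpr ⟨PUnit.unit, hne⟩⟩
  refine (hfin.biUnion fun i _ => (hS i).image (Prod.mk i)).subset ?_
  rintro ⟨i, ξ'⟩ ⟨hne, hsp⟩
  have h3 : ξ i ⤳ x := (divFun_ne_zero_specializes hne).trans hsp
  exact Set.mem_biUnion
    (show i ∈ {i | (closure {ξ i} ∩ U).Nonempty} from
      ⟨x, specializes_iff_mem_closure.mp h3, hxU⟩)
    ⟨ξ', ⟨hsp, hne⟩, rfl⟩

end Groth.Agent.H63.C1
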