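import Mathlib
import Groth.Agent.H63.C1J
import Groth.Agent.H63.C1K

set_option autoImplicit false
set_option linter.style.haveILetI false
set_option linter.unusedSectionVars false
set_option linter.unusedVariables false
universe u
open CategoryTheory CategoryTheory.Limits AlgebraicGeometry TopologicalSpace Opposite Order

namespace Groth.Agent.H63.C1

open Groth.Agent.H8 Groth.Agent.H54.SecOrd Groth.Agent.H54.SecOrdGen Groth.Agent.H54.C1Cap
open IsLocalRing

section Alg
variable (R : Type u) [CommRing R] [IsDomain R] [IsNoetherianRing R] [IsLocalRing R]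
  (K : Type u) [Field K] [Algebra R K] [IsFractionRing R K]

theorem PhiK_unit_left (hR : ringKrullDim R = 1) (w : Rˣ) {b : K} (hb0 : b ≠ 0) :
    PhiK R K (algebraMap R K (w : R)) b = residue R (w : R) ^ (CycAlg.ordFrac R K b) := by
  have hwK : algebraMap R K (w : R) ≠ 0 := algebraMap_ne_zero R K w.ne_zero
  have h3 := num_ne_zero R K hb0
  have h4 := den_ne_zero R K b
  have hW : residue R (w : R) ≠ 0 := (residue_ne_zero_iff_isUnit _).2 w.isUnit
  rw [PhiK_eq R K hR hwK hb0 w.ne_zero one_ne_zero h3 h4 (by rw [map_one, div_one])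
    (num_div_den R K b).symm]
  unfold Phi4
  have h1 : (1 : R) = ((1 : Rˣ) : R) := rfl
  rw [ts_unit_left hR w (nzd_of_ne h3), ts_unit_left hR w (nzd_of_ne h4), h1,
    ts_unit_left hR 1 (nzd_of_ne h3), ts_unit_left hR 1 (nzd_of_ne h4)]
  have hb : CycAlg.ordFrac R K b = (mm R (num R K b) : ℤ) - mm R (den R K b) := by
    conv_lhs => rw [← num_div_den R K b]
    exact ordFrac_div R K hR h3 h4
  rw [hb, zpow_sub₀ hW, zpow_natCast, zpow_natCast]
  simp only [Units.val_one, map_one, one_pow, mul_one]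
  rw [div_eq_mul_inv]

end Alg

variable {X : Scheme.{u}} [IsIntegral X] [IsLocallyNoetherian X]

/-- the local identity at a codimension one point where the global section is a unit. -/
theorem gysin_local {L N : X.Modules} (σ : L.presheaf.obj (Opposite.op ⊤))
    (hs0 : (L.presheaf.germ ⊤ (genericPoint X) trivial) σ ≠ 0)
    (t0 : N.presheaf.stalk (genericPoint X)) (ht0 : t0 ≠ 0)
    (w : (ξ : X) → Cyc.secFibre L ξ) (ξ : X) (hξ : coheight ξ = 1)
    (hξZ : (Submodule.Quotient.mk ((L.presheaf.germ ⊤ ξ trivial) σ) : Cyc.secFibre L ξ) ≠ 0)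
    (x : X) (h : ξ ⤳ x) (cL : Chart L x) (cN : Chart N x) (B : ℤ) :
    (0 : ℤ) =
      Cyc.ordAt x ξ h (PhiK (X.presheaf.stalk ξ) X.functionField
        (cL.coord ((L.presheaf.germ ⊤ (genericPoint X) trivial) σ)) (cN.coord t0)) +
      Cyc.secOrdAt L (genericPoint X) ξ (genericPoint_specializes' ξ)
        (Submodule.Quotient.mk ((L.presheaf.germ ⊤ (genericPoint X) trivial) σ)) * B -
      Cyc.secOrdAt N (genericPoint X) ξ (genericPoint_specializes' ξ)
        (Submodule.Quotient.mk t0) * Cyc.secOrdAt L ξ x h (Cyc.gysinChoice L σ w ξ) := by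
  have hR := ringKrullDim_stalk_of_coheight hξ
  set s0 := (L.presheaf.germ ⊤ (genericPoint X) trivial) σ with hs0def
  -- the coordinate of `σ` at `x`
  obtain ⟨ax, hax⟩ := cL.g_bijective.2 ((L.presheaf.germ ⊤ x trivial) σ)
  have hax' : ax • cL.g = (L.presheaf.germ ⊤ x trivial) σ := hax
  set aξ := (X.presheaf.stalkSpecializes h).hom ax with haξ
  have hgermξ : (L.presheaf.germ ⊤ ξ trivial) σ = aξ • (cL.gen h).g := by
    have e1 : (L.presheaf.stalkSpecializes h) ((L.presheaf.germ ⊤ x trivial) σ) =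
        (L.presheaf.germ ⊤ ξ trivial) σ :=
      TopCat.Presheaf.germ_stalkSpecializes_apply _ _ _ _
    rw [← e1, ← hax', stalkSpecializes_smul, cL.spec_g_gen h]
  have hane : aξ ∉ IsLocalRing.maximalIdeal (X.presheaf.stalk ξ) := by
    intro hmem
    apply hξZ
    rw [hgermξ]
    exact (mk_smul_eq_zero_iff L ξ _ (cL.gen h).g_bijective aξ).mpr hmem
  have hunit : IsUnit aξ := by
    by_contra hnu
    exact hane ((IsLocalRing.mem_maximalIdeal _).mpr hnu)
  set wξ : (X.presheaf.stalk ξ)ˣ := hunit.unit with hwξ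
  have hwξ' : (wξ : X.presheaf.stalk ξ) = aξ := IsUnit.unit_spec hunit
  -- the coordinate of `s0`
  have hcoord : cL.coord s0 =
      algebraMap (X.presheaf.stalk ξ) X.functionField (wξ : X.presheaf.stalk ξ) := by
    rw [← cL.coord_gen h]
    apply (cL.gen h).coord_eq
    have e1 : (L.presheaf.stalkSpecializes (genericPoint_specializes' ξ))
        ((L.presheaf.germ ⊤ ξ trivial) σ) = s0 :=
      TopCat.Presheaf.germ_stalkSpecializes_apply _ _ _ _
    rw [← e1, hgermξ, stalkSpecializes_smul, (cL.gen h).spec_g, hwξ']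
    rfl
  have hmL : Cyc.secOrdAt L (genericPoint X) ξ (genericPoint_specializes' ξ)
      (Submodule.Quotient.mk s0) = 0 := by
    rw [secOrdAt_generic (cL.gen h) hξ s0 hs0]
    change CycAlg.ordFrac _ _ (cL.coord s0) = 0
    rw [hcoord, ordFrac_algebraMap _ _ hR wξ.ne_zero, mm_unit]
    rfl
  have hmN : Cyc.secOrdAt N (genericPoint X) ξ (genericPoint_specializes' ξ)
      (Submodule.Quotient.mk t0) =
      CycAlg.ordFrac (X.presheaf.stalk ξ) X.functionField (cN.coord t0) :=
    secOrdAt_generic (cN.gen h) hξ t0 ht0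
  have hv : Cyc.gysinChoice L σ w ξ =
      Submodule.Quotient.mk ((wξ : X.presheaf.stalk ξ) • (cL.gen h).g) := by
    unfold Cyc.gysinChoice
    rw [if_pos hξZ, hgermξ, hwξ']
  have hB2 : Cyc.secOrdAt L ξ x h (Cyc.gysinChoice L σ w ξ) =
      Cyc.ordAt x ξ h (X.residue ξ (wξ : X.presheaf.stalk ξ)) := by
    rw [hv]
    exact cL.secOrdAt_chart' h wξ
  have hb0 : cN.coord t0 ≠ 0 := cN.coord_ne_zero ht0
  have hW : X.residue ξ (wξ : X.presheaf.stalk ξ) ≠ 0 := residue_unit_ne_zero ξ wξ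
  have hP : Cyc.ordAt x ξ h (PhiK (X.presheaf.stalk ξ) X.functionField (cL.coord s0)
      (cN.coord t0)) =
      CycAlg.ordFrac (X.presheaf.stalk ξ) X.functionField (cN.coord t0) *
        Cyc.ordAt x ξ h (X.residue ξ (wξ : X.presheaf.stalk ξ)) := by
    rw [hcoord, PhiK_unit_left _ _ hR wξ hb0]
    exact ordAt_zpow x ξ h hW _
  rw [hP, hmL, hmN, hB2]
  ring


/-- the key formula with Gysin sections: the rational equivalence is supported on `Z(σ)`. -/
theorem gysin_key (δ : X → ℤ) (hδ : Cyc.IsDimFun X δ)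
    (L N : X.Modules) (hL : PicF.IsInvertible L) (hN : PicF.IsInvertible N)
    (σ : L.presheaf.obj (Opposite.op ⊤))
    (hs : (Submodule.Quotient.mk ((L.presheaf.germ ⊤ (genericPoint X) trivial) σ) :
      Cyc.secFibre L (genericPoint X)) ≠ 0)
    (Z : Set X) (hZc : IsClosed Z)
    (hZ : ∀ x : X, x ∈ Z ↔
      (Submodule.Quotient.mk ((L.presheaf.germ ⊤ x trivial) σ) : Cyc.secFibre L x) = 0)
    (t : Cyc.secFibre N (genericPoint X))
    (ht : t ≠ 0) (u : (ξ : X) → Cyc.secFibre N ξ) (hu : ∀ ξ, u ξ ≠ 0)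
    (w : (ξ : X) → Cyc.secFibre L ξ) (hw : ∀ ξ, w ξ ≠ 0) :
    RatZeroOn δ (δ (genericPoint X) - 2) Z
      (fun x => Cyc.c1CapFun δ N (Cyc.secDivFun δ L (genericPoint X)
          (Submodule.Quotient.mk ((L.presheaf.germ ⊤ (genericPoint X) trivial) σ))) u x -
        Cyc.c1CapFun δ L (Cyc.secDivFun δ N (genericPoint X) t) (Cyc.gysinChoice L σ w) x) := by
  classical
  set s0 := (L.presheaf.germ ⊤ (genericPoint X) trivial) σ with hs0def
  set v := Cyc.gysinChoice L σ w with hvdef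
  have hv : ∀ ξ, v ξ ≠ 0 := Groth.Agent.H54.C1Indep.gysinChoice_ne_zero L σ w hw
  let ZU : X.Opens := ⟨Zᶜ, hZc.isOpen_compl⟩
  have hηZU : genericPoint X ∈ ZU := fun hmem => hs ((hZ _).mp hmem)
  obtain ⟨t0, rfl⟩ := Submodule.Quotient.mk_surjective _ t
  have hs0 : s0 ≠ 0 := by
    intro h0
    apply hs
    rw [h0]
    rfl
  have ht0 : t0 ≠ 0 := by
    rintro rfl
    exact ht rfl
  obtain ⟨UL, hηUL, hULunit⟩ := exists_unit_locus hL s0 hs0
  obtain ⟨UN, hηUN, hUNunit⟩ := exists_unit_locus hN t0 ht0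
  let U₀ : X.Opens := UL ⊓ UN
  have hηU₀ : genericPoint X ∈ U₀ := ⟨hηUL, hηUN⟩
  have hcoh : ∀ ξ : X, δ ξ + 1 = δ (genericPoint X) → coheight ξ = 1 := fun ξ hξ =>
    Groth.Agent.H54.DivZero.coheight_eq_one_of_dimFun δ hδ ξ hξ
  have hex : ∀ ξ : X, ∃ f : X.residueField ξ, f ≠ 0 ∧ (δ ξ + 1 = δ (genericPoint X) →
      (∀ (x : X) (h : ξ ⤳ x) (cL : Chart L x) (cN : Chart N x),
        Cyc.ordAt x ξ h f =
          Cyc.ordAt x ξ h (PhiK (X.presheaf.stalk ξ) X.functionField (cL.coord s0) (cN.coord t0)) +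
          Cyc.secOrdAt L (genericPoint X) ξ (genericPoint_specializes' ξ)
              (Submodule.Quotient.mk s0) * Cyc.secOrdAt N ξ x h (u ξ) -
          Cyc.secOrdAt N (genericPoint X) ξ (genericPoint_specializes' ξ)
              (Submodule.Quotient.mk t0) * Cyc.secOrdAt L ξ x h (v ξ)) ∧
      (ξ ∉ Z → f = 1)) := by
    intro ξ
    by_cases hξ : δ ξ + 1 = δ (genericPoint X)
    · by_cases hξZ : ξ ∈ Z
      · obtain ⟨f, hf0, hf1, hf2⟩ := exists_f hL hN s0 hs0 t0 ht0 u hu v hv ξ (hcoh ξ hξ)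
        exact ⟨f, hf0, fun _ => ⟨hf1, fun hn => absurd hξZ hn⟩⟩
      · refine ⟨1, one_ne_zero, fun _ => ⟨?_, fun _ => rfl⟩⟩
        intro x h cL cN
        rw [ordAt_one]
        exact gysin_local σ hs0 t0 ht0 w ξ (hcoh ξ hξ) (fun h0 => hξZ ((hZ ξ).mpr h0))
          x h cL cN _
    · exact ⟨1, one_ne_zero, fun h => absurd h hξ⟩
  choose f hf0 hf using hex
  have hLF := Groth.Agent.H54.OrdLF.locallyFinite_of_forall_notMem X U₀ hηU₀
    (fun ξ => δ ξ + 1 = δ (genericPoint X) ∧ ξ ∉ U₀) (fun ξ hξ => ⟨hcoh ξ hξ.1, hξ.2⟩)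
  have hLFZ := Groth.Agent.H54.OrdLF.locallyFinite_of_forall_notMem X ZU hηZU
    (fun ξ => δ ξ + 1 = δ (genericPoint X) ∧ ξ ∈ Z)
    (fun ξ hξ => ⟨hcoh ξ hξ.1, fun hmem => hmem hξ.2⟩)
  refine ⟨{ξ : X // δ ξ + 1 = δ (genericPoint X) ∧ ξ ∈ Z}, fun i => i.1, fun i => f i.1,
    fun i => i.2.2, ?_, ?_, ?_, ?_⟩
  · intro i
    have := i.2.1
    change δ i.1 = δ (genericPoint X) - 2 + 1
    omega
  · intro i
    exact hf0 i.1
  · intro x
    obtain ⟨t, ht, hfin⟩ := hLFZ x
    obtain ⟨U, hUt, hU, hxU⟩ := mem_nhds_iff.mp ht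
    refine ⟨U, hU, hxU, hfin.subset ?_⟩
    rintro i ⟨y, hy, hyU⟩
    exact ⟨y, hy, hUt hyU⟩
  · intro x
    beta_reduce
    unfold Cyc.c1CapFun
    by_cases hx : δ x + 2 = δ (genericPoint X)
    · -- the main case
      obtain ⟨cL⟩ := chart_nonempty hL x
      obtain ⟨cN⟩ := chart_nonempty hN x
      have ha0 : cL.coord s0 ≠ 0 := cL.coord_ne_zero hs0
      have hb0 : cN.coord t0 ≠ 0 := cN.coord_ne_zero ht0
      have hP := sum_ordAt_PhiK_eq_zero δ hδ x hx (cL.coord s0) (cN.coord t0) ha0 hb0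
      set P : {ξ : X // ξ ⤳ x ∧ δ ξ + 1 = δ (genericPoint X)} → ℤ := fun j =>
        Cyc.ordAt x j.1 j.2.1 (PhiK (X.presheaf.stalk j.1) X.functionField
          (cL.coord s0) (cN.coord t0)) with hPdef
      set B1 : {ξ : X // ξ ⤳ x ∧ δ ξ + 1 = δ (genericPoint X)} → ℤ := fun j =>
        Cyc.secOrdAt L (genericPoint X) j.1 (genericPoint_specializes' j.1)
          (Submodule.Quotient.mk s0) * Cyc.secOrdAt N j.1 x j.2.1 (u j.1) with hB1def
      set B2 : {ξ : X // ξ ⤳ x ∧ δ ξ + 1 = δ (genericPoint X)} → ℤ := fun j =>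
        Cyc.secOrdAt N (genericPoint X) j.1 (genericPoint_specializes' j.1)
          (Submodule.Quotient.mk t0) * Cyc.secOrdAt L j.1 x j.2.1 (v j.1) with hB2def
      have hid : ∀ j : {ξ : X // ξ ⤳ x ∧ δ ξ + 1 = δ (genericPoint X)},
          Cyc.ordAt x j.1 j.2.1 (f j.1) = P j + B1 j - B2 j := fun j =>
        (hf j.1 j.2.2).1 x j.2.1 cL cN
      -- finiteness
      obtain ⟨tn, htn, hfin⟩ := hLF x
      have hT := hfin.image Subtype.val
      have hFx : {j : {ξ : X // ξ ⤳ x ∧ δ ξ + 1 = δ (genericPoint X)} | j.1 ∉ U₀}.Finite := by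
        refine (hT.preimage Subtype.val_injective.injOn).subset ?_
        intro j hj
        exact ⟨⟨j.1, j.2.2, hj⟩,
          ⟨x, specializes_iff_mem_closure.mp j.2.1, mem_of_mem_nhds htn⟩, rfl⟩
      have hunitL : ∀ j : {ξ : X // ξ ⤳ x ∧ δ ξ + 1 = δ (genericPoint X)}, j.1 ∈ U₀ →
          ∃ w : (X.presheaf.stalk j.1)ˣ, cL.coord s0 =
            algebraMap (X.presheaf.stalk j.1) X.functionField (w : X.presheaf.stalk j.1) :=
        fun j hj => hULunit j.1 hj.1 (cL.gen j.2.1)
      have hunitN : ∀ j : {ξ : X // ξ ⤳ x ∧ δ ξ + 1 = δ (genericPoint X)}, j.1 ∈ U₀ →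
          ∃ w : (X.presheaf.stalk j.1)ˣ, cN.coord t0 =
            algebraMap (X.presheaf.stalk j.1) X.functionField (w : X.presheaf.stalk j.1) :=
        fun j hj => hUNunit j.1 hj.2 (cN.gen j.2.1)
      have hsP : ∀ j : {ξ : X // ξ ⤳ x ∧ δ ξ + 1 = δ (genericPoint X)}, j.1 ∈ U₀ → P j = 0 := by
        intro j hj
        obtain ⟨w, hw⟩ := hunitL j hj
        obtain ⟨w', hw'⟩ := hunitN j hj
        have hR := ringKrullDim_stalk_of_coheight (hcoh j.1 j.2.2)
        change Cyc.ordAt x j.1 j.2.1 (PhiK (X.presheaf.stalk j.1) X.functionField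
          (cL.coord s0) (cN.coord t0)) = 0
        rw [hw, hw', PhiK_units _ _ hR w w']
        exact ordAt_one x j.1 j.2.1
      have hsB1 : ∀ j : {ξ : X // ξ ⤳ x ∧ δ ξ + 1 = δ (genericPoint X)}, j.1 ∈ U₀ → B1 j = 0 := by
        intro j hj
        obtain ⟨w, hw⟩ := hunitL j hj
        have hR := ringKrullDim_stalk_of_coheight (hcoh j.1 j.2.2)
        have h0 : Cyc.secOrdAt L (genericPoint X) j.1 (genericPoint_specializes' j.1)
            (Submodule.Quotient.mk s0) = 0 := by
          rw [secOrdAt_generic (cL.gen j.2.1) (hcoh j.1 j.2.2) s0 hs0]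
          change CycAlg.ordFrac _ _ (cL.coord s0) = 0
          rw [hw, ordFrac_algebraMap _ _ hR w.ne_zero, mm_unit]
          rfl
        change _ * _ = 0
        rw [h0, zero_mul]
      have hsB2 : ∀ j : {ξ : X // ξ ⤳ x ∧ δ ξ + 1 = δ (genericPoint X)}, j.1 ∈ U₀ → B2 j = 0 := by
        intro j hj
        obtain ⟨w, hw⟩ := hunitN j hj
        have hR := ringKrullDim_stalk_of_coheight (hcoh j.1 j.2.2)
        have h0 : Cyc.secOrdAt N (genericPoint X) j.1 (genericPoint_specializes' j.1)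
            (Submodule.Quotient.mk t0) = 0 := by
          rw [secOrdAt_generic (cN.gen j.2.1) (hcoh j.1 j.2.2) t0 ht0]
          change CycAlg.ordFrac _ _ (cN.coord t0) = 0
          rw [hw, ordFrac_algebraMap _ _ hR w.ne_zero, mm_unit]
          rfl
        change _ * _ = 0
        rw [h0, zero_mul]
      have hfP : (Function.support P).Finite := hFx.subset fun j hj hmem => hj (hsP j hmem)
      have hfB1 : (Function.support B1).Finite := hFx.subset fun j hj hmem => hj (hsB1 j hmem)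
      have hfB2 : (Function.support B2).Finite := hFx.subset fun j hj hmem => hj (hsB2 j hmem)
      have e1 : ∑ᶠ ξ : X, Cyc.secDivFun δ L (genericPoint X) (Submodule.Quotient.mk s0) ξ *
          Cyc.secDivFun δ N ξ (u ξ) x = ∑ᶠ j, B1 j := by
        rw [finsum_eq_finsum_subtype
          (fun ξ : X => Cyc.secDivFun δ L (genericPoint X) (Submodule.Quotient.mk s0) ξ *
            Cyc.secDivFun δ N ξ (u ξ) x) (fun ξ => ξ ⤳ x ∧ δ ξ + 1 = δ (genericPoint X))]
        · refine finsum_congr fun j => ?_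
          rw [hB1def]
          unfold Cyc.secDivFun
          rw [dif_pos ⟨genericPoint_specializes' j.1, j.2.2⟩,
            dif_pos ⟨j.2.1, by have := j.2.2; omega⟩]
        · intro ξ hξ
          unfold Cyc.secDivFun
          by_cases c1 : genericPoint X ⤳ ξ ∧ δ ξ + 1 = δ (genericPoint X)
          · have c2 : ¬ (ξ ⤳ x ∧ δ x + 1 = δ ξ) := fun c2 => hξ ⟨c2.1, c1.2⟩
            rw [dif_neg c2, mul_zero]
          · rw [dif_neg c1, zero_mul]
      have e2 : ∑ᶠ ξ : X, Cyc.secDivFun δ N (genericPoint X) (Submodule.Quotient.mk t0) ξ *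
          Cyc.secDivFun δ L ξ (v ξ) x = ∑ᶠ j, B2 j := by
        rw [finsum_eq_finsum_subtype
          (fun ξ : X => Cyc.secDivFun δ N (genericPoint X) (Submodule.Quotient.mk t0) ξ *
            Cyc.secDivFun δ L ξ (v ξ) x) (fun ξ => ξ ⤳ x ∧ δ ξ + 1 = δ (genericPoint X))]
        · refine finsum_congr fun j => ?_
          rw [hB2def]
          unfold Cyc.secDivFun
          rw [dif_pos ⟨genericPoint_specializes' j.1, j.2.2⟩,
            dif_pos ⟨j.2.1, by have := j.2.2; omega⟩]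
        · intro ξ hξ
          unfold Cyc.secDivFun
          by_cases c1 : genericPoint X ⤳ ξ ∧ δ ξ + 1 = δ (genericPoint X)
          · have c2 : ¬ (ξ ⤳ x ∧ δ x + 1 = δ ξ) := fun c2 => hξ ⟨c2.1, c1.2⟩
            rw [dif_neg c2, mul_zero]
          · rw [dif_neg c1, zero_mul]
      have e3 : ∑ᶠ i : {ξ : X // δ ξ + 1 = δ (genericPoint X) ∧ ξ ∈ Z},
          Cyc.divFun δ i.1 (f i.1) x =
          ∑ᶠ j : {ξ : X // ξ ⤳ x ∧ δ ξ + 1 = δ (genericPoint X)},
            Cyc.ordAt x j.1 j.2.1 (f j.1) := by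
        have a1 : ∑ᶠ ξ : X, (if δ ξ + 1 = δ (genericPoint X) then Cyc.divFun δ ξ (f ξ) x else 0) =
            ∑ᶠ i : {ξ : X // δ ξ + 1 = δ (genericPoint X) ∧ ξ ∈ Z},
              Cyc.divFun δ i.1 (f i.1) x := by
          rw [finsum_eq_finsum_subtype
            (fun ξ : X => if δ ξ + 1 = δ (genericPoint X) then Cyc.divFun δ ξ (f ξ) x else 0)
            (fun ξ => δ ξ + 1 = δ (genericPoint X) ∧ ξ ∈ Z)]
          · refine finsum_congr fun i => ?_
            rw [if_pos i.2.1]
          · intro ξ hξ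
            split_ifs with c
            · have hmem : ξ ∉ Z := fun hn => hξ ⟨c, hn⟩
              rw [(hf ξ c).2 hmem]
              exact divFun_one δ ξ x
            · rfl
        have a2 : ∑ᶠ ξ : X, (if δ ξ + 1 = δ (genericPoint X) then Cyc.divFun δ ξ (f ξ) x else 0) =
            ∑ᶠ j : {ξ : X // ξ ⤳ x ∧ δ ξ + 1 = δ (genericPoint X)},
              Cyc.ordAt x j.1 j.2.1 (f j.1) := by
          rw [finsum_eq_finsum_subtype
            (fun ξ : X => if δ ξ + 1 = δ (genericPoint X) then Cyc.divFun δ ξ (f ξ) x else 0)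
            (fun ξ => ξ ⤳ x ∧ δ ξ + 1 = δ (genericPoint X))]
          · refine finsum_congr fun j => ?_
            rw [if_pos j.2.2]
            unfold Cyc.divFun
            rw [dif_pos ⟨j.2.1, by have := j.2.2; omega⟩]
          · intro ξ hξ
            split_ifs with c
            · unfold Cyc.divFun
              rw [dif_neg]
              intro c2
              exact hξ ⟨c2.1, c⟩
            · rfl
        rw [← a1, a2]
      rw [e1, e2]
      change _ = ∑ᶠ i : {ξ : X // δ ξ + 1 = δ (genericPoint X) ∧ ξ ∈ Z},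
        Cyc.divFun δ i.1 (f i.1) x
      rw [e3, finsum_congr hid,
        finsum_sub_distrib ((hfP.union hfB1).subset (Function.support_add _ _)) hfB2,
        finsum_add_distrib hfP hfB1, hP, zero_add]
    · -- all terms vanish
      have z1 : ∀ ξ : X, Cyc.secDivFun δ L (genericPoint X) (Submodule.Quotient.mk s0) ξ *
          Cyc.secDivFun δ N ξ (u ξ) x = 0 := by
        intro ξ
        unfold Cyc.secDivFun
        by_cases c1 : genericPoint X ⤳ ξ ∧ δ ξ + 1 = δ (genericPoint X)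
        · by_cases c2 : ξ ⤳ x ∧ δ x + 1 = δ ξ
          · exfalso
            have := c1.2
            have := c2.2
            omega
          · rw [dif_neg c2, mul_zero]
        · rw [dif_neg c1, zero_mul]
      have z2 : ∀ ξ : X, Cyc.secDivFun δ N (genericPoint X) (Submodule.Quotient.mk t0) ξ *
          Cyc.secDivFun δ L ξ (v ξ) x = 0 := by
        intro ξ
        unfold Cyc.secDivFun
        by_cases c1 : genericPoint X ⤳ ξ ∧ δ ξ + 1 = δ (genericPoint X)
        · by_cases c2 : ξ ⤳ x ∧ δ x + 1 = δ ξ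
          · exfalso
            have := c1.2
            have := c2.2
            omega
          · rw [dif_neg c2, mul_zero]
        · rw [dif_neg c1, zero_mul]
      have z3 : ∀ i : {ξ : X // δ ξ + 1 = δ (genericPoint X) ∧ ξ ∈ Z},
          Cyc.divFun δ i.1 (f i.1) x = 0 := by
        intro i
        unfold Cyc.divFun
        rw [dif_neg]
        rintro ⟨-, h2⟩
        have := i.2.1
        omega
      rw [finsum_eq_zero_of_forall_eq_zero z1, finsum_eq_zero_of_forall_eq_zero z2,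
        finsum_eq_zero_of_forall_eq_zero z3, sub_zero]


end Groth.Agent.H63.C1
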