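import Mathlib
import Groth.Agent.H63.C1L

set_option autoImplicit false
set_option linter.style.haveILetI false
set_option linter.unusedSectionVars false
set_option linter.unusedVariables false
universe u
open CategoryTheory CategoryTheory.Limits AlgebraicGeometry TopologicalSpace Opposite

namespace Groth.Agent.H63.C1

open Groth.Agent.H8 Groth.Agent.H18 Groth.Agent.H54.PB Groth.Agent.H54.SecOrd

variable {W X : Scheme.{u}} (j : W ⟶ X) [IsClosedImmersion j]

/-- pulling back a function-level rational equivalence supported on a closed subscheme. -/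
theorem ratZeroOn_pull (δ : X → ℤ) (k : ℤ) (g : X → ℤ)
    (h : RatZeroOn δ k (Set.range j) g) :
    RatZeroOn (X := W) (fun w : W => δ (j w)) k Set.univ (fun w => g (j w)) := by
  obtain ⟨ι, ξ, f, h1, h2, h3, h4, h5⟩ := h
  have key : ∀ a : ι, ∃ (d : W) (f' : W.residueField d), f' ≠ 0 ∧ j d = ξ a ∧
      ∀ d' : W, Cyc.divFun (X := W) (fun w : W => δ (j w)) d f' d' =
        Cyc.divFun δ (ξ a) (f a) (j d') := by
    intro a
    obtain ⟨d, hd⟩ := h1 a
    have aux : ∀ (ξ₀ : X) (f₀ : X.residueField ξ₀), f₀ ≠ 0 → j d = ξ₀ →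
        ∃ f' : W.residueField d, f' ≠ 0 ∧ j d = ξ₀ ∧
          ∀ d' : W, Cyc.divFun (X := W) (fun w : W => δ (j w)) d f' d' =
            Cyc.divFun δ ξ₀ f₀ (j d') := by
      intro ξ₀ f₀ hf₀ hd₀
      subst hd₀
      exact ⟨(j.residueFieldMap d).hom f₀, (map_ne_zero _).mpr hf₀, rfl, fun d' =>
        (Groth.Agent.H48.ClosedOrd.divFun_map_of_isClosedImmersion j δ d d' f₀).symm⟩
    obtain ⟨f', hf', hd', hdiv⟩ := aux (ξ a) (f a) (h3 a) hd
    exact ⟨d, f', hf', hd', hdiv⟩
  choose d f' hf' hd hdiv using key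
  refine ⟨ι, d, f', fun _ => trivial, ?_, hf', ?_, ?_⟩
  · intro a
    change δ (j (d a)) = k + 1
    rw [hd a]
    exact h2 a
  · intro d₀
    obtain ⟨U, hU, hdU, hfin⟩ := h4 (j d₀)
    refine ⟨(j : W → X) ⁻¹' U, hU.preimage j.continuous, hdU, hfin.subset ?_⟩
    rintro a ⟨y, hy, hyU⟩
    have hsp : d a ⤳ y := specializes_iff_mem_closure.mpr hy
    have hsp' : ξ a ⤳ j y := by
      rw [← hd a]
      exact hsp.map j.continuous
    exact ⟨j y, specializes_iff_mem_closure.mp hsp', hyU⟩
  · intro d'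
    change g (j d') = _
    rw [h5 (j d')]
    exact finsum_congr fun a => (hdiv a d').symm

/-- general coefficient version of the transfer of `c₁ ∩ -` along a closed immersion. -/
theorem c1CapFun_pull_gen (δ : X → ℤ) (N : X.Modules) (β : X → ℤ)
    (hβ : ∀ x, x ∉ Set.range j → β x = 0) (u' : (ξ : X) → Cyc.secFibre N ξ)
    (u : (w : W) → Cyc.secFibre ((Scheme.Modules.pullback j).obj N) w)
    (hQ : ∀ w w'' : W, Cyc.secDivFun δ N (j w) (u' (j w)) (j w'') =
      Cyc.secDivFun (X := W) (fun w : W => δ (j w)) ((Scheme.Modules.pullback j).obj N) w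
        (u w) w'') (w₀ : W) :
    Cyc.c1CapFun δ N β u' (j w₀) =
      Cyc.c1CapFun (X := W) (fun w : W => δ (j w)) ((Scheme.Modules.pullback j).obj N)
        (fun w => β (j w)) u w₀ := by
  unfold Cyc.c1CapFun
  rw [finsum_comp_of_support_subset j j.isEmbedding.injective]
  · refine finsum_congr fun w' => ?_
    rw [hQ w' w₀]
  · intro ξ hξ
    by_contra hnr
    apply hξ
    change β ξ * _ = 0
    rw [hβ ξ hnr, zero_mul]

variable (N : X.Modules) (hN : PicF.IsInvertible N)

include hN in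
theorem mk_pullStalk_eq_zero (w : W) (m : N.presheaf.stalk (j w))
    (hm : (Submodule.Quotient.mk m : Cyc.secFibre N (j w)) = 0) :
    (Submodule.Quotient.mk (pullStalk j N w m) :
      Cyc.secFibre ((Scheme.Modules.pullback j).obj N) w) = 0 := by
  obtain ⟨U, hwU, σ, hσ⟩ := exists_isFreeGen_of_isInvertible hN (j w)
  obtain ⟨a, ha⟩ := (hσ.germ_bijective hwU).2 m
  have ha' : m = a • N.presheaf.germ U (j w) hwU σ := ha.symm
  have hσ' := isFreeGen_pullSect j N hσ
  rw [ha'] at hm
  have hmem := (Groth.Agent.H54.SecOrdGen.mk_smul_eq_zero_iff N (j w) _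
    (hσ.germ_bijective hwU) a).mp hm
  rw [ha', pullStalk_smul, pullStalk_germ]
  refine (Groth.Agent.H54.SecOrdGen.mk_smul_eq_zero_iff _ w _
    (hσ'.germ_bijective (mem_pre j hwU)) _).mpr ?_
  rw [IsLocalRing.mem_maximalIdeal] at hmem ⊢
  intro hu
  exact hmem (isUnit_of_map_unit (j.stalkMap w).hom a hu)

include hN in
theorem exists_pullStalk_eq (w : W)
    (e : Cyc.secFibre ((Scheme.Modules.pullback j).obj N) w) :
    ∃ m : N.presheaf.stalk (j w),
      (Submodule.Quotient.mk (pullStalk j N w m) :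
        Cyc.secFibre ((Scheme.Modules.pullback j).obj N) w) = e := by
  obtain ⟨m', rfl⟩ := Submodule.Quotient.mk_surjective _ e
  obtain ⟨U, hwU, σ, hσ⟩ := exists_isFreeGen_of_isInvertible hN (j w)
  have hσ' := isFreeGen_pullSect j N hσ
  obtain ⟨b, hb⟩ := (hσ'.germ_bijective (mem_pre j hwU)).2 m'
  obtain ⟨a, rfl⟩ := j.stalkMap_surjective w b
  refine ⟨a • N.presheaf.germ U (j w) hwU σ, ?_⟩
  rw [pullStalk_smul, pullStalk_germ]
  exact congrArg _ hb

include hN in
/-- any family of nonzero rational sections of `j^* N` is induced by one of `N`. -/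
theorem exists_family_lift (δ : X → ℤ)
    (u : (w : W) → Cyc.secFibre ((Scheme.Modules.pullback j).obj N) w) (hu : ∀ w, u w ≠ 0) :
    ∃ u' : (ξ : X) → Cyc.secFibre N ξ, (∀ ξ, u' ξ ≠ 0) ∧
      ∀ w w'' : W, Cyc.secDivFun δ N (j w) (u' (j w)) (j w'') =
        Cyc.secDivFun (X := W) (fun w : W => δ (j w)) ((Scheme.Modules.pullback j).obj N) w
          (u w) w'' := by
  have key : ∀ ξ : X, ∃ e : Cyc.secFibre N ξ, e ≠ 0 ∧ ∀ w : W, j w = ξ → ∀ w'' : W,
      Cyc.secDivFun δ N ξ e (j w'') =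
        Cyc.secDivFun (X := W) (fun w : W => δ (j w)) ((Scheme.Modules.pullback j).obj N) w
          (u w) w'' := by
    intro ξ
    by_cases hξ : ξ ∈ Set.range j
    · obtain ⟨w, rfl⟩ := hξ
      obtain ⟨m, hm⟩ := exists_pullStalk_eq j N hN w (u w)
      have hmne : (Submodule.Quotient.mk m : Cyc.secFibre N (j w)) ≠ 0 := by
        intro h0
        apply hu w
        rw [← hm]
        exact mk_pullStalk_eq_zero j N hN w m h0
      refine ⟨Submodule.Quotient.mk m, hmne, ?_⟩
      intro w₂ hw₂ w''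
      have := j.isEmbedding.injective hw₂
      subst this
      rw [← hm]
      exact (secDivFun_pull j N δ hN w₂ w'' m hmne).symm
    · obtain ⟨U, hξU, σ, hσ⟩ := exists_isFreeGen_of_isInvertible hN ξ
      refine ⟨Submodule.Quotient.mk (N.presheaf.germ U ξ hξU σ), ?_, ?_⟩
      · intro h0
        have h1 : (Submodule.Quotient.mk ((1 : X.presheaf.stalk ξ) • N.presheaf.germ U ξ hξU σ) :
            Cyc.secFibre N ξ) = 0 := by
          rw [one_smul]
          exact h0
        have := (Groth.Agent.H54.SecOrdGen.mk_smul_eq_zero_iff N ξ _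
          (hσ.germ_bijective hξU) 1).mp h1
        exact (IsLocalRing.mem_maximalIdeal _).mp this isUnit_one
      · intro w hw
        exact absurd ⟨w, hw⟩ hξ
  choose u' h1 h2 using key
  exact ⟨u', h1, fun w w'' => h2 (j w) w rfl w''⟩

end Groth.Agent.H63.C1
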