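import Mathlib
import Groth.Agent.H63.C1P
import Groth.Agent.H63.C1Q
import Groth.Agent.H48.ZeroSecC1

set_option autoImplicit false
set_option linter.style.haveILetI false
set_option linter.unusedSectionVars false
set_option linter.unusedVariables false
universe u
open CategoryTheory CategoryTheory.Limits AlgebraicGeometry TopologicalSpace Opposite Order

namespace Groth.Agent.H63.C1

open Groth.Agent.H8 Groth.Agent.H54.SecOrd Groth.Agent.H54.SecOrdGen Groth.Agent.H54.C1Cap

section Alg

theorem length_quot_congr {R : Type*} [CommRing R] {I J : Ideal R} (h : I = J) :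
    Module.length R (R ⧸ I) = Module.length R (R ⧸ J) := by
  subst h
  rfl

/-- for a surjective ring map `φ : A → B`, `length_B B = length_A (A / ker φ)`. -/
theorem length_eq_length_quot_ker {A B : Type u} [CommRing A] [CommRing B] (φ : A →+* B)
    (hφ : Function.Surjective φ) :
    Module.length B B = Module.length A (A ⧸ RingHom.ker φ) := by
  letI : Algebra A B := φ.toAlgebra
  have h1 : Module.length A B = Module.length B B :=
    Module.length_eq_of_surjective (S := A) (R := B) (M := B) hφ
  rw [← h1]
  have hs : Function.Surjective (Algebra.ofId A B) := hφ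
  let e : (A ⧸ RingHom.ker (Algebra.ofId A B)) ≃ₐ[A] B :=
    Ideal.quotientKerAlgEquivOfSurjective hs
  exact (e.toLinearEquiv.length_eq).symm

end Alg

section Zero

variable {X D : Scheme.{u}}

/-- two presentations `f • t = g • σ_x` of a germ on generators give the same ideal. -/
theorem span_eq_of_generators {L : X.Modules} {x : X} (t e : L.presheaf.stalk x)
    (he : Function.Bijective (fun r : X.presheaf.stalk x => r • e))
    (ht : Submodule.span (X.presheaf.stalk x) {t} = ⊤) (f g : X.presheaf.stalk x)
    (h : f • t = g • e) : Ideal.span {g} = Ideal.span {f} := by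
  obtain ⟨v, hv⟩ := he.2 t
  have hv' : v • e = t := hv
  obtain ⟨w, hw⟩ : ∃ w : X.presheaf.stalk x, w • t = e :=
    Submodule.mem_span_singleton.mp (ht ▸ (Submodule.mem_top : _ ∈ ⊤))
  have hwv : w * v = 1 := by
    apply he.1
    change (w * v) • e = (1 : X.presheaf.stalk x) • e
    rw [mul_smul, hv', hw, one_smul]
  have hfg : g = f * v := by
    apply he.1
    change g • e = (f * v) • e
    rw [mul_smul, hv', h]
  have hvu : IsUnit v := IsUnit.of_mul_eq_one w (by rw [mul_comm]; exact hwv)
  rw [hfg, Ideal.span_singleton_mul_right_unit hvu]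

/-- the coefficients of `[D]` for the zero scheme `D` of `s` agree with those of `[Z(s)]`. -/
theorem zeroSectionFun_eq_subschemeFun (δ : X → ℤ) (k : ℤ) (L : X.Modules)
    (hL : PicF.IsInvertible L) (s : L.presheaf.obj (Opposite.op ⊤)) (i : D ⟶ X)
    [IsClosedImmersion i] (hD : Cyc.IsZeroSchemeOf i L s) (d : D) :
    Cyc.zeroSectionFun δ k L s (i d) =
      Cyc.subschemeFun (X := D) (fun d : D => δ (i d)) k (𝟙 D) d := by
  by_cases hd : δ (i d) = k
  · obtain ⟨U, hxU, σ, hσ⟩ := exists_isFreeGen_of_isInvertible hL (i d)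
    obtain ⟨g, hg⟩ := (hσ.germ_bijective hxU).2 ((L.presheaf.germ ⊤ (i d) trivial) s)
    have hg' : (L.presheaf.germ ⊤ (i d) trivial) s = g • L.presheaf.germ U (i d) hxU σ :=
      hg.symm
    rw [Groth.Agent.H48.ZeroSecC1.zeroSectionFun_chart δ k L s hσ (i d) hxU hd g hg',
      Groth.Agent.H48.ZeroSecC1.subschemeFun_id (Y := D) (fun d : D => δ (i d)) k d hd]
    obtain ⟨t, f, ht, hft, hker⟩ := hD.2 d
    have hspan : Ideal.span {g} = Ideal.span {f} :=
      span_eq_of_generators t _ (hσ.germ_bijective hxU) ht f g (by rw [← hft, hg'])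
    rw [length_quot_congr hspan, ← hker,
      ← length_eq_length_quot_ker (i.stalkMap d).hom (i.stalkMap_surjective d)]
  · have h1 : Cyc.zeroSectionFun δ k L s (i d) = 0 := by
      unfold Cyc.zeroSectionFun
      rw [if_neg hd]
    have h2 : Cyc.subschemeFun (X := D) (fun d : D => δ (i d)) k (𝟙 D) d = 0 := by
      unfold Cyc.subschemeFun
      rw [if_neg hd]
    rw [h1, h2]

end Zero

section Integral

variable {X : Scheme.{u}} [IsIntegral X] [IsLocallyNoetherian X]

/-- the divisor of a global section vanishes where the section does not. -/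
theorem secDivFun_global_eq_zero (δ : X → ℤ) (hδ : Cyc.IsDimFun X δ) {L : X.Modules}
    (hL : PicF.IsInvertible L) (σ : L.presheaf.obj (Opposite.op ⊤))
    (hs0 : (L.presheaf.germ ⊤ (genericPoint X) trivial) σ ≠ 0) (x : X)
    (hx : (Submodule.Quotient.mk ((L.presheaf.germ ⊤ x trivial) σ) : Cyc.secFibre L x) ≠ 0) :
    Cyc.secDivFun δ L (genericPoint X)
      (Submodule.Quotient.mk ((L.presheaf.germ ⊤ (genericPoint X) trivial) σ)) x = 0 := by
  unfold Cyc.secDivFun
  split_ifs with h
  · have hcoh : coheight x = 1 :=
      Groth.Agent.H54.DivZero.coheight_eq_one_of_dimFun δ hδ x h.2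
    have hR := ringKrullDim_stalk_of_coheight hcoh
    obtain ⟨c⟩ := chart_nonempty hL x
    set s0 := (L.presheaf.germ ⊤ (genericPoint X) trivial) σ with hs0def
    obtain ⟨ax, hax⟩ := c.g_bijective.2 ((L.presheaf.germ ⊤ x trivial) σ)
    have hax' : ax • c.g = (L.presheaf.germ ⊤ x trivial) σ := hax
    have hane : ax ∉ IsLocalRing.maximalIdeal (X.presheaf.stalk x) := by
      intro hmem
      apply hx
      rw [← hax']
      exact (mk_smul_eq_zero_iff L x _ c.g_bijective ax).mpr hmem
    have hunit : IsUnit ax := by
      by_contra hnu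
      exact hane ((IsLocalRing.mem_maximalIdeal _).mpr hnu)
    set wx : (X.presheaf.stalk x)ˣ := hunit.unit with hwx
    have hwx' : (wx : X.presheaf.stalk x) = ax := IsUnit.unit_spec hunit
    have hcoord : c.coord s0 =
        algebraMap (X.presheaf.stalk x) X.functionField (wx : X.presheaf.stalk x) := by
      apply c.coord_eq
      have e1 : (L.presheaf.stalkSpecializes (genericPoint_specializes' x))
          ((L.presheaf.germ ⊤ x trivial) σ) = s0 :=
        TopCat.Presheaf.germ_stalkSpecializes_apply _ _ _ _
      rw [← e1, ← hax', stalkSpecializes_smul, c.spec_g, hwx']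
      rfl
    have h1 : Cyc.secOrdAt L (genericPoint X) x (genericPoint_specializes' x)
        (Submodule.Quotient.mk s0) = 0 := by
      rw [secOrdAt_generic c hcoh s0 hs0]
      change CycAlg.ordFrac _ _ (c.coord s0) = 0
      rw [hcoord, ordFrac_algebraMap _ _ hR wx.ne_zero, mm_unit]
      rfl
    exact h1
  · rfl

end Integral

end Groth.Agent.H63.C1
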