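import Mathlib
import Groth.Agent.H63.C1R

set_option autoImplicit false
set_option linter.style.haveILetI false
set_option linter.unusedSectionVars false
set_option linter.unusedVariables false
universe u
open CategoryTheory CategoryTheory.Limits AlgebraicGeometry TopologicalSpace Opposite Order

namespace Groth.Agent.H63.C1

open Groth.Agent.H8 Groth.Agent.H54.SecOrd Groth.Agent.H54.SecOrdGen Groth.Agent.H54.C1Cap

/-- **`i^*(div_N t) ∼ c₁(N|_D) ∩ [D]_{n−1}` on `D`.** -/
theorem gysin_divSec (X D : Scheme.{u}) [IsIntegral X] (δ : X → ℤ) (hX : Cyc.IsSetup X δ)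
    (n : ℤ) (hn : δ (genericPoint X) = n) (L : X.Modules) (hL : PicF.IsInvertible L)
    (s : L.presheaf.obj (Opposite.op ⊤))
    (hreg : ∀ x : X, Function.Injective
      (fun a : X.presheaf.stalk x => a • (L.presheaf.germ ⊤ x trivial) s))
    (i : D ⟶ X) [IsClosedImmersion i] (hD : Cyc.IsZeroSchemeOf i L s) (N : X.Modules)
    (hN : PicF.IsInvertible N) (t : Cyc.secFibre N (genericPoint X)) (ht : t ≠ 0)
    (w : (ξ : X) → Cyc.secFibre L ξ) (hw : ∀ ξ, w ξ ≠ 0)
    (u : (d : D) → Cyc.secFibre ((Scheme.Modules.pullback i).obj N) d) (hu : ∀ d, u d ≠ 0)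
    (γ₁ γ₂ : AlgebraicCycle D ℤ)
    (h₁ : ∀ d : D, γ₁ d = Cyc.c1CapFun δ L (Cyc.secDivFun δ N (genericPoint X) t)
      (Cyc.gysinChoice L s w) (i d))
    (h₂ : ⇑γ₂ = Cyc.c1CapFun (fun d => δ (i d)) ((Scheme.Modules.pullback i).obj N)
      (Cyc.subschemeFun (fun d => δ (i d)) (n - 1) (𝟙 D)) u) :
    Cyc.RatEquiv (fun d => δ (i d)) (n - 2) γ₁ γ₂ := by
  haveI : IsLocallyNoetherian X := hX.1
  have hδ := hX.2.2
  have hs0 : (L.presheaf.germ ⊤ (genericPoint X) trivial) s ≠ 0 := by
    intro h0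
    have h1 := hreg (genericPoint X)
    have h2 : (fun a : X.presheaf.stalk (genericPoint X) =>
        a • (L.presheaf.germ ⊤ (genericPoint X) trivial) s) 1 =
        (fun a : X.presheaf.stalk (genericPoint X) =>
        a • (L.presheaf.germ ⊤ (genericPoint X) trivial) s) 0 := by
      simp only [h0, smul_zero]
    exact one_ne_zero (h1 h2)
  have hs : (Submodule.Quotient.mk ((L.presheaf.germ ⊤ (genericPoint X) trivial) s) :
      Cyc.secFibre L (genericPoint X)) ≠ 0 := by
    intro h0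
    apply hs0
    have : (Submodule.Quotient.mk ((L.presheaf.germ ⊤ (genericPoint X) trivial) s) :
        Cyc.secFibre L (genericPoint X)) = Submodule.Quotient.mk 0 := h0
    exact (mk_eq_mk_iff L _ _).mp this
  have hZc : IsClosed (Set.range i) := i.isClosedEmbedding.isClosed_range
  have hZ : ∀ x : X, x ∈ Set.range i ↔
      (Submodule.Quotient.mk ((L.presheaf.germ ⊤ x trivial) s) : Cyc.secFibre L x) = 0 := by
    intro x
    rw [hD.1]
    rfl
  obtain ⟨u', hu', hQ⟩ := exists_family_lift i N hN δ u hu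
  have hkey := gysin_key δ hδ L N hL hN s hs (Set.range i) hZc hZ t ht u' hu' w hw
  have hpull := ratZeroOn_pull i δ _ _ hkey
  rw [hn] at hpull
  unfold Cyc.RatEquiv
  refine ratEquivZero_of_ratZeroOn (γ₁ - γ₂) (hpull.neg.congr fun d => ?_)
  have hcoe : (γ₁ - γ₂) d = γ₁ d - γ₂ d := rfl
  have hβ : ∀ x, x ∉ Set.range i → Cyc.secDivFun δ L (genericPoint X)
      (Submodule.Quotient.mk ((L.presheaf.germ ⊤ (genericPoint X) trivial) s)) x = 0 :=
    fun x hx => secDivFun_global_eq_zero δ hδ hL s hs0 x (fun h0 => hx ((hZ x).mpr h0))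
  have hA := c1CapFun_pull_gen i δ N _ hβ u' u hQ d
  have hfun : (fun w : D => Cyc.secDivFun δ L (genericPoint X)
      (Submodule.Quotient.mk ((L.presheaf.germ ⊤ (genericPoint X) trivial) s)) (i w)) =
      Cyc.subschemeFun (fun d => δ (i d)) (n - 1) (𝟙 D) := by
    funext d'
    rw [Groth.Agent.H54.DivZero.main δ hX n hn L hL s hs0]
    exact zeroSectionFun_eq_subschemeFun δ (n - 1) L hL s i hD d'
  rw [hfun] at hA
  rw [hcoe, h₁ d, h₂, ← hA]
  ring

end Groth.Agent.H63.C1
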