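import Mathlib
import Groth.Agent.H63.C1S
import Groth.Agent.H63.C1O

set_option autoImplicit false
set_option linter.style.haveILetI false
set_option linter.unusedSectionVars false
set_option linter.unusedVariables false
universe u
open CategoryTheory CategoryTheory.Limits AlgebraicGeometry TopologicalSpace Opposite Order

namespace Groth.Agent.H63.C1

open Groth.Agent.H8 Groth.Agent.H18 Groth.Agent.H54.PB Groth.Agent.H54.SecOrd
  Groth.Agent.H54.SecOrdGen Groth.Agent.H54.C1Cap Groth.Agent.H54.C1Struct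

variable {W X : Scheme.{u}} (j : W ⟶ X) [IsClosedImmersion j]

/-- pushforward along a closed immersion, keeping track of the support. -/
theorem ratZeroOn_push' (δ : X → ℤ) (k : ℤ) (C' : Set W)
    (g' : W → ℤ) (h' : RatZeroOn (X := W) (fun w : W => δ (j w)) k C' g')
    (g : X → ℤ) (hg1 : ∀ w, g (j w) = g' w) (hg2 : ∀ x, x ∉ Set.range j → g x = 0) :
    RatZeroOn δ k (j '' C') g := by
  classical
  obtain ⟨ι, ξ', f', h1, h2, h3, h4, h5⟩ := h'
  have hcl : IsClosed (Set.range j) := j.isClosedEmbedding.isClosed_range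
  have hsp : ∀ a b : W, j a ⤳ j b ↔ a ⤳ b := fun a b =>
    j.isEmbedding.isInducing.specializes_iff
  have hsurj : ∀ i, ∃ t : X.residueField (j (ξ' i)), (j.residueFieldMap (ξ' i)).hom t = f' i :=
    fun i => Groth.Agent.H48.ClosedOrd.residueFieldMap_surjective j (ξ' i)
      (j.stalkMap_surjective (ξ' i)) (f' i)
  choose f hf using hsurj
  refine ⟨ι, fun i => j (ξ' i), f, fun i => ⟨ξ' i, h1 i, rfl⟩, h2, ?_, ?_, ?_⟩
  · intro i h0
    apply h3 i
    rw [← hf i, h0, map_zero]
  · intro x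
    by_cases hx : x ∈ Set.range j
    · obtain ⟨w, rfl⟩ := hx
      obtain ⟨U', hU', hwU', hfin⟩ := h4 w
      obtain ⟨V, hV, hVU'⟩ := j.isEmbedding.isInducing.isOpen_iff.mp hU'
      refine ⟨V, hV, ?_, hfin.subset ?_⟩
      · have : w ∈ (j : W → X) ⁻¹' V := by rw [hVU']; exact hwU'
        exact this
      · rintro i ⟨y, hy, hyV⟩
        have hspy : j (ξ' i) ⤳ y := specializes_iff_mem_closure.mpr hy
        obtain ⟨w', rfl⟩ := hspy.mem_closed hcl ⟨ξ' i, rfl⟩
        refine ⟨w', specializes_iff_mem_closure.mp ((hsp _ _).mp hspy), ?_⟩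
        rw [← hVU']
        exact hyV
    · refine ⟨(Set.range j)ᶜ, hcl.isOpen_compl, hx, ?_⟩
      have hempty : {i | (closure {j (ξ' i)} ∩ (Set.range j)ᶜ).Nonempty} = ∅ := by
        apply Set.eq_empty_of_forall_notMem
        rintro i ⟨y, hy, hyn⟩
        apply hyn
        have hspy : j (ξ' i) ⤳ y := specializes_iff_mem_closure.mpr hy
        exact hspy.mem_closed hcl ⟨ξ' i, rfl⟩
      rw [hempty]
      exact Set.finite_empty
  · intro x
    by_cases hx : x ∈ Set.range j
    · obtain ⟨w, rfl⟩ := hx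
      rw [hg1, h5 w]
      refine finsum_congr fun i => ?_
      rw [Groth.Agent.H48.ClosedOrd.divFun_map_of_isClosedImmersion j δ (ξ' i) w (f i), hf i]
    · rw [hg2 x hx]
      symm
      apply finsum_eq_zero_of_forall_eq_zero
      intro i
      exact Groth.Agent.H48.ClosedOrd.divFun_eq_zero_of_notMem_range j δ (ξ' i) (f i) x hx

/-- the Gysin choice of sections is compatible with restriction to a closed subscheme. -/
theorem gysinChoice_pull (δ : X → ℤ) (L : X.Modules) (hL : PicF.IsInvertible L)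
    (s : L.presheaf.obj (Opposite.op ⊤)) (t : (ξ : X) → Cyc.secFibre L ξ)
    (ht : ∀ ξ, t ξ ≠ 0) (w w'' : W) :
    Cyc.secDivFun δ L (j w) (Cyc.gysinChoice L s t (j w)) (j w'') =
      Cyc.secDivFun (X := W) (fun w : W => δ (j w)) ((Scheme.Modules.pullback j).obj L) w
        (Cyc.gysinChoice ((Scheme.Modules.pullback j).obj L) (pullSect j L ⊤ s)
          (pullFam j L t) w) w'' := by
  have hgerm : ((Scheme.Modules.pullback j).obj L).presheaf.germ ⊤ w trivial
      (pullSect j L ⊤ s) = pullStalk j L w ((L.presheaf.germ ⊤ (j w) trivial) s) :=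
    (pullStalk_germ j L w ⊤ trivial s).symm
  unfold Cyc.gysinChoice
  by_cases h0 : (Submodule.Quotient.mk ((L.presheaf.germ ⊤ (j w) trivial) s) :
      Cyc.secFibre L (j w)) = 0
  · have h0' : (Submodule.Quotient.mk
        (((Scheme.Modules.pullback j).obj L).presheaf.germ ⊤ w trivial (pullSect j L ⊤ s)) :
        Cyc.secFibre ((Scheme.Modules.pullback j).obj L) w) = 0 := by
      rw [hgerm]
      exact mk_pullStalk_eq_zero j L hL w _ h0
    rw [if_neg (not_not.mpr h0), if_neg (not_not.mpr h0')]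
    have h1 := secDivFun_pull j L δ hL w w'' (rep t (j w)) (by rw [mk_rep]; exact ht (j w))
    rw [mk_rep] at h1
    exact h1.symm
  · have h0' : (Submodule.Quotient.mk
        (((Scheme.Modules.pullback j).obj L).presheaf.germ ⊤ w trivial (pullSect j L ⊤ s)) :
        Cyc.secFibre ((Scheme.Modules.pullback j).obj L) w) ≠ 0 := by
      rw [hgerm]
      exact mk_pullStalk_ne_zero j L hL w _ h0
    rw [if_pos h0, if_pos h0', hgerm]
    exact (secDivFun_pull j L δ hL w w'' _ h0).symm

omit [IsClosedImmersion j] in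
theorem c1CapFun_divFun_eq_zero_of_notMem_range [IsClosedImmersion j] (δ : X → ℤ)
    (L : X.Modules) (ζ : W) (f : X.residueField (j ζ)) (v : (ξ : X) → Cyc.secFibre L ξ) (x : X)
    (hx : x ∉ Set.range j) :
    Cyc.c1CapFun δ L (Cyc.divFun δ (j ζ) f) v x = 0 := by
  unfold Cyc.c1CapFun
  apply finsum_eq_zero_of_forall_eq_zero
  intro ξ
  by_cases hξ : ξ ∈ Set.range j
  · obtain ⟨w', rfl⟩ := hξ
    rw [secDivFun_eq_zero_of_notMem_range j L δ w' _ x hx, mul_zero]
  · rw [Groth.Agent.H48.ClosedOrd.divFun_eq_zero_of_notMem_range j δ ζ f ξ hξ, zero_mul]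

/-- `c₁(L) ∩ div(f)`, computed with the Gysin sections of `(L, s)`, is rationally equivalent
to zero on `Z(s)`. -/
theorem gysin_cap_divFun {X : Scheme.{u}} (δ : X → ℤ) [IsLocallyNoetherian X]
    (hδ : Cyc.IsDimFun X δ) (L : X.Modules) (hL : PicF.IsInvertible L)
    (s : L.presheaf.obj (Opposite.op ⊤)) (Z : Set X) (hZc : IsClosed Z)
    (hZ : ∀ x : X, x ∈ Z ↔
      (Submodule.Quotient.mk ((L.presheaf.germ ⊤ x trivial) s) : Cyc.secFibre L x) = 0)
    (ξ : X) (f : X.residueField ξ) (hf : f ≠ 0) (t : (ξ : X) → Cyc.secFibre L ξ)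
    (ht : ∀ ξ, t ξ ≠ 0) :
    RatZeroOn δ (δ ξ - 2) (closure {ξ} ∩ Z)
      (fun x => Cyc.c1CapFun δ L (Cyc.divFun δ ξ f) (Cyc.gysinChoice L s t) x) := by
  have hv := Groth.Agent.H54.C1Indep.gysinChoice_ne_zero L s t ht
  by_cases hξZ : ξ ∈ Z
  · refine (c1Cap_divFun δ hδ L hL ξ f hf _ hv).mono ?_
    intro y hy
    exact ⟨hy, hZc.closure_subset_iff.mpr (Set.singleton_subset_iff.mpr hξZ) hy⟩
  · obtain ⟨W, j, hj, hW, hη, hr⟩ := exists_closure_subscheme ξ
    subst hη
    haveI : IsLocallyNoetherian W := LocallyOfFiniteType.isLocallyNoetherian j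
    have hδ' := Groth.Agent.H48.ClosedDim.isDimFun_comp j δ hδ
    have hL' := PicLoc.isInvertible_pullback j hL
    have hgerm : ∀ w : W, ((Scheme.Modules.pullback j).obj L).presheaf.germ ⊤ w trivial
        (pullSect j L ⊤ s) = pullStalk j L w ((L.presheaf.germ ⊤ (j w) trivial) s) :=
      fun w => (pullStalk_germ j L w ⊤ trivial s).symm
    have hZ' : ∀ w : W, w ∈ (j : W → X) ⁻¹' Z ↔
        (Submodule.Quotient.mk (((Scheme.Modules.pullback j).obj L).presheaf.germ ⊤ w trivial
          (pullSect j L ⊤ s)) : Cyc.secFibre ((Scheme.Modules.pullback j).obj L) w) = 0 := by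
      intro w
      rw [hgerm w, Set.mem_preimage, hZ (j w)]
      constructor
      · exact mk_pullStalk_eq_zero j L hL w _
      · intro h0
        by_contra hne
        exact mk_pullStalk_ne_zero j L hL w _ hne h0
    have hs' : (Submodule.Quotient.mk (((Scheme.Modules.pullback j).obj L).presheaf.germ ⊤
        (genericPoint W) trivial (pullSect j L ⊤ s)) :
        Cyc.secFibre ((Scheme.Modules.pullback j).obj L) (genericPoint W)) ≠ 0 :=
      fun h0 => hξZ ((hZ' _).mpr h0)
    set f' := (j.residueFieldMap (genericPoint W)).hom f with hf'def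
    have hf' : f' ≠ 0 := (map_ne_zero _).mpr hf
    obtain ⟨a, ha⟩ := IsLocalRing.residue_surjective
      (R := W.presheaf.stalk (genericPoint W)) f'
    have ha' : W.residue (genericPoint W) a = f' := ha
    have hane : a ∉ IsLocalRing.maximalIdeal (W.presheaf.stalk (genericPoint W)) := by
      intro hmem
      exact hf' (ha'.symm.trans ((residue_eq_zero_iff _ a).mpr hmem))
    have ht' : (Submodule.Quotient.mk (a • one (genericPoint W)) :
        Cyc.secFibre (Coh.structureModule W) (genericPoint W)) ≠ 0 := by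
      intro h0
      exact hane ((mk_smul_eq_zero_iff _ _ _ (one_bijective _) a).mp h0)
    have hkey := gysin_key (X := W) (fun w : W => δ (j w)) hδ'
      ((Scheme.Modules.pullback j).obj L) (Coh.structureModule W) hL'
      (PicLoc.isInvertible_structureModule W) (pullSect j L ⊤ s) hs' ((j : W → X) ⁻¹' Z)
      (hZc.preimage j.continuous) hZ' _ ht' (oneFam W) oneFam_ne_zero (pullFam j L t)
      (pullFam_ne_zero j L hL t ht)
    have hkey' : RatZeroOn (X := W) (fun w : W => δ (j w)) (δ (j (genericPoint W)) - 2)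
        ((j : W → X) ⁻¹' Z)
        (fun w => Cyc.c1CapFun (X := W) (fun w : W => δ (j w))
          ((Scheme.Modules.pullback j).obj L)
          (Cyc.divFun (X := W) (fun w : W => δ (j w)) (genericPoint W) f')
          (Cyc.gysinChoice ((Scheme.Modules.pullback j).obj L) (pullSect j L ⊤ s)
            (pullFam j L t)) w) := by
      refine hkey.neg.congr fun w => ?_
      rw [c1CapFun_oneFam, secDivFun_struct _ _ a hane, zero_sub, neg_neg, ha']
    have hβ : ∀ x, x ∉ Set.range j → Cyc.divFun δ (j (genericPoint W)) f x = 0 :=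
      fun x hx => Groth.Agent.H48.ClosedOrd.divFun_eq_zero_of_notMem_range j δ _ f x hx
    have hfun : (fun w : W => Cyc.divFun δ (j (genericPoint W)) f (j w)) =
        Cyc.divFun (X := W) (fun w : W => δ (j w)) (genericPoint W) f' := by
      funext w
      exact Groth.Agent.H48.ClosedOrd.divFun_map_of_isClosedImmersion j δ _ w f
    have hpush := ratZeroOn_push' j δ _ _ _ hkey'
      (fun x => Cyc.c1CapFun δ L (Cyc.divFun δ (j (genericPoint W)) f)
        (Cyc.gysinChoice L s t) x) ?_ ?_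
    · refine hpush.mono ?_
      rintro _ ⟨w, hw, rfl⟩
      refine ⟨?_, hw⟩
      rw [← hr]
      exact ⟨w, rfl⟩
    · intro w
      have h1 := c1CapFun_pull_gen j δ L _ hβ (Cyc.gysinChoice L s t)
        (Cyc.gysinChoice ((Scheme.Modules.pullback j).obj L) (pullSect j L ⊤ s)
          (pullFam j L t)) (gysinChoice_pull j δ L hL s t ht) w
      rw [hfun] at h1
      exact h1
    · intro x hx
      exact c1CapFun_divFun_eq_zero_of_notMem_range j δ L _ f _ x hx

/-- **The Gysin map respects rational equivalence.** -/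
theorem gysin_ratEquivZero (X D : Scheme.{u}) (δ : X → ℤ) (hX : Cyc.IsSetup X δ)
    (L : X.Modules) (hL : PicF.IsInvertible L) (s : L.presheaf.obj (Opposite.op ⊤))
    (i : D ⟶ X) [IsClosedImmersion i] (hD : Cyc.IsZeroSchemeOf i L s) (k : ℤ)
    (α : AlgebraicCycle X ℤ) (h0 : Cyc.RatEquivZero δ (k + 1) α)
    (t : (ξ : X) → Cyc.secFibre L ξ) (ht : ∀ ξ, t ξ ≠ 0) (γ : AlgebraicCycle D ℤ)
    (hγ : ∀ d : D, γ d = Cyc.c1CapFun δ L ⇑α (Cyc.gysinChoice L s t) (i d)) :
    Cyc.RatEquivZero (fun d => δ (i d)) k γ := by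
  classical
  haveI : IsLocallyNoetherian X := hX.1
  have hδ := hX.2.2
  have hZc : IsClosed (Set.range i) := i.isClosedEmbedding.isClosed_range
  have hZ : ∀ x : X, x ∈ Set.range i ↔
      (Submodule.Quotient.mk ((L.presheaf.germ ⊤ x trivial) s) : Cyc.secFibre L x) = 0 := by
    intro x
    rw [hD.1]
    rfl
  obtain ⟨ι, ξ, f, hξ, hf, hlf, hsum⟩ := h0
  have hg : ∀ a : ι, RatZeroOn δ k (closure {ξ a} ∩ Set.range i)
      (fun x => Cyc.c1CapFun δ L (Cyc.divFun δ (ξ a) (f a)) (Cyc.gysinChoice L s t) x) := by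
    intro a
    have h := gysin_cap_divFun δ hδ L hL s (Set.range i) hZc hZ (ξ a) (f a) (hf a) t ht
    have hk : δ (ξ a) - 2 = k := by rw [hξ a]; ring
    rw [hk] at h
    exact h
  have hlf' : ∀ x : X, ∃ U : Set X, IsOpen U ∧ x ∈ U ∧
      {a | ((closure {ξ a} ∩ Set.range i) ∩ U).Nonempty}.Finite := by
    intro x
    obtain ⟨U, hU, hxU, hfin⟩ := hlf x
    refine ⟨U, hU, hxU, hfin.subset ?_⟩
    rintro a ⟨y, ⟨hy, -⟩, hyU⟩
    exact ⟨y, hy, hyU⟩
  have hsumZ := ratZeroOn_sum (δ := δ) (k := k) (fun a : ι => closure {ξ a} ∩ Set.range i)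
    (fun a => isClosed_closure.inter hZc) hlf' _ hg
  have hX' : RatZeroOn δ k (Set.range i)
      (fun x => Cyc.c1CapFun δ L ⇑α (Cyc.gysinChoice L s t) x) := by
    refine (hsumZ.mono ?_).congr fun x => ?_
    · intro y hy
      obtain ⟨a, -, hya⟩ := Set.mem_iUnion.mp hy
      exact hya
    · have hα : (⇑α : X → ℤ) = fun ξ' => ∑ᶠ a, Cyc.divFun δ (ξ a) (f a) ξ' := funext hsum
      rw [hα]
      apply c1CapFun_finsum
      obtain ⟨U, hU, hxU, hfin⟩ := hlf x
      have hS : ∀ a : ι, {ξ' : X | ξ' ⤳ x ∧ Cyc.divFun δ (ξ a) (f a) ξ' ≠ 0}.Finite := by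
        intro a
        obtain ⟨t', ht', hfint⟩ :=
          Groth.Agent.H48.DivLocFin.iUnion_support_divFun_locallyFinite δ hδ
            (fun _ : PUnit.{u + 1} => ξ a) (fun _ => f a) (fun _ => hf a)
            (fun y => ⟨Set.univ, isOpen_univ, trivial, Set.toFinite _⟩) x
        obtain ⟨O, hOt, hO, hxO⟩ := mem_nhds_iff.mp ht'
        refine hfint.subset ?_
        rintro ξ' ⟨hsp, hne⟩
        exact ⟨hOt (hsp.mem_open hO hxO), Set.mem_iUnion.mpr ⟨PUnit.unit, hne⟩⟩
      refine (hfin.biUnion fun a _ => (hS a).image (Prod.mk a)).subset ?_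
      rintro ⟨a, ξ'⟩ ⟨hne, hsp⟩
      have h3 : ξ a ⤳ x := (divFun_ne_zero_specializes hne).trans hsp
      exact Set.mem_biUnion
        (show a ∈ {a | (closure {ξ a} ∩ U).Nonempty} from
          ⟨x, specializes_iff_mem_closure.mp h3, hxU⟩)
        ⟨ξ', ⟨hsp, hne⟩, rfl⟩
  have hpull := ratZeroOn_pull i δ k _ hX'
  exact ratEquivZero_of_ratZeroOn γ (hpull.congr hγ)

end Groth.Agent.H63.C1
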