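import Groth.Agent.H63.ArtBasic
import Groth.Prelude.Def_ArtFun2

set_option autoImplicit false
universe u v
open CategoryTheory

namespace Groth.Agent.H63

open ArtFun ArtFun.Art

variable {Λ : Type u} {k : Type u} [CommRing Λ] [Field k] [Algebra Λ k]

theorem map_comp_apply (F : Art Λ k ⥤ Type v) {A B C : Art Λ k} (f : A ⟶ B) (g : B ⟶ C) (x : F.obj A) :
    F.map (f ≫ g) x = F.map g (F.map f x) := by
  rw [F.map_comp]; rfl

theorem map_id_apply (F : Art Λ k ⥤ Type v) {A : Art Λ k} (x : F.obj A) :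
    F.map (𝟙 A) x = x := by
  rw [F.map_id]; rfl

theorem relCmp_surjective_iff {F G : Art Λ k ⥤ Type v} (η : F ⟶ G) {B A : Art Λ k} (μ : B ⟶ A) :
    Function.Surjective (relCmp η μ) ↔
      ∀ (x : F.obj A) (y : G.obj B), η.app A x = G.map μ y → ∃ z : F.obj B, F.map μ z = x ∧ η.app B z = y := by
  constructor
  · intro h x y hxy
    obtain ⟨z, hz⟩ := h ⟨(x, y), hxy⟩
    exact ⟨z, congrArg (fun t => t.1.1) hz, congrArg (fun t => t.1.2) hz⟩
  · intro h ⟨⟨x, y⟩, hxy⟩
    obtain ⟨z, h1, h2⟩ := h x y hxy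
    exact ⟨z, Subtype.ext (Prod.ext h1 h2)⟩

/-- Smoothness can be checked on small extensions. -/
theorem isSmooth_of_smallExt {F G : Art Λ k ⥤ Type v} (η : F ⟶ G)
    (h : ∀ ⦃B A : Art Λ k⦄ (μ : B ⟶ A), IsSmallExt μ → Function.Surjective (relCmp η μ)) :
    IsSmooth η := by
  intro B A μ hμ
  refine surjective_induction (fun A B μ => Function.Surjective (relCmp η μ)) ?_ (fun A B p hp => h p hp) ?_ μ hμ
  · intro A B e he
    rw [relCmp_surjective_iff]
    intro x y hxy
    refine ⟨F.map (inv e) x, ?_, ?_⟩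
    · rw [← map_comp_apply, IsIso.inv_hom_id, map_id_apply]
    · have := NatTrans.naturality_apply η (inv e) x
      rw [this, hxy, ← map_comp_apply, IsIso.hom_inv_id, map_id_apply]
  · intro A B C p q hp hq
    rw [relCmp_surjective_iff] at hp hq ⊢
    intro x y hxy
    rw [map_comp_apply] at hxy
    obtain ⟨z', hz'1, hz'2⟩ := hq x (G.map p y) hxy
    obtain ⟨z, hz1, hz2⟩ := hp z' y hz'2
    exact ⟨z, by rw [map_comp_apply, hz1, hz'1], hz2⟩

end Groth.Agent.H63
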