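import Groth.Agent.H63.ArtFibre
import Groth.Agent.H63.ArtFunctor

set_option autoImplicit false
set_option linter.style.haveILetI false
universe u v
open CategoryTheory

namespace Groth.Agent.H63

open ArtFun ArtFun.Art

variable {Λ : Type u} {k : Type u} [CommRing Λ] [Field k] [Algebra Λ k]

theorem cmp_fst (F : Art Λ k ⥤ Type v) {B A A' A'' : Art Λ k} {p' : B ⟶ A'} {p'' : B ⟶ A''} {f' : A' ⟶ A}
    {f'' : A'' ⟶ A} (h : IsFibreProd p' p'' f' f'') (z : F.obj B) : (cmp F h z).1.1 = F.map p' z := rfl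

theorem cmp_snd (F : Art Λ k ⥤ Type v) {B A A' A'' : Art Λ k} {p' : B ⟶ A'} {p'' : B ⟶ A''} {f' : A' ⟶ A}
    {f'' : A'' ⟶ A} (h : IsFibreProd p' p'' f' f'') (z : F.obj B) : (cmp F h z).1.2 = F.map p'' z := rfl

theorem cmp_surjective_iff (F : Art Λ k ⥤ Type v) {B A A' A'' : Art Λ k} {p' : B ⟶ A'} {p'' : B ⟶ A''}
    {f' : A' ⟶ A} {f'' : A'' ⟶ A} (h : IsFibreProd p' p'' f' f'') :
    Function.Surjective (cmp F h) ↔
      ∀ (x' : F.obj A') (x'' : F.obj A''), F.map f' x' = F.map f'' x'' →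
        ∃ z : F.obj B, F.map p' z = x' ∧ F.map p'' z = x'' := by
  constructor
  · intro hs x' x'' hx
    obtain ⟨z, hz⟩ := hs ⟨(x', x''), hx⟩
    exact ⟨z, congrArg (fun t => t.1.1) hz, congrArg (fun t => t.1.2) hz⟩
  · intro hs ⟨⟨x', x''⟩, hx⟩
    obtain ⟨z, h1, h2⟩ := hs x' x'' hx
    exact ⟨z, Subtype.ext (Prod.ext h1 h2)⟩

theorem cmp_injective_iff (F : Art Λ k ⥤ Type v) {B A A' A'' : Art Λ k} {p' : B ⟶ A'} {p'' : B ⟶ A''}
    {f' : A' ⟶ A} {f'' : A'' ⟶ A} (h : IsFibreProd p' p'' f' f'') :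
    Function.Injective (cmp F h) ↔
      ∀ (z w : F.obj B), F.map p' z = F.map p' w → F.map p'' z = F.map p'' w → z = w := by
  constructor
  · intro hi z w h1 h2
    exact hi (Subtype.ext (Prod.ext h1 h2))
  · intro hi z w hzw
    exact hi z w (congrArg (fun t => t.1.1) hzw) (congrArg (fun t => t.1.2) hzw)

section Paste

variable {B B₁ A A' A'' M : Art Λ k} {p' : B ⟶ A'} {p'' : B ⟶ A''} {f' : A' ⟶ A}
  {p : A'' ⟶ M} {q : M ⟶ A} {r' : B₁ ⟶ A'} {r'' : B₁ ⟶ M} {l : B ⟶ B₁}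

/-- Pasting: the left square of a composite fibre product is a fibre product. -/
theorem IsFibreProd.paste (h : IsFibreProd p' p'' f' (p ≫ q)) (h₁ : IsFibreProd r' r'' f' q)
    (hl' : l ≫ r' = p') (hl'' : l ≫ r'' = p'' ≫ p) : IsFibreProd l p'' r'' p where
  w := hl''
  inj b b' e₁ e₂ := by
    apply h.inj _ _ _ e₂
    rw [← hl']
    change r' (l b) = r' (l b')
    rw [e₁]
  surj b₁ a'' e := by
    have e' : f' (r' b₁) = (p ≫ q) a'' := by
      rw [h₁.w_apply b₁, e]; rfl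
    obtain ⟨b, hb₁, hb₂⟩ := h.surj (r' b₁) a'' e'
    refine ⟨b, ?_, hb₂⟩
    apply h₁.inj
    · have : r' (l b) = p' b := congrArg (fun t : B ⟶ A' => t b) hl'
      rw [this, hb₁]
    · have : r'' (l b) = p (p'' b) := congrArg (fun t : B ⟶ M => t b) hl''
      rw [this, hb₂, e]

theorem paste_surjective (F : Art Λ k ⥤ Type v) (h : IsFibreProd p' p'' f' (p ≫ q)) (h₁ : IsFibreProd r' r'' f' q)
    (h₂ : IsFibreProd l p'' r'' p) (hl' : l ≫ r' = p')
    (hs₁ : Function.Surjective (cmp F h₁)) (hs₂ : Function.Surjective (cmp F h₂)) :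
    Function.Surjective (cmp F h) := by
  rw [cmp_surjective_iff] at hs₁ hs₂ ⊢
  intro x' x'' hx
  rw [map_comp_apply] at hx
  obtain ⟨z₁, hz₁', hz₁''⟩ := hs₁ x' (F.map p x'') hx
  obtain ⟨z, hz', hz''⟩ := hs₂ z₁ x'' hz₁''
  refine ⟨z, ?_, hz''⟩
  rw [← hl', map_comp_apply, hz', hz₁']

theorem paste_injective (F : Art Λ k ⥤ Type v) (h : IsFibreProd p' p'' f' (p ≫ q)) (h₁ : IsFibreProd r' r'' f' q)
    (h₂ : IsFibreProd l p'' r'' p) (hl' : l ≫ r' = p')
    (hs₁ : Function.Injective (cmp F h₁)) (hs₂ : Function.Injective (cmp F h₂)) :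
    Function.Injective (cmp F h) := by
  rw [cmp_injective_iff] at hs₁ hs₂ ⊢
  intro z w e₁ e₂
  apply hs₂ z w _ e₂
  apply hs₁
  · rw [← map_comp_apply, ← map_comp_apply, hl', e₁]
  · rw [← map_comp_apply, ← map_comp_apply, h₂.w, map_comp_apply, map_comp_apply, e₂]

end Paste

/-- the comparison map for a square along an isomorphism is bijective -/
theorem cmp_bijective_of_isIso (F : Art Λ k ⥤ Type v) {B A A' A'' : Art Λ k} {p' : B ⟶ A'} {p'' : B ⟶ A''}
    {f' : A' ⟶ A} {f'' : A'' ⟶ A} (h : IsFibreProd p' p'' f' f'') [IsIso f''] :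
    Function.Bijective (cmp F h) := by
  have hbij := bijective_of_isIso f''
  haveI : IsIso p' := by
    apply isIso_of_bijective
    refine ⟨?_, IsFibreProd.fst_surjective h hbij.2⟩
    intro b b' e
    apply h.inj _ _ e
    apply hbij.1
    rw [← h.w_apply, ← h.w_apply, e]
  have hcomp : inv p' ≫ p'' = f' ≫ inv f'' := by
    rw [IsIso.inv_comp_eq, ← Category.assoc, h.w, Category.assoc, IsIso.hom_inv_id, Category.comp_id]
  constructor
  · rw [cmp_injective_iff]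
    intro z w e₁ _
    have := congrArg (F.map (inv p')) e₁
    rwa [← map_comp_apply, ← map_comp_apply, IsIso.hom_inv_id, map_id_apply, map_id_apply] at this
  · rw [cmp_surjective_iff]
    intro x' x'' hx
    refine ⟨F.map (inv p') x', ?_, ?_⟩
    · rw [← map_comp_apply, IsIso.inv_hom_id, map_id_apply]
    · rw [← map_comp_apply, hcomp, map_comp_apply, hx, ← map_comp_apply, IsIso.hom_inv_id, map_id_apply]

/-- Induction for properties of comparison maps: surjectivity version. -/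
theorem cmp_surjective_of_smallExt [Module.Finite Λ k] (F : Art Λ k ⥤ Type v)
    (hsm : ∀ ⦃B A A' A'' : Art Λ k⦄ (p' : B ⟶ A') (p'' : B ⟶ A'') (f' : A' ⟶ A) (f'' : A'' ⟶ A)
      (h : IsFibreProd p' p'' f' f''), IsSmallExt f'' → Function.Surjective (cmp F h))
    ⦃B A A' A'' : Art Λ k⦄ (p' : B ⟶ A') (p'' : B ⟶ A'') (f' : A' ⟶ A) (f'' : A'' ⟶ A)
    (h : IsFibreProd p' p'' f' f'') (hf'' : Function.Surjective f'') : Function.Surjective (cmp F h) := by
  have key := surjective_induction (Λ := Λ) (k := k)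
    (fun A A'' f'' => Function.Surjective f'' ∧ ∀ (B A' : Art Λ k) (p' : B ⟶ A') (p'' : B ⟶ A'') (f' : A' ⟶ A)
      (h : IsFibreProd p' p'' f' f''), Function.Surjective (cmp F h)) ?_ ?_ ?_ f'' hf''
  · exact key.2 B A' p' p'' f' h
  · intro A A'' e he
    refine ⟨(bijective_of_isIso e).2, fun B A' p' p'' f' h => ?_⟩
    exact (cmp_bijective_of_isIso F h).2
  · intro A A'' e he
    exact ⟨he.1, fun B A' p' p'' f' h => hsm p' p'' f' e h he⟩
  · intro A M A'' p q hp hq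
    refine ⟨fun a => ?_, fun B A' p' p'' f' h => ?_⟩
    · obtain ⟨m, rfl⟩ := hq.1 a
      obtain ⟨c, rfl⟩ := hp.1 m
      exact ⟨c, rfl⟩
    · obtain ⟨B₁, r', r'', h₁⟩ := exists_isFibreProd_of_surjective f' q hq.1
      obtain ⟨l, hl', hl''⟩ := IsFibreProd.exists_lift h₁ p' (p'' ≫ p) (by rw [h.w, Category.assoc])
      have h₂ := IsFibreProd.paste h h₁ hl' hl''
      exact paste_surjective F h h₁ h₂ hl' (hq.2 _ _ _ _ _ h₁) (hp.2 _ _ _ _ _ h₂)

/-- Induction for properties of comparison maps: bijectivity version. -/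
theorem cmp_bijective_of_smallExt [Module.Finite Λ k] (F : Art Λ k ⥤ Type v)
    (hsm : ∀ ⦃B A A' A'' : Art Λ k⦄ (p' : B ⟶ A') (p'' : B ⟶ A'') (f' : A' ⟶ A) (f'' : A'' ⟶ A)
      (h : IsFibreProd p' p'' f' f''), IsSmallExt f'' → Function.Bijective (cmp F h))
    ⦃B A A' A'' : Art Λ k⦄ (p' : B ⟶ A') (p'' : B ⟶ A'') (f' : A' ⟶ A) (f'' : A'' ⟶ A)
    (h : IsFibreProd p' p'' f' f'') (hf'' : Function.Surjective f'') : Function.Bijective (cmp F h) := by
  have key := surjective_induction (Λ := Λ) (k := k)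
    (fun A A'' f'' => Function.Surjective f'' ∧ ∀ (B A' : Art Λ k) (p' : B ⟶ A') (p'' : B ⟶ A'') (f' : A' ⟶ A)
      (h : IsFibreProd p' p'' f' f''), Function.Bijective (cmp F h)) ?_ ?_ ?_ f'' hf''
  · exact key.2 B A' p' p'' f' h
  · intro A A'' e he
    refine ⟨(bijective_of_isIso e).2, fun B A' p' p'' f' h => ?_⟩
    exact cmp_bijective_of_isIso F h
  · intro A A'' e he
    exact ⟨he.1, fun B A' p' p'' f' h => hsm p' p'' f' e h he⟩
  · intro A M A'' p q hp hq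
    refine ⟨fun a => ?_, fun B A' p' p'' f' h => ?_⟩
    · obtain ⟨m, rfl⟩ := hq.1 a
      obtain ⟨c, rfl⟩ := hp.1 m
      exact ⟨c, rfl⟩
    · obtain ⟨B₁, r', r'', h₁⟩ := exists_isFibreProd_of_surjective f' q hq.1
      obtain ⟨l, hl', hl''⟩ := IsFibreProd.exists_lift h₁ p' (p'' ≫ p) (by rw [h.w, Category.assoc])
      have h₂ := IsFibreProd.paste h h₁ hl' hl''
      exact ⟨paste_injective F h h₁ h₂ hl' (hq.2 _ _ _ _ _ h₁).1 (hp.2 _ _ _ _ _ h₂).1,
        paste_surjective F h h₁ h₂ hl' (hq.2 _ _ _ _ _ h₁).2 (hp.2 _ _ _ _ _ h₂).2⟩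

end Groth.Agent.H63
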