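import Groth.Agent.H61.TszeObj
import Mathlib.Algebra.Group.MinimalAxioms

/-!
# The vector space structure on the tangent space under `H0` and `Heps`
-/

set_option autoImplicit false
set_option linter.style.haveILetI false
set_option linter.unusedSectionVars false
universe u v
open CategoryTheory

namespace Groth.Agent.H63

open ArtFun ArtFun.Art Groth.Agent.H61

variable {Λ : Type u} {k : Type u} [CommRing Λ] [Field k] [Algebra Λ k]
variable {F : Art Λ k ⥤ Type v}

namespace TStr

theorem dual2_ext (h2 : Heps F) (z z' : F.obj (dual2 Λ k)) (ha : F.map pr₁ z = F.map pr₁ z')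
    (hb : F.map pr₂ z = F.map pr₂ z') : z = z' :=
  (cmp_injective_iff F (isFibreProd_dual2 (Λ := Λ) (k := k))).1
    (h2 pr₁ pr₂ (isFibreProd_dual2 (Λ := Λ) (k := k))).1 z z' ha hb

/-- the pairing `F(k[ε]) × F(k[ε]) → F(k[ε₁,ε₂])` -/
noncomputable def pair (h0 : H0 F) (h2 : Heps F) (x y : F.obj (dual Λ k)) : F.obj (dual2 Λ k) :=
  (exists_dual2_of_pair h0 h2 x y).choose

theorem pair_pr₁ (h0 : H0 F) (h2 : Heps F) (x y : F.obj (dual Λ k)) :
    F.map pr₁ (pair h0 h2 x y) = x := (exists_dual2_of_pair h0 h2 x y).choose_spec.1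

theorem pair_pr₂ (h0 : H0 F) (h2 : Heps F) (x y : F.obj (dual Λ k)) :
    F.map pr₂ (pair h0 h2 x y) = y := (exists_dual2_of_pair h0 h2 x y).choose_spec.2

theorem pair_eq (h0 : H0 F) (h2 : Heps F) (z : F.obj (dual2 Λ k)) :
    pair h0 h2 (F.map pr₁ z) (F.map pr₂ z) = z :=
  dual2_ext h2 _ _ (pair_pr₁ h0 h2 _ _) (pair_pr₂ h0 h2 _ _)

/-- addition -/
noncomputable def add (h0 : H0 F) (h2 : Heps F) (x y : F.obj (dual Λ k)) : F.obj (dual Λ k) :=
  F.map plus (pair h0 h2 x y)

/-- zero -/
noncomputable def zero (h0 : H0 F) : F.obj (dual Λ k) := F.map baseToDual h0.1.some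

/-- scalar multiplication -/
def smul (c : k) (x : F.obj (dual Λ k)) : F.obj (dual Λ k) := F.map (scale c) x

section
variable {M : Type u} [AddCommGroup M] [Module k M] [Module kᵐᵒᵖ M] [SMulCommClass k kᵐᵒᵖ M]
  [IsCentralScalar k M] [Module Λ M] [IsScalarTower Λ k M] [IsScalarTower Λ kᵐᵒᵖ M] [Module.Finite k M]

theorem add_lin (h0 : H0 F) (h2 : Heps F) (t : F.obj (tszeArt Λ k M)) (l₁ l₂ : M →ₗ[k] k) :
    add h0 h2 (F.map (tszeToDual l₁) t) (F.map (tszeToDual l₂) t) = F.map (tszeToDual (l₁ + l₂)) t := by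
  have h : pair h0 h2 (F.map (tszeToDual l₁) t) (F.map (tszeToDual l₂) t) =
      F.map (tszeToDual2 (l₁.prod l₂)) t := by
    apply dual2_ext h2
    · rw [pair_pr₁, ← map_comp_apply, tszeToDual2_pr₁]
    · rw [pair_pr₂, ← map_comp_apply, tszeToDual2_pr₂]
  unfold add
  rw [h, ← map_comp_apply, tszeToDual2_plus]

theorem smul_lin (t : F.obj (tszeArt Λ k M)) (c : k) (l : M →ₗ[k] k) :
    smul c (F.map (tszeToDual l) t) = F.map (tszeToDual (c • l)) t := by
  unfold smul
  rw [← map_comp_apply, tszeToDual_scale]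

theorem zero_lin (h0 : H0 F) (t : F.obj (tszeArt Λ k M)) :
    F.map (tszeToDual (0 : M →ₗ[k] k)) t = zero h0 := by
  haveI := h0.2
  have h : (tszeToDual (0 : M →ₗ[k] k) : tszeArt Λ k M ⟶ dual Λ k) =
      toBase (tszeArt Λ k M) ≫ baseToDual := by
    apply Art.hom_ext
    apply AlgHom.ext
    intro x
    apply TrivSqZeroExt.ext
    · rfl
    · rfl
  unfold zero
  rw [h, map_comp_apply]
  congr 1
  exact Subsingleton.elim _ _

end

section Axioms
variable (h0 : H0 F) (h2 : Heps F)

local notation "π" => fun (n : ℕ) (i : Fin n) => (LinearMap.proj i : (Fin n → k) →ₗ[k] k)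

theorem add_comm' (x y : F.obj (dual Λ k)) : add h0 h2 x y = add h0 h2 y x := by
  obtain ⟨t, ht⟩ := exists_coords h0 h2 2 ![x, y]
  have hx := ht 0
  have hy := ht 1
  simp only [Matrix.cons_val_zero, Matrix.cons_val_one] at hx hy
  rw [← hx, ← hy, add_lin, add_lin, add_comm]

theorem add_assoc' (x y z : F.obj (dual Λ k)) :
    add h0 h2 (add h0 h2 x y) z = add h0 h2 x (add h0 h2 y z) := by
  obtain ⟨t, ht⟩ := exists_coords h0 h2 3 ![x, y, z]
  have hx := ht 0
  have hy := ht 1
  have hz := ht 2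
  simp only [Matrix.cons_val_zero, Matrix.cons_val_one, Matrix.cons_val] at hx hy hz
  rw [← hx, ← hy, ← hz, add_lin, add_lin, add_lin, add_lin, add_assoc]

theorem add_zero' (x : F.obj (dual Λ k)) : add h0 h2 x (zero h0) = x := by
  obtain ⟨t, ht⟩ := exists_coords h0 h2 1 ![x]
  have hx := ht 0
  simp only [Matrix.cons_val_zero] at hx
  rw [← zero_lin h0 t]
  nth_rw 1 [← hx]
  rw [add_lin, add_zero, hx]

theorem add_neg' (x : F.obj (dual Λ k)) : add h0 h2 (smul (-1) x) x = zero h0 := by
  obtain ⟨t, ht⟩ := exists_coords h0 h2 1 ![x]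
  have hx := ht 0
  simp only [Matrix.cons_val_zero] at hx
  have hl : ((-1 : k) • (LinearMap.proj 0 : (Fin 1 → k) →ₗ[k] k)) + LinearMap.proj 0 = 0 := by
    ext v
    simp
  rw [← hx, smul_lin, add_lin, ← zero_lin h0 t, hl]

theorem one_smul' (x : F.obj (dual Λ k)) : smul (1 : k) x = x := by
  have h : (scale (1 : k) : dual Λ k ⟶ dual Λ k) = 𝟙 _ := by
    apply Art.hom_ext
    apply AlgHom.ext
    intro a
    apply TrivSqZeroExt.ext
    · rfl
    · change (1 : k) • a.snd = a.snd
      rw [one_smul]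
  unfold smul
  rw [h, map_id_apply]

theorem mul_smul' (c d : k) (x : F.obj (dual Λ k)) : smul (c * d) x = smul c (smul d x) := by
  have h : (scale (c * d) : dual Λ k ⟶ dual Λ k) = scale d ≫ scale c := by
    apply Art.hom_ext
    apply AlgHom.ext
    intro a
    apply TrivSqZeroExt.ext
    · rfl
    · change (c * d) • a.snd = c • (d • a.snd)
      rw [mul_smul]
  unfold smul
  rw [h, map_comp_apply]

theorem smul_zero' (c : k) : smul c (zero h0) = zero h0 := by
  have h : (baseToDual ≫ scale c : base Λ k ⟶ dual Λ k) = baseToDual := by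
    apply Art.hom_ext
    apply AlgHom.ext
    intro a
    apply TrivSqZeroExt.ext
    · rfl
    · change c • (0 : k) = 0
      rw [smul_zero]
  unfold smul zero
  rw [← map_comp_apply, h]

theorem smul_add' (c : k) (x y : F.obj (dual Λ k)) :
    smul c (add h0 h2 x y) = add h0 h2 (smul c x) (smul c y) := by
  obtain ⟨t, ht⟩ := exists_coords h0 h2 2 ![x, y]
  have hx := ht 0
  have hy := ht 1
  simp only [Matrix.cons_val_zero, Matrix.cons_val_one] at hx hy
  rw [← hx, ← hy, add_lin, smul_lin, smul_lin, smul_lin, add_lin, smul_add]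

theorem add_smul' (c d : k) (x : F.obj (dual Λ k)) :
    smul (c + d) x = add h0 h2 (smul c x) (smul d x) := by
  obtain ⟨t, ht⟩ := exists_coords h0 h2 1 ![x]
  have hx := ht 0
  simp only [Matrix.cons_val_zero] at hx
  rw [← hx, smul_lin, smul_lin, smul_lin, add_lin, add_smul]

theorem zero_smul' (h0 : H0 F) (h2 : Heps F) (x : F.obj (dual Λ k)) : smul (0 : k) x = zero h0 := by
  obtain ⟨t, ht⟩ := exists_coords h0 h2 1 ![x]
  have hx := ht 0
  simp only [Matrix.cons_val_zero] at hx
  rw [← hx, smul_lin, zero_smul, zero_lin h0 t]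

end Axioms

/-- The tangent space structure under `H0` and `Heps`. -/
noncomputable def tangentStr (h0 : H0 F) (h2 : Heps F) : TangentStr F :=
  letI iAdd : Add (F.obj (dual Λ k)) := ⟨add h0 h2⟩
  letI iZero : Zero (F.obj (dual Λ k)) := ⟨zero h0⟩
  letI iNeg : Neg (F.obj (dual Λ k)) := ⟨smul (-1)⟩
  letI grp : AddGroup (F.obj (dual Λ k)) :=
    AddGroup.ofLeftAxioms (add_assoc' h0 h2)
      (fun x => (add_comm' h0 h2 _ _).trans (add_zero' h0 h2 x)) (add_neg' h0 h2)
  letI addInst : AddCommGroup (F.obj (dual Λ k)) :=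
    { grp with add_comm := add_comm' h0 h2 }
  { addCommGroup := addInst
    module :=
      { smul := smul
        one_smul := one_smul'
        mul_smul := mul_smul'
        smul_zero := smul_zero' h0
        smul_add := smul_add' h0 h2
        add_smul := add_smul' h0 h2
        zero_smul := zero_smul' h0 h2 }
    smul_eq := fun _ _ => rfl
    add_eq := fun z => by
      change add h0 h2 (F.map pr₁ z) (F.map pr₂ z) = F.map plus z
      unfold add
      rw [pair_eq] }

end TStr

end Groth.Agent.H63
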