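import Groth.Agent.H63.ComplCRing
import Groth.Agent.H63.CRingSurj
import Mathlib.RingTheory.AdicCompletion.Noetherian

set_option autoImplicit false
set_option linter.style.haveILetI false
set_option linter.unusedSectionVars false
universe u v
open CategoryTheory

namespace Groth.Agent.H63

open ArtFun ArtFun.Art AdicCompletion

variable {Λ : Type u} {k : Type u} [CommRing Λ] [Field k] [Algebra Λ k]

/-- An Artinian object as a coefficient ring. -/
noncomputable def artCRing (A : Art Λ k) : CRing Λ k :=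
  haveI : IsNoetherianRing A.carrier := inferInstance
  { carrier := A.carrier
    res := A.res
    res_surjective := A.res_surjective
    isAdicComplete := inferInstance }

variable {R₀ : Type u} [CommRing R₀] [Algebra Λ R₀] [IsNoetherianRing R₀] {res₀ : R₀ →ₐ[Λ] k}

/-- the structure map of the completion, as a `Λ`-algebra map -/
noncomputable def complOf (R₀ : Type u) [CommRing R₀] [Algebra Λ R₀] (res₀ : R₀ →ₐ[Λ] k) :
    R₀ →ₐ[Λ] AdicCompletion (RingHom.ker res₀) R₀ :=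
  IsScalarTower.toAlgHom Λ R₀ (AdicCompletion (RingHom.ker res₀) R₀)

theorem complOf_apply (r : R₀) : complOf R₀ res₀ r = algebraMap R₀ _ r := rfl

theorem complRes_comp_complOf : (complRes R₀ res₀).comp (complOf R₀ res₀) = res₀ :=
  AlgHom.ext fun r => complRes_of R₀ res₀ r

/-- maps from the completion to an Artinian object kill a power of the ideal -/
theorem exists_pow_map_le_ker {A : Art Λ k} (φ : HomSet (AdicCompletion (RingHom.ker res₀) R₀) (complRes R₀ res₀) A) :
    ∃ N : ℕ, ∀ n, N ≤ n → ((RingHom.ker res₀) ^ n).map (algebraMap R₀ (AdicCompletion (RingHom.ker res₀) R₀)) ≤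
      RingHom.ker (φ.1 : AdicCompletion (RingHom.ker res₀) R₀ →+* A) := by
  obtain ⟨N, hN⟩ := maximalIdeal_nilpotent A
  refine ⟨N, fun n hn => ?_⟩
  let g : R₀ →+* A := (φ.1 : AdicCompletion (RingHom.ker res₀) R₀ →+* A).comp
    (algebraMap R₀ (AdicCompletion (RingHom.ker res₀) R₀))
  have hg : (RingHom.ker res₀ : Ideal R₀).map g ≤ IsLocalRing.maximalIdeal A := by
    rw [Ideal.map_le_iff_le_comap]
    intro r hr
    rw [Ideal.mem_comap, Art.mem_maximalIdeal_iff]
    change A.res (φ.1 (algebraMap R₀ _ r)) = 0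
    have := AlgHom.congr_fun φ.2 (algebraMap R₀ _ r)
    rw [AlgHom.comp_apply] at this
    rw [this, complRes_of]
    exact hr
  rw [Ideal.map_le_iff_le_comap]
  intro r hr
  rw [Ideal.mem_comap, RingHom.mem_ker]
  have h1 : g r ∈ ((RingHom.ker res₀ : Ideal R₀) ^ n).map g := Ideal.mem_map_of_mem g hr
  rw [Ideal.map_pow] at h1
  have h2 : g r ∈ IsLocalRing.maximalIdeal A ^ N :=
    Ideal.pow_le_pow_right hn (Ideal.pow_right_mono hg n h1)
  rw [hN] at h2
  exact h2

/-- every element of the completion is congruent to an element of `R₀` modulo any power -/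
theorem exists_sub_mem_map_pow (x : AdicCompletion (RingHom.ker res₀) R₀) (n : ℕ) :
    ∃ r : R₀, x - algebraMap R₀ _ r ∈
      ((RingHom.ker res₀) ^ n).map (algebraMap R₀ (AdicCompletion (RingHom.ker res₀) R₀)) := by
  have fg : (RingHom.ker res₀ : Ideal R₀).FG := (isNoetherianRing_iff_ideal_fg R₀).1 inferInstance _
  obtain ⟨r, hr⟩ := Ideal.Quotient.mk_surjective (evalₐ (RingHom.ker res₀) n x)
  refine ⟨r, ?_⟩
  rw [← ker_evalₐ_eq_map _ fg, RingHom.mem_ker]
  change evalₐ (RingHom.ker res₀) n (x - algebraMap R₀ _ r) = 0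
  rw [map_sub, AlgHom.commutes, ← hr]
  exact sub_self _

/-- maps out of the completion to Artinian objects are determined on `R₀` -/
theorem homSet_compl_ext {A : Art Λ k}
    (φ φ' : HomSet (AdicCompletion (RingHom.ker res₀) R₀) (complRes R₀ res₀) A)
    (h : ∀ r : R₀, φ.1 (algebraMap R₀ _ r) = φ'.1 (algebraMap R₀ _ r)) : φ = φ' := by
  obtain ⟨N, hN⟩ := exists_pow_map_le_ker φ
  obtain ⟨N', hN'⟩ := exists_pow_map_le_ker φ'
  apply Subtype.ext
  apply AlgHom.ext
  intro x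
  obtain ⟨r, hr⟩ := exists_sub_mem_map_pow x (N + N')
  have h1 := hN (N + N') (Nat.le_add_right _ _) hr
  have h2 := hN' (N + N') (Nat.le_add_left _ _) hr
  rw [RingHom.mem_ker] at h1 h2
  have e1 : φ.1 x = φ.1 (algebraMap R₀ _ r) := by
    have : φ.1 (x - algebraMap R₀ _ r) = 0 := h1
    rw [map_sub, sub_eq_zero] at this
    exact this
  have e2 : φ'.1 x = φ'.1 (algebraMap R₀ _ r) := by
    have : φ'.1 (x - algebraMap R₀ _ r) = 0 := h2
    rw [map_sub, sub_eq_zero] at this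
    exact this
  rw [e1, e2, h]

/-- extension of augmented maps to the completion -/
theorem exists_homSet_compl {A : Art Λ k} (ψ₀ : R₀ →ₐ[Λ] A) (hψ₀ : A.res.comp ψ₀ = res₀) :
    ∃ ψ : HomSet (AdicCompletion (RingHom.ker res₀) R₀) (complRes R₀ res₀) A,
      ∀ r : R₀, ψ.1 (algebraMap R₀ _ r) = ψ₀ r := by
  obtain ⟨N, hN⟩ := maximalIdeal_nilpotent A
  have hmap : (RingHom.ker res₀ : Ideal R₀).map (ψ₀ : R₀ →+* A) ≤ IsLocalRing.maximalIdeal A := by
    rw [Ideal.map_le_iff_le_comap]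
    intro r hr
    rw [Ideal.mem_comap, Art.mem_maximalIdeal_iff]
    have := AlgHom.congr_fun hψ₀ r
    rw [AlgHom.comp_apply] at this
    change A.res (ψ₀ r) = 0
    rw [this]
    exact hr
  have hkill : ∀ a ∈ (RingHom.ker res₀ : Ideal R₀) ^ (N + 1), ψ₀ a = 0 := by
    intro a ha
    have h1 : (ψ₀ : R₀ →+* A) a ∈ ((RingHom.ker res₀ : Ideal R₀) ^ (N + 1)).map (ψ₀ : R₀ →+* A) :=
      Ideal.mem_map_of_mem _ ha
    rw [Ideal.map_pow] at h1
    have h2 : (ψ₀ : R₀ →+* A) a ∈ IsLocalRing.maximalIdeal A ^ N :=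
      Ideal.pow_le_pow_right (Nat.le_succ N) (Ideal.pow_right_mono hmap (N + 1) h1)
    rw [hN] at h2
    exact h2
  let L : R₀ ⧸ (RingHom.ker res₀ : Ideal R₀) ^ (N + 1) →ₐ[Λ] A :=
    Ideal.Quotient.liftₐ ((RingHom.ker res₀ : Ideal R₀) ^ (N + 1)) ψ₀ hkill
  let ψ : AdicCompletion (RingHom.ker res₀) R₀ →ₐ[Λ] A :=
    L.comp ((evalₐ (RingHom.ker res₀) (N + 1)).restrictScalars Λ)
  have hψ : ∀ (x : AdicCompletion (RingHom.ker res₀) R₀) (r : R₀),
      evalₐ (RingHom.ker res₀) (N + 1) x = Ideal.Quotient.mk _ r → ψ x = ψ₀ r := by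
    intro x r hr
    change L (evalₐ (RingHom.ker res₀) (N + 1) x) = ψ₀ r
    rw [hr]
    rfl
  have hof : ∀ r : R₀, ψ (algebraMap R₀ _ r) = ψ₀ r := by
    intro r
    apply hψ
    rw [AlgHom.commutes]
    rfl
  refine ⟨⟨ψ, ?_⟩, hof⟩
  apply AlgHom.ext
  intro x
  obtain ⟨r, hr⟩ := Ideal.Quotient.mk_surjective (evalₐ (RingHom.ker res₀) (N + 1) x)
  rw [AlgHom.comp_apply, hψ x r hr.symm]
  have h3 := AlgHom.congr_fun hψ₀ r
  rw [AlgHom.comp_apply] at h3
  rw [h3]
  -- `complRes x = res₀ r`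
  have h4 : evalOneₐ (RingHom.ker res₀) x = Ideal.Quotient.mk _ r := by
    rw [← factorₐ_evalₐ_one, ← factorPow_evalₐ (RingHom.ker res₀) (Nat.succ_le_succ (Nat.zero_le N)) x, ← hr]
    rfl
  unfold complRes
  rw [AlgHom.comp_apply]
  change _ = (Ideal.Quotient.liftₐ (RingHom.ker res₀) res₀ _) (evalOneₐ (RingHom.ker res₀) x)
  rw [h4]
  rfl

end Groth.Agent.H63
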