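import Groth.Agent.H63.ArtSmall

set_option autoImplicit false
set_option linter.style.haveILetI false
universe u v
open CategoryTheory

namespace Groth.Agent.H63

open ArtFun ArtFun.Art

variable {Λ : Type u} {k : Type u} [CommRing Λ] [Field k] [Algebra Λ k]

section
variable {B A A₁ A₂ : Art Λ k} {p₁ : B ⟶ A₁} {p₂ : B ⟶ A₂} {f₁ : A₁ ⟶ A} {f₂ : A₂ ⟶ A}

/-- The universal property of a pinned fibre product for maps out of an augmented algebra. -/
theorem IsFibreProd.exists_lift_homSet (h : IsFibreProd p₁ p₂ f₁ f₂) {R : Type u} [CommRing R] [Algebra Λ R]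
    {resR : R →ₐ[Λ] k} (g₁ : HomSet R resR A₁) (g₂ : HomSet R resR A₂)
    (hg : HomSet.map f₁ g₁ = HomSet.map f₂ g₂) :
    ∃ l : HomSet R resR B, HomSet.map p₁ l = g₁ ∧ HomSet.map p₂ l = g₂ := by
  classical
  have hg' : ∀ c : R, f₁ (g₁.1 c) = f₂ (g₂.1 c) := fun c => congrArg (fun t : HomSet R resR A => t.1 c) hg
  let l : R → B := fun c => (h.surj (g₁.1 c) (g₂.1 c) (hg' c)).choose
  have hl₁ : ∀ c, p₁ (l c) = g₁.1 c := fun c => (h.surj (g₁.1 c) (g₂.1 c) (hg' c)).choose_spec.1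
  have hl₂ : ∀ c, p₂ (l c) = g₂.1 c := fun c => (h.surj (g₁.1 c) (g₂.1 c) (hg' c)).choose_spec.2
  let L : R →ₐ[Λ] B :=
    { toFun := l
      map_one' := h.inj _ _ (by rw [hl₁, map_one, map_one]) (by rw [hl₂, map_one, map_one])
      map_mul' := fun x y => h.inj _ _ (by rw [hl₁, map_mul, map_mul, hl₁, hl₁])
        (by rw [hl₂, map_mul, map_mul, hl₂, hl₂])
      map_zero' := h.inj _ _ (by rw [hl₁, map_zero, map_zero]) (by rw [hl₂, map_zero, map_zero])
      map_add' := fun x y => h.inj _ _ (by rw [hl₁, map_add, map_add, hl₁, hl₁])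
        (by rw [hl₂, map_add, map_add, hl₂, hl₂])
      commutes' := fun r => h.inj _ _ (by rw [hl₁, AlgHom.commutes, AlgHom.commutes])
        (by rw [hl₂, AlgHom.commutes, AlgHom.commutes]) }
  refine ⟨⟨L, ?_⟩, ?_, ?_⟩
  · apply AlgHom.ext
    intro c
    change B.res (l c) = resR c
    rw [← res_app p₁, hl₁]
    exact congrArg (fun t : R →ₐ[Λ] k => t c) g₁.2
  · apply Subtype.ext; apply AlgHom.ext; intro c; exact hl₁ c
  · apply Subtype.ext; apply AlgHom.ext; intro c; exact hl₂ c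

end

section Versal

variable {R : Type u} [CommRing R] [Algebra Λ R] {resR : R →ₐ[Λ] k} {F : Art Λ k ⥤ Type v}

/-- the canonical point of `h_R(k)` -/
def homSetBase (R : Type u) [CommRing R] [Algebra Λ R] (resR : R →ₐ[Λ] k) : HomSet R resR (Art.base Λ k) :=
  ⟨resR, AlgHom.id_comp _⟩

theorem homSet_base_eq (φ : HomSet R resR (Art.base Λ k)) : φ = homSetBase R resR := by
  apply Subtype.ext
  apply AlgHom.ext
  intro x
  exact congrArg (fun t : R →ₐ[Λ] k => t x) φ.2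

theorem IsVersal.app_surjective (h0 : H0 F) (ξ : Family R resR F) (hξ : IsVersal ξ) (A : Art Λ k) :
    Function.Surjective (ξ.app A) := by
  haveI := h0.2
  intro y
  obtain ⟨ψ, -, h2⟩ := hξ (Art.toBase A) A.res_surjective (homSetBase R resR) y (Subsingleton.elim _ _)
  exact ⟨ψ, h2⟩

theorem IsVersal.s1 (h0 : H0 F) (ξ : Family R resR F) (hξ : IsVersal ξ) : S1 F := by
  intro B A A' A'' p' p'' f' f'' h hf''
  rw [cmp_surjective_iff]
  intro x' x'' hx
  obtain ⟨φ', rfl⟩ := IsVersal.app_surjective h0 ξ hξ A' x'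
  obtain ⟨ψ'', h1, h2⟩ := hξ f'' hf'' (HomSet.map f' φ') x'' (by rw [← hx, ξ.natural])
  obtain ⟨ψ, hψ1, hψ2⟩ := IsFibreProd.exists_lift_homSet h φ' ψ'' h1.symm
  refine ⟨ξ.app B ψ, ?_, ?_⟩
  · rw [← ξ.natural, hψ1]
  · rw [← ξ.natural, hψ2, h2]

end Versal

end Groth.Agent.H63

namespace Groth.Agent.H63

open ArtFun ArtFun.Art

variable {Λ : Type u} {k : Type u} [CommRing Λ] [Field k] [Algebra Λ k]

section

variable {R : Type u} [CommRing R] [Algebra Λ R] {resR : R →ₐ[Λ] k} {F : Art Λ k ⥤ Type v}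

theorem homSet_map_comp {A B C : Art Λ k} (f : A ⟶ B) (g : B ⟶ C) (φ : HomSet R resR A) :
    HomSet.map (f ≫ g) φ = HomSet.map g (HomSet.map f φ) := rfl

theorem homSet_map_id {A : Art Λ k} (φ : HomSet R resR A) : HomSet.map (𝟙 A) φ = φ := rfl

/-- Versality can be checked on small extensions. -/
theorem isVersal_of_smallExt (ξ : Family R resR F)
    (h : ∀ ⦃B A : Art Λ k⦄ (μ : B ⟶ A), IsSmallExt μ →
      ∀ (φ : HomSet R resR A) (y : F.obj B), F.map μ y = ξ.app A φ →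
        ∃ ψ : HomSet R resR B, HomSet.map μ ψ = φ ∧ ξ.app B ψ = y) :
    IsVersal ξ := by
  intro B A μ hμ
  refine surjective_induction (fun A B μ => ∀ (φ : HomSet R resR A) (y : F.obj B), F.map μ y = ξ.app A φ →
        ∃ ψ : HomSet R resR B, HomSet.map μ ψ = φ ∧ ξ.app B ψ = y) ?_ (fun A B p hp => h p hp) ?_ μ hμ
  · intro A B e he φ y hy
    refine ⟨HomSet.map (inv e) φ, ?_, ?_⟩
    · rw [← homSet_map_comp, IsIso.inv_hom_id, homSet_map_id]
    · rw [ξ.natural, ← hy, ← map_comp_apply, IsIso.hom_inv_id, map_id_apply]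
  · intro A B C p q hp hq φ y hy
    rw [map_comp_apply] at hy
    obtain ⟨ψ', h1, h2⟩ := hq φ (F.map p y) hy
    obtain ⟨ψ, h3, h4⟩ := hp ψ' y h2.symm
    exact ⟨ψ, by rw [homSet_map_comp, h3, h1], h4⟩

/-- The criterion for versality. -/
theorem isVersal_iff_tangent_surjective_and_exists_lift [Module.Finite Λ k]
    (h0 : H0 F) (h1 : S1 F) (h2 : Heps F) (ξ : Family R resR F) :
    IsVersal ξ ↔
      (Function.Surjective (TangentSpace.ofFamily ξ) ∧
        ∀ ⦃B A : Art Λ k⦄ (μ : B ⟶ A), IsSmallExt μ →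
          ∀ (φ : HomSet R resR A) (y : F.obj B), F.map μ y = ξ.app A φ →
            ∃ ψ : HomSet R resR B, HomSet.map μ ψ = φ) := by
  constructor
  · intro hv
    refine ⟨IsVersal.app_surjective h0 ξ hv (dual Λ k), ?_⟩
    intro B A μ hμ φ y hy
    obtain ⟨ψ, hψ, -⟩ := hv μ hμ.1 φ y hy
    exact ⟨ψ, hψ⟩
  · rintro ⟨hd, hl⟩
    apply isVersal_of_smallExt
    intro B A μ hμ φ y hy
    obtain ⟨ψ₀, hψ₀⟩ := hl μ hμ φ y hy
    obtain ⟨C, π₁, π₂, δ, Δ, hC₁, hC₂, hΔ₁, hΔ₂, hΔδ⟩ := exists_smallData μ hμ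
    have hcompat : F.map μ (ξ.app B ψ₀) = F.map μ y := by
      rw [← ξ.natural, hψ₀, hy]
    obtain ⟨w, hw₁, hw₂⟩ := (cmp_surjective_iff F hC₁).1 (h1 _ _ _ _ hC₁ hμ.1) (ξ.app B ψ₀) y hcompat
    obtain ⟨τ, hτ⟩ : ∃ τ : HomSet R resR (dual Λ k), ξ.app _ τ = F.map δ w := hd (F.map δ w)
    obtain ⟨χ, hχ₁, hχ₂⟩ := IsFibreProd.exists_lift_homSet hC₂ ψ₀ τ
      ((homSet_base_eq _).trans (homSet_base_eq _).symm)
    have hξχ : ξ.app C χ = w := by
      apply (cmp_injective_iff F hC₂).1 (h2 _ _ hC₂).1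
      · rw [← ξ.natural, hχ₁, hw₁]
      · rw [← ξ.natural, hχ₂, hτ]
    refine ⟨HomSet.map π₂ χ, ?_, ?_⟩
    · rw [← homSet_map_comp, ← hC₁.w, homSet_map_comp, hχ₁, hψ₀]
    · rw [ξ.natural, hξχ, hw₂]

end

end Groth.Agent.H63
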