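import Groth.Prelude.Def_ArtFun3
import Mathlib.RingTheory.HopkinsLevitzki
import Mathlib.RingTheory.Artinian.Ring
import Mathlib.RingTheory.Ideal.Quotient.Operations

set_option autoImplicit false
universe u v
open CategoryTheory

namespace Groth.Agent.H63

open ArtFun ArtFun.Art

variable {Λ : Type u} {k : Type u} [CommRing Λ] [Field k] [Algebra Λ k]

/-- A bijective morphism of `Art Λ k` is an isomorphism. -/
theorem isIso_of_bijective {A B : Art Λ k} (f : B ⟶ A) (hf : Function.Bijective f) : IsIso f := by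
  let e : B ≃ₐ[Λ] A := AlgEquiv.ofBijective f.toAlgHom hf
  have he : ∀ b, e b = f b := fun b => rfl
  refine ⟨⟨⟨(e.symm : A →ₐ[Λ] B), ?_⟩, ?_, ?_⟩⟩
  · apply AlgHom.ext
    intro a
    obtain ⟨b, rfl⟩ := hf.2 a
    change B.res (e.symm (e b)) = A.res (f b)
    rw [e.symm_apply_apply, res_app]
  · apply hom_ext
    apply AlgHom.ext
    intro b
    change e.symm (e b) = b
    exact e.symm_apply_apply b
  · apply hom_ext
    apply AlgHom.ext
    intro a
    change e (e.symm a) = a
    exact e.apply_symm_apply a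

theorem bijective_of_isIso {A B : Art Λ k} (f : B ⟶ A) [IsIso f] : Function.Bijective f := by
  refine ⟨fun x y h => ?_, fun a => ⟨inv f a, ?_⟩⟩
  · have : (f ≫ inv f) x = (f ≫ inv f) y := by
      rw [Art.comp_apply, Art.comp_apply, h]
    rwa [IsIso.hom_inv_id] at this
  · have : (inv f ≫ f) a = a := by rw [IsIso.inv_hom_id]; rfl
    exact this

theorem ker_le_maximalIdeal {A B : Art Λ k} (f : B ⟶ A) :
    RingHom.ker f.toAlgHom ≤ IsLocalRing.maximalIdeal B := by
  intro x hx
  rw [mem_maximalIdeal_iff, ← res_app f]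
  rw [RingHom.mem_ker] at hx
  rw [hx, map_zero]

theorem maximalIdeal_nilpotent (B : Art Λ k) : ∃ n : ℕ, IsLocalRing.maximalIdeal B ^ n = ⊥ := by
  have h := IsArtinianRing.isNilpotent_jacobson_bot (R := B)
  rw [IsLocalRing.jacobson_eq_maximalIdeal ⊥ bot_ne_top] at h
  exact h

/-- Existence of quotient objects. -/
theorem exists_quot (B : Art Λ k) (K : Ideal B) (hK : K ≤ IsLocalRing.maximalIdeal B) :
    ∃ (B' : Art Λ k) (q : B ⟶ B'), Function.Surjective q ∧ RingHom.ker q.toAlgHom = K := by
  refine ⟨quot B K hK, quotMk B K hK, quotMk_surjective B K hK, ?_⟩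
  ext x
  rw [RingHom.mem_ker]
  exact Ideal.Quotient.eq_zero_iff_mem

/-- A surjection is an epimorphism (elementwise form). -/
theorem eq_of_comp_eq {B B' A : Art Λ k} (q : B ⟶ B') (hq : Function.Surjective q) (g g' : B' ⟶ A)
    (h : q ≫ g = q ≫ g') : g = g' := by
  apply hom_ext
  apply AlgHom.ext
  intro x
  obtain ⟨b, rfl⟩ := hq x
  have := congrArg (fun t : B ⟶ A => t b) h
  exact this

/-- Factorisation through a surjection. -/
theorem exists_factor {B B' A : Art Λ k} (q : B ⟶ B') (hq : Function.Surjective q) (f : B ⟶ A)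
    (h : RingHom.ker q.toAlgHom ≤ RingHom.ker f.toAlgHom) : ∃ g : B' ⟶ A, q ≫ g = f := by
  classical
  have hwd : ∀ b b' : B, q b = q b' → f b = f b' := by
    intro b b' hbb'
    have : b - b' ∈ RingHom.ker q.toAlgHom := by
      rw [RingHom.mem_ker, map_sub]; exact sub_eq_zero.2 hbb'
    have := h this
    rw [RingHom.mem_ker, map_sub] at this
    exact sub_eq_zero.1 this
  let s : B' → B := fun x => (hq x).choose
  have hs : ∀ x, q (s x) = x := fun x => (hq x).choose_spec
  have hfs : ∀ b, f (s (q b)) = f b := fun b => hwd _ _ (hs (q b))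
  let g : B' →ₐ[Λ] A :=
    { toFun := fun x => f (s x)
      map_one' := by
        have := hfs 1
        rw [map_one, map_one] at this
        exact this
      map_mul' := by
        intro x y
        obtain ⟨a, rfl⟩ := hq x
        obtain ⟨b, rfl⟩ := hq y
        rw [← map_mul, hfs, hfs, hfs, map_mul]
      map_zero' := by
        have := hfs 0
        rw [map_zero, map_zero] at this
        exact this
      map_add' := by
        intro x y
        obtain ⟨a, rfl⟩ := hq x
        obtain ⟨b, rfl⟩ := hq y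
        rw [← map_add, hfs, hfs, hfs, map_add]
      commutes' := by
        intro r
        have := hfs (algebraMap Λ B r)
        rw [AlgHom.commutes, AlgHom.commutes] at this
        exact this }
  have hg : ∀ b, g (q b) = f b := hfs
  refine ⟨⟨g, ?_⟩, ?_⟩
  · apply AlgHom.ext
    intro x
    obtain ⟨b, rfl⟩ := hq x
    change A.res (g (q b)) = B'.res (q b)
    rw [hg, res_app, res_app]
  · apply hom_ext
    apply AlgHom.ext
    intro b
    exact hg b

/-- elements of the maximal ideal lift along surjections -/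
theorem exists_mem_maximalIdeal_of_surjective {B B' : Art Λ k} (q : B ⟶ B') (hq : Function.Surjective q)
    (a' : B') (ha' : a' ∈ IsLocalRing.maximalIdeal B') :
    ∃ a ∈ IsLocalRing.maximalIdeal B, q a = a' := by
  obtain ⟨a, rfl⟩ := hq a'
  refine ⟨a, ?_, rfl⟩
  rw [mem_maximalIdeal_iff] at ha' ⊢
  rwa [res_app] at ha'

theorem map_mem_maximalIdeal {B B' : Art Λ k} (q : B ⟶ B') {a : B} (ha : a ∈ IsLocalRing.maximalIdeal B) :
    q a ∈ IsLocalRing.maximalIdeal B' := by
  rw [mem_maximalIdeal_iff] at ha ⊢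
  rwa [res_app]

/-- Socle element: if `K < J` are ideals of `B` then there is `y ∈ J \ K` with `m y ⊆ K`. -/
theorem exists_socle_elt (B : Art Λ k) (K J : Ideal B) (hKJ : K ≤ J) (hne : K ≠ J) :
    ∃ y ∈ J, y ∉ K ∧ ∀ a ∈ IsLocalRing.maximalIdeal B, a * y ∈ K := by
  obtain ⟨n, hn⟩ := maximalIdeal_nilpotent B
  have hJK : ¬ J ≤ K := fun h => hne (le_antisymm hKJ h)
  have hmain : ∀ i : ℕ, IsLocalRing.maximalIdeal B ^ i * J ≤ K →
      ∃ y ∈ J, y ∉ K ∧ ∀ a ∈ IsLocalRing.maximalIdeal B, a * y ∈ K := by
    intro i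
    induction i with
    | zero =>
      intro h
      rw [pow_zero, Ideal.one_eq_top, Ideal.top_mul] at h
      exact absurd h hJK
    | succ j ih =>
      intro h
      by_cases hj : IsLocalRing.maximalIdeal B ^ j * J ≤ K
      · exact ih hj
      · obtain ⟨y, hy, hyK⟩ := SetLike.not_le_iff_exists.1 hj
        refine ⟨y, Ideal.mul_le_right hy, hyK, fun a ha => ?_⟩
        rw [pow_succ', mul_assoc] at h
        exact h (Ideal.mul_mem_mul ha hy)
  exact hmain n (by rw [hn, Ideal.bot_mul]; exact bot_le)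

theorem isSmallExt_of_ker {B B' B'' : Art Λ k} (q : B ⟶ B') (hq : Function.Surjective q) (r : B' ⟶ B'')
    (hr : Function.Surjective r) (y : B) (hy : y ∉ RingHom.ker q.toAlgHom)
    (hmy : ∀ a ∈ IsLocalRing.maximalIdeal B, a * y ∈ RingHom.ker q.toAlgHom)
    (hker : RingHom.ker (q ≫ r).toAlgHom = RingHom.ker q.toAlgHom ⊔ Ideal.span {y}) :
    IsSmallExt r := by
  have hkr : RingHom.ker r.toAlgHom = Ideal.span {q y} := by
    apply le_antisymm
    · intro x hx
      obtain ⟨b, rfl⟩ := hq x
      have hb : b ∈ RingHom.ker (q ≫ r).toAlgHom := by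
        rw [RingHom.mem_ker] at hx ⊢
        exact hx
      rw [hker, Submodule.mem_sup] at hb
      obtain ⟨a, ha, z, hz, rfl⟩ := hb
      obtain ⟨c, rfl⟩ := Ideal.mem_span_singleton'.1 hz
      rw [RingHom.mem_ker] at ha
      rw [map_add, ha, zero_add, map_mul]
      exact Ideal.mul_mem_left _ _ (Ideal.subset_span rfl)
    · rw [Ideal.span_le, Set.singleton_subset_iff]
      have hb : y ∈ RingHom.ker (q ≫ r).toAlgHom := by
        rw [hker]
        exact Ideal.mem_sup_right (Ideal.subset_span rfl)
      rw [RingHom.mem_ker] at hb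
      change _ ∈ RingHom.ker r.toAlgHom
      rw [RingHom.mem_ker]
      exact hb
  refine ⟨hr, ?_, ?_, ?_⟩
  · rw [hkr]
    intro h
    rw [Ideal.span_singleton_eq_bot] at h
    exact hy (RingHom.mem_ker.2 h)
  · rw [hkr]
    exact ⟨⟨_, rfl⟩⟩
  · rw [hkr, eq_bot_iff, Ideal.mul_le]
    intro a' ha' z hz
    obtain ⟨a, ha, rfl⟩ := exists_mem_maximalIdeal_of_surjective q hq a' ha'
    obtain ⟨c, rfl⟩ := Ideal.mem_span_singleton'.1 hz
    rw [Ideal.mem_bot]
    have h1 : q a * (c * q y) = c * q (a * y) := by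
      rw [map_mul]; ring
    have h2 := hmy a ha
    rw [RingHom.mem_ker] at h2
    rw [h1, h2, mul_zero]

/-- Induction principle: a property of morphisms that holds for isomorphisms and small extensions and is
stable under composition holds for all surjections. -/
theorem surjective_induction
    (P : ∀ ⦃A B : Art Λ k⦄, (B ⟶ A) → Prop)
    (hiso : ∀ ⦃A B : Art Λ k⦄ (e : B ⟶ A), IsIso e → P e)
    (hsmall : ∀ ⦃A B : Art Λ k⦄ (p : B ⟶ A), IsSmallExt p → P p)
    (hcomp : ∀ ⦃A B C : Art Λ k⦄ (p : C ⟶ B) (q : B ⟶ A), P p → P q → P (p ≫ q))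
    ⦃A B : Art Λ k⦄ (f : B ⟶ A) (hf : Function.Surjective f) : P f := by
  have hkm := ker_le_maximalIdeal f
  have key : ∀ K : Ideal B, K ≤ RingHom.ker f.toAlgHom → ∀ (B' : Art Λ k) (q : B ⟶ B') (g : B' ⟶ A),
      Function.Surjective q → RingHom.ker q.toAlgHom = K → q ≫ g = f → P g := by
    intro K
    induction K using WellFoundedGT.induction with
    | ind K ih =>
      intro hK B' q g hq hqK hqg
      have hgsurj : Function.Surjective g := by
        intro a
        obtain ⟨b, rfl⟩ := hf a
        refine ⟨q b, ?_⟩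
        rw [← hqg]; rfl
      by_cases hKJ : K = RingHom.ker f.toAlgHom
      · apply hiso
        apply isIso_of_bijective
        refine ⟨?_, hgsurj⟩
        intro x x' hxx'
        obtain ⟨b, rfl⟩ := hq x
        obtain ⟨b', rfl⟩ := hq x'
        have h1 : f b = f b' := by
          rw [← hqg]; exact hxx'
        have h2 : b - b' ∈ RingHom.ker q.toAlgHom := by
          rw [hqK, hKJ, RingHom.mem_ker, map_sub]
          exact sub_eq_zero.2 h1
        rw [RingHom.mem_ker, map_sub] at h2
        exact sub_eq_zero.1 h2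
      · obtain ⟨y, hyJ, hyK, hy⟩ := exists_socle_elt B K _ hK hKJ
        have hK'J : K ⊔ Ideal.span {y} ≤ RingHom.ker f.toAlgHom :=
          sup_le hK (by rw [Ideal.span_le, Set.singleton_subset_iff]; exact hyJ)
        have hlt : K < K ⊔ Ideal.span {y} := by
          refine lt_of_le_of_ne le_sup_left fun h => hyK ?_
          rw [h]
          exact Ideal.mem_sup_right (Ideal.subset_span rfl)
        obtain ⟨B'', q', hq', hq'K⟩ := exists_quot B _ (hK'J.trans hkm)
        obtain ⟨r, hr⟩ := exists_factor q hq q' (by rw [hqK, hq'K]; exact le_sup_left)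
        obtain ⟨g', hg'⟩ := exists_factor q' hq' f (by rw [hq'K]; exact hK'J)
        have h1 : P g' := ih _ hlt hK'J B'' q' g' hq' hq'K hg'
        have hrsurj : Function.Surjective r := by
          intro x
          obtain ⟨b, rfl⟩ := hq' x
          refine ⟨q b, ?_⟩
          rw [← hr]; rfl
        have h2 : P r := by
          apply hsmall
          refine isSmallExt_of_ker q hq r hrsurj y (by rw [hqK]; exact hyK) (by rw [hqK]; exact hy) ?_
          rw [hr, hq'K, hqK]
        have h3 := hcomp _ _ h2 h1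
        have heq : r ≫ g' = g := by
          apply eq_of_comp_eq q hq
          rw [← Category.assoc, hr, hg', hqg]
        rwa [heq] at h3
  obtain ⟨B', q, hq, hqK⟩ := exists_quot B ⊥ bot_le
  obtain ⟨g, hg⟩ := exists_factor q hq f (by rw [hqK]; exact bot_le)
  have h0 : P g := key ⊥ bot_le B' q g hq hqK hg
  have hmk : P q := by
    apply hiso
    apply isIso_of_bijective
    refine ⟨?_, hq⟩
    rw [injective_iff_map_eq_zero]
    intro x hx
    have : x ∈ RingHom.ker q.toAlgHom := RingHom.mem_ker.2 hx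
    rwa [hqK, Ideal.mem_bot] at this
  have := hcomp _ _ hmk h0
  rwa [hg] at this

end Groth.Agent.H63
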