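import Groth.Agent.H63.ComplNoeth
import Groth.Agent.H63.ArtBasic
import Groth.Prelude.Def_ArtFun3

set_option autoImplicit false
set_option linter.style.haveILetI false
set_option linter.unusedSectionVars false
universe u v
open CategoryTheory

namespace Groth.Agent.H63

open ArtFun ArtFun.Art AdicCompletion

section General

variable {R : Type*} [CommRing R] (I : Ideal R)

theorem evalₐ_eq_zero_iff (n : ℕ) (x : AdicCompletion I R) :
    evalₐ I n x = 0 ↔ eval I R n x = 0 := by
  constructor
  · intro h
    rw [← factor_evalₐ_eq_eval I x (by simp), h, _root_.map_zero]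
  · intro h
    rw [← factor_eval_eq_evalₐ I x (by simp), h, _root_.map_zero]

theorem ker_evalₐ_eq_map (fg : I.FG) (n : ℕ) :
    RingHom.ker (evalₐ I n : AdicCompletion I R →+* R ⧸ I ^ n) =
      (I ^ n).map (algebraMap R (AdicCompletion I R)) := by
  ext x
  rw [RingHom.mem_ker]
  change evalₐ I n x = 0 ↔ _
  rw [evalₐ_eq_zero_iff, ← LinearMap.mem_ker, ← pow_smul_top_eq_ker_eval fg,
    ← Submodule.restrictScalars_mem R ((I ^ n).map (algebraMap R (AdicCompletion I R))),
    ← Ideal.smul_top_eq_map]

end General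

variable {Λ : Type u} {k : Type u} [CommRing Λ] [Field k] [Algebra Λ k]
variable (R₀ : Type u) [CommRing R₀] [Algebra Λ R₀] [IsNoetherianRing R₀] (res₀ : R₀ →ₐ[Λ] k)

/-- the augmentation of the completion -/
noncomputable def complRes : AdicCompletion (RingHom.ker res₀) R₀ →ₐ[Λ] k :=
  (Ideal.Quotient.liftₐ (RingHom.ker res₀) res₀ (fun _ ha => ha)).comp
    ((evalOneₐ (RingHom.ker res₀)).restrictScalars Λ)

theorem complRes_of (r : R₀) :
    complRes R₀ res₀ (algebraMap R₀ (AdicCompletion (RingHom.ker res₀) R₀) r) = res₀ r := by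
  unfold complRes
  rw [AlgHom.comp_apply]
  change (Ideal.Quotient.liftₐ (RingHom.ker res₀) res₀ _) (evalOneₐ (RingHom.ker res₀) (algebraMap R₀ _ r)) = _
  rw [AlgHom.commutes]
  rfl

variable {R₀ res₀}

theorem complRes_surjective (hres₀ : Function.Surjective res₀) : Function.Surjective (complRes R₀ res₀) := by
  intro c
  obtain ⟨r, rfl⟩ := hres₀ c
  exact ⟨_, complRes_of R₀ res₀ r⟩

theorem ker_isMaximal (hres₀ : Function.Surjective res₀) : (RingHom.ker res₀).IsMaximal :=
  RingHom.ker_isMaximal_of_surjective (res₀ : R₀ →+* k) hres₀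

theorem complRes_eq_zero_iff (x : AdicCompletion (RingHom.ker res₀) R₀) :
    complRes R₀ res₀ x = 0 ↔ x ∈ (RingHom.ker res₀).map (algebraMap R₀ (AdicCompletion (RingHom.ker res₀) R₀)) := by
  have fg : (RingHom.ker res₀ : Ideal R₀).FG := (isNoetherianRing_iff_ideal_fg R₀).1 inferInstance _
  rw [← ker_evalOneₐ_eq_map _ fg, RingHom.mem_ker]
  change _ ↔ evalOneₐ (RingHom.ker res₀) x = 0
  unfold complRes
  rw [AlgHom.comp_apply]
  change (Ideal.Quotient.liftₐ (RingHom.ker res₀) res₀ _) (evalOneₐ (RingHom.ker res₀) x) = 0 ↔ _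
  obtain ⟨r, hr⟩ := Ideal.Quotient.mk_surjective (evalOneₐ (RingHom.ker res₀) x)
  rw [← hr]
  change res₀ r = 0 ↔ _
  rw [Ideal.Quotient.eq_zero_iff_mem, RingHom.mem_ker]

/-- The completion of a Noetherian augmented algebra at the augmentation ideal, as a coefficient ring. -/
noncomputable def complCRing (hres₀ : Function.Surjective res₀) : CRing Λ k :=
  have fg : (RingHom.ker res₀ : Ideal R₀).FG := (isNoetherianRing_iff_ideal_fg R₀).1 inferInstance _
  haveI := ker_isMaximal hres₀
  haveI hmax : ((RingHom.ker res₀).map (algebraMap R₀ (AdicCompletion (RingHom.ker res₀) R₀))).IsMaximal :=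
    AdicCompletion.isMaximal_map_of_le (RingHom.ker res₀) (RingHom.ker res₀) le_rfl fg
  haveI hcomp : IsAdicComplete ((RingHom.ker res₀).map (algebraMap R₀ (AdicCompletion (RingHom.ker res₀) R₀)))
      (AdicCompletion (RingHom.ker res₀) R₀) := AdicCompletion.isAdicComplete_self _ fg
  haveI hloc : IsLocalRing (AdicCompletion (RingHom.ker res₀) R₀) :=
    isLocalRing_of_isAdicComplete_maximal
      ((RingHom.ker res₀).map (algebraMap R₀ (AdicCompletion (RingHom.ker res₀) R₀)))
  haveI := isNoetherianRing_adicCompletion (RingHom.ker res₀)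
  { carrier := AdicCompletion (RingHom.ker res₀) R₀
    res := complRes R₀ res₀
    res_surjective := complRes_surjective hres₀
    isAdicComplete := by
      rw [← IsLocalRing.eq_maximalIdeal hmax]
      exact hcomp }

end Groth.Agent.H63
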