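import Groth.Agent.H63.ComplSmooth
import Groth.Prelude.Def_ArtFun5

set_option autoImplicit false
set_option linter.style.haveILetI false
set_option linter.unusedSectionVars false
universe u v
open CategoryTheory

namespace Groth.Agent.H63

open ArtFun ArtFun.Art AdicCompletion

variable {Λ : Type u} {k : Type u} [CommRing Λ] [Field k] [Algebra Λ k]
variable {R₀ : Type u} [CommRing R₀] [Algebra Λ R₀] [IsNoetherianRing R₀] {res₀ : R₀ →ₐ[Λ] k}

/-- two elements of a coefficient ring with the same image in all truncations are equal -/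
theorem CR.eq_of_truncHom_eq (T : CRing Λ k) (a b : T.carrier)
    (h : ∀ n, (T.truncHom n).1 a = (T.truncHom n).1 b) : a = b := by
  haveI : IsHausdorff (IsLocalRing.maximalIdeal T.carrier) T.carrier := T.isAdicComplete.toIsHausdorff
  rw [← sub_eq_zero]
  apply IsHausdorff.haus' (I := IsLocalRing.maximalIdeal T.carrier)
  intro n
  rw [SModEq.zero, smul_eq_mul, Ideal.mul_top]
  have h1 : (Ideal.Quotient.mk (CRing.mpow T n)) a = (Ideal.Quotient.mk (CRing.mpow T n)) b := h n
  rw [Ideal.Quotient.eq] at h1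
  exact Ideal.pow_le_pow_right (Nat.le_succ n) h1

/-- maps from the completion to a coefficient ring are determined on `R₀` -/
theorem algHom_compl_ext (T : CRing Λ k)
    (ψ ψ' : AdicCompletion (RingHom.ker res₀) R₀ →ₐ[Λ] T.carrier)
    (hψ : T.res.comp ψ = complRes R₀ res₀) (hψ' : T.res.comp ψ' = complRes R₀ res₀)
    (h : ∀ r : R₀, ψ (algebraMap R₀ _ r) = ψ' (algebraMap R₀ _ r)) : ψ = ψ' := by
  apply AlgHom.ext
  intro x
  apply CR.eq_of_truncHom_eq T
  intro n
  let φ : HomSet (AdicCompletion (RingHom.ker res₀) R₀) (complRes R₀ res₀) (T.trunc n) :=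
    ⟨(T.truncHom n).1.comp ψ, by rw [← AlgHom.comp_assoc, (T.truncHom n).2, hψ]⟩
  let φ' : HomSet (AdicCompletion (RingHom.ker res₀) R₀) (complRes R₀ res₀) (T.trunc n) :=
    ⟨(T.truncHom n).1.comp ψ', by rw [← AlgHom.comp_assoc, (T.truncHom n).2, hψ']⟩
  have : φ = φ' := by
    apply homSet_compl_ext
    intro r
    change (T.truncHom n).1 (ψ (algebraMap R₀ _ r)) = (T.truncHom n).1 (ψ' (algebraMap R₀ _ r))
    rw [h]
  exact congrArg (fun t : HomSet (AdicCompletion (RingHom.ker res₀) R₀) (complRes R₀ res₀) (T.trunc n) => t.1 x) this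

/-- extension of augmented maps `R₀ → T` to the completion, for a coefficient ring `T` -/
theorem exists_algHom_compl (T : CRing Λ k) (ψ₀ : R₀ →ₐ[Λ] T.carrier) (hψ₀ : T.res.comp ψ₀ = res₀) :
    ∃ ψ : AdicCompletion (RingHom.ker res₀) R₀ →ₐ[Λ] T.carrier,
      T.res.comp ψ = complRes R₀ res₀ ∧ ∀ r : R₀, ψ (algebraMap R₀ _ r) = ψ₀ r := by
  haveI : IsAdicComplete (IsLocalRing.maximalIdeal T.carrier) T.carrier := T.isAdicComplete
  have hle : (RingHom.ker res₀ : Ideal R₀).map (ψ₀ : R₀ →+* T.carrier) ≤ IsLocalRing.maximalIdeal T.carrier := by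
    rw [Ideal.map_le_iff_le_comap]
    intro r hr
    rw [Ideal.mem_comap, CR.mem_maximalIdeal_iff]
    have := AlgHom.congr_fun hψ₀ r
    rw [AlgHom.comp_apply] at this
    change T.res (ψ₀ r) = 0
    rw [this]
    exact hr
  let ψr : AdicCompletion (RingHom.ker res₀) R₀ →+* T.carrier :=
    ((AdicCompletion.ofAlgEquiv (IsLocalRing.maximalIdeal T.carrier)).symm : _ →+* T.carrier).comp
      (complMap (RingHom.ker res₀) (IsLocalRing.maximalIdeal T.carrier) (ψ₀ : R₀ →+* T.carrier) hle)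
  have hof : ∀ r : R₀, ψr (algebraMap R₀ _ r) = ψ₀ r := by
    intro r
    change (AdicCompletion.ofAlgEquiv (IsLocalRing.maximalIdeal T.carrier)).symm
      (complMap (RingHom.ker res₀) (IsLocalRing.maximalIdeal T.carrier) (ψ₀ : R₀ →+* T.carrier) hle
        (algebraMap R₀ _ r)) = ψ₀ r
    rw [complMap_of]
    exact AdicCompletion.ofAlgEquiv_symm_of _ _
  let ψ : AdicCompletion (RingHom.ker res₀) R₀ →ₐ[Λ] T.carrier :=
    { ψr with
      commutes' := fun l => by
        change ψr (algebraMap Λ _ l) = algebraMap Λ T.carrier l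
        rw [IsScalarTower.algebraMap_apply Λ R₀ (AdicCompletion (RingHom.ker res₀) R₀), hof, AlgHom.commutes] }
  have hψof : ∀ r : R₀, ψ (algebraMap R₀ _ r) = ψ₀ r := hof
  refine ⟨ψ, ?_, hψof⟩
  apply AlgHom.ext
  intro x
  obtain ⟨r, hr⟩ := exists_sub_mem_map_pow (res₀ := res₀) x 1
  rw [pow_one] at hr
  have hx : x = algebraMap R₀ _ r + (x - algebraMap R₀ _ r) := by ring
  have h1 : complRes R₀ res₀ (x - algebraMap R₀ _ r) = 0 := (complRes_eq_zero_iff _).2 hr
  have h2 : T.res (ψ (x - algebraMap R₀ _ r)) = 0 := by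
    rw [← CR.mem_maximalIdeal_iff]
    have h3 : (RingHom.ker res₀ : Ideal R₀).map (algebraMap R₀ (AdicCompletion (RingHom.ker res₀) R₀)) ≤
        (IsLocalRing.maximalIdeal T.carrier).comap (ψ : _ →+* T.carrier) := by
      rw [Ideal.map_le_iff_le_comap]
      intro s hs
      rw [Ideal.mem_comap, Ideal.mem_comap]
      change ψ (algebraMap R₀ _ s) ∈ _
      rw [hψof]
      exact hle (Ideal.mem_map_of_mem _ hs)
    exact h3 hr
  rw [AlgHom.comp_apply]
  conv_lhs => rw [hx]
  conv_rhs => rw [hx]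
  rw [map_add, map_add, map_add, h1, h2, hψof, complRes_of]
  have := AlgHom.congr_fun hψ₀ r
  rw [AlgHom.comp_apply] at this
  rw [this]

end Groth.Agent.H63
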