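import Groth.Agent.H61.PSPresentCRing
import Groth.Agent.H61.EndoAuto
import Groth.Prelude.Def_W4sfdMinVersal

/-!
# Smooth `h_R` over a complete local base is a power series ring

`Λ` complete local Noetherian with `Λ → k` surjective.  For `R : CRing Λ k`, `h_R` is a smooth
functor iff `R ≃ₐ[Λ] Λ[[X_1..X_d]]`.
-/

set_option autoImplicit false
set_option linter.style.haveILetI false
set_option linter.unusedSectionVars false
universe u v
open CategoryTheory

namespace Groth.Agent.H63
open ArtFun ArtFun.Art MvPowerSeries Groth.Agent.H61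

variable {Λ : Type u} {k : Type u} [CommRing Λ] [Field k] [Algebra Λ k]
variable [IsLocalRing Λ] [IsNoetherianRing Λ]

/-- the augmentation of a coefficient ring is unique when `Λ → k` is surjective. -/
theorem CR.res_unique (hk : Function.Surjective (algebraMap Λ k)) (R : CRing Λ k)
    (ρ : R.carrier →ₐ[Λ] k) : ρ = R.res := by
  have hρs : Function.Surjective ρ := by
    intro c
    obtain ⟨l, rfl⟩ := hk c
    exact ⟨algebraMap Λ R.carrier l, ρ.commutes l⟩
  have hker : RingHom.ker ρ.toRingHom = IsLocalRing.maximalIdeal R.carrier := by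
    have : (RingHom.ker ρ.toRingHom).IsMaximal :=
      RingHom.ker_isMaximal_of_surjective ρ.toRingHom hρs
    exact IsLocalRing.eq_maximalIdeal this
  apply AlgHom.ext
  intro x
  obtain ⟨l, hl⟩ := hk (R.res x)
  have hx : x - algebraMap Λ R.carrier l ∈ IsLocalRing.maximalIdeal R.carrier := by
    rw [CR.mem_maximalIdeal_iff, map_sub, AlgHom.commutes, hl, sub_self]
  rw [← hker] at hx
  have h2 : ρ (x - algebraMap Λ R.carrier l) = 0 := hx
  rw [map_sub, AlgHom.commutes, sub_eq_zero] at h2
  rw [h2, hl]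

section complete
variable [IsAdicComplete (IsLocalRing.maximalIdeal Λ) Λ]

/-- The power series ring over a complete local Noetherian ring as a coefficient ring. -/
noncomputable def psCR (hk : Function.Surjective (algebraMap Λ k)) (d : ℕ) : CRing Λ k where
  carrier := MvPowerSeries (Fin d) Λ
  res := psRes Λ k d
  res_surjective := psRes_surjective hk d
  isAdicComplete := ps_isAdicComplete d

/-- Minimal presentations of coefficient rings over a complete local base. -/
theorem exists_ps_presentation_gen (hk : Function.Surjective (algebraMap Λ k)) (R : CRing Λ k) :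
    ∃ (d : ℕ) (π : MvPowerSeries (Fin d) Λ →ₐ[Λ] R.carrier), R.res.comp π = psRes Λ k d ∧
      Function.Surjective π ∧
      RingHom.ker π ≤ IsLocalRing.maximalIdeal (MvPowerSeries (Fin d) Λ) ^ 2 ⊔
        Ideal.map (algebraMap Λ (MvPowerSeries (Fin d) Λ)) (IsLocalRing.maximalIdeal Λ) := by
  obtain ⟨d, p1, hp1s, hp1k⟩ := exists_presentation hk (R.trunc 1)
  -- the compatible system
  have step : ∀ (n : ℕ) (ψ : HomSet (MvPowerSeries (Fin d) Λ) (psRes Λ k d) (R.trunc (n + 1))),
      ∃ ψ' : HomSet (MvPowerSeries (Fin d) Λ) (psRes Λ k d) (R.trunc (n + 2)),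
        HomSet.map (R.truncMap (n + 1)) ψ' = ψ := fun n ψ =>
    ps_lifts d (R.truncMap (n + 1)) (truncMap_surjective R (n + 1)) ψ
  choose nxt hnxt using step
  let χ : ∀ n : ℕ, HomSet (MvPowerSeries (Fin d) Λ) (psRes Λ k d) (R.trunc (n + 1)) :=
    fun n => Nat.rec (motive := fun n => HomSet (MvPowerSeries (Fin d) Λ) (psRes Λ k d) (R.trunc (n + 1)))
      p1 (fun n prev => nxt n prev) n
  have hχ0 : χ 0 = p1 := rfl
  have hχs : ∀ n, χ (n + 1) = nxt n (χ n) := fun n => rfl
  let ψ : ∀ n : ℕ, HomSet (MvPowerSeries (Fin d) Λ) (psRes Λ k d) (R.trunc n) := fun n =>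
    match n with
    | 0 => HomSet.map (R.truncMap 0) p1
    | (m + 1) => χ m
  have hψ : ∀ n, HomSet.map (R.truncMap n) (ψ (n + 1)) = ψ n := by
    intro n
    cases n with
    | zero => rfl
    | succ m =>
      change HomSet.map (R.truncMap (m + 1)) (χ (m + 1)) = χ m
      rw [hχs, hnxt]
  obtain ⟨π, hπ⟩ := exists_algHom_of_compatible R ψ hψ
  have hres : R.res.comp π = psRes Λ k d := res_comp_of_trunc_zero R π (ψ 0) (hπ 0)
  have hπ1 : ∀ s, Ideal.Quotient.mk (R.mpow 1) (π s) = p1.1 s := by
    intro s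
    exact DFunLike.congr_fun (hπ 1) s
  refine ⟨d, π, hres, ?_, ?_⟩
  · apply CR.surjective_of_cotangent (psCR hk d) R π hres
    apply le_antisymm
    · apply sup_le
      · exact CR.map_maximalIdeal_le (psCR hk d) R π hres
      · exact Ideal.pow_le_self two_ne_zero
    · intro b hb
      obtain ⟨s, hs⟩ := hp1s (Ideal.Quotient.mk (R.mpow 1) b)
      have hsb : π s - b ∈ IsLocalRing.maximalIdeal R.carrier ^ 2 := by
        have hs' : Ideal.Quotient.mk (R.mpow 1) (π s) = Ideal.Quotient.mk (R.mpow 1) b :=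
          (hπ1 s).trans hs
        exact Ideal.Quotient.eq.1 hs'
      have hsn : s ∈ IsLocalRing.maximalIdeal (MvPowerSeries (Fin d) Λ) := by
        rw [ps_maximalIdeal_eq_ker hk d, RingHom.mem_ker, ← hres]
        change R.res (π s) = 0
        rw [← R.mem_maximalIdeal_iff]
        have : π s = (π s - b) + b := by ring
        rw [this]
        exact Ideal.add_mem _ (Ideal.pow_le_self two_ne_zero hsb) hb
      have : b = π s + (b - π s) := by ring
      rw [this]
      refine Ideal.add_mem _ (Ideal.mem_sup_left (Ideal.mem_map_of_mem _ hsn)) (Ideal.mem_sup_right ?_)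
      rw [← Ideal.neg_mem_iff, neg_sub]
      exact hsb
  · intro s hs
    apply hp1k
    rw [RingHom.mem_ker] at hs ⊢
    have h1 := hπ1 s
    rw [hs, map_zero] at h1
    exact h1.symm

end complete

/-- An endomorphism of a coefficient ring that is the identity modulo `m²` is bijective. -/
theorem CR.endo_bijective_of_sub_mem (R : CRing Λ k) (α : R.carrier →ₐ[Λ] R.carrier)
    (hα : R.res.comp α = R.res)
    (h : ∀ x, α x - x ∈ IsLocalRing.maximalIdeal R.carrier ^ 2) : Function.Bijective α := by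
  have hs : Function.Surjective α := by
    apply CR.surjective_of_cotangent R R α hα
    apply le_antisymm
    · exact sup_le (CR.map_maximalIdeal_le R R α hα) (Ideal.pow_le_self two_ne_zero)
    · intro x hx
      have : x = α x + -(α x - x) := by ring
      rw [this]
      exact Ideal.add_mem _ (Ideal.mem_sup_left (Ideal.mem_map_of_mem _ hx))
        (Ideal.mem_sup_right (neg_mem (h x)))
  exact ⟨injective_of_surjective_endo α.toRingHom hs, hs⟩

/-- If `h_R` is smooth and `π : P → R` is a surjection of coefficient rings with kernel inside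
`m_P² + m_Λ P`, then there is a bijective `Λ`-algebra map `R → P`. -/
theorem CR.exists_bijective_of_smooth (hk : Function.Surjective (algebraMap Λ k)) (P R : CRing Λ k)
    (π : P.carrier →ₐ[Λ] R.carrier) (hπres' : R.res.comp π = P.res) (hπs : Function.Surjective π)
    (hπk : RingHom.ker π ≤ IsLocalRing.maximalIdeal P.carrier ^ 2 ⊔
        Ideal.map (algebraMap Λ P.carrier) (IsLocalRing.maximalIdeal Λ))
    (hsm : IsSmoothFunctor (hR R.carrier R.res)) :
    ∃ ψ : R.carrier →ₐ[Λ] P.carrier, Function.Bijective ψ := by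
  let π1 : P.trunc 1 ⟶ R.trunc 1 := CRing.truncMapOfHom π hπres' 1
  have hπ1s : Function.Surjective π1 := by
    intro x
    obtain ⟨a, rfl⟩ := Ideal.Quotient.mk_surjective x
    obtain ⟨b, rfl⟩ := hπs a
    exact ⟨Ideal.Quotient.mk _ b, rfl⟩
  -- the first step
  obtain ⟨ψ1, hψ1⟩ := hsm π1 hπ1s (R.truncHom 1)
  have hψ1' : HomSet.map π1 ψ1 = R.truncHom 1 := hψ1
  -- the tower
  have step : ∀ (n : ℕ) (ψ : HomSet R.carrier R.res (P.trunc (n + 1))),
      ∃ ψ' : HomSet R.carrier R.res (P.trunc (n + 2)),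
        HomSet.map (P.truncMap (n + 1)) ψ' = ψ := fun n ψ =>
    hsm (P.truncMap (n + 1)) (truncMap_surjective P (n + 1)) ψ
  choose nxt hnxt using step
  let χ : ∀ n : ℕ, HomSet R.carrier R.res (P.trunc (n + 1)) :=
    fun n => Nat.rec (motive := fun n => HomSet R.carrier R.res (P.trunc (n + 1)))
      ψ1 (fun n prev => nxt n prev) n
  have hχ0 : χ 0 = ψ1 := rfl
  have hχs : ∀ n, χ (n + 1) = nxt n (χ n) := fun n => rfl
  let ψs : ∀ n : ℕ, HomSet R.carrier R.res (P.trunc n) := fun n =>
    match n with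
    | 0 => HomSet.map (P.truncMap 0) ψ1
    | (m + 1) => χ m
  have hψs : ∀ n, HomSet.map (P.truncMap n) (ψs (n + 1)) = ψs n := by
    intro n
    cases n with
    | zero => rfl
    | succ m =>
      change HomSet.map (P.truncMap (m + 1)) (χ (m + 1)) = χ m
      rw [hχs, hnxt]
  obtain ⟨ψ, hψ⟩ := exists_algHom_of_compatible P ψs hψs
  have hψres : P.res.comp ψ = R.res := res_comp_of_trunc_zero P ψ (ψs 0) (hψ 0)
  have hψ1eq : ∀ x, Ideal.Quotient.mk (P.mpow 1) (ψ x) = ψ1.1 x := by
    intro x
    exact DFunLike.congr_fun (hψ 1) x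
  -- π ∘ ψ is the identity modulo m²
  have hα : ∀ x, π (ψ x) - x ∈ IsLocalRing.maximalIdeal R.carrier ^ 2 := by
    intro x
    have h1 : π1 (ψ1.1 x) = (R.truncHom 1).1 x :=
      congrArg (fun t : HomSet R.carrier R.res (R.trunc 1) => t.1 x) hψ1'
    rw [← hψ1eq] at h1
    have h2 : Ideal.Quotient.mk (R.mpow 1) (π (ψ x)) = Ideal.Quotient.mk (R.mpow 1) x := h1
    exact Ideal.Quotient.eq.1 h2
  have hbij : Function.Bijective (π.comp ψ) := by
    apply CR.endo_bijective_of_sub_mem R (π.comp ψ)
    · rw [← AlgHom.comp_assoc, hπres', hψres]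
    · exact hα
  have hψinj : Function.Injective ψ := by
    intro x y hxy
    apply hbij.1
    change π (ψ x) = π (ψ y)
    rw [hxy]
  have hmapπ : Ideal.map π (IsLocalRing.maximalIdeal P.carrier) = IsLocalRing.maximalIdeal R.carrier :=
    CR.map_maximalIdeal_of_surjective P R π hπres' hπs
  have hψsurj : Function.Surjective ψ := by
    apply CR.surjective_of_cotangent R P ψ hψres
    apply le_antisymm
    · exact sup_le (CR.map_maximalIdeal_le R P ψ hψres) (Ideal.pow_le_self two_ne_zero)
    · intro y hy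
      have hπy : π y ∈ IsLocalRing.maximalIdeal R.carrier := by
        rw [← hmapπ]
        exact Ideal.mem_map_of_mem _ hy
      -- z = y - ψ (π y)
      have hz : π (y - ψ (π y)) ∈ Ideal.map π (IsLocalRing.maximalIdeal P.carrier ^ 2) := by
        rw [Ideal.map_pow, hmapπ, map_sub, ← Ideal.neg_mem_iff, neg_sub]
        exact hα (π y)
      obtain ⟨w, hw, hwz⟩ := (Ideal.mem_map_iff_of_surjective π hπs).1 hz
      have hker : (y - ψ (π y)) - w ∈ RingHom.ker π := by
        rw [RingHom.mem_ker, map_sub, hwz, sub_self]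
      have hz2 : y - ψ (π y) ∈ IsLocalRing.maximalIdeal P.carrier ^ 2 ⊔
          Ideal.map (algebraMap Λ P.carrier) (IsLocalRing.maximalIdeal Λ) := by
        have : y - ψ (π y) = ((y - ψ (π y)) - w) + w := by ring
        rw [this]
        exact Ideal.add_mem _ (hπk hker) (Ideal.mem_sup_left hw)
      have hΛ : Ideal.map (algebraMap Λ P.carrier) (IsLocalRing.maximalIdeal Λ) ≤
          Ideal.map ψ (IsLocalRing.maximalIdeal R.carrier) := by
        rw [← ker_algebraMap_eq_maximalIdeal hk]
        exact CR.map_ker_le_map R P ψ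
      have : y = ψ (π y) + (y - ψ (π y)) := by ring
      rw [this]
      refine Ideal.add_mem _ (Ideal.mem_sup_left (Ideal.mem_map_of_mem _ hπy)) ?_
      exact (sup_le le_sup_right (hΛ.trans le_sup_left)) hz2
  exact ⟨ψ, hψinj, hψsurj⟩

section complete
variable [IsAdicComplete (IsLocalRing.maximalIdeal Λ) Λ]

/-- If `h_R` is smooth then `R` is a power series ring over `Λ`. -/
theorem exists_equiv_ps_of_smooth (hk : Function.Surjective (algebraMap Λ k)) (R : CRing Λ k)
    (hsm : IsSmoothFunctor (hR R.carrier R.res)) :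
    ∃ d : ℕ, Nonempty (R.carrier ≃ₐ[Λ] MvPowerSeries (Fin d) Λ) := by
  obtain ⟨d, π, hπres, hπs, hπk⟩ := exists_ps_presentation_gen hk R
  obtain ⟨ψ, hψ⟩ := CR.exists_bijective_of_smooth hk (psCR hk d) R π hπres hπs hπk hsm
  exact ⟨d, ⟨AlgEquiv.ofBijective ψ hψ⟩⟩

end complete

/-- A power series ring over `Λ` has smooth `h_R` (no completeness of `Λ` needed). -/
theorem smooth_of_equiv_ps (hk : Function.Surjective (algebraMap Λ k)) (R : CRing Λ k) (d : ℕ)
    (e : R.carrier ≃ₐ[Λ] MvPowerSeries (Fin d) Λ) :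
    IsSmoothFunctor (hR R.carrier R.res) := by
  have hres : (psRes Λ k d).comp e.toAlgHom = R.res := CR.res_unique hk R _
  have hres' : R.res.comp e.symm.toAlgHom = psRes Λ k d := by
    rw [← hres]
    apply AlgHom.ext
    intro x
    simp
  intro B A μ hμ φ
  let φ' : HomSet (MvPowerSeries (Fin d) Λ) (psRes Λ k d) A :=
    ⟨φ.1.comp e.symm.toAlgHom, by rw [← AlgHom.comp_assoc, φ.2, hres']⟩
  obtain ⟨ψ', hψ'⟩ := ps_lifts d μ hμ φ'
  refine ⟨⟨ψ'.1.comp e.toAlgHom, by rw [← AlgHom.comp_assoc, ψ'.2, hres]⟩, ?_⟩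
  apply Subtype.ext
  apply AlgHom.ext
  intro x
  have h1 := congrArg (fun t : HomSet (MvPowerSeries (Fin d) Λ) (psRes Λ k d) A => t.1 (e x)) hψ'
  change μ (ψ'.1 (e x)) = φ.1 (e.symm (e x)) at h1
  rw [e.symm_apply_apply] at h1
  exact h1

end Groth.Agent.H63
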