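import Mathlib
import Groth.Agent.H86.HS1

set_option autoImplicit false
set_option linter.style.haveILetI false

namespace Groth.Agent.H63.DerGood
open FunFld Groth.Agent.H55 Groth.Agent.H86.FF

variable {k K : Type*} [Field k] [Field K] [Algebra k K] [IsAlgClosed k]

/-- A `k`-derivation of a function field preserves the valuation ring of almost every place. -/
theorem finite_der_bad (hK : IsFunctionField k K) (δ : Derivation k K K) :
    {Q : Place k K | ∃ f : K, Q.1 f ≤ 1 ∧ 1 < Q.1 (δ f)}.Finite := by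
  classical
  obtain ⟨P⟩ := exists_place hK
  obtain ⟨s, hsA, hgen⟩ := exists_finset_AP_le_adjoin hK P
  have hfin : ({P} ∪ ⋃ x ∈ s, {Q : Place k K | 1 < Q.1 (δ x)}).Finite := by
    apply Set.Finite.union (Set.finite_singleton P)
    exact Set.Finite.biUnion s.finite_toSet (fun x _ => finite_poles' hK (δ x))
  refine hfin.subset ?_
  rintro Q ⟨f, hf, hδf⟩
  by_contra hQ
  rw [Set.mem_union, not_or, Set.mem_singleton_iff] at hQ
  obtain ⟨hQP, hQs⟩ := hQ
  have hQs' : ∀ x ∈ s, Q.1 (δ x) ≤ 1 := by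
    intro x hx
    by_contra hlt
    rw [not_le] at hlt
    exact hQs (Set.mem_biUnion (Finset.mem_coe.2 hx) hlt)
  -- δ preserves integrality on the adjoin
  have hadj : ∀ a ∈ Algebra.adjoin k (s : Set K), Q.1 a ≤ 1 ∧ Q.1 (δ a) ≤ 1 := by
    intro a ha
    induction ha using Algebra.adjoin_induction with
    | mem a ha => exact ⟨hsA a (Finset.mem_coe.1 ha) Q hQP, hQs' a (Finset.mem_coe.1 ha)⟩
    | algebraMap c =>
      refine ⟨Q.2.1 c, ?_⟩
      rw [Derivation.map_algebraMap, map_zero]
      exact zero_le_one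
    | add a b _ _ iha ihb =>
      refine ⟨Q.1.map_add_le iha.1 ihb.1, ?_⟩
      rw [map_add]
      exact Q.1.map_add_le iha.2 ihb.2
    | mul a b _ _ iha ihb =>
      refine ⟨by rw [map_mul]; exact mul_le_one' iha.1 ihb.1, ?_⟩
      rw [Derivation.leibniz, smul_eq_mul, smul_eq_mul]
      apply Q.1.map_add_le
      · rw [map_mul]; exact mul_le_one' iha.1 ihb.2
      · rw [map_mul]; exact mul_le_one' ihb.1 iha.2
  obtain ⟨b, hbA, hb1, haA⟩ := exists_frac hK P Q hQP f hf
  have hb0 : b ≠ 0 := by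
    rintro rfl
    rw [map_zero] at hb1
    exact zero_ne_one hb1
  have hfe : f = (f * b) / b := by field_simp
  have h1 := hadj b (hgen b hbA)
  have h2 := hadj (f * b) (hgen _ haA)
  have : Q.1 (δ f) ≤ 1 := by
    rw [hfe, Derivation.leibniz_div, smul_eq_mul, smul_eq_mul, smul_eq_mul, map_mul, map_pow,
      map_inv₀, hb1, inv_one, one_pow, one_mul]
    apply Q.1.map_sub_le
    · rw [map_mul, hb1, one_mul]; exact h2.2
    · rw [map_mul]; exact mul_le_one' h2.1 h1.2
  exact absurd hδf (not_lt.2 this)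

end Groth.Agent.H63.DerGood
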