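import Mathlib

/-!
# Uniqueness of algebra maps out of a field algebraic over `k(t)` (helper63)

`unique`: two `k`-algebra maps `G1 G2 : K → B` (`K` a field algebraic over `k(t)`, `B` reduced with
an ideal `I` such that `⨅ I^n = ⊥`) which agree at `t` and are congruent modulo `I` are equal.
Proof: Hensel-style uniqueness for roots of separable polynomials (`sep_case`, via
`Polynomial.binomExpansion`), then the separable contraction of the minimal polynomial and
reducedness (`gen_case`).  This is the engine behind uniqueness/iterativity/chain rule for Hasse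
derivatives.
-/

set_option autoImplicit false
set_option linter.style.haveILetI false
set_option linter.unusedSectionVars false

namespace Groth.Agent.H63.HasseUnique

section U
variable {k K B : Type*} [Field k] [Field K] [Algebra k K] [CommRing B] [Algebra k B]

/-- the equalizer of two algebra maps out of a field, as an intermediate field. -/
def eqField (G1 G2 : K →ₐ[k] B) : IntermediateField k K where
  toSubalgebra := AlgHom.equalizer G1 G2
  inv_mem' := by
    intro y hy
    have hy' : G1 y = G2 y := hy
    show G1 y⁻¹ = G2 y⁻¹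
    by_cases h0 : y = 0
    · rw [h0, inv_zero, map_zero, map_zero]
    · have h1 : G1 y⁻¹ * G1 y = 1 := by rw [← map_mul, inv_mul_cancel₀ h0, map_one]
      have h2 : G2 y * G2 y⁻¹ = 1 := by rw [← map_mul, mul_inv_cancel₀ h0, map_one]
      calc G1 y⁻¹ = G1 y⁻¹ * (G2 y * G2 y⁻¹) := by rw [h2, mul_one]
        _ = (G1 y⁻¹ * G1 y) * G2 y⁻¹ := by rw [hy', mul_assoc]
        _ = G2 y⁻¹ := by rw [h1, one_mul]

theorem mem_eqField {G1 G2 : K →ₐ[k] B} {y : K} : y ∈ eqField G1 G2 ↔ G1 y = G2 y := Iff.rfl

variable (I : Ideal B) (hI : ⨅ n : ℕ, I ^ n = ⊥)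
  (G1 G2 : K →ₐ[k] B) (hcong : ∀ y, G1 y - G2 y ∈ I)

include hI hcong in
theorem sep_case (L : IntermediateField k K) (hL : ∀ y ∈ L, G1 y = G2 y) (θ : K)
    (q : Polynomial L) (hq : q.Separable) (hθ : Polynomial.aeval θ q = 0) : G1 θ = G2 θ := by
  let g : L →+* B := G1.toRingHom.comp (algebraMap L K)
  have hg2 : g = G2.toRingHom.comp (algebraMap L K) := by
    ext y
    exact hL y y.2
  have e1 : Polynomial.eval (G1 θ) (q.map g) = 0 := by
    rw [Polynomial.eval_map]
    have := Polynomial.hom_eval₂ q (algebraMap L K) G1.toRingHom θ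
    rw [← Polynomial.aeval_def, hθ, map_zero] at this
    exact this.symm
  have e2 : Polynomial.eval (G2 θ) (q.map g) = 0 := by
    rw [hg2, Polynomial.eval_map]
    have := Polynomial.hom_eval₂ q (algebraMap L K) G2.toRingHom θ
    rw [← Polynomial.aeval_def, hθ, map_zero] at this
    exact this.symm
  -- derivative is a unit
  have hw : IsUnit (Polynomial.eval (G1 θ) (Polynomial.derivative (q.map g))) := by
    obtain ⟨a, b, hab⟩ := hq
    have h1 := congrArg (Polynomial.aeval θ) hab
    rw [map_add, map_mul, map_mul, hθ, mul_zero, zero_add, map_one] at h1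
    have h2 : Polynomial.eval (G1 θ) (Polynomial.derivative (q.map g)) =
        G1 (Polynomial.aeval θ (Polynomial.derivative q)) := by
      rw [Polynomial.derivative_map, Polynomial.eval_map]
      have := Polynomial.hom_eval₂ (Polynomial.derivative q) (algebraMap L K) G1.toRingHom θ
      rw [← Polynomial.aeval_def] at this
      exact this.symm
    rw [h2]
    refine IsUnit.of_mul_eq_one (G1 (Polynomial.aeval θ b)) ?_
    rw [← map_mul, mul_comm, h1, map_one]
  set δ := G2 θ - G1 θ with hδ
  obtain ⟨r, hr⟩ := Polynomial.binomExpansion (q.map g) (G1 θ) δ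
  have hsum : G1 θ + δ = G2 θ := by rw [hδ]; ring
  rw [hsum, e1, e2, zero_add] at hr
  obtain ⟨w, hw'⟩ := hw
  have hδc : δ = (-(↑w⁻¹ : B) * r) * (δ * δ) := by
    have : (↑w⁻¹ : B) * (↑w * δ + r * δ ^ 2) = 0 := by rw [hw', ← hr, mul_zero]
    have h3 : (↑w⁻¹ : B) * ↑w = 1 := Units.inv_mul w
    linear_combination this - δ * h3
  have hδI : δ ∈ I := by
    have := hcong θ
    rw [hδ, ← neg_sub]
    exact I.neg_mem this
  have hall : ∀ n : ℕ, δ ∈ I ^ n := by
    intro n
    induction n with
    | zero => rw [pow_zero, Ideal.one_eq_top]; trivial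
    | succ n ih =>
      rw [hδc, pow_succ]
      exact Ideal.mul_mem_left _ _ (Ideal.mul_mem_mul ih hδI)
  have hzero : δ ∈ (⨅ n : ℕ, I ^ n) := by
    rw [Ideal.mem_iInf]
    exact hall
  rw [hI, Ideal.mem_bot] at hzero
  rw [hδ, sub_eq_zero] at hzero
  exact hzero.symm

include hI hcong in
theorem gen_case [IsReduced B] (L : IntermediateField k K) (hL : ∀ y ∈ L, G1 y = G2 y) (θ : K)
    (hθ : IsAlgebraic L θ) : G1 θ = G2 θ := by
  rcases subsingleton_or_nontrivial B with hB | hB
  · exact Subsingleton.elim _ _
  · let p := ringExpChar k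
    haveI : ExpChar k p := ringExpChar.expChar k
    haveI : ExpChar L p := expChar_of_injective_algebraMap (algebraMap k L).injective p
    haveI : ExpChar B p := expChar_of_injective_algebraMap (algebraMap k B).injective p
    have hirr : Irreducible (minpoly L θ) := minpoly.irreducible hθ.isIntegral
    obtain ⟨g, hgsep, m, hm⟩ := hirr.hasSeparableContraction p
    have h1 : Polynomial.aeval (θ ^ p ^ m) g = 0 := by
      rw [← Polynomial.expand_aeval, hm, minpoly.aeval]
    have h2 := sep_case I hI G1 G2 hcong L hL (θ ^ p ^ m) g hgsep h1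
    rw [map_pow, map_pow] at h2
    have h3 : (G1 θ - G2 θ) ^ p ^ m = 0 := by
      rw [sub_pow_expChar_pow, h2, sub_self]
    have h4 : G1 θ - G2 θ = 0 := IsNilpotent.eq_zero ⟨_, h3⟩
    exact sub_eq_zero.1 h4

include hI hcong in
/-- Uniqueness: two `k`-algebra maps from a field `K` algebraic over `k(t)` into a reduced ring,
separated for the `I`-adic topology, which agree at `t` and are congruent mod `I`, are equal. -/
theorem unique [IsReduced B] (t : K) [Algebra.IsAlgebraic (IntermediateField.adjoin k ({t} : Set K)) K]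
    (ht : G1 t = G2 t) : G1 = G2 := by
  have hL : ∀ y ∈ IntermediateField.adjoin k ({t} : Set K), G1 y = G2 y := by
    have hle : IntermediateField.adjoin k ({t} : Set K) ≤ eqField G1 G2 := by
      rw [IntermediateField.adjoin_le_iff, Set.singleton_subset_iff]
      exact mem_eqField.2 ht
    intro y hy
    exact mem_eqField.1 (hle hy)
  ext θ
  exact gen_case I hI G1 G2 hcong _ hL θ (Algebra.IsAlgebraic.isAlgebraic θ)

end U

end Groth.Agent.H63.HasseUnique
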