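import Mathlib

/-!
# The Taylor map on Laurent series (helper63)

`hasseDeriv_mul`: Leibniz rule for Mathlib's `LaurentSeries.hasseDeriv` (Chu–Vandermonde for
`Ring.choose` on `ℤ`); `taylor : F⸨X⸩ →+* PowerSeries F⸨X⸩`, `f(X) ↦ f(X+S) = ∑ hasseDeriv n f · S^n`,
with `taylor_C`, `taylor_X`, `coeff_taylor`, `constantCoeff_taylor`.
-/

set_option autoImplicit false
set_option linter.unusedSimpArgs false
set_option linter.deprecated false

namespace Groth.Agent.H63.LaurentTaylor
open HahnSeries LaurentSeries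

variable {F : Type*} [CommRing F]

/-- coefficient of a product of Laurent series as a sum over an interval. -/
theorem coeff_mul_eq_sum (f g : F⸨X⸩) (a N M : ℤ) (hN : ∀ p < N, f.coeff p = 0)
    (hM : ∀ q < M, g.coeff q = 0) :
    (f * g).coeff a = ∑ p ∈ Finset.Icc N (a - M), f.coeff p * g.coeff (a - p) := by
  rw [HahnSeries.coeff_mul]
  refine Finset.sum_of_injOn Prod.fst ?_ ?_ ?_ ?_
  · intro x hx y hy hxy
    have hx' := Finset.mem_addAntidiagonal.1 hx
    have hy' := Finset.mem_addAntidiagonal.1 hy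
    ext
    · exact hxy
    · have : x.1 = y.1 := hxy
      omega
  · intro x hx
    have hx' := Finset.mem_addAntidiagonal.1 hx
    rw [Finset.coe_Icc, Set.mem_Icc]
    constructor
    · by_contra h
      exact hx'.1 (hN _ (not_le.1 h))
    · by_contra h
      refine hx'.2.1 (hM _ ?_)
      omega
  · intro p _ hp
    by_contra h
    apply hp
    refine ⟨(p, a - p), ?_, rfl⟩
    rw [Finset.mem_coe, Finset.mem_addAntidiagonal]
    refine ⟨?_, ?_, by simp⟩
    · intro h0
      exact h (by simp only [HahnSeries.mem_support, ne_eq, not_not] at h0; rw [h0, zero_mul])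
    · intro h0
      exact h (by simp only [HahnSeries.mem_support, ne_eq, not_not] at h0; rw [h0, mul_zero])
  · intro x hx
    have hx' := Finset.mem_addAntidiagonal.1 hx
    have : x.2 = a - x.1 := by omega
    rw [this]

theorem hasseDeriv_coeff_eq_zero (f : F⸨X⸩) (N : ℤ) (hN : ∀ p < N, f.coeff p = 0) (i : ℕ) :
    ∀ p < N - i, (hasseDeriv F i f).coeff p = 0 := by
  intro p hp
  rw [hasseDeriv_coeff, hN _ (by omega), smul_zero]

/-- Leibniz rule for Hasse derivatives of Laurent series. -/
theorem hasseDeriv_mul (n : ℕ) (f g : F⸨X⸩) :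
    hasseDeriv F n (f * g) =
      ∑ ij ∈ Finset.HasAntidiagonal.antidiagonal n, hasseDeriv F ij.1 f * hasseDeriv F ij.2 g := by
  ext m
  have hN : ∀ p < f.order, f.coeff p = 0 := fun p hp => coeff_eq_zero_of_lt_order hp
  have hM : ∀ q < g.order, g.coeff q = 0 := fun q hq => coeff_eq_zero_of_lt_order hq
  set N := f.order
  set M := g.order
  rw [hasseDeriv_coeff, coeff_mul_eq_sum f g (m + n) N M hN hM, HahnSeries.coeff_sum]
  have hterm : ∀ ij ∈ Finset.HasAntidiagonal.antidiagonal n,
      (hasseDeriv F ij.1 f * hasseDeriv F ij.2 g).coeff m =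
        ∑ p ∈ Finset.Icc N (m + n - M),
          (Ring.choose p ij.1 * Ring.choose (m + n - p) ij.2) • (f.coeff p * g.coeff (m + n - p)) := by
    intro ij hij
    have hsum : ij.1 + ij.2 = n := Finset.HasAntidiagonal.mem_antidiagonal.1 hij
    rw [coeff_mul_eq_sum _ _ m (N - ij.1) (M - ij.2) (hasseDeriv_coeff_eq_zero f N hN ij.1)
      (hasseDeriv_coeff_eq_zero g M hM ij.2)]
    have himg : Finset.Icc N (m + n - M) =
        (Finset.Icc (N - ij.1) (m - (M - ij.2))).image (· + (ij.1 : ℤ)) := by
      rw [Finset.image_add_right_Icc]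
      congr 1
      · ring
      · rw [← hsum]; push_cast; ring
    rw [himg, Finset.sum_image (fun x _ y _ h => by simpa using h)]
    refine Finset.sum_congr rfl fun p _ => ?_
    rw [hasseDeriv_coeff, hasseDeriv_coeff, smul_mul_smul_comm]
    have e1 : m + ↑n - (p + ↑ij.1) = m - p + ↑ij.2 := by rw [← hsum]; push_cast; ring
    rw [e1]
  rw [Finset.sum_congr rfl hterm, Finset.sum_comm, Finset.smul_sum]
  refine Finset.sum_congr rfl fun p _ => ?_
  rw [← Finset.sum_smul]
  congr 1
  have := Ring.add_choose_eq (R := ℤ) (r := p) (s := m + n - p) n (Commute.all _ _)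
  rw [← this]
  congr 1
  ring

theorem hasseDeriv_natCast_single (a n : ℕ) (r : F) :
    hasseDeriv F n (single (a : ℤ) r) = single ((a : ℤ) - n) ((a.choose n : F) * r) := by
  rw [hasseDeriv_single, Ring.choose_natCast]
  congr 1
  rw [Nat.cast_smul_eq_nsmul, nsmul_eq_mul]

/-- the Taylor map `f(X) ↦ f(X+S) = ∑ hasseDeriv n f · S^n`. -/
noncomputable def taylor : F⸨X⸩ →+* PowerSeries F⸨X⸩ where
  toFun f := PowerSeries.mk (fun n => hasseDeriv F n f)
  map_one' := by
    ext n
    rw [PowerSeries.coeff_mk, PowerSeries.coeff_one]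
    have h1 : (1 : F⸨X⸩) = single ((0 : ℕ) : ℤ) (1 : F) := by simp
    rw [h1, hasseDeriv_natCast_single]
    rcases n with _ | n
    · simp
    · simp
  map_mul' f g := by
    ext n
    rw [PowerSeries.coeff_mk, PowerSeries.coeff_mul, hasseDeriv_mul]
    simp only [PowerSeries.coeff_mk]
  map_zero' := by
    ext n
    simp
  map_add' f g := by
    ext n
    simp

@[simp] theorem coeff_taylor (n : ℕ) (f : F⸨X⸩) :
    PowerSeries.coeff n (taylor f) = hasseDeriv F n f := by
  simp [taylor]

theorem constantCoeff_taylor (f : F⸨X⸩) : PowerSeries.constantCoeff (taylor f) = f := by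
  rw [← PowerSeries.coeff_zero_eq_constantCoeff_apply, coeff_taylor, hasseDeriv_zero]
  rfl

theorem taylor_C (r : F) : taylor (HahnSeries.C r) = PowerSeries.C (HahnSeries.C r : F⸨X⸩) := by
  ext n
  rw [coeff_taylor, PowerSeries.coeff_C]
  have h1 : (HahnSeries.C r : F⸨X⸩) = single ((0 : ℕ) : ℤ) r := by simp [HahnSeries.C_apply]
  rw [h1, hasseDeriv_natCast_single]
  rcases n with _ | n
  · simp
  · simp

theorem taylor_X : taylor (single 1 (1 : F) : F⸨X⸩) =
    PowerSeries.C (single 1 (1 : F) : F⸨X⸩) + PowerSeries.X := by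
  ext n
  rw [coeff_taylor, map_add, PowerSeries.coeff_C, PowerSeries.coeff_X]
  have h1 : (single 1 (1 : F) : F⸨X⸩) = single ((1 : ℕ) : ℤ) (1 : F) := by simp
  rw [h1, hasseDeriv_natCast_single]
  rcases n with _ | _ | n
  · simp
  · simp
  · simp [Nat.choose_eq_zero_of_lt]

end Groth.Agent.H63.LaurentTaylor
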