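import Mathlib
import Groth.Prelude.Def_LocRes
import Groth.Prelude.Def_W4bk4goldsch23FF
import Groth.Agent.H63.HasseUnique
import Groth.Agent.H63.LaurentTaylor
import Groth.Agent.H55.FFBasic

/-!
# Hasse derivatives on function fields: expansions, iterativity (helper63)

* `map_comp_eq_taylor` / `map_hasseD_eq_hasseDeriv`: if `φ : K →ₐ[k] F⸨X⸩` sends the variable `t`
  of a Hasse family `H` to `a + X`, then `φ (D^(n) y) = hasseDeriv n (φ y)`.
* `isAlgebraic_adjoin`: `K` is algebraic over `k(t)` when a Hasse family w.r.t. `t` exists.
* `hasseD_hasseD`: iterativity `D^(m) D^(n) = C(m+n,n) D^(m+n)`.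
* `mem_range_of_hasseD_eq_zero`: constants of a Hasse family are `k`.
* `wronskian_indep`: the Wronskian rank theorem.
-/

set_option autoImplicit false
set_option linter.style.haveILetI false
set_option linter.unusedSectionVars false

namespace Groth.Agent.H63.HasseFF
open HahnSeries LaurentSeries Groth.Agent.H63.LaurentTaylor

section Expansion
variable {k K F : Type*} [Field k] [Field K] [Algebra k K] [Field F] [Algebra k F]

/-- `⨅ (X)^n = ⊥` in a power series ring. -/
theorem iInf_span_X_pow (R : Type*) [CommRing R] :
    ⨅ n : ℕ, (Ideal.span {(PowerSeries.X : PowerSeries R)}) ^ n = ⊥ := by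
  rw [eq_bot_iff]
  intro f hf
  rw [Ideal.mem_iInf] at hf
  rw [Ideal.mem_bot]
  ext m
  have := hf (m + 1)
  rw [Ideal.span_singleton_pow, Ideal.mem_span_singleton, PowerSeries.X_pow_dvd_iff] at this
  rw [this m (Nat.lt_succ_self m), map_zero]

/-- the Taylor map composed with an expansion, as an algebra map. -/
noncomputable def taylorAlg (φ : K →ₐ[k] F⸨X⸩) : K →ₐ[k] PowerSeries F⸨X⸩ :=
  { (taylor (F := F)).comp φ.toRingHom with
    commutes' := fun c => by
      change taylor (φ (algebraMap k K c)) = _
      rw [LocRes.map_algebraMap, taylor_C, PowerSeries.algebraMap_apply]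
      congr 1
      rw [HahnSeries.algebraMap_apply', PowerSeries.algebraMap_apply, HahnSeries.ofPowerSeries_C] }

theorem taylorAlg_apply (φ : K →ₐ[k] F⸨X⸩) (y : K) : taylorAlg φ y = taylor (φ y) := rfl

/-- **Expansion lemma**: if `φ t = a + X`, then `φ` intertwines the Hasse family with respect to
`t` with the Taylor map of Laurent series. -/
theorem map_comp_eq_taylor (t : K) [Algebra.IsAlgebraic (IntermediateField.adjoin k ({t} : Set K)) K]
    (H : K →ₐ[k] PowerSeries K) (hH : LocRes.IsHasseFamily t H)
    (φ : K →ₐ[k] F⸨X⸩) (a : F) (hφ : φ t = HahnSeries.C a + single 1 1) :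
    (PowerSeries.mapAlgHom φ).comp H = taylorAlg φ := by
  refine HasseUnique.unique (Ideal.span {(PowerSeries.X : PowerSeries F⸨X⸩)})
    (iInf_span_X_pow _) _ _ ?_ t ?_
  · intro y
    rw [Ideal.mem_span_singleton, PowerSeries.X_dvd_iff, map_sub, AlgHom.comp_apply,
      taylorAlg_apply, constantCoeff_taylor]
    change PowerSeries.constantCoeff (PowerSeries.map φ.toRingHom (H y)) - φ y = 0
    rw [← PowerSeries.coeff_zero_eq_constantCoeff_apply, PowerSeries.coeff_map,
      PowerSeries.coeff_zero_eq_constantCoeff_apply, hH.2 y]
    exact sub_self _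
  · rw [AlgHom.comp_apply, taylorAlg_apply, hH.1, hφ, map_add taylor, taylor_C, taylor_X]
    change PowerSeries.map φ.toRingHom (PowerSeries.C t + PowerSeries.X) = _
    rw [map_add, PowerSeries.map_C, PowerSeries.map_X]
    change PowerSeries.C (φ t) + _ = _
    rw [hφ, map_add]
    ring

theorem map_hasseD_eq_hasseDeriv (t : K)
    [Algebra.IsAlgebraic (IntermediateField.adjoin k ({t} : Set K)) K]
    (H : K →ₐ[k] PowerSeries K) (hH : LocRes.IsHasseFamily t H)
    (φ : K →ₐ[k] F⸨X⸩) (a : F) (hφ : φ t = HahnSeries.C a + single 1 1) (n : ℕ) (y : K) :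
    φ (LocRes.hasseD H n y) = LaurentSeries.hasseDeriv F n (φ y) := by
  have h := congrArg (fun G : K →ₐ[k] PowerSeries F⸨X⸩ => PowerSeries.coeff n (G y))
    (map_comp_eq_taylor t H hH φ a hφ)
  simp only [AlgHom.comp_apply, taylorAlg_apply, coeff_taylor] at h
  rw [← h]
  change _ = PowerSeries.coeff n (PowerSeries.map φ.toRingHom (H y))
  rw [PowerSeries.coeff_map]
  rfl

end Expansion

section FF
variable {k K : Type*} [Field k] [Field K] [Algebra k K]

theorem notMem_range_of_isHasseFamily {t : K} {H : K →ₐ[k] PowerSeries K}
    (hH : LocRes.IsHasseFamily t H) : t ∉ Set.range (algebraMap k K) := by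
  rintro ⟨c, rfl⟩
  have h1 := hH.1
  rw [H.commutes] at h1
  have h2 := congrArg (PowerSeries.coeff 1) h1
  simp [PowerSeries.algebraMap_apply] at h2

theorem isAlgebraic_adjoin (hK : FunFld.IsFunctionField k K) {t : K} {H : K →ₐ[k] PowerSeries K}
    (hH : LocRes.IsHasseFamily t H) :
    Algebra.IsAlgebraic (IntermediateField.adjoin k ({t} : Set K)) K := by
  haveI := Groth.Agent.H55.finiteDimensional_adjoin_of_transcendental hK
    (Groth.Agent.H55.transcendental_of_notMem_range hK (notMem_range_of_isHasseFamily hH))
  exact Algebra.IsAlgebraic.of_finite _ _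

/-- the Hasse family followed by the inclusion of power series into Laurent series. -/
noncomputable def toLaurent (H : K →ₐ[k] PowerSeries K) : K →ₐ[k] K⸨X⸩ :=
  { (HahnSeries.ofPowerSeries ℤ K).comp H.toRingHom with
    commutes' := fun c => by
      change (HahnSeries.ofPowerSeries ℤ K) (H (algebraMap k K c)) = _
      rw [H.commutes]
      rfl }

theorem toLaurent_apply (H : K →ₐ[k] PowerSeries K) (y : K) :
    toLaurent H y = ((H y : PowerSeries K) : K⸨X⸩) := rfl

/-- **Iterativity** of the Hasse derivatives with respect to a separating variable. -/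
theorem hasseD_hasseD (hK : FunFld.IsFunctionField k K) {t : K} {H : K →ₐ[k] PowerSeries K}
    (hH : LocRes.IsHasseFamily t H) (m n : ℕ) (y : K) :
    LocRes.hasseD H m (LocRes.hasseD H n y) = ((m + n).choose n : K) * LocRes.hasseD H (m + n) y := by
  haveI := isAlgebraic_adjoin hK hH
  have hφ : toLaurent H t = HahnSeries.C t + single 1 1 := by
    rw [toLaurent_apply, hH.1]
    change (HahnSeries.ofPowerSeries ℤ K) (PowerSeries.C t + PowerSeries.X) = _
    rw [map_add, HahnSeries.ofPowerSeries_C, HahnSeries.ofPowerSeries_X]
  have h := map_hasseD_eq_hasseDeriv t H hH (toLaurent H) t hφ n y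
  have h2 := congrArg (fun f : K⸨X⸩ => f.coeff (m : ℤ)) h
  simp only [toLaurent_apply, hasseDeriv_coeff] at h2
  rw [← Nat.cast_add, PowerSeries.coeff_coe, PowerSeries.coeff_coe, if_neg (by omega),
    if_neg (by omega), Int.natAbs_natCast, Int.natAbs_natCast, Ring.choose_natCast,
    Nat.cast_smul_eq_nsmul, nsmul_eq_mul] at h2
  exact h2

end FF

open LocRes

section Const
variable {k K : Type*} [Field k] [Field K] [Algebra k K]

theorem hasseD_zero_eq {t : K} {H : K →ₐ[k] PowerSeries K} (hH : IsHasseFamily t H) (y : K) :
    hasseD H 0 y = y := by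
  rw [hasseD_apply, PowerSeries.coeff_zero_eq_constantCoeff_apply, hH.2]

theorem hasseD_one (H : K →ₐ[k] PowerSeries K) {m : ℕ} (hm : 1 ≤ m) : hasseD H m 1 = 0 := by
  rw [hasseD_apply, map_one, PowerSeries.coeff_one, if_neg (by omega)]

theorem hasseD_map_zero (H : K →ₐ[k] PowerSeries K) (m : ℕ) : hasseD H m 0 = 0 := by
  rw [hasseD_apply, map_zero, map_zero]

theorem hasseD_sum (H : K →ₐ[k] PowerSeries K) (m : ℕ) {ι : Type*} (s : Finset ι) (f : ι → K) :
    hasseD H m (∑ i ∈ s, f i) = ∑ i ∈ s, hasseD H m (f i) := by
  simp only [hasseD_apply, map_sum]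

theorem hasseD_mul (H : K →ₐ[k] PowerSeries K) (m : ℕ) (x y : K) :
    hasseD H m (x * y) =
      ∑ rs ∈ Finset.HasAntidiagonal.antidiagonal m, hasseD H rs.1 x * hasseD H rs.2 y := by
  simp only [hasseD_apply, map_mul, PowerSeries.coeff_mul]

/-- the constant embedding `K → K⟦T⟧` as a `k`-algebra map. -/
noncomputable def constAlg : K →ₐ[k] PowerSeries K :=
  { (PowerSeries.C : K →+* PowerSeries K) with
    commutes' := fun c => by
      simp [PowerSeries.algebraMap_apply] }

theorem constAlg_apply (y : K) : (constAlg : K →ₐ[k] PowerSeries K) y = PowerSeries.C y := rfl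

/-- The constants of a Hasse family on a function field are the elements of `k`. -/
theorem mem_range_of_hasseD_eq_zero (hK : FunFld.IsFunctionField k K) {t : K}
    {H : K →ₐ[k] PowerSeries K} (hH : IsHasseFamily t H) (y : K)
    (hy : ∀ m, 1 ≤ m → hasseD H m y = 0) : y ∈ Set.range (algebraMap k K) := by
  by_contra hyr
  have hytr := Groth.Agent.H55.transcendental_of_notMem_range hK hyr
  haveI := Groth.Agent.H55.finiteDimensional_adjoin_of_transcendental hK hytr
  set L := IntermediateField.adjoin k ({y} : Set K) with hLdef
  have hHy : H y = (constAlg : K →ₐ[k] PowerSeries K) y := by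
    ext m
    rcases m with _ | m
    · rw [constAlg_apply, PowerSeries.coeff_zero_eq_constantCoeff_apply, hH.2]
      simp
    · have := hy (m + 1) (by omega)
      rw [hasseD_apply] at this
      rw [this, constAlg_apply, PowerSeries.coeff_C, if_neg (by omega)]
  have hL : ∀ z ∈ L, H z = (constAlg : K →ₐ[k] PowerSeries K) z := by
    have hle : L ≤ HasseUnique.eqField H constAlg := by
      rw [hLdef, IntermediateField.adjoin_le_iff, Set.singleton_subset_iff]
      exact HasseUnique.mem_eqField.2 hHy
    intro z hz
    exact HasseUnique.mem_eqField.1 (hle hz)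
  have htint : IsIntegral L t := Algebra.IsIntegral.isIntegral t
  set m := minpoly L t with hm
  have hm0 : m ≠ 0 := minpoly.ne_zero htint
  have hroot : Polynomial.eval₂ (algebraMap L K) t m = 0 := by
    rw [← Polynomial.aeval_def]; exact minpoly.aeval L t
  have h1 := Polynomial.hom_eval₂ m (algebraMap L K) H.toRingHom t
  rw [hroot, map_zero] at h1
  have hcomp : H.toRingHom.comp (algebraMap L K) =
      (PowerSeries.C : K →+* PowerSeries K).comp (algebraMap L K) := by
    ext1 z
    exact hL z z.2
  rw [hcomp] at h1
  change 0 = Polynomial.eval₂ _ (H t) m at h1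
  rw [hH.1, ← Polynomial.eval₂_map] at h1
  set P := m.map (algebraMap L K) with hP
  have hP0 : P ≠ 0 := by
    rw [hP, Ne, Polynomial.map_eq_zero]
    exact hm0
  -- the Taylor shift of `P`
  have h2 : ((P.comp (Polynomial.X + Polynomial.C t) : Polynomial K) : PowerSeries K) = 0 := by
    rw [Polynomial.comp]
    have h3 := Polynomial.hom_eval₂ P (Polynomial.C : K →+* Polynomial K)
      (Polynomial.coeToPowerSeries.ringHom (R := K)) (Polynomial.X + Polynomial.C t)
    have h4 : (Polynomial.coeToPowerSeries.ringHom (R := K)).comp Polynomial.C = PowerSeries.C := by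
      ext1 z
      simp
    rw [h4] at h3
    change ((Polynomial.eval₂ Polynomial.C (Polynomial.X + Polynomial.C t) P : Polynomial K) :
      PowerSeries K) = _ at h3
    rw [h3, h1]
    congr 1
    simp [add_comm]
  have h5 : P.comp (Polynomial.X + Polynomial.C t) = 0 := by
    apply Polynomial.coe_injective K
    rw [h2]; simp
  exact hP0 (Polynomial.comp_X_add_C_eq_zero_iff.1 h5)

end Const

section Wr
variable {k K : Type*} [Field k] [Field K] [Algebra k K]

variable {ι : Type*} [Fintype ι] [DecidableEq ι]

open scoped Classical in
theorem wronskian_indep_aux (hK : FunFld.IsFunctionField k K) {t : K}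
    {H : K →ₐ[k] PowerSeries K} (hH : IsHasseFamily t H) (φ : ι → K)
    (hφ : LinearIndependent k φ) :
    ∀ (c : ℕ) (a : ι → K), (Finset.univ.filter (fun i => a i ≠ 0)).card = c →
      (∀ j, ∑ i, a i * hasseD H j (φ i) = 0) → a = 0 := by
  intro c
  induction c using Nat.strong_induction_on with
  | _ c ih =>
    intro a hc hrel
    by_contra hne
    obtain ⟨i0, hi0⟩ : ∃ i0, a i0 ≠ 0 := by
      by_contra h
      push Not at h
      exact hne (funext h)
    set b : ι → K := fun i => a i / a i0 with hb
    have hb0 : b i0 = 1 := div_self hi0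
    have hbrel : ∀ j, ∑ i, b i * hasseD H j (φ i) = 0 := by
      intro j
      simp only [hb, div_mul_eq_mul_div, ← Finset.sum_div, hrel j, zero_div]
    have hQ : ∀ m, 1 ≤ m → ∀ i, hasseD H m (b i) = 0 := by
      intro m
      induction m using Nat.strong_induction_on with
      | _ m ihm =>
        intro hm
        have hrelm : ∀ j, ∑ i, hasseD H m (b i) * hasseD H j (φ i) = 0 := by
          intro j
          have h0 := congrArg (hasseD H m) (hbrel j)
          rw [hasseD_map_zero, hasseD_sum] at h0
          simp only [hasseD_mul, hasseD_hasseD hK hH] at h0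
          rw [Finset.sum_comm] at h0
          rw [Finset.sum_eq_single (m, 0)] at h0
          · simpa using h0
          · rintro ⟨r, s⟩ hrs hne'
            have hrs' : r + s = m := Finset.HasAntidiagonal.mem_antidiagonal.1 hrs
            rcases Nat.eq_zero_or_pos r with hr0 | hrpos
            · subst hr0
              have hs : s = m := by omega
              subst hs
              simp only [hasseD_zero_eq hH]
              have := hbrel (s + j)
              calc ∑ i, b i * (((s + j).choose j : K) * hasseD H (s + j) (φ i))
                  = ((s + j).choose j : K) * ∑ i, b i * hasseD H (s + j) (φ i) := by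
                    rw [Finset.mul_sum]
                    refine Finset.sum_congr rfl fun i _ => ?_
                    ring
                _ = 0 := by rw [this, mul_zero]
            · have hrm : r < m := by
                rcases Nat.lt_or_ge r m with h | h
                · exact h
                · exfalso
                  apply hne'
                  have : r = m := by omega
                  subst this
                  have : s = 0 := by omega
                  subst this
                  rfl
              apply Finset.sum_eq_zero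
              intro i _
              rw [ihm r hrm hrpos i, zero_mul]
          · intro h
            exact absurd (Finset.HasAntidiagonal.mem_antidiagonal.2 (by simp)) h
        have hcard : (Finset.univ.filter (fun i => hasseD H m (b i) ≠ 0)).card < c := by
          rw [← hc]
          apply Finset.card_lt_card
          rw [Finset.ssubset_iff_of_subset]
          · refine ⟨i0, by simp [hi0], ?_⟩
            simp only [Finset.mem_filter, Finset.mem_univ, true_and, not_not]
            rw [hb0, hasseD_one H hm]
          · intro i hi
            simp only [Finset.mem_filter, Finset.mem_univ, true_and] at hi ⊢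
            intro hai
            apply hi
            have : b i = 0 := by simp [hb, hai]
            rw [this, hasseD_map_zero]
        have := ih _ hcard (fun i => hasseD H m (b i)) rfl hrelm
        exact fun i => congrFun this i
    have hbk : ∀ i, b i ∈ Set.range (algebraMap k K) := fun i =>
      mem_range_of_hasseD_eq_zero hK hH (b i) (fun m hm => hQ m hm i)
    choose γ hγ using hbk
    have h0 := hbrel 0
    simp only [hasseD_zero_eq hH] at h0
    have h1 : ∑ i, γ i • φ i = 0 := by
      rw [← h0]
      refine Finset.sum_congr rfl fun i _ => ?_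
      rw [Algebra.smul_def, hγ]
    have h2 := (Fintype.linearIndependent_iff.1 hφ) γ h1 i0
    have h3 := hγ i0
    rw [h2, map_zero, hb0] at h3
    exact zero_ne_one h3

/-- **Wronskian theorem** for Hasse derivatives: if `φ` is `k`-linearly independent, no nonzero
`K`-linear combination of the rows `(D^(j) φ_i)_j` vanishes. -/
theorem wronskian_indep (hK : FunFld.IsFunctionField k K) {t : K}
    {H : K →ₐ[k] PowerSeries K} (hH : IsHasseFamily t H) (φ : ι → K)
    (hφ : LinearIndependent k φ) (a : ι → K)
    (ha : ∀ j, ∑ i, a i * hasseD H j (φ i) = 0) : a = 0 := by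
  classical
  exact wronskian_indep_aux hK hH φ hφ _ a rfl ha

end Wr

end Groth.Agent.H63.HasseFF
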