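import Mathlib
import Groth.Agent.H63.HasseFF

/-!
# Change of the separating variable of a Hasse family (chain rule)
-/

set_option autoImplicit false
set_option linter.style.haveILetI false

namespace Groth.Agent.H63.HasseFF
open LocRes

section Chain
variable {k K : Type*} [Field k] [Field K] [Algebra k K]

theorem constantCoeff_subst_of_constantCoeff_zero {g : PowerSeries K}
    (hg : PowerSeries.constantCoeff g = 0) (f : PowerSeries K) :
    PowerSeries.constantCoeff (PowerSeries.subst g f) = PowerSeries.constantCoeff f := by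
  have hs : PowerSeries.HasSubst g := PowerSeries.HasSubst.of_constantCoeff_zero' hg
  have hf : f = PowerSeries.C (PowerSeries.constantCoeff f) +
      (f - PowerSeries.C (PowerSeries.constantCoeff f)) := by ring
  rw [hf, PowerSeries.subst_add hs, map_add, map_add]
  congr 1
  · rw [PowerSeries.subst_C]
    rfl
  · have h0 : PowerSeries.constantCoeff (f - PowerSeries.C (PowerSeries.constantCoeff f)) = 0 := by
      simp
    rw [h0]
    exact PowerSeries.constantCoeff_subst_eq_zero hg _ h0

/-- **Chain rule**: change of the separating variable of a Hasse family. -/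
theorem hasse_change (hK : FunFld.IsFunctionField k K) {s t : K}
    {Hs Ht : K →ₐ[k] PowerSeries K} (hHs : IsHasseFamily s Hs) (hHt : IsHasseFamily t Ht) (y : K) :
    Ht y = PowerSeries.subst (Ht s - PowerSeries.C s) (Hs y) := by
  haveI := isAlgebraic_adjoin hK hHs
  set g := Ht s - PowerSeries.C s with hg
  have hg0 : PowerSeries.constantCoeff g = 0 := by
    rw [hg, map_sub, hHt.2, PowerSeries.constantCoeff_C, sub_self]
  have hs : PowerSeries.HasSubst g := PowerSeries.HasSubst.of_constantCoeff_zero' hg0
  let ρ : PowerSeries K →ₐ[k] PowerSeries K :=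
    (PowerSeries.substAlgHom (R := K) hs).restrictScalars k
  have hρ : ∀ f, ρ f = PowerSeries.subst g f := by
    intro f
    change PowerSeries.substAlgHom hs f = _
    rw [PowerSeries.coe_substAlgHom]
  have h := HasseUnique.unique (Ideal.span {(PowerSeries.X : PowerSeries K)})
    (iInf_span_X_pow K) Ht (ρ.comp Hs) ?_ s ?_
  · rw [h, AlgHom.comp_apply, hρ]
  · intro z
    rw [Ideal.mem_span_singleton, PowerSeries.X_dvd_iff, map_sub, AlgHom.comp_apply, hρ,
      constantCoeff_subst_of_constantCoeff_zero hg0, hHt.2, hHs.2, sub_self]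
  · rw [AlgHom.comp_apply, hρ, hHs.1, PowerSeries.subst_add hs, PowerSeries.subst_C,
      PowerSeries.subst_X hs, hg]
    change Ht s = PowerSeries.C s + (Ht s - PowerSeries.C s)
    ring

end Chain

section Tri
variable {K : Type*} [Field K]

theorem coeff_pow_of_lt {g : PowerSeries K} (hg : PowerSeries.constantCoeff g = 0) {j d : ℕ}
    (h : j < d) : PowerSeries.coeff j (g ^ d) = 0 := by
  have h1 : (PowerSeries.X : PowerSeries K) ∣ g := PowerSeries.X_dvd_iff.2 hg
  have h2 : (PowerSeries.X : PowerSeries K) ^ d ∣ g ^ d := pow_dvd_pow_of_dvd h1 d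
  exact PowerSeries.X_pow_dvd_iff.1 h2 j h

theorem coeff_pow_self {g : PowerSeries K} (hg : PowerSeries.constantCoeff g = 0) (d : ℕ) :
    PowerSeries.coeff d (g ^ d) = (PowerSeries.coeff 1 g) ^ d := by
  obtain ⟨q, hq⟩ := PowerSeries.X_dvd_iff.2 hg
  have h1 : PowerSeries.coeff 1 g = PowerSeries.constantCoeff q := by
    rw [hq, show (1 : ℕ) = 0 + 1 from rfl, PowerSeries.coeff_succ_X_mul,
      PowerSeries.coeff_zero_eq_constantCoeff_apply]
  rw [h1, hq, mul_pow]
  have := PowerSeries.coeff_X_pow_mul (q ^ d) d 0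
  rw [zero_add] at this
  rw [this, PowerSeries.coeff_zero_eq_constantCoeff_apply, map_pow]

theorem coeff_subst_tri {g : PowerSeries K} (hg : PowerSeries.constantCoeff g = 0)
    (f : PowerSeries K) (j : ℕ) :
    PowerSeries.coeff j (PowerSeries.subst g f) =
      ∑ d ∈ Finset.range (j + 1), PowerSeries.coeff d f * PowerSeries.coeff j (g ^ d) := by
  have hs : PowerSeries.HasSubst g := PowerSeries.HasSubst.of_constantCoeff_zero' hg
  rw [PowerSeries.coeff_subst' hs, finsum_eq_sum_of_support_subset]
  · rfl
  · intro d hd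
    rw [Function.mem_support] at hd
    rw [Finset.coe_range, Set.mem_Iio]
    by_contra hlt
    rw [not_lt] at hlt
    apply hd
    rw [coeff_pow_of_lt hg (by omega), smul_zero]

end Tri

section Change
variable {k K : Type*} [Field k] [Field K] [Algebra k K]

/-- Triangular formula for the change of variable. -/
theorem hasseD_change (hK : FunFld.IsFunctionField k K) {s t : K}
    {Hs Ht : K →ₐ[k] PowerSeries K} (hHs : IsHasseFamily s Hs) (hHt : IsHasseFamily t Ht) (y : K)
    (j : ℕ) :
    hasseD Ht j y = ∑ d ∈ Finset.range (j + 1),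
      hasseD Hs d y * PowerSeries.coeff j ((Ht s - PowerSeries.C s) ^ d) := by
  have hg0 : PowerSeries.constantCoeff (Ht s - PowerSeries.C s) = 0 := by
    rw [map_sub, hHt.2, PowerSeries.constantCoeff_C, sub_self]
  rw [hasseD_apply, hasse_change hK hHs hHt y, coeff_subst_tri hg0]
  rfl

theorem hasseD_one_mul_hasseD_one (hK : FunFld.IsFunctionField k K) {s t : K}
    {Hs Ht : K →ₐ[k] PowerSeries K} (hHs : IsHasseFamily s Hs) (hHt : IsHasseFamily t Ht) :
    hasseD Hs 1 t * hasseD Ht 1 s = 1 := by
  have h := hasseD_change hK hHs hHt t 1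
  have h1 : hasseD Ht 1 t = 1 := by
    rw [hasseD_apply, hHt.1, map_add, PowerSeries.coeff_C, PowerSeries.coeff_one_X]
    simp
  rw [h1, Finset.sum_range_succ, Finset.sum_range_one, pow_zero, pow_one,
    PowerSeries.coeff_one, if_neg one_ne_zero, mul_zero, zero_add, map_sub, PowerSeries.coeff_C,
    if_neg one_ne_zero, sub_zero] at h
  rw [h]
  rfl

theorem hasseD_one_ne_zero (hK : FunFld.IsFunctionField k K) {s t : K}
    {Hs Ht : K →ₐ[k] PowerSeries K} (hHs : IsHasseFamily s Hs) (hHt : IsHasseFamily t Ht) :
    hasseD Ht 1 s ≠ 0 := by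
  intro h0
  have := hasseD_one_mul_hasseD_one hK hHs hHt
  rw [h0, mul_zero] at this
  exact zero_ne_one this

end Change

end Groth.Agent.H63.HasseFF
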