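import Mathlib
import Groth.Agent.H63.HasseChange

set_option autoImplicit false
set_option linter.style.haveILetI false

namespace Groth.Agent.H63.ExpChain
open LocRes LaurentSeries Groth.Agent.H63.LaurentTaylor Groth.Agent.H63.HasseFF

section Exp
variable {k K F : Type*} [Field k] [Field K] [Algebra k K] [Field F] [Algebra k F]

/-- General expansion lemma: `φ` intertwines the Hasse family w.r.t. `t` with the Taylor map
of Laurent series, up to the substitution `S ↦ φ t (X + S) - φ t (X)`. -/
theorem taylorAlg_eq_subst (t : K) [Algebra.IsAlgebraic (IntermediateField.adjoin k ({t} : Set K)) K]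
    (H : K →ₐ[k] PowerSeries K) (hH : LocRes.IsHasseFamily t H)
    (φ : K →ₐ[k] F⸨X⸩) (z : K) :
    taylor (φ z) = PowerSeries.subst (taylor (φ t) - PowerSeries.C (φ t))
      (PowerSeries.map φ.toRingHom (H z)) := by
  set g : PowerSeries F⸨X⸩ := taylor (φ t) - PowerSeries.C (φ t) with hg
  have hg0 : PowerSeries.constantCoeff g = 0 := by
    rw [hg, map_sub, constantCoeff_taylor, PowerSeries.constantCoeff_C, sub_self]
  have hs : PowerSeries.HasSubst g := PowerSeries.HasSubst.of_constantCoeff_zero' hg0
  let ρ : PowerSeries F⸨X⸩ →ₐ[k] PowerSeries F⸨X⸩ :=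
    (PowerSeries.substAlgHom (R := F⸨X⸩) hs).restrictScalars k
  have hρ : ∀ f, ρ f = PowerSeries.subst g f := by
    intro f
    change PowerSeries.substAlgHom hs f = _
    rw [PowerSeries.coe_substAlgHom]
  have h := HasseUnique.unique (Ideal.span {(PowerSeries.X : PowerSeries F⸨X⸩)})
    (iInf_span_X_pow _) (taylorAlg φ) (ρ.comp ((PowerSeries.mapAlgHom φ).comp H)) ?_ t ?_
  · have := congrArg (fun G : K →ₐ[k] PowerSeries F⸨X⸩ => G z) h
    simp only [AlgHom.comp_apply, taylorAlg_apply, hρ] at this
    exact this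
  · intro y
    rw [Ideal.mem_span_singleton, PowerSeries.X_dvd_iff, map_sub, AlgHom.comp_apply,
      AlgHom.comp_apply, hρ, constantCoeff_subst_of_constantCoeff_zero hg0,
      taylorAlg_apply, constantCoeff_taylor]
    change φ y - PowerSeries.constantCoeff (PowerSeries.map φ.toRingHom (H y)) = 0
    rw [← PowerSeries.coeff_zero_eq_constantCoeff_apply, PowerSeries.coeff_map,
      PowerSeries.coeff_zero_eq_constantCoeff_apply, hH.2 y]
    exact sub_self _
  · rw [AlgHom.comp_apply, AlgHom.comp_apply, hρ, taylorAlg_apply, hH.1]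
    change _ = PowerSeries.subst g (PowerSeries.map φ.toRingHom (PowerSeries.C t + PowerSeries.X))
    rw [map_add, PowerSeries.map_C, PowerSeries.map_X, PowerSeries.subst_add hs,
      PowerSeries.subst_C, PowerSeries.subst_X hs, hg]
    change _ = PowerSeries.C (φ t) + (taylor (φ t) - PowerSeries.C (φ t))
    ring

/-- **Chain rule through an expansion**: `d(φ z)/dX = φ(dz/dt) · d(φ t)/dX`. -/
theorem D_map_eq (t : K) [Algebra.IsAlgebraic (IntermediateField.adjoin k ({t} : Set K)) K]
    (H : K →ₐ[k] PowerSeries K) (hH : LocRes.IsHasseFamily t H)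
    (φ : K →ₐ[k] F⸨X⸩) (z : K) :
    LocRes.D F (φ z) = φ (LocRes.hasseD H 1 z) * LocRes.D F (φ t) := by
  have hg0 : PowerSeries.constantCoeff (taylor (φ t) - PowerSeries.C (φ t)) = 0 := by
    rw [map_sub, constantCoeff_taylor, PowerSeries.constantCoeff_C, sub_self]
  have h := congrArg (PowerSeries.coeff 1) (taylorAlg_eq_subst t H hH φ z)
  rw [coeff_taylor, coeff_subst_tri hg0, Finset.sum_range_succ, Finset.sum_range_one, pow_zero,
    pow_one, PowerSeries.coeff_one, if_neg one_ne_zero, mul_zero, zero_add, map_sub,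
    PowerSeries.coeff_C, if_neg one_ne_zero, sub_zero, coeff_taylor, PowerSeries.coeff_map] at h
  rw [LocRes.D_apply, LocRes.D_apply, LaurentSeries.derivative_apply,
    LaurentSeries.derivative_apply, h]
  rfl

end Exp

end Groth.Agent.H63.ExpChain
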