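import Groth.Prelude.Def_W4bk4goldsch45p2

/-!
# Jump indices of a sequence of vectors (`FunFld.IsJump`, `FunFld.IsOrders`)
-/

set_option autoImplicit false

namespace Groth.Agent.H63

/-- jumps are preserved by an injective linear map -/
theorem isJump_map_iff {R M N : Type*} [Ring R] [AddCommGroup M] [Module R M] [AddCommGroup N] [Module R N]
    (f : M →ₗ[R] N) (hf : Function.Injective f) (c : ℕ → M) (j : ℕ) :
    FunFld.IsJump R (fun i => f (c i)) j ↔ FunFld.IsJump R c j := by
  unfold FunFld.IsJump
  have h1 : (fun i => f (c i)) '' Set.Iio j = f '' (c '' Set.Iio j) := by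
    rw [Set.image_image]
  rw [h1, ← Submodule.map_span]
  constructor
  · intro h hc
    exact h (Submodule.mem_map_of_mem hc)
  · intro h hc
    obtain ⟨y, hy, hyc⟩ := hc
    rw [hf hyc] at hy
    exact h hy

end Groth.Agent.H63

namespace Groth.Agent.H63

/-- The vectors before `N` are in the span of the jump vectors before `N`. -/
theorem span_Iio_le_span_jumps {R M : Type*} [Ring R] [AddCommGroup M] [Module R M]
    (c : ℕ → M) (N : ℕ) :
    Submodule.span R (c '' Set.Iio N) ≤
      Submodule.span R (c '' {j | j < N ∧ FunFld.IsJump R c j}) := by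
  rw [Submodule.span_le]
  rintro _ ⟨j, hj, rfl⟩
  induction j using Nat.strong_induction_on with
  | _ j ih =>
    by_cases hjump : FunFld.IsJump R c j
    · exact Submodule.subset_span ⟨j, ⟨hj, hjump⟩, rfl⟩
    · unfold FunFld.IsJump at hjump
      rw [not_not] at hjump
      refine (Submodule.span_le.2 ?_) hjump
      rintro _ ⟨i, hi, rfl⟩
      exact ih i hi (lt_trans (show i < j from hi) hj)

end Groth.Agent.H63

namespace Groth.Agent.H63

section Triangular

variable {K M : Type*} [Field K] [AddCommGroup M] [Module K M]

/-- If `c' j ≡ d j • c j` modulo the span of the earlier `c`'s, with `d j ≠ 0`, the two sequences have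
the same partial spans. -/
theorem span_Iio_eq_of_triangular (c c' : ℕ → M) (d : ℕ → K) (hd : ∀ j, d j ≠ 0)
    (h : ∀ j, c' j - d j • c j ∈ Submodule.span K (c '' Set.Iio j)) (N : ℕ) :
    Submodule.span K (c' '' Set.Iio N) = Submodule.span K (c '' Set.Iio N) := by
  have hmono : ∀ {a b : ℕ}, a ≤ b → Submodule.span K (c '' Set.Iio a) ≤ Submodule.span K (c '' Set.Iio b) :=
    fun hab => Submodule.span_mono (Set.image_mono (Set.Iio_subset_Iio hab))
  have hmono' : ∀ {a b : ℕ}, a ≤ b → Submodule.span K (c' '' Set.Iio a) ≤ Submodule.span K (c' '' Set.Iio b) :=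
    fun hab => Submodule.span_mono (Set.image_mono (Set.Iio_subset_Iio hab))
  apply le_antisymm
  · rw [Submodule.span_le]
    rintro _ ⟨j, hj, rfl⟩
    have h1 : c' j = (c' j - d j • c j) + d j • c j := by abel
    rw [h1]
    refine Submodule.add_mem _ (hmono (le_of_lt hj) (h j)) (Submodule.smul_mem _ _ ?_)
    exact Submodule.subset_span ⟨j, hj, rfl⟩
  · induction N with
    | zero =>
      simp
    | succ N ih =>
      rw [Submodule.span_le]
      rintro _ ⟨j, hj, rfl⟩
      have hj' : j ≤ N := Nat.lt_succ_iff.1 hj
      rcases Nat.lt_or_ge j N with hlt | hge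
      · exact hmono' (Nat.le_succ N) (ih (Submodule.subset_span ⟨j, hlt, rfl⟩))
      · have hjN : j = N := le_antisymm hj' hge
        subst hjN
        have h1 : c j = (d j)⁻¹ • (c' j - (c' j - d j • c j)) := by
          rw [sub_sub_cancel, smul_smul, inv_mul_cancel₀ (hd j), one_smul]
        rw [h1]
        refine Submodule.smul_mem _ _ (Submodule.sub_mem _ ?_ ?_)
        · exact Submodule.subset_span ⟨j, hj, rfl⟩
        · exact hmono' (Nat.le_succ j) (ih (h j))

theorem isJump_iff_of_triangular (c c' : ℕ → M) (d : ℕ → K) (hd : ∀ j, d j ≠ 0)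
    (h : ∀ j, c' j - d j • c j ∈ Submodule.span K (c '' Set.Iio j)) (j : ℕ) :
    FunFld.IsJump K c' j ↔ FunFld.IsJump K c j := by
  unfold FunFld.IsJump
  rw [span_Iio_eq_of_triangular c c' d hd h j]
  constructor
  · intro h1 h2
    apply h1
    have : c' j = (c' j - d j • c j) + d j • c j := by abel
    rw [this]
    exact Submodule.add_mem _ (h j) (Submodule.smul_mem _ _ h2)
  · intro h1 h2
    apply h1
    have : c j = (d j)⁻¹ • (c' j - (c' j - d j • c j)) := by
      rw [sub_sub_cancel, smul_smul, inv_mul_cancel₀ (hd j), one_smul]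
    rw [this]
    exact Submodule.smul_mem _ _ (Submodule.sub_mem _ h2 (h j))

end Triangular

/-- If the columns of `M'` are `d a •` the columns of `M` modulo the span of the earlier columns of `M`,
then `det M' = (∏ d) * det M`. -/
theorem det_eq_prod_mul_det_of_triangular {K : Type*} [Field K] {N : ℕ}
    (A A' : Matrix (Fin N) (Fin N) K) (d : Fin N → K)
    (h : ∀ a : Fin N, (fun i => A' i a) - d a • (fun i => A i a) ∈
      Submodule.span K (Set.range fun b : {b : Fin N // b < a} => fun i => A i b.1)) :
    A'.det = (∏ a, d a) * A.det := by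
  classical
  have hex : ∀ a : Fin N, ∃ g : {b : Fin N // b < a} → K,
      ∑ b, g b • (fun i => A i b.1) = (fun i => A' i a) - d a • (fun i => A i a) := fun a =>
    (Submodule.mem_span_range_iff_exists_fun K).1 (h a)
  choose g hg using hex
  let U : Matrix (Fin N) (Fin N) K := fun b a =>
    if hba : b < a then g a ⟨b, hba⟩ else if b = a then d a else 0
  have hU : A' = A * U := by
    ext i a
    rw [Matrix.mul_apply]
    have h1 := congrFun (hg a) i
    simp only [Finset.sum_apply, Pi.smul_apply, Pi.sub_apply, smul_eq_mul] at h1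
    have h2 : ∑ b, A i b * U b a =
        ∑ b, ((if hba : b < a then A i b * g a ⟨b, hba⟩ else 0) + (if b = a then A i b * d a else 0)) := by
      apply Finset.sum_congr rfl
      intro b _
      change A i b * (if hba : b < a then g a ⟨b, hba⟩ else if b = a then d a else 0) = _
      by_cases hba : b < a
      · rw [dif_pos hba, dif_pos hba, if_neg (ne_of_lt hba), add_zero]
      · rw [dif_neg hba, dif_neg hba, zero_add]
        by_cases hba' : b = a
        · rw [if_pos hba', if_pos hba']
        · rw [if_neg hba', if_neg hba', mul_zero]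
    rw [h2, Finset.sum_add_distrib, Finset.sum_ite_eq' Finset.univ a, if_pos (Finset.mem_univ a)]
    have h3 : ∑ b, (if hba : b < a then A i b * g a ⟨b, hba⟩ else 0) =
        ∑ b : {b : Fin N // b < a}, g a b * A i b.1 := by
      set F : Fin N → K := fun b => if hba : b < a then A i b * g a ⟨b, hba⟩ else 0 with hF
      have e1 : ∑ b : {b : Fin N // b < a}, g a b * A i b.1 = ∑ b : {b : Fin N // b < a}, F b.1 := by
        apply Finset.sum_congr rfl
        intro b _
        rw [hF]
        change _ = if hba : b.1 < a then A i b.1 * g a ⟨b.1, hba⟩ else 0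
        rw [dif_pos b.2, mul_comm]
      rw [e1, ← Finset.sum_subtype (Finset.univ.filter (fun b : Fin N => b < a))
        (fun x => by simp) F, Finset.sum_filter]
      apply Finset.sum_congr rfl
      intro b _
      by_cases hba : b < a
      · rw [if_pos hba]
      · rw [if_neg hba, hF]
        change (if hba : b < a then A i b * g a ⟨b, hba⟩ else 0) = 0
        rw [dif_neg hba]
    rw [h3, h1]
    ring
  have hUtri : Matrix.BlockTriangular U id := by
    intro b a hab
    change U b a = 0
    have hab' : a < b := hab
    change (if hba : b < a then g a ⟨b, hba⟩ else if b = a then d a else 0) = 0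
    rw [dif_neg (not_lt_of_gt hab'), if_neg (ne_of_gt hab')]
  rw [hU, Matrix.det_mul, Matrix.det_of_isUpperTriangular hUtri, mul_comm]
  congr 1
  apply Finset.prod_congr rfl
  intro a _
  change (if hba : a < a then g a ⟨a, hba⟩ else if a = a then d a else 0) = d a
  rw [dif_neg (lt_irrefl a), if_pos rfl]

end Groth.Agent.H63

namespace Groth.Agent.H63

/-- The dimension of the span of the first `N` vectors is the number of jumps below `N`. -/
theorem finrank_span_Iio {K V : Type*} [Field K] [AddCommGroup V] [Module K V] [FiniteDimensional K V]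
    (c : ℕ → V) (N : ℕ) [DecidablePred (FunFld.IsJump K c)] :
    Module.finrank K (Submodule.span K (c '' Set.Iio N)) =
      ((Finset.range N).filter (FunFld.IsJump K c)).card := by
  induction N with
  | zero =>
    have : c '' Set.Iio 0 = ∅ := by
      ext x
      simp
    rw [this, Submodule.span_empty, finrank_bot]
    rfl
  | succ N ih =>
    have hset : c '' Set.Iio (N + 1) = insert (c N) (c '' Set.Iio N) := by
      ext x
      simp only [Set.mem_image, Set.mem_Iio, Set.mem_insert_iff, Nat.lt_succ_iff]
      constructor
      · rintro ⟨j, hj, rfl⟩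
        rcases Nat.lt_or_ge j N with h | h
        · exact Or.inr ⟨j, h, rfl⟩
        · exact Or.inl (by rw [le_antisymm hj h])
      · rintro (rfl | ⟨j, hj, rfl⟩)
        · exact ⟨N, le_rfl, rfl⟩
        · exact ⟨j, le_of_lt hj, rfl⟩
    rw [hset, Submodule.span_insert, Finset.range_add_one, Finset.filter_insert]
    by_cases hjump : FunFld.IsJump K c N
    · rw [if_pos hjump, Finset.card_insert_of_notMem (by simp), ← ih]
      have hx : c N ∉ Submodule.span K (c '' Set.Iio N) := hjump
      have hx0 : c N ≠ 0 := fun h0 => hx (h0 ▸ Submodule.zero_mem _)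
      have hdisj : Disjoint (Submodule.span K (c '' Set.Iio N)) (Submodule.span K {c N}) :=
        (Submodule.disjoint_span_singleton' hx0).2 hx
      have h1 := Submodule.finrank_sup_add_finrank_inf_eq (Submodule.span K {c N})
        (Submodule.span K (c '' Set.Iio N))
      rw [inf_comm, hdisj.eq_bot, finrank_bot, add_zero, finrank_span_singleton hx0] at h1
      rw [h1, add_comm]
    · rw [if_neg hjump, ← ih]
      have hx : c N ∈ Submodule.span K (c '' Set.Iio N) := by
        unfold FunFld.IsJump at hjump
        exact not_not.1 hjump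
      have hsup : Submodule.span K {c N} ⊔ Submodule.span K (c '' Set.Iio N) =
          Submodule.span K (c '' Set.Iio N) := by
        rw [sup_eq_right, Submodule.span_singleton_le_iff_mem]
        exact hx
      rw [hsup]

end Groth.Agent.H63
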