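import Mathlib
import Groth.Agent.H63.ExpChain
import Groth.Agent.H63.DerGood
import Groth.Agent.H86.HS13

set_option autoImplicit false
set_option linter.style.haveILetI false

namespace Groth.Agent.H63.OrdDiff
open FunFld LocRes LaurentSeries Groth.Agent.H55

variable {k K : Type*} [Field k] [Field K] [Algebra k K]

theorem v_D_le_one (f : LaurentSeries k) (hf : Valued.v f ≤ 1) : Valued.v (LocRes.D k f) ≤ 1 := by
  have hf' : Valued.v f ≤ WithZero.exp (-(0 : ℤ)) := by simpa using hf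
  have hcoef := (valuation_le_iff_coeff_lt_eq_zero k).mp hf'
  have : Valued.v (LocRes.D k f) ≤ WithZero.exp (-(0 : ℤ)) := by
    rw [valuation_le_iff_coeff_lt_eq_zero]
    intro m hm
    rw [LocRes.D_coeff]
    by_cases h : m + 1 < 0
    · rw [hcoef (m + 1) h, smul_zero]
    · have h0 : m + 1 = 0 := by omega
      rw [h0, zero_smul]
  simpa using this

theorem v_D_param (P : Place k K) (Φ : K →ₐ[k] LaurentSeries k)
    (hΦ : LocRes.IsExpansionAt P.1 Φ) (t : K) (ht : P.1 t = WithZero.exp (-1 : ℤ)) :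
    Valued.v (LocRes.D k (Φ t)) = 1 := by
  have hv : Valued.v (Φ t) = WithZero.exp (-(1 : ℤ)) := by rw [hΦ.1 t, ht]
  have hcoef := (valuation_le_iff_coeff_lt_eq_zero k).mp hv.le
  have hc1 : (Φ t).coeff 1 ≠ 0 := by
    intro h1
    have : Valued.v (Φ t) ≤ WithZero.exp (-(2 : ℤ)) := by
      rw [valuation_le_iff_coeff_lt_eq_zero]
      intro m hm
      rcases lt_or_eq_of_le (show m ≤ 1 by omega) with h | h
      · exact hcoef m h
      · rw [h]; exact h1
    rw [hv, WithZero.exp_le_exp] at this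
    omega
  have hle : Valued.v (LocRes.D k (Φ t)) ≤ WithZero.exp (-(0 : ℤ)) := by
    rw [valuation_le_iff_coeff_lt_eq_zero]
    intro m hm
    rw [LocRes.D_coeff, hcoef (m + 1) (by omega), smul_zero]
  have hnle : ¬ Valued.v (LocRes.D k (Φ t)) ≤ WithZero.exp (-(1 : ℤ)) := by
    rw [valuation_le_iff_coeff_lt_eq_zero]
    intro hall
    have := hall 0 (by omega)
    rw [LocRes.D_coeff] at this
    simp only [zero_add, one_smul] at this
    exact hc1 this
  rw [neg_zero, WithZero.exp_zero] at hle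
  apply le_antisymm hle
  by_contra hlt
  rw [not_le] at hlt
  exact hnle (le_exp_neg_one_of_lt_one hlt)

/-- the first Hasse derivative as a derivation. -/
noncomputable def der {s : K} {H : K →ₐ[k] PowerSeries K} (hH : IsHasseFamily s H) :
    Derivation k K K :=
  Derivation.mk'
    ({ toFun := hasseD H 1
       map_add' := fun x y => by simp only [hasseD_apply, map_add]
       map_smul' := fun c x => Groth.Agent.H86.FF.hasseD_smul H 1 c x } : K →ₗ[k] K)
    (fun a b => by
      change hasseD H 1 (a * b) = a • hasseD H 1 b + b • hasseD H 1 a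
      rw [Groth.Agent.H63.HasseFF.hasseD_mul, Finset.Nat.antidiagonal_succ,
        Finset.sum_cons, Finset.Nat.antidiagonal_zero]
      simp only [Finset.map_singleton, Finset.sum_singleton]
      change hasseD H 0 a * hasseD H 1 b + hasseD H 1 a * hasseD H 0 b = _
      rw [Groth.Agent.H63.HasseFF.hasseD_zero_eq hH, Groth.Agent.H63.HasseFF.hasseD_zero_eq hH,
        smul_eq_mul, smul_eq_mul, mul_comm (hasseD H 1 a) b])

theorem der_apply {s : K} {H : K →ₐ[k] PowerSeries K} (hH : IsHasseFamily s H) (z : K) :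
    der hH z = hasseD H 1 z := rfl

theorem vDiff_one (Φ : K →ₐ[k] LaurentSeries k) (s : K) :
    LocRes.vDiff Φ 1 s = Valued.v (LocRes.D k (Φ s)) := by
  unfold LocRes.vDiff
  rw [map_one, one_mul]

theorem v_D_ne_zero (hK : IsFunctionField k K) {t : K} {Ht : K →ₐ[k] PowerSeries K}
    (hHt : IsHasseFamily t Ht) (P : Place k K) (Φ : K →ₐ[k] LaurentSeries k)
    (hΦ : LocRes.IsExpansionAt P.1 Φ) : Valued.v (LocRes.D k (Φ t)) ≠ 0 := by
  haveI := Groth.Agent.H63.HasseFF.isAlgebraic_adjoin hK hHt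
  obtain ⟨π, hπ⟩ := Place.exists_uniformizer P
  have h1 := v_D_param P Φ hΦ π hπ
  rw [Groth.Agent.H63.ExpChain.D_map_eq t Ht hHt Φ π, map_mul] at h1
  intro h0
  rw [h0, mul_zero] at h1
  exact zero_ne_one h1

/-- change of variable for the order of a differential -/
theorem ordDiff_change (hK : IsFunctionField k K) {s t : K} {Hs Ht : K →ₐ[k] PowerSeries K}
    (hHs : IsHasseFamily s Hs) (hHt : IsHasseFamily t Ht) (P : Place k K)
    (Φ : K →ₐ[k] LaurentSeries k) (hΦ : LocRes.IsExpansionAt P.1 Φ) :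
    LocRes.ordDiff Φ 1 s = P.ord (hasseD Ht 1 s) + LocRes.ordDiff Φ 1 t := by
  haveI := Groth.Agent.H63.HasseFF.isAlgebraic_adjoin hK hHt
  have hu0 : hasseD Ht 1 s ≠ 0 := Groth.Agent.H63.HasseFF.hasseD_one_ne_zero hK hHs hHt
  unfold LocRes.ordDiff
  rw [vDiff_one, vDiff_one, Groth.Agent.H63.ExpChain.D_map_eq t Ht hHt Φ s, map_mul, hΦ.1,
    WithZero.log_mul ((Valuation.ne_zero_iff _).mpr hu0) (v_D_ne_zero hK hHt P Φ hΦ)]
  unfold Place.ord
  ring

variable [IsAlgClosed k]

theorem finite_support_ordDiff (hK : IsFunctionField k K) {s : K} {Hs : K →ₐ[k] PowerSeries K}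
    (hHs : IsHasseFamily s Hs) (Φ : Place k K → (K →ₐ[k] LaurentSeries k))
    (hΦ : ∀ P : Place k K, LocRes.IsExpansionAt P.1 (Φ P)) :
    (Function.support fun P : Place k K => LocRes.ordDiff (Φ P) 1 s).Finite := by
  haveI := Groth.Agent.H63.HasseFF.isAlgebraic_adjoin hK hHs
  have hfin := (Groth.Agent.H86.FF.finite_poles' hK s).union
    (Groth.Agent.H63.DerGood.finite_der_bad hK (der hHs))
  refine hfin.subset ?_
  intro P hP
  rw [Function.mem_support] at hP
  by_contra hbad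
  rw [Set.mem_union, not_or] at hbad
  obtain ⟨hpole, hgood⟩ := hbad
  apply hP
  have hs1 : P.1 s ≤ 1 := not_lt.1 hpole
  obtain ⟨π, hπ⟩ := Place.exists_uniformizer P
  have hδπ : P.1 (hasseD Hs 1 π) ≤ 1 := by
    by_contra hlt
    rw [not_le] at hlt
    exact hgood ⟨π, by rw [hπ]; exact (WithZero.exp_le_exp.2 (by omega)).trans_eq WithZero.exp_zero, hlt⟩
  have h1 := v_D_param P (Φ P) (hΦ P) π hπ
  rw [Groth.Agent.H63.ExpChain.D_map_eq s Hs hHs (Φ P) π, map_mul, (hΦ P).1] at h1
  have h2 : Valued.v (LocRes.D k (Φ P s)) ≤ 1 := v_D_le_one _ (by rw [(hΦ P).1]; exact hs1)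
  have h3 : Valued.v (LocRes.D k (Φ P s)) = 1 := by
    apply le_antisymm h2
    rw [← h1]
    exact mul_le_of_le_one_left' hδπ
  change LocRes.ordDiff (Φ P) 1 s = 0
  unfold LocRes.ordDiff
  rw [vDiff_one, h3]
  simp

theorem divDiff_apply (hK : IsFunctionField k K) {s : K} {Hs : K →ₐ[k] PowerSeries K}
    (hHs : IsHasseFamily s Hs) (Φ : Place k K → (K →ₐ[k] LaurentSeries k))
    (hΦ : ∀ P : Place k K, LocRes.IsExpansionAt P.1 (Φ P)) (P : Place k K) :
    divDiff Φ 1 s P = LocRes.ordDiff (Φ P) 1 s := by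
  unfold divDiff
  rw [dif_pos (finite_support_ordDiff hK hHs Φ hΦ)]
  rfl

end Groth.Agent.H63.OrdDiff
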