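import Mathlib
import Groth.Agent.H86.TT11

set_option autoImplicit false
set_option linter.style.haveILetI false
set_option linter.unusedSectionVars false

namespace Groth.Agent.H63.TateGen
open Groth.Agent.H86.Tate Module

variable {k : Type*} [Field k]
variable {V V' : Type*} [AddCommGroup V] [Module k V] [AddCommGroup V'] [Module k V']

/-- a projector on the big space compatible with a given projector on the small one -/
theorem exists_compat_proj {A : Submodule k V} {π : V →ₗ[k] V} (hπ : LinearMap.IsProj A π)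
    {A' : Submodule k V'} (ι : V →ₗ[k] V') (hA : A = A'.comap ι)
    (hdense : LinearMap.range ι ⊔ A' = ⊤) :
    ∃ π' : V' →ₗ[k] V', LinearMap.IsProj A' π' ∧ π' ∘ₗ ι = ι ∘ₗ π := by
  set C : Submodule k V := LinearMap.ker π with hC
  have hcompl : IsCompl A C := hπ.isCompl
  set C' : Submodule k V' := C.map ι with hC'
  have hcompl' : IsCompl A' C' := by
    constructor
    · rw [Submodule.disjoint_def]
      rintro _ hx ⟨c, hc, rfl⟩
      have hcb : c ∈ A := by rw [hA]; exact hx
      have : c = 0 := (Submodule.disjoint_def.mp hcompl.disjoint) c hcb hc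
      rw [this, map_zero]
    · rw [codisjoint_iff, eq_top_iff]
      intro h _
      have hmem : h ∈ LinearMap.range ι ⊔ A' := by rw [hdense]; trivial
      obtain ⟨_, ⟨x, rfl⟩, l, hl, rfl⟩ := Submodule.mem_sup.mp hmem
      have hx : x ∈ A ⊔ C := by rw [hcompl.sup_eq_top]; trivial
      obtain ⟨b, hb, c, hc, rfl⟩ := Submodule.mem_sup.mp hx
      rw [map_add]
      have hbl : ι b ∈ A' := by rw [hA] at hb; exact hb
      have e : ι b + ι c + l = (ι b + l) + ι c := by abel
      rw [e]
      exact Submodule.add_mem_sup (Submodule.add_mem _ hbl hl) ⟨c, hc, rfl⟩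
  set π'' : V' →ₗ[k] V' := A'.projection C' hcompl' with hπ''def
  have hπ'' : LinearMap.IsProj A' π'' :=
    ⟨fun x => Submodule.projection_apply_mem hcompl' x, fun x hx => by
      rw [hπ''def, Submodule.projection_apply,
        Submodule.projectionOnto_apply_of_mem_left hcompl' hx]⟩
  refine ⟨π'', hπ'', ?_⟩
  ext x : 1
  simp only [LinearMap.comp_apply]
  have hx : x = π x + (x - π x) := by abel
  have h1 : ι (π x) ∈ A' := by
    have := hπ.map_mem x
    rw [hA] at this
    exact this
  have h2 : ι (x - π x) ∈ C' := by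
    refine ⟨x - π x, ?_, rfl⟩
    change x - π x ∈ LinearMap.ker π
    rw [LinearMap.mem_ker, map_sub, hπ.map_id _ (hπ.map_mem x), sub_self]
  conv_lhs => rw [hx, map_add, map_add]
  rw [hπ''.map_id _ h1, (Submodule.projection_apply_eq_zero_iff hcompl').mpr h2, add_zero]

/-- comparison along an injective map with dense image, for arbitrary projectors -/
theorem tate_eq_of_injective' {A : Submodule k V} {π : V →ₗ[k] V} (hπ : LinearMap.IsProj A π)
    {A' : Submodule k V'} {π' : V' →ₗ[k] V'} (hπ' : LinearMap.IsProj A' π')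
    (ι : V →ₗ[k] V') (hι : Function.Injective ι) (hA : A = A'.comap ι)
    (hdense : LinearMap.range ι ⊔ A' = ⊤)
    {f g : V →ₗ[k] V} {f' g' : V' →ₗ[k] V'} (hf : f' ∘ₗ ι = ι ∘ₗ f) (hg : g' ∘ₗ ι = ι ∘ₗ g)
    (hfg' : f' ∘ₗ g' = g' ∘ₗ f') (hf' : NearStable A' f') (hg' : NearStable A' g') :
    tate hπ' f' g' = tate hπ f g := by
  obtain ⟨π'', hπ'', hππ⟩ := exists_compat_proj hπ ι hA hdense
  rw [tate_indep hπ'' hπ' hfg' hf' hg']
  exact tate_eq_of_injective hπ hπ'' ι hι hA hdense hππ hf hg hfg' hf' hg'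

/-- near-stability descends along an injective map -/
theorem nearStable_comap {A : Submodule k V} {A' : Submodule k V'} (ι : V →ₗ[k] V')
    (hA : A = A'.comap ι) {f : V →ₗ[k] V} {f' : V' →ₗ[k] V'} (hf : f' ∘ₗ ι = ι ∘ₗ f)
    (hf' : NearStable A' f') : NearStable A f := by
  obtain ⟨F', hF', hAF'⟩ := hf'
  haveI := hF'
  set G : Submodule k V := (A' ⊔ F').comap ι with hG
  have hAG : A ≤ G := by
    rw [hA, hG]
    exact Submodule.comap_mono le_sup_left
  -- `G / A` is finite-dimensional
  have hfin : Module.Finite k (G ⧸ A.comap G.subtype) := by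
    -- map `G → (A' ⊔ F') / A'`
    let T : Submodule k V' := A' ⊔ F'
    let q : G →ₗ[k] (T ⧸ A'.comap T.subtype) :=
      (A'.comap T.subtype).mkQ ∘ₗ (ι.restrict (p := G) (q := T) fun x hx => hx)
    have hker : LinearMap.ker q = A.comap G.subtype := by
      ext x
      rw [LinearMap.mem_ker, LinearMap.comp_apply, Submodule.mkQ_apply,
        Submodule.Quotient.mk_eq_zero, Submodule.mem_comap, Submodule.mem_comap, hA,
        Submodule.mem_comap]
      rfl
    have hTfin : Module.Finite k (T ⧸ A'.comap T.subtype) := by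
      -- quotient of `F'`
      let p : F' →ₗ[k] (T ⧸ A'.comap T.subtype) :=
        (A'.comap T.subtype).mkQ ∘ₗ Submodule.inclusion (le_sup_right : F' ≤ T)
      have hp : Function.Surjective p := by
        intro y
        obtain ⟨⟨z, hz⟩, rfl⟩ := Submodule.mkQ_surjective _ y
        obtain ⟨a, ha, x, hx, rfl⟩ := Submodule.mem_sup.mp hz
        refine ⟨⟨x, hx⟩, ?_⟩
        rw [LinearMap.comp_apply, Submodule.mkQ_apply, Submodule.mkQ_apply, Submodule.Quotient.eq]
        rw [Submodule.mem_comap]
        change x - (a + x) ∈ A'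
        rw [sub_add_cancel_right]
        exact neg_mem ha
      exact Module.Finite.of_surjective p hp
    have hinj : Function.Injective (Submodule.liftQ (A.comap G.subtype) q (le_of_eq hker.symm)) := by
      rw [← LinearMap.ker_eq_bot, Submodule.ker_liftQ, hker, Submodule.mkQ_map_self]
    exact Module.Finite.of_injective _ hinj
  obtain ⟨F, hF, -, hGF⟩ := exists_fd_le_sup A G hfin
  refine ⟨F, hF, ?_⟩
  rintro _ ⟨a, ha, rfl⟩
  apply hGF
  rw [hG, Submodule.mem_comap]
  have : ι (f a) = f' (ι a) := (LinearMap.congr_fun hf a).symm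
  rw [this]
  apply hAF'
  refine ⟨ι a, ?_, rfl⟩
  rw [hA] at ha
  exact ha

/-- additivity of the Tate symbol in the first argument over a finite sum -/
theorem tate_sum_left {A : Submodule k V} {π : V →ₗ[k] V} (hπ : LinearMap.IsProj A π)
    {ι : Type*} (s : Finset ι) (f : ι → V →ₗ[k] V) (g : V →ₗ[k] V)
    (hfg : ∀ j ∈ s, f j ∘ₗ g = g ∘ₗ f j) (hf : ∀ j ∈ s, NearStable A (f j))
    (hg : NearStable A g) :
    tate hπ (∑ j ∈ s, f j) g = ∑ j ∈ s, tate hπ (f j) g := by
  unfold tate
  rw [tcomm_sum_left, trF_sum _ _ fun j hj => finRank_tcomm hπ (hfg j hj) (hf j hj) hg]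

end Groth.Agent.H63.TateGen
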