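import Mathlib
import Groth.Agent.H86.TT11

set_option autoImplicit false
set_option linter.style.haveILetI false
set_option linter.unusedSectionVars false
set_option linter.unusedVariables false

namespace Groth.Agent.H63.TateProd
open Groth.Agent.H86.Tate Module

variable {k : Type*} [Field k] {ι : Type*} [Fintype ι] [DecidableEq ι]
  {V : ι → Type*} [∀ i, AddCommGroup (V i)] [∀ i, Module k (V i)]

section basic
variable (A : ∀ i, Submodule k (V i)) (π : ∀ i, V i →ₗ[k] V i)

/-- the product subspace -/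
def piA : Submodule k (∀ i, V i) := Submodule.pi Set.univ A

theorem mem_piA {v : ∀ i, V i} : v ∈ piA A ↔ ∀ i, v i ∈ A i := by
  simp [piA, Submodule.mem_pi]

/-- the product projector -/
def piπ : (∀ i, V i) →ₗ[k] (∀ i, V i) := LinearMap.pi fun i => π i ∘ₗ LinearMap.proj i

theorem piπ_apply (v : ∀ i, V i) (i : ι) : piπ π v i = π i (v i) := rfl

variable {A π} in
theorem isProj_piπ (hπ : ∀ i, LinearMap.IsProj (A i) (π i)) : LinearMap.IsProj (piA A) (piπ π) :=
  ⟨fun v => (mem_piA A).2 fun i => (hπ i).map_mem (v i),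
    fun v hv => funext fun i => (hπ i).map_id _ ((mem_piA A).1 hv i)⟩

/-- evaluation at a component -/
def ev (i : ι) : piA A →ₗ[k] A i :=
  LinearMap.codRestrict (A i) (LinearMap.proj i ∘ₗ (piA A).subtype) fun a => (mem_piA A).1 a.2 i

theorem ev_apply (i : ι) (a : piA A) : ((ev A i a : A i) : V i) = (a : ∀ i, V i) i := rfl

/-- inclusion of a component -/
def inj (i : ι) : A i →ₗ[k] piA A :=
  LinearMap.codRestrict (piA A) (LinearMap.single k V i ∘ₗ (A i).subtype) fun a =>
    (mem_piA A).2 fun j => by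
      by_cases h : j = i
      · subst h
        simp
      · simp [Pi.single_eq_of_ne h]

theorem inj_apply (i : ι) (a : A i) : ((inj A i a : piA A) : ∀ i, V i) = Pi.single i (a : V i) := rfl

theorem ev_inj_same (i : ι) : ev A i ∘ₗ inj A i = LinearMap.id := by
  ext a
  simp [ev_apply, inj_apply]

theorem sum_inj_ev : ∑ i, inj A i ∘ₗ ev A i = LinearMap.id := by
  ext a j
  rw [LinearMap.sum_apply, LinearMap.id_apply]
  have : (((∑ i, (inj A i ∘ₗ ev A i) a : piA A)) : ∀ i, V i) j =
      ∑ i, (((inj A i ∘ₗ ev A i) a : piA A) : ∀ i, V i) j := by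
    rw [Submodule.coe_sum, Finset.sum_apply]
  rw [this]
  simp only [LinearMap.comp_apply, inj_apply, ev_apply]
  rw [Finset.sum_eq_single j]
  · simp
  · intro i _ hij
    simp [Pi.single_eq_of_ne (Ne.symm hij)]
  · intro h
    exact absurd (Finset.mem_univ j) h

/-- the trace of a finite-rank operator on the product is the sum of the traces of the
diagonal blocks -/
theorem trF_eq_sum_blocks (T : piA A →ₗ[k] piA A) (hT : FinRank T) :
    trF T = ∑ i, trF (ev A i ∘ₗ T ∘ₗ inj A i) := by
  have h1 : T = ∑ i, inj A i ∘ₗ (ev A i ∘ₗ T) := by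
    apply LinearMap.ext
    intro a
    have := LinearMap.congr_fun (sum_inj_ev A) (T a)
    rw [LinearMap.sum_apply, LinearMap.id_apply] at this
    rw [LinearMap.sum_apply]
    exact this.symm
  conv_lhs => rw [h1]
  rw [trF_sum _ _ fun i _ => (hT.comp_left (ev A i)).comp_left (inj A i)]
  refine Finset.sum_congr rfl fun i _ => ?_
  exact (trF_comp_comm (ev A i ∘ₗ T) (inj A i) (hT.comp_left (ev A i))).symm

end basic

section diag
variable {A : ∀ i, Submodule k (V i)} {π : ∀ i, V i →ₗ[k] V i}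
  (hπ : ∀ i, LinearMap.IsProj (A i) (π i))

/-- diagonal operator -/
def diag (g : ∀ i, V i →ₗ[k] V i) : (∀ i, V i) →ₗ[k] (∀ i, V i) :=
  LinearMap.pi fun i => g i ∘ₗ LinearMap.proj i

theorem diag_apply (g : ∀ i, V i →ₗ[k] V i) (v : ∀ i, V i) (i : ι) : diag g v i = g i (v i) := rfl

/-- diagonal block of an operator -/
def block (f : (∀ i, V i) →ₗ[k] (∀ i, V i)) (i j : ι) : V j →ₗ[k] V i :=
  LinearMap.proj i ∘ₗ f ∘ₗ LinearMap.single k V j

theorem block_apply (f : (∀ i, V i) →ₗ[k] (∀ i, V i)) (i j : ι) (x : V j) :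
    block f i j x = f (Pi.single j x) i := rfl

theorem block_diag (g : ∀ i, V i →ₗ[k] V i) (i : ι) : block (diag g) i i = g i := by
  ext x
  simp [block_apply, diag_apply]

theorem diag_comp (g g' : ∀ i, V i →ₗ[k] V i) :
    diag g ∘ₗ diag g' = diag fun i => g i ∘ₗ g' i := rfl

theorem piπ_diag_single (g : ∀ i, V i →ₗ[k] V i) (i : ι) (x : V i) :
    piπ π (diag g (Pi.single i x)) = Pi.single i (π i (g i x)) := by
  funext j
  rw [piπ_apply, diag_apply]
  by_cases h : j = i
  · subst h
    simp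
  · simp [Pi.single_eq_of_ne h]

theorem ev_tcomm_inj (f : (∀ i, V i) →ₗ[k] (∀ i, V i)) (g : ∀ i, V i →ₗ[k] V i) (i : ι) :
    ev A i ∘ₗ tcomm (isProj_piπ hπ) f (diag g) ∘ₗ inj A i = tcomm (hπ i) (block f i i) (g i) := by
  ext a
  simp only [LinearMap.comp_apply, ev_apply, tcomm, LinearMap.sub_apply, Submodule.coe_sub,
    toep_apply, Pi.sub_apply, inj_apply, piπ_apply, block_apply]
  rw [piπ_diag_single]
  rfl

/-- the Tate symbol on a product with a diagonal second argument -/
theorem tate_pi (f : (∀ i, V i) →ₗ[k] (∀ i, V i)) (g : ∀ i, V i →ₗ[k] V i)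
    (hfin : FinRank (tcomm (isProj_piπ hπ) f (diag g))) :
    tate (isProj_piπ hπ) f (diag g) = ∑ i, tate (hπ i) (block f i i) (g i) := by
  unfold tate
  rw [trF_eq_sum_blocks A _ hfin]
  refine Finset.sum_congr rfl fun i _ => ?_
  rw [ev_tcomm_inj]

theorem finiteDimensional_piA (F : ∀ i, Submodule k (V i)) [∀ i, FiniteDimensional k (F i)] :
    FiniteDimensional k (piA F) := by
  let j : piA F →ₗ[k] (∀ i, F i) :=
    LinearMap.pi fun i => ev F i
  have hj : Function.Injective j := by
    intro a b hab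
    apply Subtype.ext
    funext i
    have := congrArg (fun w : ∀ i, F i => ((w i : F i) : V i)) hab
    exact this
  exact Module.Finite.of_injective j hj

theorem nearStable_diag (g : ∀ i, V i →ₗ[k] V i) (hg : ∀ i, NearStable (A i) (g i)) :
    NearStable (piA A) (diag g) := by
  choose F hF hAF using hg
  haveI := hF
  refine ⟨piA F, finiteDimensional_piA F, ?_⟩
  rintro _ ⟨v, hv, rfl⟩
  have h1 : ∀ i, ∃ a ∈ A i, ∃ x ∈ F i, a + x = g i (v i) := by
    intro i
    have : g i (v i) ∈ A i ⊔ F i := hAF i ⟨v i, (mem_piA A).1 hv i, rfl⟩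
    exact Submodule.mem_sup.1 this
  choose a ha x hx hax using h1
  have : diag g v = a + x := by
    funext i
    rw [diag_apply, Pi.add_apply, hax]
  rw [this]
  exact Submodule.add_mem_sup ((mem_piA A).2 ha) ((mem_piA F).2 hx)

end diag

end Groth.Agent.H63.TateProd
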