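import Mathlib
import Groth.Agent.H63.TateGen
import Groth.Agent.H63.TateProd
import Groth.Agent.H55.FFApprox

set_option autoImplicit false
set_option linter.style.haveILetI false
set_option linter.unusedSectionVars false

open scoped Classical

namespace Groth.Agent.H63.TateSemi
open FunFld Groth.Agent.H55 Groth.Agent.H86.Tate Groth.Agent.H63.TateProd Groth.Agent.H63.TateGen
open WithZero Module

variable {k K' : Type*} [Field k] [Field K'] [Algebra k K']
variable (Qs : Finset (Place k K'))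

/-- the family of balls at the places of `Qs` -/
def AQ (m : Qs → ℤ) (Q : Qs) : Submodule k K' := ballP Q.1 (m Q)

/-- the diagonal embedding -/
def Δ : K' →ₗ[k] (Qs → K') := LinearMap.pi fun _ => LinearMap.id

theorem Δ_apply (z : K') (Q : Qs) : Δ Qs z Q = z := rfl

theorem Δ_injective [Nonempty Qs] : Function.Injective (Δ Qs) := by
  intro a b hab
  obtain ⟨Q⟩ := ‹Nonempty Qs›
  exact congrFun hab Q

/-- the semilocal subspace `{z | ∀ Q ∈ Qs, v_Q z ≤ exp (-m Q)}` -/
def semiB (m : Qs → ℤ) : Submodule k K' := (piA (AQ Qs m)).comap (Δ Qs)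

theorem mem_semiB {m : Qs → ℤ} {z : K'} :
    z ∈ semiB Qs m ↔ ∀ Q : Qs, Q.1.1 z ≤ exp (-(m Q)) := by
  unfold semiB
  rw [Submodule.mem_comap, mem_piA]
  rfl

theorem dense (m : Qs → ℤ) : LinearMap.range (Δ Qs) ⊔ piA (AQ Qs m) = ⊤ := by
  rw [eq_top_iff]
  intro v _
  obtain ⟨y, hy⟩ := Place.weak_approx Qs (fun Q => if h : Q ∈ Qs then v ⟨Q, h⟩ else 0)
    (fun Q => if h : Q ∈ Qs then m ⟨Q, h⟩ else 0)
  have : v = Δ Qs y + (v - Δ Qs y) := by abel
  rw [this]
  refine Submodule.add_mem_sup ⟨y, rfl⟩ ?_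
  rw [mem_piA]
  intro Q
  have := hy Q.1 Q.2
  rw [dif_pos Q.2, dif_pos Q.2] at this
  change Q.1.1 (v Q - y) ≤ exp (-(m Q))
  rw [Valuation.map_sub_swap]
  exact this.le

theorem mul_comm_lin (y x : K') :
    LinearMap.mulLeft k y ∘ₗ LinearMap.mulLeft k x = LinearMap.mulLeft k x ∘ₗ LinearMap.mulLeft k y := by
  ext z
  simp [mul_left_comm]

theorem diag_comp_Δ (y : K') :
    diag (fun _ : Qs => LinearMap.mulLeft k y) ∘ₗ Δ Qs = Δ Qs ∘ₗ LinearMap.mulLeft k y := rfl

theorem diag_comm (y x : K') :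
    diag (fun _ : Qs => LinearMap.mulLeft k y) ∘ₗ diag (fun _ : Qs => LinearMap.mulLeft k x) =
      diag (fun _ : Qs => LinearMap.mulLeft k x) ∘ₗ diag (fun _ : Qs => LinearMap.mulLeft k y) := by
  rw [diag_comp, diag_comp]
  congr 1
  funext Q
  exact mul_comm_lin y x

theorem nearStable_piA (hK' : IsFunctionField k K') (m : Qs → ℤ) (y : K') :
    NearStable (piA (AQ Qs m)) (diag (fun _ : Qs => LinearMap.mulLeft k y)) :=
  nearStable_diag _ fun Q => nearStable_ballP hK' Q.1 (m Q) y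

theorem nearStable_semiB (hK' : IsFunctionField k K') (m : Qs → ℤ) (y : K') :
    NearStable (semiB Qs m) (LinearMap.mulLeft k y) :=
  nearStable_comap (Δ Qs) rfl (diag_comp_Δ Qs y) (nearStable_piA Qs hK' m y)

/-- the Tate symbol of the semilocal subspace is the sum of the local ones -/
theorem tate_semiB_eq_sum (hK' : IsFunctionField k K') [Nonempty Qs] (m : Qs → ℤ)
    {πB : K' →ₗ[k] K'} (hπB : LinearMap.IsProj (semiB Qs m) πB)
    {πQ : Qs → (K' →ₗ[k] K')} (hπQ : ∀ Q : Qs, LinearMap.IsProj (AQ Qs m Q) (πQ Q)) (y x : K') :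
    tate hπB (LinearMap.mulLeft k y) (LinearMap.mulLeft k x) =
      ∑ Q : Qs, tate (hπQ Q) (LinearMap.mulLeft k y) (LinearMap.mulLeft k x) := by
  have h1 := tate_eq_of_injective' hπB (isProj_piπ hπQ) (Δ Qs) (Δ_injective Qs) rfl (dense Qs m)
    (diag_comp_Δ Qs y) (diag_comp_Δ Qs x) (diag_comm Qs y x) (nearStable_piA Qs hK' m y)
    (nearStable_piA Qs hK' m x)
  rw [← h1, tate_pi hπQ _ _ (finRank_tcomm _ (diag_comm Qs y x) (nearStable_piA Qs hK' m y)
    (nearStable_piA Qs hK' m x))]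
  refine Finset.sum_congr rfl fun Q _ => ?_
  rw [block_diag]

end Groth.Agent.H63.TateSemi
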