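import Mathlib
import Groth.Agent.H63.TateSemi
import Groth.Agent.H55.WExt3
import Groth.Agent.H55.FFLocal

set_option autoImplicit false
set_option linter.style.haveILetI false
set_option linter.unusedSectionVars false

open scoped Classical

namespace Groth.Agent.H63.SemiFree
open FunFld Groth.Agent.H55 Groth.Agent.H86.Tate Groth.Agent.H63.TateProd Groth.Agent.H63.TateGen
open Groth.Agent.H63.TateSemi WithZero Module

variable {k K K' : Type*} [Field k] [Field K] [Field K'] [Algebra k K] [Algebra K K']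
  [Algebra k K'] [IsScalarTower k K K']

/-- ramification indices as an integer-valued function on `Qs` -/
noncomputable def eQ (P : Place k K) (Qs : Finset (Place k K')) (Q : Qs) : ℤ := (ramIdx Q.1 P : ℤ)

section
variable (P : Place k K) (Qs : Finset (Place k K')) (hQs : ∀ Q, Q ∈ Qs ↔ IsOver Q P)

include hQs in
theorem val_algebraMap (Q : Qs) (c : K) :
    Q.1.1 (algebraMap K K' c) = P.1 c ^ (ramIdx Q.1 P) :=
  isOverWith_ramIdx ((hQs Q.1).1 Q.2) c

include hQs in
theorem ramIdx_pos (Q : Qs) : 0 < ramIdx Q.1 P :=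
  isOverWith_pos (isOverWith_ramIdx ((hQs Q.1).1 Q.2))

include hQs in
theorem val_algebraMap_le_one (Q : Qs) {c : K} (hc : P.1 c ≤ 1) :
    Q.1.1 (algebraMap K K' c) ≤ 1 := by
  rw [val_algebraMap P Qs hQs]
  exact pow_le_one₀ zero_le hc

include hQs in
theorem val_algebraMap_le_exp (Q : Qs) {c : K} {n : ℤ} (hc : P.1 c ≤ exp (-n)) :
    Q.1.1 (algebraMap K K' c) ≤ exp (-(eQ P Qs Q * n)) := by
  rw [val_algebraMap P Qs hQs]
  refine (pow_le_pow_left₀ zero_le hc _).trans_eq ?_
  rw [exp_pow_nat]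
  unfold eQ
  congr 1
  ring

include hQs in
theorem val_algebraMap_unif (Q : Qs) {t : K} (ht : P.1 t = exp (-1 : ℤ)) :
    Q.1.1 (algebraMap K K' t) = exp (-(eQ P Qs Q)) := by
  rw [val_algebraMap P Qs hQs, ht, exp_pow_nat]
  unfold eQ
  congr 1
  ring

end

section dim
variable [FiniteDimensional K K'] (hK : IsFunctionField k K) (hK' : IsFunctionField k K')
  (P : Place k K) (Qs : Finset (Place k K')) (hQs : ∀ Q, Q ∈ Qs ↔ IsOver Q P)

theorem semiB_zero_le_ball (Q : Qs) : semiB Qs (0 : Qs → ℤ) ≤ Place.ball Q.1 0 := by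
  intro z hz
  exact (mem_semiB Qs).1 hz Q

include hK hQs in
theorem eQ_nonneg (Q : Qs) : 0 ≤ eQ P Qs Q := Int.natCast_nonneg _

/-- the Chinese remainder map -/
noncomputable def crt : semiB Qs (0 : Qs → ℤ) →ₗ[k] (∀ Q : Qs, Place.LocQ Q.1 0 (eQ P Qs Q)) :=
  LinearMap.pi fun Q => Place.LocQ.mk Q.1 0 (eQ P Qs Q) ∘ₗ
    Submodule.inclusion (semiB_zero_le_ball Qs Q)

theorem crt_eq_zero_iff (x : semiB Qs (0 : Qs → ℤ)) :
    crt P Qs x = 0 ↔ (x : K') ∈ semiB Qs (eQ P Qs) := by
  rw [mem_semiB]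
  constructor
  · intro h Q
    have := congrFun h Q
    change Place.LocQ.mk Q.1 0 (eQ P Qs Q) _ = 0 at this
    rw [Place.LocQ.mk_eq_zero] at this
    exact this
  · intro h
    funext Q
    change Place.LocQ.mk Q.1 0 (eQ P Qs Q) _ = 0
    rw [Place.LocQ.mk_eq_zero]
    exact h Q

include hK hQs in
theorem crt_surjective : Function.Surjective (crt P Qs) := by
  intro q
  have hl : ∀ Q : Qs, ∃ z : Place.ball Q.1 0, Place.LocQ.mk Q.1 0 (eQ P Qs Q) z = q Q :=
    fun Q => Place.LocQ.mk_surjective _ _ _ (q Q)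
  choose z hz using hl
  obtain ⟨y, hy⟩ := Place.weak_approx_le Qs (fun Q => if h : Q ∈ Qs then (z ⟨Q, h⟩ : K') else 0)
    (∑ Q : Qs, eQ P Qs Q)
  have hy' : ∀ Q : Qs, Q.1.1 (y - (z Q : K')) ≤ exp (-(eQ P Qs Q)) := by
    intro Q
    have := hy Q.1 Q.2
    rw [dif_pos Q.2] at this
    refine this.trans (exp_le_exp.2 ?_)
    have : eQ P Qs Q ≤ ∑ Q : Qs, eQ P Qs Q :=
      Finset.single_le_sum (f := fun Q : Qs => eQ P Qs Q)
        (fun Q _ => eQ_nonneg hK P Qs hQs Q) (Finset.mem_univ Q)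
    omega
  have hyB : y ∈ semiB Qs (0 : Qs → ℤ) := by
    rw [mem_semiB]
    intro Q
    have h1 : y = (y - (z Q : K')) + (z Q : K') := by ring
    rw [h1]
    apply (Q.1.1.map_add _ _).trans
    apply max_le
    · refine (hy' Q).trans (exp_le_exp.2 ?_)
      have := eQ_nonneg hK P Qs hQs Q
      simp only [Pi.zero_apply]
      omega
    · exact (z Q).2
  refine ⟨⟨y, hyB⟩, ?_⟩
  funext Q
  rw [← hz Q]
  change Place.LocQ.mk Q.1 0 (eQ P Qs Q) _ = _
  rw [← sub_eq_zero, ← map_sub, Place.LocQ.mk_eq_zero]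
  exact hy' Q

include hK hK' hQs in
/-- `dim_k B / tB = [K' : K] deg P` -/
theorem finrank_relQ :
    Module.Finite k (RelQ (semiB Qs (eQ P Qs)) (semiB Qs (0 : Qs → ℤ))) ∧
      finrank k (RelQ (semiB Qs (eQ P Qs)) (semiB Qs (0 : Qs → ℤ))) = finrank K K' * P.deg := by
  let E := relQEquivOfSurjective (semiB Qs (eQ P Qs)) (semiB Qs (0 : Qs → ℤ)) (crt P Qs)
    (crt_surjective hK P Qs hQs) (crt_eq_zero_iff P Qs)
  have hfinQ : ∀ Q : Qs, Module.Finite k (Place.LocQ Q.1 0 (eQ P Qs Q)) := fun Q =>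
    (Place.LocQ.finrank hK' Q.1 (eQ_nonneg hK P Qs hQs Q)).1
  have hfin : Module.Finite k (∀ Q : Qs, Place.LocQ Q.1 0 (eQ P Qs Q)) := inferInstance
  refine ⟨Module.Finite.equiv E.symm, ?_⟩
  rw [E.finrank_eq, Module.finrank_pi_fintype]
  have h1 : ∀ Q : Qs, finrank k (Place.LocQ Q.1 0 (eQ P Qs Q)) = ramIdx Q.1 P * Q.1.deg := by
    intro Q
    have := (Place.LocQ.finrank hK' Q.1 (eQ_nonneg hK P Qs hQs Q)).2
    rw [sub_zero] at this
    unfold eQ at this
    exact_mod_cast this
  rw [Finset.sum_congr rfl fun Q _ => h1 Q]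
  rw [Finset.sum_coe_sort Qs (fun Q => ramIdx Q P * Q.deg)]
  exact (sum_ramIdx_mul_deg (K' := K') hK P).2 Qs hQs

end dim

end Groth.Agent.H63.SemiFree

namespace Groth.Agent.H63.SemiFree
open FunFld Groth.Agent.H55 Groth.Agent.H86.Tate Groth.Agent.H63.TateProd Groth.Agent.H63.TateGen
open Groth.Agent.H63.TateSemi WithZero Module

section prodrel
variable {k : Type*} [Field k] {ι : Type*} [Fintype ι]
  {V : ι → Type*} [∀ i, AddCommGroup (V i)] [∀ i, Module k (V i)]
  (A₁ A : ∀ i, Submodule k (V i))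

/-- the relative quotient of products is the product of the relative quotients -/
noncomputable def relQPi : RelQ (piA A₁) (piA A) ≃ₗ[k] (∀ i, RelQ (A₁ i) (A i)) :=
  relQEquivOfSurjective (piA A₁) (piA A)
    (LinearMap.pi fun i => ((A₁ i).comap (A i).subtype).mkQ ∘ₗ ev A i)
    (by
      intro q
      have hl : ∀ i, ∃ a : A i, ((A₁ i).comap (A i).subtype).mkQ a = q i :=
        fun i => Submodule.mkQ_surjective _ (q i)
      choose a ha using hl
      refine ⟨⟨fun i => (a i : V i), (mem_piA A).2 fun i => (a i).2⟩, ?_⟩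
      funext i
      rw [← ha i]
      rfl)
    (by
      intro x
      rw [mem_piA]
      constructor
      · intro h i
        have := congrFun h i
        change ((A₁ i).comap (A i).subtype).mkQ (ev A i x) = 0 at this
        rw [Submodule.mkQ_apply, Submodule.Quotient.mk_eq_zero, Submodule.mem_comap] at this
        exact this
      · intro h
        funext i
        change ((A₁ i).comap (A i).subtype).mkQ (ev A i x) = 0
        rw [Submodule.mkQ_apply, Submodule.Quotient.mk_eq_zero, Submodule.mem_comap]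
        exact h i)

end prodrel

end Groth.Agent.H63.SemiFree

namespace Groth.Agent.H63.SemiFree
open FunFld Groth.Agent.H55 Groth.Agent.H86.Tate Groth.Agent.H63.TateProd Groth.Agent.H63.TateGen
open Groth.Agent.H63.TateSemi WithZero Module

section gen
variable {k K K' : Type*} [Field k] [Field K] [Field K'] [Algebra k K] [Algebra K K']
  [Algebra k K'] [IsScalarTower k K K']
variable (P : Place k K) (Qs : Finset (Place k K'))

/-- `G` generates `B` over `O_P` modulo `tB` -/
def Gen (G : Finset K') : Prop :=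
  (∀ g ∈ G, g ∈ semiB Qs (0 : Qs → ℤ)) ∧
    ∀ z ∈ semiB Qs (0 : Qs → ℤ), ∃ c : K' → K, (∀ g ∈ G, P.1 (c g) ≤ 1) ∧
      z - ∑ g ∈ G, c g • g ∈ semiB Qs (eQ P Qs)

variable [FiniteDimensional K K'] (hK : IsFunctionField k K) (hK' : IsFunctionField k K')
  (hQs : ∀ Q, Q ∈ Qs ↔ IsOver Q P)

include hK hK' hQs in
theorem exists_gen : ∃ G : Finset K', Gen P Qs G := by
  obtain ⟨hfin, -⟩ := finrank_relQ hK hK' P Qs hQs
  obtain ⟨F', hF', hF'B, hBF'⟩ := exists_fd_le_sup (semiB Qs (eQ P Qs)) (semiB Qs (0 : Qs → ℤ)) hfin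
  haveI := hF'
  obtain ⟨S, hS⟩ := (Module.Finite.iff_fg.1 hF')
  refine ⟨S, fun g hg => hF'B (hS ▸ Submodule.subset_span hg), fun z hz => ?_⟩
  obtain ⟨w, hw, x, hx, rfl⟩ := Submodule.mem_sup.1 (hBF' hz)
  rw [← hS] at hx
  obtain ⟨f, -, hf⟩ := Submodule.mem_span_finset.1 hx
  refine ⟨fun g => algebraMap k K (f g), fun g _ => P.2.1 _, ?_⟩
  have : ∑ g ∈ S, (algebraMap k K (f g)) • g = x := by
    rw [← hf]
    refine Finset.sum_congr rfl fun g _ => ?_
    rw [algebraMap_smul]
  rw [this, add_sub_cancel_right]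
  exact hw

include hQs in
/-- a generating set of minimal cardinality is linearly independent over `K` -/
theorem linearIndepOn_of_minimal (G : Finset K') (hG : Gen P Qs G)
    (hmin : ∀ G' : Finset K', Gen P Qs G' → G.card ≤ G'.card) :
    LinearIndepOn K id (G : Set K') := by
  rw [linearIndepOn_finset_iff]
  by_contra hcon
  push Not at hcon
  obtain ⟨c, hc0, g1, hg1, hcg1⟩ := hcon
  simp only [id] at hc0
  -- index with maximal coefficient
  obtain ⟨g0, hg0, hmax⟩ := Finset.exists_max_image G (fun g => P.1 (c g)) ⟨g1, hg1⟩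
  have hcg0 : c g0 ≠ 0 := by
    intro h0
    have := hmax g1 hg1
    rw [h0, map_zero] at this
    exact hcg1 ((map_eq_zero _).1 (le_antisymm this zero_le))
  have hd : ∀ g ∈ G, P.1 (c g / c g0) ≤ 1 := by
    intro g hg
    rw [map_div₀]
    exact div_le_one_of_le₀ (hmax g hg) zero_le
  -- `g0 = - ∑_{g ≠ g0} (c g / c g0) g`
  have hg0eq : g0 = - ∑ g ∈ G.erase g0, (c g / c g0) • g := by
    have h1 : ∑ g ∈ G, (c g / c g0) • g = 0 := by
      have : ∑ g ∈ G, (c g / c g0) • g = (c g0)⁻¹ • ∑ g ∈ G, c g • g := by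
        rw [Finset.smul_sum]
        refine Finset.sum_congr rfl fun g _ => ?_
        rw [smul_smul, div_eq_inv_mul]
      rw [this, hc0, smul_zero]
    rw [← Finset.add_sum_erase G _ hg0, div_self hcg0, one_smul] at h1
    exact eq_neg_of_add_eq_zero_left h1
  have hGen' : Gen P Qs (G.erase g0) := by
    refine ⟨fun g hg => hG.1 g (Finset.mem_of_mem_erase hg), fun z hz => ?_⟩
    obtain ⟨a, ha, haz⟩ := hG.2 z hz
    refine ⟨fun g => a g - a g0 * (c g / c g0), fun g hg => ?_, ?_⟩
    · have hgG := Finset.mem_of_mem_erase hg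
      apply (P.1.map_sub _ _).trans
      apply max_le (ha g hgG)
      rw [map_mul]
      exact mul_le_one' (ha g0 hg0) (hd g hgG)
    · have : ∑ g ∈ G.erase g0, (a g - a g0 * (c g / c g0)) • g = ∑ g ∈ G, a g • g := by
        rw [← Finset.add_sum_erase G _ hg0]
        have hv : a g0 • g0 = - ∑ g ∈ G.erase g0, (a g0 * (c g / c g0)) • g := by
          have : a g0 • g0 = a g0 • (- ∑ g ∈ G.erase g0, (c g / c g0) • g) :=
            congrArg (fun v => a g0 • v) hg0eq
          rw [this, smul_neg, Finset.smul_sum]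
          simp only [mul_smul]
        rw [hv]
        simp only [sub_smul, Finset.sum_sub_distrib]
        abel
      rw [this]
      exact haz
  have := hmin _ hGen'
  rw [Finset.card_erase_of_mem hg0] at this
  have hpos : 0 < G.card := Finset.card_pos.2 ⟨g0, hg0⟩
  omega

end gen

end Groth.Agent.H63.SemiFree
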