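import Mathlib
import Groth.Agent.H63.SemiFree

set_option autoImplicit false
set_option linter.style.haveILetI false
set_option linter.unusedSectionVars false

open scoped Classical

namespace Groth.Agent.H63.SemiFree2
open FunFld Groth.Agent.H55 Groth.Agent.H86.Tate Groth.Agent.H63.TateProd Groth.Agent.H63.TateGen
open Groth.Agent.H63.TateSemi Groth.Agent.H63.SemiFree WithZero Module

variable {k K K' : Type*} [Field k] [Field K] [Field K'] [Algebra k K] [Algebra K K']
  [Algebra k K'] [IsScalarTower k K K']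

/-- the coordinate map of a finite family, as a `k`-linear map -/
noncomputable def σ {ι : Type*} [Fintype ι] (b : ι → K') : (ι → K) →ₗ[k] K' :=
  (Fintype.linearCombination K b).restrictScalars k

theorem σ_apply {ι : Type*} [Fintype ι] (b : ι → K') (c : ι → K) :
    σ (k := k) b c = ∑ i, c i • b i := rfl

theorem σ_smul {ι : Type*} [Fintype ι] (b : ι → K') (t : K) (c : ι → K) :
    σ (k := k) b (t • c) = t • σ (k := k) b c := by
  rw [σ_apply, σ_apply, Finset.smul_sum]
  refine Finset.sum_congr rfl fun i _ => ?_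
  rw [Pi.smul_apply, smul_eq_mul, mul_smul]

section
variable (P : Place k K) (Qs : Finset (Place k K')) (hQs : ∀ Q, Q ∈ Qs ↔ IsOver Q P)

include hQs in
/-- coordinates of order `≥ n` give elements of order `≥ e n` -/
theorem σ_mem {ι : Type*} [Fintype ι] (b : ι → K') (hb : ∀ i, b i ∈ semiB Qs (0 : Qs → ℤ))
    (n : ℤ) (c : ι → K) (hc : ∀ i, P.1 (c i) ≤ exp (-n)) (Q : Qs) :
    Q.1.1 (σ (k := k) b c) ≤ exp (-(eQ P Qs Q * n)) := by
  rw [σ_apply]
  refine Valuation.map_sum_le _ fun i _ => ?_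
  rw [Algebra.smul_def, map_mul]
  have h1 := val_algebraMap_le_exp P Qs hQs Q (hc i)
  have h2 : Q.1.1 (b i) ≤ 1 := by
    have := (mem_semiB Qs).1 (hb i) Q
    simpa using this
  exact (mul_le_mul' h1 h2).trans_eq (mul_one _)

end

theorem finrank_const_pi (ι : Type*) [Fintype ι] (M : Type*) [AddCommGroup M] [Module k M]
    [Module.Finite k M] : finrank k (ι → M) = Fintype.card ι * finrank k M := by
  rw [Module.finrank_pi_fintype]
  simp only [Finset.sum_const, Finset.card_univ, smul_eq_mul]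

section main
variable [FiniteDimensional K K'] (hK : IsFunctionField k K) (hK' : IsFunctionField k K')
  (P : Place k K) (Qs : Finset (Place k K')) (hQs : ∀ Q, Q ∈ Qs ↔ IsOver Q P)

/-- the unit coordinate lattice -/
noncomputable def U (ι : Type*) [Fintype ι] (n : ℤ) : Submodule k (ι → K) :=
  piA fun _ : ι => Place.ball P n

theorem mem_U {ι : Type*} [Fintype ι] {n : ℤ} {c : ι → K} :
    c ∈ U P ι n ↔ ∀ i, P.1 (c i) ≤ exp (-n) := by
  unfold U
  rw [mem_piA]
  rfl

include hK in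
theorem finrank_U (ι : Type*) [Fintype ι] :
    Module.Finite k (RelQ (U P ι (0 + 1)) (U P ι 0)) ∧
      finrank k (RelQ (U P ι (0 + 1)) (U P ι 0)) = Fintype.card ι * P.deg := by
  let E := relQPi (fun _ : ι => Place.ball P (0 + 1)) (fun _ : ι => Place.ball P 0)
  have h1 := Place.ballQuot_finrank hK P 0
  haveI := h1.1
  refine ⟨Module.Finite.equiv E.symm, ?_⟩
  have hE : finrank k (RelQ (U P ι (0 + 1)) (U P ι 0)) =
      finrank k (∀ _ : ι, RelQ (Place.ball P (0 + 1)) (Place.ball P 0)) := E.finrank_eq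
  rw [hE, finrank_const_pi, h1.2]

include hQs in
theorem σ_mem_B {ι : Type*} [Fintype ι] (b : ι → K') (hb : ∀ i, b i ∈ semiB Qs (0 : Qs → ℤ))
    (c : ι → K) (hc : c ∈ U P ι 0) : σ (k := k) b c ∈ semiB Qs (0 : Qs → ℤ) := by
  rw [mem_semiB]
  intro Q
  have := σ_mem P Qs hQs b hb 0 c ((mem_U P).1 hc) Q
  simpa using this

include hQs in
theorem σ_mem_tB {ι : Type*} [Fintype ι] (b : ι → K') (hb : ∀ i, b i ∈ semiB Qs (0 : Qs → ℤ))
    (c : ι → K) (hc : c ∈ U P ι (0 + 1)) : σ (k := k) b c ∈ semiB Qs (eQ P Qs) := by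
  rw [mem_semiB]
  intro Q
  have := σ_mem P Qs hQs b hb (0 + 1) c ((mem_U P).1 hc) Q
  simpa using this

include hQs in
theorem U_le_comap_B {ι : Type*} [Fintype ι] (b : ι → K') (hb : ∀ i, b i ∈ semiB Qs (0 : Qs → ℤ)) :
    U P ι 0 ≤ (semiB Qs (0 : Qs → ℤ)).comap (σ (k := k) b) :=
  fun c hc => σ_mem_B P Qs hQs b hb c hc

include hQs in
theorem U_le_comap_tB {ι : Type*} [Fintype ι] (b : ι → K') (hb : ∀ i, b i ∈ semiB Qs (0 : Qs → ℤ)) :
    U P ι (0 + 1) ≤ (semiB Qs (eQ P Qs)).comap (σ (k := k) b) :=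
  fun c hc => σ_mem_tB P Qs hQs b hb c hc

/-- the induced map `U / tU → B / tB` -/
noncomputable def ρ {ι : Type*} [Fintype ι] (b : ι → K') (hb : ∀ i, b i ∈ semiB Qs (0 : Qs → ℤ)) :
    RelQ (U P ι (0 + 1)) (U P ι 0) →ₗ[k] RelQ (semiB Qs (eQ P Qs)) (semiB Qs (0 : Qs → ℤ)) :=
  relQMap (σ (k := k) b) (U P ι (0 + 1)) (U P ι 0) (semiB Qs (eQ P Qs)) (semiB Qs (0 : Qs → ℤ))
    (U_le_comap_B P Qs hQs b hb) (U_le_comap_tB P Qs hQs b hb)

include hK hK' in
/-- a generating family (mod `tB`) has at least `[K':K]` members -/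
theorem card_ge_of_gen (G : Finset K') (hG : Gen P Qs G) :
    Function.Surjective (ρ P Qs hQs (fun g : G => (g : K')) (fun g => hG.1 g.1 g.2)) ∧
    finrank K K' ≤ G.card := by
  have hsurj : Function.Surjective (ρ P Qs hQs (fun g : G => (g : K'))
      (fun g => hG.1 g.1 g.2)) := by
    apply relQMap_surjective
    intro z hz
    obtain ⟨c, hc, hcz⟩ := hG.2 z hz
    refine ⟨fun g : G => c g, (mem_U P).2 fun g => by simpa using hc g.1 g.2, ?_⟩
    have : σ (k := k) (fun g : G => (g : K')) (fun g : G => c g) = ∑ g ∈ G, c g • g := by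
      rw [σ_apply]
      exact Finset.sum_coe_sort G (fun g => c g • g)
    rw [this]
    exact hcz
  refine ⟨hsurj, ?_⟩
  obtain ⟨hf1, hr1⟩ := finrank_U hK P G
  obtain ⟨hf2, hr2⟩ := finrank_relQ hK hK' P Qs hQs
  have := LinearMap.finrank_le_finrank_of_surjective hsurj
  rw [hr1, hr2, Fintype.card_coe] at this
  exact Nat.le_of_mul_le_mul_right this (Place.deg_pos hK P)

include hK hK' in
theorem ρ_injective {ι : Type*} [Fintype ι] (b : ι → K') (hb : ∀ i, b i ∈ semiB Qs (0 : Qs → ℤ))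
    (hcard : Fintype.card ι = finrank K K')
    (hsurj : Function.Surjective (ρ P Qs hQs b hb)) : Function.Injective (ρ P Qs hQs b hb) := by
  obtain ⟨hf1, hr1⟩ := finrank_U hK P ι
  obtain ⟨hf2, hr2⟩ := finrank_relQ hK hK' P Qs hQs
  exact (LinearMap.injective_iff_surjective_of_finrank_eq_finrank
    (by rw [hr1, hr2, hcard])).2 hsurj

theorem mem_U_one_of_mem_tB {ι : Type*} [Fintype ι] (b : ι → K')
    (hb : ∀ i, b i ∈ semiB Qs (0 : Qs → ℤ)) (hinj : Function.Injective (ρ P Qs hQs b hb))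
    (c : ι → K) (hc : c ∈ U P ι 0) (h : σ (k := k) b c ∈ semiB Qs (eQ P Qs)) :
    c ∈ U P ι (0 + 1) := by
  have h1 : ρ P Qs hQs b hb (Submodule.Quotient.mk ⟨c, hc⟩) = 0 := by
    unfold ρ
    rw [relQMap_mk, Submodule.Quotient.mk_eq_zero, Submodule.mem_comap]
    exact h
  have h0 := hinj (h1.trans (map_zero _).symm)
  rw [Submodule.Quotient.mk_eq_zero, Submodule.mem_comap] at h0
  exact h0

include hK in
theorem descent {ι : Type*} [Fintype ι] (b : ι → K')
    (hb : ∀ i, b i ∈ semiB Qs (0 : Qs → ℤ)) (hinj : Function.Injective (ρ P Qs hQs b hb))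
    (n : ℕ) : ∀ c : ι → K, (∀ i, P.1 (c i) ≤ exp (n : ℤ)) →
      σ (k := k) b c ∈ semiB Qs (0 : Qs → ℤ) → c ∈ U P ι 0 := by
  induction n with
  | zero =>
    intro c hc _
    rw [mem_U]
    intro i
    simpa using hc i
  | succ n ih =>
    intro c hc hz
    obtain ⟨t, ht⟩ := Place.exists_uniformizer P
    refine ih c ?_ hz
    have hc' : (t ^ (n + 1)) • c ∈ U P ι 0 := by
      rw [mem_U]
      intro i
      rw [Pi.smul_apply, smul_eq_mul, map_mul, map_pow, ht, exp_pow_nat]
      refine (mul_le_mul' le_rfl (hc i)).trans_eq ?_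
      rw [← exp_add]
      congr 1
      push_cast
      ring
    have hz' : σ (k := k) b ((t ^ (n + 1)) • c) ∈ semiB Qs (eQ P Qs) := by
      rw [σ_smul, mem_semiB]
      intro Q
      rw [Algebra.smul_def, map_mul, map_pow, map_pow, val_algebraMap_unif P Qs hQs Q ht, exp_pow_nat]
      have h2 : Q.1.1 (σ (k := k) b c) ≤ 1 := by
        have := (mem_semiB Qs).1 hz Q
        simpa using this
      refine (mul_le_mul' le_rfl h2).trans ?_
      rw [mul_one, exp_le_exp]
      have := eQ_nonneg hK P Qs hQs Q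
      push_cast
      nlinarith
    have h3 := mem_U_one_of_mem_tB P Qs hQs b hb hinj _ hc' hz'
    rw [mem_U] at h3
    intro i
    have h4 := h3 i
    rw [Pi.smul_apply, smul_eq_mul, map_mul, map_pow, ht, exp_pow_nat] at h4
    -- `exp (-(n+1)) * P (c i) ≤ exp (-1)`
    have h5 : P.1 (c i) = exp (((n + 1 : ℕ) : ℤ) * 1) * (exp (((n + 1 : ℕ) : ℤ) * -1) * P.1 (c i)) := by
      rw [← mul_assoc, ← exp_add]
      have : ((n + 1 : ℕ) : ℤ) * 1 + ((n + 1 : ℕ) : ℤ) * -1 = 0 := by ring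
      rw [this, exp_zero, one_mul]
    rw [h5]
    refine (mul_le_mul' le_rfl h4).trans_eq ?_
    rw [← exp_add]
    congr 1
    push_cast
    ring

theorem exists_exp_bound {ι : Type*} [Fintype ι] (v : ι → WithZero (Multiplicative ℤ)) :
    ∃ n : ℕ, ∀ i, v i ≤ exp (n : ℤ) := by
  have h1 : ∀ i, ∃ n : ℕ, v i ≤ exp (n : ℤ) := by
    intro i
    by_cases h0 : v i = 0
    · exact ⟨0, by rw [h0]; exact zero_le⟩
    · refine ⟨(log (v i)).toNat, ?_⟩
      rw [← exp_log h0] 
      rw [exp_le_exp]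
      rw [log_exp]
      omega
  choose n hn using h1
  refine ⟨Finset.univ.sup n, fun i => (hn i).trans ?_⟩
  rw [exp_le_exp]
  exact_mod_cast Finset.le_sup (f := n) (Finset.mem_univ i)

include hK hK' hQs in
/-- `B = ⋂_{Q | P} O_Q` is a free `O_P`-module on a `K`-basis of `K'` -/
theorem exists_basis : ∃ (G : Finset K') (bs : Basis G K K'),
    ∀ z : K', z ∈ semiB Qs (0 : Qs → ℤ) ↔ ∀ g, P.1 (bs.repr z g) ≤ 1 := by
  obtain ⟨G, hG, hmin⟩ : ∃ G, Gen P Qs G ∧ ∀ G', Gen P Qs G' → G.card ≤ G'.card := by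
    have hex : ∃ n, ∃ G, Gen P Qs G ∧ G.card = n := by
      obtain ⟨G, hG⟩ := exists_gen P Qs hK hK' hQs
      exact ⟨_, G, hG, rfl⟩
    obtain ⟨G, hG, hcard⟩ := Nat.find_spec hex
    refine ⟨G, hG, fun G' hG' => ?_⟩
    rw [hcard]
    exact Nat.find_min' hex ⟨G', hG', rfl⟩
  have hli : LinearIndependent K (fun g : G => (g : K')) :=
    linearIndepOn_of_minimal P Qs hQs G hG hmin
  obtain ⟨hsurj, hge⟩ := card_ge_of_gen hK hK' P Qs hQs G hG
  have hle : Fintype.card G ≤ finrank K K' := hli.fintype_card_le_finrank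
  have hcard : Fintype.card G = finrank K K' := by
    rw [Fintype.card_coe] at hle ⊢
    omega
  haveI : Nonempty G := by
    rw [← Fintype.card_pos_iff, hcard]
    exact Module.finrank_pos
  let bs : Basis G K K' := basisOfLinearIndependentOfCardEqFinrank hli hcard
  have hbs : ∀ g : G, bs g = (g : K') := fun g => by
    change basisOfLinearIndependentOfCardEqFinrank hli hcard g = _
    rw [coe_basisOfLinearIndependentOfCardEqFinrank]
  have hb : ∀ g : G, (g : K') ∈ semiB Qs (0 : Qs → ℤ) := fun g => hG.1 g.1 g.2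
  have hinj := ρ_injective hK hK' P Qs hQs (fun g : G => (g : K')) hb hcard hsurj
  have hσ : ∀ z : K', σ (k := k) (fun g : G => (g : K')) (fun g => bs.repr z g) = z := by
    intro z
    rw [σ_apply]
    conv_rhs => rw [← bs.sum_repr z]
    refine Finset.sum_congr rfl fun g _ => ?_
    rw [hbs]
  refine ⟨G, bs, fun z => ⟨fun hz => ?_, fun hz => ?_⟩⟩
  · obtain ⟨n, hn⟩ := exists_exp_bound fun g : G => P.1 (bs.repr z g)
    have := descent hK P Qs hQs (fun g : G => (g : K')) hb hinj n (fun g => bs.repr z g) hn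
      (by rw [hσ]; exact hz)
    rw [mem_U] at this
    intro g
    simpa using this g
  · rw [← hσ z]
    apply σ_mem_B P Qs hQs _ hb
    rw [mem_U]
    intro g
    simpa using hz g

end main

end Groth.Agent.H63.SemiFree2
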