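import Mathlib
import Groth.Agent.H63.SemiFree2
import Groth.Agent.H55.WLocal

/-!
# Weak versions (constant field of `K'` possibly larger than `k`) of the semilocal freeness lemmas
-/

set_option autoImplicit false
set_option linter.style.haveILetI false
set_option linter.unusedSectionVars false

open scoped Classical

namespace Groth.Agent.H63.SemiW
open FunFld Groth.Agent.H55 Groth.Agent.H86.Tate Groth.Agent.H63.TateProd Groth.Agent.H63.TateGen
open Groth.Agent.H63.TateSemi Groth.Agent.H63.SemiFree Groth.Agent.H63.SemiFree2 WithZero Module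

section tate
variable {k K' : Type*} [Field k] [Field K'] [Algebra k K']

theorem nearStable_ballP (hK : W.IsWeakFF k K') (P : Place k K') (m : ℤ) (u : K') :
    NearStable (ballP P m) (LinearMap.mulLeft k u) := by
  by_cases hu : u = 0
  · apply NearStable.of_map_le
    apply map_mulLeft_ballP_le
    rw [hu, map_zero]
    exact zero_le_one
  set m' : ℤ := min m (m + P.ord u) with hm'
  have hle : m' ≤ m := min_le_left _ _
  have hfin : Module.Finite k ((Place.ball P m') ⧸ (Place.ball P m).comap (Place.ball P m').subtype) :=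
    (W.Place.LocQ.finrank hK P hle).1
  obtain ⟨F', hF', -, hsup⟩ := exists_fd_le_sup (Place.ball P m) (Place.ball P m') hfin
  refine ⟨F', hF', ?_⟩
  rintro _ ⟨x, hx, rfl⟩
  apply hsup
  change P.1 (u * x) ≤ WithZero.exp (-m')
  rw [map_mul, Place.val_eq_exp_neg_ord P hu]
  have hx' : P.1 x ≤ WithZero.exp (-m) := hx
  refine (mul_le_mul' le_rfl hx').trans ?_
  rw [← WithZero.exp_add, WithZero.exp_le_exp]
  have : m' ≤ m + P.ord u := min_le_right _ _
  omega

variable (Qs : Finset (Place k K'))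

theorem nearStable_piA (hK' : W.IsWeakFF k K') (m : Qs → ℤ) (y : K') :
    NearStable (piA (AQ Qs m)) (diag (fun _ : Qs => LinearMap.mulLeft k y)) :=
  nearStable_diag _ fun Q => nearStable_ballP hK' Q.1 (m Q) y

theorem nearStable_semiB (hK' : W.IsWeakFF k K') (m : Qs → ℤ) (y : K') :
    NearStable (semiB Qs m) (LinearMap.mulLeft k y) :=
  nearStable_comap (Δ Qs) rfl (diag_comp_Δ Qs y) (nearStable_piA Qs hK' m y)

/-- the Tate symbol of the semilocal subspace is the sum of the local ones -/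
theorem tate_semiB_eq_sum (hK' : W.IsWeakFF k K') [Nonempty Qs] (m : Qs → ℤ)
    {πB : K' →ₗ[k] K'} (hπB : LinearMap.IsProj (semiB Qs m) πB)
    {πQ : Qs → (K' →ₗ[k] K')} (hπQ : ∀ Q : Qs, LinearMap.IsProj (AQ Qs m Q) (πQ Q)) (y x : K') :
    tate hπB (LinearMap.mulLeft k y) (LinearMap.mulLeft k x) =
      ∑ Q : Qs, tate (hπQ Q) (LinearMap.mulLeft k y) (LinearMap.mulLeft k x) := by
  have h1 := tate_eq_of_injective' hπB (isProj_piπ hπQ) (Δ Qs) (Δ_injective Qs) rfl (dense Qs m)
    (diag_comp_Δ Qs y) (diag_comp_Δ Qs x) (diag_comm Qs y x) (nearStable_piA Qs hK' m y)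
    (nearStable_piA Qs hK' m x)
  rw [← h1, tate_pi hπQ _ _ (finRank_tcomm _ (diag_comm Qs y x) (nearStable_piA Qs hK' m y)
    (nearStable_piA Qs hK' m x))]
  refine Finset.sum_congr rfl fun Q _ => ?_
  rw [block_diag]

end tate

section free
variable {k K K' : Type*} [Field k] [Field K] [Field K'] [Algebra k K] [Algebra K K']
  [Algebra k K'] [IsScalarTower k K K']
variable [FiniteDimensional K K'] (hK : IsFunctionField k K) (hK' : W.IsWeakFF k K')
  (P : Place k K) (Qs : Finset (Place k K')) (hQs : ∀ Q, Q ∈ Qs ↔ IsOver Q P)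

include hK hK' hQs in
/-- `dim_k B / tB = [K' : K] deg P` -/
theorem finrank_relQ :
    Module.Finite k (RelQ (semiB Qs (eQ P Qs)) (semiB Qs (0 : Qs → ℤ))) ∧
      finrank k (RelQ (semiB Qs (eQ P Qs)) (semiB Qs (0 : Qs → ℤ))) = finrank K K' * P.deg := by
  let E := relQEquivOfSurjective (semiB Qs (eQ P Qs)) (semiB Qs (0 : Qs → ℤ)) (crt P Qs)
    (crt_surjective hK P Qs hQs) (crt_eq_zero_iff P Qs)
  have hfinQ : ∀ Q : Qs, Module.Finite k (Place.LocQ Q.1 0 (eQ P Qs Q)) := fun Q =>
    (W.Place.LocQ.finrank hK' Q.1 (eQ_nonneg hK P Qs hQs Q)).1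
  have hfin : Module.Finite k (∀ Q : Qs, Place.LocQ Q.1 0 (eQ P Qs Q)) := inferInstance
  refine ⟨Module.Finite.equiv E.symm, ?_⟩
  rw [E.finrank_eq, Module.finrank_pi_fintype]
  have h1 : ∀ Q : Qs, finrank k (Place.LocQ Q.1 0 (eQ P Qs Q)) = ramIdx Q.1 P * Q.1.deg := by
    intro Q
    have := (W.Place.LocQ.finrank hK' Q.1 (eQ_nonneg hK P Qs hQs Q)).2
    rw [sub_zero] at this
    unfold eQ at this
    exact_mod_cast this
  rw [Finset.sum_congr rfl fun Q _ => h1 Q]
  rw [Finset.sum_coe_sort Qs (fun Q => ramIdx Q P * Q.deg)]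
  exact (sum_ramIdx_mul_deg (K' := K') hK P).2 Qs hQs

include hK hK' hQs in
theorem exists_gen : ∃ G : Finset K', Gen P Qs G := by
  obtain ⟨hfin, -⟩ := finrank_relQ hK hK' P Qs hQs
  obtain ⟨F', hF', hF'B, hBF'⟩ := exists_fd_le_sup (semiB Qs (eQ P Qs)) (semiB Qs (0 : Qs → ℤ)) hfin
  haveI := hF'
  obtain ⟨S, hS⟩ := (Module.Finite.iff_fg.1 hF')
  refine ⟨S, fun g hg => hF'B (hS ▸ Submodule.subset_span hg), fun z hz => ?_⟩
  obtain ⟨w, hw, x, hx, rfl⟩ := Submodule.mem_sup.1 (hBF' hz)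
  rw [← hS] at hx
  obtain ⟨f, -, hf⟩ := Submodule.mem_span_finset.1 hx
  refine ⟨fun g => algebraMap k K (f g), fun g _ => P.2.1 _, ?_⟩
  have : ∑ g ∈ S, (algebraMap k K (f g)) • g = x := by
    rw [← hf]
    refine Finset.sum_congr rfl fun g _ => ?_
    rw [algebraMap_smul]
  rw [this, add_sub_cancel_right]
  exact hw

include hK hK' in
/-- a generating family (mod `tB`) has at least `[K':K]` members -/
theorem card_ge_of_gen (G : Finset K') (hG : Gen P Qs G) :
    Function.Surjective (ρ P Qs hQs (fun g : G => (g : K')) (fun g => hG.1 g.1 g.2)) ∧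
    finrank K K' ≤ G.card := by
  have hsurj : Function.Surjective (ρ P Qs hQs (fun g : G => (g : K'))
      (fun g => hG.1 g.1 g.2)) := by
    apply relQMap_surjective
    intro z hz
    obtain ⟨c, hc, hcz⟩ := hG.2 z hz
    refine ⟨fun g : G => c g, (mem_U P).2 fun g => by simpa using hc g.1 g.2, ?_⟩
    have : σ (k := k) (fun g : G => (g : K')) (fun g : G => c g) = ∑ g ∈ G, c g • g := by
      rw [σ_apply]
      exact Finset.sum_coe_sort G (fun g => c g • g)
    rw [this]
    exact hcz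
  refine ⟨hsurj, ?_⟩
  obtain ⟨hf1, hr1⟩ := finrank_U hK P G
  obtain ⟨hf2, hr2⟩ := finrank_relQ hK hK' P Qs hQs
  have := LinearMap.finrank_le_finrank_of_surjective hsurj
  rw [hr1, hr2, Fintype.card_coe] at this
  exact Nat.le_of_mul_le_mul_right this (Place.deg_pos hK P)

include hK hK' in
theorem ρ_injective {ι : Type*} [Fintype ι] (b : ι → K') (hb : ∀ i, b i ∈ semiB Qs (0 : Qs → ℤ))
    (hcard : Fintype.card ι = finrank K K')
    (hsurj : Function.Surjective (ρ P Qs hQs b hb)) : Function.Injective (ρ P Qs hQs b hb) := by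
  obtain ⟨hf1, hr1⟩ := finrank_U hK P ι
  obtain ⟨hf2, hr2⟩ := finrank_relQ hK hK' P Qs hQs
  exact (LinearMap.injective_iff_surjective_of_finrank_eq_finrank
    (by rw [hr1, hr2, hcard])).2 hsurj

include hK hK' hQs in
/-- `B = ⋂_{Q | P} O_Q` is a free `O_P`-module on a `K`-basis of `K'` -/
theorem exists_basis : ∃ (G : Finset K') (bs : Basis G K K'),
    ∀ z : K', z ∈ semiB Qs (0 : Qs → ℤ) ↔ ∀ g, P.1 (bs.repr z g) ≤ 1 := by
  obtain ⟨G, hG, hmin⟩ : ∃ G, Gen P Qs G ∧ ∀ G', Gen P Qs G' → G.card ≤ G'.card := by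
    have hex : ∃ n, ∃ G, Gen P Qs G ∧ G.card = n := by
      obtain ⟨G, hG⟩ := exists_gen hK hK' P Qs hQs
      exact ⟨_, G, hG, rfl⟩
    obtain ⟨G, hG, hcard⟩ := Nat.find_spec hex
    refine ⟨G, hG, fun G' hG' => ?_⟩
    rw [hcard]
    exact Nat.find_min' hex ⟨G', hG', rfl⟩
  have hli : LinearIndependent K (fun g : G => (g : K')) :=
    linearIndepOn_of_minimal P Qs hQs G hG hmin
  obtain ⟨hsurj, hge⟩ := card_ge_of_gen hK hK' P Qs hQs G hG
  have hle : Fintype.card G ≤ finrank K K' := hli.fintype_card_le_finrank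
  have hcard : Fintype.card G = finrank K K' := by
    rw [Fintype.card_coe] at hle ⊢
    omega
  haveI : Nonempty G := by
    rw [← Fintype.card_pos_iff, hcard]
    exact Module.finrank_pos
  let bs : Basis G K K' := basisOfLinearIndependentOfCardEqFinrank hli hcard
  have hbs : ∀ g : G, bs g = (g : K') := fun g => by
    change basisOfLinearIndependentOfCardEqFinrank hli hcard g = _
    rw [coe_basisOfLinearIndependentOfCardEqFinrank]
  have hb : ∀ g : G, (g : K') ∈ semiB Qs (0 : Qs → ℤ) := fun g => hG.1 g.1 g.2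
  have hinj := ρ_injective hK hK' P Qs hQs (fun g : G => (g : K')) hb hcard hsurj
  have hσ : ∀ z : K', σ (k := k) (fun g : G => (g : K')) (fun g => bs.repr z g) = z := by
    intro z
    rw [σ_apply]
    conv_rhs => rw [← bs.sum_repr z]
    refine Finset.sum_congr rfl fun g _ => ?_
    rw [hbs]
  refine ⟨G, bs, fun z => ⟨fun hz => ?_, fun hz => ?_⟩⟩
  · obtain ⟨n, hn⟩ := exists_exp_bound fun g : G => P.1 (bs.repr z g)
    have := descent hK P Qs hQs (fun g : G => (g : K')) hb hinj n (fun g => bs.repr z g) hn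
      (by rw [hσ]; exact hz)
    rw [mem_U] at this
    intro g
    simpa using this g
  · rw [← hσ z]
    apply σ_mem_B P Qs hQs _ hb
    rw [mem_U]
    intro g
    simpa using hz g

end free

end Groth.Agent.H63.SemiW
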