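import Mathlib
import Groth.Agent.H63.TateProd
import Groth.Agent.H63.TateGen

set_option autoImplicit false
set_option linter.style.haveILetI false
set_option linter.unusedSectionVars false

namespace Groth.Agent.H63.TateTrace
open Groth.Agent.H86.Tate Groth.Agent.H63.TateProd Groth.Agent.H63.TateGen Module

variable {k K K' : Type*} [Field k] [Field K] [Field K'] [Algebra k K] [Algebra K K']
  [Algebra k K'] [IsScalarTower k K K']
variable {ι : Type*} [Fintype ι] [DecidableEq ι] (bs : Basis ι K K')

/-- the coordinate isomorphism, `k`-linearly -/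
noncomputable def e : (ι → K) ≃ₗ[k] K' := bs.equivFun.symm.restrictScalars k

theorem e_apply (c : ι → K) : e (k := k) bs c = ∑ i, c i • bs i :=
  bs.equivFun_symm_apply c

theorem e_symm_apply (z : K') (i : ι) : (e (k := k) bs).symm z i = bs.repr z i := rfl

theorem repr_e (c : ι → K) (i : ι) : bs.repr (e (k := k) bs c) i = c i := by
  rw [← e_symm_apply (k := k), LinearEquiv.symm_apply_apply]

theorem e_smul (t : K) (c : ι → K) : e (k := k) bs (t • c) = t • e (k := k) bs c :=
  map_smul bs.equivFun.symm t c

/-- multiplication by `y` in coordinates -/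
noncomputable def conj (y : K') : (ι → K) →ₗ[k] (ι → K) :=
  (e (k := k) bs).symm.toLinearMap ∘ₗ LinearMap.mulLeft k y ∘ₗ (e (k := k) bs).toLinearMap

theorem conj_apply (y : K') (c : ι → K) (i : ι) :
    conj (k := k) bs y c i = bs.repr (y * e (k := k) bs c) i := rfl

theorem e_conj (y : K') (c : ι → K) : e (k := k) bs (conj (k := k) bs y c) = y * e (k := k) bs c := by
  unfold conj
  simp

theorem block_conj (y : K') (i : ι) :
    block (conj (k := k) bs y) i i = LinearMap.mulLeft k (Algebra.leftMulMatrix bs y i i) := by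
  ext c
  rw [block_apply, conj_apply, LinearMap.mulLeft_apply, Algebra.leftMulMatrix_eq_repr_mul]
  have : e (k := k) bs (Pi.single i c) = c • bs i := by
    rw [e_apply, Finset.sum_eq_single i]
    · rw [Pi.single_eq_same]
    · intro j _ hj
      rw [Pi.single_eq_of_ne hj, zero_smul]
    · intro h
      exact absurd (Finset.mem_univ i) h
  rw [this, mul_smul_comm, map_smul, Finsupp.smul_apply, smul_eq_mul, mul_comm]

theorem mulLeft_comp_e (y : K') :
    LinearMap.mulLeft k y ∘ₗ (e (k := k) bs).toLinearMap =
      (e (k := k) bs).toLinearMap ∘ₗ conj (k := k) bs y := by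
  refine LinearMap.ext fun c => ?_
  exact (e_conj bs y c).symm

theorem mulLeft_algebraMap_comp_e (x : K) :
    LinearMap.mulLeft k (algebraMap K K' x) ∘ₗ (e (k := k) bs).toLinearMap =
      (e (k := k) bs).toLinearMap ∘ₗ diag (fun _ : ι => LinearMap.mulLeft k x) := by
  refine LinearMap.ext fun c => ?_
  change algebraMap K K' x * e (k := k) bs c = e (k := k) bs (diag (fun _ : ι => LinearMap.mulLeft k x) c)
  have : diag (fun _ : ι => LinearMap.mulLeft k x) c = x • c := by
    funext i
    rw [diag_apply, LinearMap.mulLeft_apply, Pi.smul_apply, smul_eq_mul]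
  rw [this, e_smul, Algebra.smul_def]

theorem conj_comm_diag (y : K') (x : K) :
    conj (k := k) bs y ∘ₗ diag (fun _ : ι => LinearMap.mulLeft k x) =
      diag (fun _ : ι => LinearMap.mulLeft k x) ∘ₗ conj (k := k) bs y := by
  refine LinearMap.ext fun c => ?_
  apply (e (k := k) bs).injective
  have h1 := LinearMap.congr_fun (mulLeft_algebraMap_comp_e (k := k) bs x)
  have h2 := LinearMap.congr_fun (mulLeft_comp_e (k := k) bs y)
  simp only [LinearMap.comp_apply, LinearEquiv.coe_coe, LinearMap.mulLeft_apply] at h1 h2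
  rw [LinearMap.comp_apply, LinearMap.comp_apply, ← h2, ← h1, ← h1, ← h2]
  ring

/-- the abstract trace formula for the Tate symbol -/
theorem tate_trace {A : Submodule k K} {B : Submodule k K'}
    (hB : ∀ z, z ∈ B ↔ ∀ i, bs.repr z i ∈ A)
    (hA : ∀ u : K, NearStable A (LinearMap.mulLeft k u))
    (hBs : ∀ y : K', NearStable B (LinearMap.mulLeft k y))
    {π : K →ₗ[k] K} (hπ : LinearMap.IsProj A π) {πB : K' →ₗ[k] K'}
    (hπB : LinearMap.IsProj B πB) (y : K') (x : K) :
    tate hπB (LinearMap.mulLeft k y) (LinearMap.mulLeft k (algebraMap K K' x)) =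
      tate hπ (LinearMap.mulLeft k (Algebra.trace K K' y)) (LinearMap.mulLeft k x) := by
  have hAB : piA (fun _ : ι => A) = B.comap (e (k := k) bs).toLinearMap := by
    ext c
    rw [mem_piA, Submodule.mem_comap, LinearEquiv.coe_coe, hB]
    simp only [repr_e]
  have hdense : LinearMap.range (e (k := k) bs).toLinearMap ⊔ B = ⊤ := by
    rw [LinearEquiv.range, top_sup_eq]
  have hcomm' : LinearMap.mulLeft k y ∘ₗ LinearMap.mulLeft k (algebraMap K K' x) =
      LinearMap.mulLeft k (algebraMap K K' x) ∘ₗ LinearMap.mulLeft k y := by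
    ext z
    simp only [LinearMap.comp_apply, LinearMap.mulLeft_apply]
    ring
  have hπs : ∀ _ : ι, LinearMap.IsProj A π := fun _ => hπ
  have h1 := tate_eq_of_injective' (isProj_piπ hπs) hπB (e (k := k) bs).toLinearMap
    (e (k := k) bs).injective hAB hdense (mulLeft_comp_e (k := k) bs y)
    (mulLeft_algebraMap_comp_e (k := k) bs x) hcomm' (hBs y) (hBs _)
  have hns1 : NearStable (piA (fun _ : ι => A)) (conj (k := k) bs y) :=
    nearStable_comap (e (k := k) bs).toLinearMap hAB (mulLeft_comp_e (k := k) bs y) (hBs y)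
  have hns2 : NearStable (piA (fun _ : ι => A)) (diag (fun _ : ι => LinearMap.mulLeft k x)) :=
    nearStable_diag _ fun _ => hA x
  rw [h1, tate_pi hπs _ _ (finRank_tcomm _ (conj_comm_diag bs y x) hns1 hns2)]
  simp only [block_conj]
  have hcomm : ∀ u : K, LinearMap.mulLeft k u ∘ₗ LinearMap.mulLeft k x =
      LinearMap.mulLeft k x ∘ₗ LinearMap.mulLeft k u := by
    intro u
    ext z
    simp only [LinearMap.comp_apply, LinearMap.mulLeft_apply]
    ring
  rw [← tate_sum_left hπ Finset.univ (fun i => LinearMap.mulLeft k (Algebra.leftMulMatrix bs y i i))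
    (LinearMap.mulLeft k x) (fun i _ => hcomm _) (fun i _ => hA _) (hA x)]
  congr 1
  rw [Algebra.trace_eq_matrix_trace bs y, Matrix.trace]
  ext z
  simp only [LinearMap.sum_apply, LinearMap.mulLeft_apply, Matrix.diag_apply, Finset.sum_mul]

end Groth.Agent.H63.TateTrace
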