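import Mathlib
import Groth.Agent.H55.FFStrong
import Groth.Agent.H55.FFRiemannRoch
import Groth.Agent.H55.FFZeros

set_option autoImplicit false
set_option linter.style.haveILetI false

namespace Groth.Agent.H63.DerGoodGen
open FunFld Groth.Agent.H55 WithZero

variable {k K : Type*} [Field k] [Field K] [Algebra k K]

/-- approximation at `P0` to precision `exp n` by an element regular away from `P0`,
for `n • P0` nonspecial -/
theorem approx_pole (hK : IsFunctionField k K) (P0 : Place k K) (n : ℤ)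
    (hn : 2 * (genus k K : ℤ) - 1 ≤ n * P0.deg) (h : K) :
    ∃ g : K, P0.1 (h - g) ≤ exp n ∧ ∀ Q : Place k K, Q ≠ P0 → Q.1 g ≤ 1 := by
  classical
  set B : Divisor k K := Finsupp.single P0 n with hB
  have hdeg : B.deg = n * P0.deg := Divisor.deg_single P0 n
  have hell := ell_of_deg_ge hK B (by rw [hdeg]; exact hn)
  have hA := adele_eq_of_nonspecial hK (B := B) (by rw [hell]; ring)
  have ha : (Pi.single P0 h : Place k K → K) ∈ adele k K := by
    rw [mem_adele]
    refine (Set.finite_singleton P0).subset ?_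
    intro Q hQ
    rw [Set.mem_ofPred_eq] at hQ
    by_contra hne
    rw [Set.mem_singleton_iff] at hne
    rw [Pi.single_eq_of_ne hne, map_zero] at hQ
    exact absurd hQ (not_lt.2 zero_le_one)
  rw [hA, Submodule.mem_sup] at ha
  obtain ⟨a', ha', d, ⟨g, rfl⟩, hsum⟩ := ha
  refine ⟨g, ?_, fun Q hQ => ?_⟩
  · have h1 := congrFun hsum P0
    rw [Pi.add_apply, Pi.single_eq_same] at h1
    have h2 : h - g = a' P0 := by
      rw [← h1]; simp [diag]
    rw [h2]
    have := ha' P0
    rwa [hB, Finsupp.single_eq_same] at this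
  · have h1 := congrFun hsum Q
    rw [Pi.add_apply, Pi.single_eq_of_ne hQ] at h1
    have h2 : g = - a' Q := by
      have : a' Q + g = 0 := by simpa [diag] using h1
      linear_combination this
    rw [h2, Valuation.map_neg]
    have := ha' Q
    rwa [hB, Finsupp.single_eq_of_ne hQ, exp_zero] at this


theorem finite_poles' (hK : IsFunctionField k K) (w : K) : {Q : Place k K | 1 < Q.1 w}.Finite := by
  by_cases hw : w = 0
  · subst hw
    have : {Q : Place k K | 1 < Q.1 (0 : K)} = ∅ := by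
      ext Q
      simp only [Set.mem_ofPred_eq, map_zero, Set.mem_empty_iff_false, iff_false, not_lt]
      exact zero_le_one
    rw [this]; exact Set.finite_empty
  · exact Place.finite_poles hK hw

/-- an element with a pole exactly at `P0` -/
theorem exists_pole_elt (hK : IsFunctionField k K) (P0 : Place k K) (n0 : ℕ)
    (hn0 : 2 * (genus k K : ℤ) - 1 ≤ (n0 : ℤ) * P0.deg) :
    ∃ t : K, P0.1 t = exp ((n0 : ℤ) + 1) ∧ ∀ Q : Place k K, Q ≠ P0 → Q.1 t ≤ 1 := by
  obtain ⟨h, hh⟩ := Place.exists_val_eq_exp P0 ((n0 : ℤ) + 1)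
  obtain ⟨g, hg1, hg2⟩ := approx_pole hK P0 n0 hn0 h
  refine ⟨g, ?_, hg2⟩
  have hlt : P0.1 (h - g) < P0.1 h := by
    rw [hh]; exact hg1.trans_lt (exp_lt_exp.2 (by omega))
  have : g = h - (h - g) := by ring
  rw [this, Valuation.map_sub_eq_of_lt_left _ hlt, hh]

theorem mem_subalgebra_of_pole (hK : IsFunctionField k K) (P0 : Place k K) (n0 : ℕ)
    (hn0 : 2 * (genus k K : ℤ) - 1 ≤ (n0 : ℤ) * P0.deg) (t : K) (e : ℕ) (he : 1 ≤ e)
    (ht : P0.1 t = exp (e : ℤ)) (htA : ∀ Q : Place k K, Q ≠ P0 → Q.1 t ≤ 1)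
    (R : Subalgebra k K) (htR : t ∈ R)
    (hV : ∀ f : K, P0.1 f ≤ exp (((n0 + e : ℕ) : ℤ)) → (∀ Q : Place k K, Q ≠ P0 → Q.1 f ≤ 1) → f ∈ R) :
    ∀ (n : ℕ) (f : K), P0.1 f ≤ exp (n : ℤ) → (∀ Q : Place k K, Q ≠ P0 → Q.1 f ≤ 1) → f ∈ R := by
  intro n
  induction n using Nat.strong_induction_on with
  | _ n ih =>
    intro f hf hfA
    rcases Nat.lt_or_ge (n0 + e) n with hlt | hge
    · have ht0 : t ≠ 0 := by
        intro h0
        rw [h0, map_zero] at ht
        exact exp_ne_zero ht.symm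
      have hd : (0 : ℤ) ≤ P0.deg := Int.natCast_nonneg _
      obtain ⟨g, hg1, hg2⟩ := approx_pole hK P0 ((n : ℤ) - e - 1)
        (by
          have : (n0 : ℤ) ≤ (n : ℤ) - e - 1 := by omega
          nlinarith) (f * t⁻¹)
      have hvh : P0.1 (f * t⁻¹) ≤ exp ((n : ℤ) - e) := by
        rw [map_mul, map_inv₀, ht, ← exp_neg, sub_eq_add_neg, exp_add]
        exact mul_le_mul' hf le_rfl
      have hvg : P0.1 g ≤ exp (((n - e : ℕ) : ℤ)) := by
        have : g = f * t⁻¹ - (f * t⁻¹ - g) := by ring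
        rw [this]
        apply (Valuation.map_sub _ _ _).trans
        apply max_le
        · refine hvh.trans (exp_le_exp.2 (by omega))
        · refine hg1.trans (exp_le_exp.2 (by omega))
      have hgR : g ∈ R := ih (n - e) (by omega) g hvg hg2
      have hrest : f - t * g ∈ R := by
        apply ih (n - 1) (by omega)
        · have : f - t * g = t * (f * t⁻¹ - g) := by field_simp
          rw [this, map_mul, ht]
          apply (mul_le_mul' le_rfl hg1).trans
          rw [← exp_add]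
          exact exp_le_exp.2 (by omega)
        · intro Q hQ
          apply (Valuation.map_sub _ _ _).trans
          apply max_le (hfA Q hQ)
          rw [map_mul]
          exact mul_le_one' (htA Q hQ) (hg2 Q hQ)
      have : f = t * g + (f - t * g) := by ring
      rw [this]
      exact add_mem (mul_mem htR hgR) hrest
    · exact hV f (hf.trans (exp_le_exp.2 (by exact_mod_cast hge))) hfA


/-- every element of `O_Q` is a fraction of elements regular away from `P0`, with denominator a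
unit at `Q` -/
theorem exists_frac (hK : IsFunctionField k K) (P0 Q : Place k K) (hQP : Q ≠ P0) (f : K)
    (hf : Q.1 f ≤ 1) :
    ∃ b : K, (∀ R : Place k K, R ≠ P0 → R.1 b ≤ 1) ∧ Q.1 b = 1 ∧
      ∀ R : Place k K, R ≠ P0 → R.1 (f * b) ≤ 1 := by
  classical
  have hfin := finite_poles' hK f
  set T : Finset (Place k K) := hfin.toFinset.erase P0 with hT
  have hQT : Q ∉ T := by
    rw [hT, Finset.mem_erase, Set.Finite.mem_toFinset, Set.mem_ofPred_eq]
    rintro ⟨-, h⟩
    exact absurd h (not_lt.2 hf)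
  have hP0 : P0 ∉ insert Q T := by
    rw [Finset.mem_insert, not_or]
    refine ⟨fun h => hQP h.symm, ?_⟩
    rw [hT]
    exact Finset.notMem_erase _ _
  obtain ⟨b, hb1, hb2⟩ := strong_approx_le hK P0 (insert Q T) hP0
    (fun R => if R = Q then 1 else 0)
    (fun R => if R = Q then 1 else max 0 (-R.ord f))
  have hbQ : Q.1 (b - 1) ≤ exp (-1 : ℤ) := by
    have := hb1 Q (Finset.mem_insert_self _ _)
    simpa using this
  have hbQ1 : Q.1 b = 1 := by
    have hlt : Q.1 (b - 1) < Q.1 1 := by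
      rw [map_one]; exact hbQ.trans_lt (by rw [← exp_zero]; exact exp_lt_exp.2 (by omega))
    have : b = 1 + (b - 1) := by ring
    rw [this, Valuation.map_add_eq_of_lt_left _ hlt, map_one]
  have hbT : ∀ R ∈ T, R.1 b ≤ exp (-(max 0 (-R.ord f))) := by
    intro R hR
    have hRQ : R ≠ Q := fun h => hQT (h ▸ hR)
    have := hb1 R (Finset.mem_insert_of_mem hR)
    simpa [hRQ] using this
  have hb_le : ∀ R : Place k K, R ≠ P0 → R.1 b ≤ 1 := by
    intro R hR
    by_cases hRQ : R = Q
    · rw [hRQ, hbQ1]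
    by_cases hRT : R ∈ T
    · refine (hbT R hRT).trans ?_
      rw [← exp_zero]
      exact exp_le_exp.2 (by have := le_max_left 0 (-R.ord f); omega)
    · apply hb2 R hR
      rw [Finset.mem_insert, not_or]
      exact ⟨hRQ, hRT⟩
  refine ⟨b, hb_le, hbQ1, fun R hR => ?_⟩
  rw [map_mul]
  by_cases hRT : R ∈ T
  · have hf0 : f ≠ 0 := by
      rintro rfl
      rw [hT, Finset.mem_erase, Set.Finite.mem_toFinset, Set.mem_ofPred_eq, map_zero] at hRT
      exact absurd hRT.2 (not_lt.2 zero_le_one)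
    rw [Place.val_eq_exp_neg_ord R hf0]
    refine (mul_le_mul' le_rfl (hbT R hRT)).trans ?_
    rw [← exp_add, ← exp_zero]
    exact exp_le_exp.2 (by have := le_max_right 0 (-R.ord f); omega)
  · have hfR : R.1 f ≤ 1 := by
      by_contra hlt
      rw [not_le] at hlt
      apply hRT
      rw [hT, Finset.mem_erase, Set.Finite.mem_toFinset, Set.mem_ofPred_eq]
      exact ⟨hR, hlt⟩
    exact mul_le_one' hfR (hb_le R hR)


/-- the subalgebra of elements integral at `Q` with integral derivative -/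
def derSub (δ : Derivation k K K) (Q : Place k K) : Subalgebra k K where
  carrier := {f | Q.1 f ≤ 1 ∧ Q.1 (δ f) ≤ 1}
  mul_mem' {a b} ha hb := by
    refine ⟨by rw [map_mul]; exact mul_le_one' ha.1 hb.1, ?_⟩
    rw [Derivation.leibniz, smul_eq_mul, smul_eq_mul]
    apply Q.1.map_add_le
    · rw [map_mul]; exact mul_le_one' ha.1 hb.2
    · rw [map_mul]; exact mul_le_one' hb.1 ha.2
  add_mem' {a b} ha hb := by
    refine ⟨Q.1.map_add_le ha.1 hb.1, ?_⟩
    rw [map_add]
    exact Q.1.map_add_le ha.2 hb.2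
  algebraMap_mem' c := by
    refine ⟨Q.2.1 c, ?_⟩
    rw [Derivation.map_algebraMap, map_zero]
    exact zero_le_one

theorem mem_derSub (δ : Derivation k K K) (Q : Place k K) (f : K) :
    f ∈ derSub δ Q ↔ Q.1 f ≤ 1 ∧ Q.1 (δ f) ≤ 1 := Iff.rfl

/-- A `k`-derivation of a function field preserves the valuation ring of almost every place
(any constant field). -/
theorem finite_der_bad (hK : IsFunctionField k K) (δ : Derivation k K K) :
    {Q : Place k K | ∃ f : K, Q.1 f ≤ 1 ∧ 1 < Q.1 (δ f)}.Finite := by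
  classical
  obtain ⟨P0⟩ := exists_place hK
  have hd : (1 : ℤ) ≤ P0.deg := by exact_mod_cast Place.deg_pos hK P0
  set n0 : ℕ := 2 * genus k K with hn0def
  have hn0 : 2 * (genus k K : ℤ) - 1 ≤ (n0 : ℤ) * P0.deg := by
    rw [hn0def]; push_cast; nlinarith [Int.natCast_nonneg (genus k K)]
  obtain ⟨t, ht, htA⟩ := exists_pole_elt hK P0 n0 hn0
  set e : ℕ := n0 + 1 with hedef
  have ht' : P0.1 t = exp (e : ℤ) := by rw [ht, hedef]; push_cast; rfl
  set V : Divisor k K := Finsupp.single P0 (((n0 + e : ℕ) : ℤ)) with hVdef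
  haveI := L_finite hK V
  obtain ⟨s, hs⟩ := (Module.Finite.iff_fg.1 (L_finite hK V))
  have hfin : ({P0} ∪ {Q : Place k K | 1 < Q.1 (δ t)} ∪
      ⋃ x ∈ s, {Q : Place k K | 1 < Q.1 (δ x)}).Finite := by
    apply Set.Finite.union
    · exact (Set.finite_singleton P0).union (finite_poles' hK _)
    · exact Set.Finite.biUnion s.finite_toSet (fun x _ => finite_poles' hK (δ x))
  refine hfin.subset ?_
  rintro Q ⟨f, hf, hδf⟩
  by_contra hQ
  rw [Set.mem_union, Set.mem_union, not_or, not_or, Set.mem_singleton_iff] at hQ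
  obtain ⟨⟨hQP, hQt⟩, hQs⟩ := hQ
  have hQs' : ∀ x ∈ s, Q.1 (δ x) ≤ 1 := by
    intro x hx
    by_contra hlt
    rw [not_le] at hlt
    exact hQs (Set.mem_biUnion (Finset.mem_coe.2 hx) hlt)
  have htR : t ∈ derSub δ Q := ⟨htA Q hQP, not_lt.1 hQt⟩
  have hVR : ∀ f : K, P0.1 f ≤ exp (((n0 + e : ℕ) : ℤ)) →
      (∀ R : Place k K, R ≠ P0 → R.1 f ≤ 1) → f ∈ derSub δ Q := by
    intro f hf1 hf2
    have hfV : f ∈ L V := by
      intro R
      by_cases hR : R = P0
      · rw [hR, hVdef, Finsupp.single_eq_same]; exact hf1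
      · rw [hVdef, Finsupp.single_eq_of_ne hR, exp_zero]; exact hf2 R hR
    rw [← hs] at hfV
    have hle : Submodule.span k (s : Set K) ≤ Subalgebra.toSubmodule (derSub δ Q) := by
      rw [Submodule.span_le]
      intro x hx
      have hxV : x ∈ L V := by rw [← hs]; exact Submodule.subset_span hx
      refine ⟨?_, hQs' x (Finset.mem_coe.1 hx)⟩
      have := hxV Q
      rwa [hVdef, Finsupp.single_eq_of_ne hQP, exp_zero] at this
    exact hle hfV
  have hall : ∀ f : K, (∀ R : Place k K, R ≠ P0 → R.1 f ≤ 1) → f ∈ derSub δ Q := by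
    intro f hfA
    by_cases hf0 : f = 0
    · rw [hf0]; exact zero_mem _
    refine mem_subalgebra_of_pole hK P0 n0 hn0 t e (by omega) ht' htA (derSub δ Q) htR hVR
      (-P0.ord f).toNat f ?_ hfA
    rw [Place.val_eq_exp_neg_ord P0 hf0]
    exact exp_le_exp.2 (Int.self_le_toNat _)
  obtain ⟨b, hbA, hb1, haA⟩ := exists_frac hK P0 Q hQP f hf
  have hb0 : b ≠ 0 := by
    rintro rfl
    rw [map_zero] at hb1
    exact zero_ne_one hb1
  have hfe : f = (f * b) / b := by field_simp
  have h1 := hall b hbA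
  have h2 := hall (f * b) haA
  have : Q.1 (δ f) ≤ 1 := by
    rw [hfe, Derivation.leibniz_div, smul_eq_mul, smul_eq_mul, smul_eq_mul, map_mul, map_pow,
      map_inv₀, hb1, inv_one, one_pow, one_mul]
    apply Q.1.map_sub_le
    · rw [map_mul, hb1, one_mul]; exact h2.2
    · rw [map_mul]; exact mul_le_one' h2.1 h1.2
  exact absurd hδf (not_lt.2 this)

end Groth.Agent.H63.DerGoodGen
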