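import Mathlib
import Groth.Prelude.Def_LocRes
import Groth.Agent.H63.LaurentTaylor

set_option autoImplicit false
set_option linter.style.haveILetI false

namespace Groth.Agent.H63.CoeffDer
open HahnSeries LaurentSeries Groth.Agent.H63.LaurentTaylor

variable {k F : Type*} [Field k] [Field F] [Algebra k F]

theorem exists_bound (f : F⸨X⸩) : ∃ N : ℤ, ∀ p < N, f.coeff p = 0 :=
  ⟨f.order, fun _ hp => HahnSeries.coeff_eq_zero_of_lt_order hp⟩

theorem algebraMap_eq (c : k) : algebraMap k F⸨X⸩ c = HahnSeries.C (algebraMap k F c) := by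
  rw [HahnSeries.algebraMap_apply', PowerSeries.algebraMap_apply, HahnSeries.ofPowerSeries_C]

/-- the coefficientwise extension of a derivation of the coefficient field -/
noncomputable def coeffDer (η : Derivation k F F) : Derivation k F⸨X⸩ F⸨X⸩ where
  toFun f := f.map (η : F →+ F)
  map_add' f g := by
    ext n
    simp
  map_smul' c f := by
    ext n
    simp only [RingHom.id_apply, HahnSeries.map_coeff, AddMonoidHom.coe_coe]
    rw [HahnSeries.coeff_smul, HahnSeries.map_coeff, Algebra.smul_def c f, algebraMap_eq,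
      HahnSeries.C_mul_eq_smul, HahnSeries.coeff_smul, smul_eq_mul, ← Algebra.smul_def]
    exact η.map_smul c _
  map_one_eq_zero' := by
    ext n
    change η ((1 : F⸨X⸩).coeff n) = 0
    rw [HahnSeries.coeff_one]
    split_ifs
    · exact η.map_one_eq_zero
    · exact map_zero η
  leibniz' f g := by
    obtain ⟨N, hN⟩ := exists_bound f
    obtain ⟨M, hM⟩ := exists_bound g
    have hN' : ∀ p < N, (f.map (η : F →+ F)).coeff p = 0 := fun p hp => by
      rw [HahnSeries.map_coeff, hN p hp, map_zero]
    have hM' : ∀ p < M, (g.map (η : F →+ F)).coeff p = 0 := fun p hp => by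
      rw [HahnSeries.map_coeff, hM p hp, map_zero]
    ext a
    change ((f * g).map (η : F →+ F)).coeff a =
      (f * g.map (η : F →+ F) + g * f.map (η : F →+ F)).coeff a
    rw [HahnSeries.map_coeff, coeff_mul_eq_sum f g a N M hN hM, HahnSeries.coeff_add,
      mul_comm g, coeff_mul_eq_sum f _ a N M hN hM',
      coeff_mul_eq_sum _ g a N M hN' hM, map_sum, ← Finset.sum_add_distrib]
    refine Finset.sum_congr rfl (fun p _ => ?_)
    simp only [HahnSeries.map_coeff, AddMonoidHom.coe_coe]
    rw [Derivation.leibniz, smul_eq_mul, smul_eq_mul]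
    ring

theorem coeffDer_coeff (η : Derivation k F F) (f : F⸨X⸩) (n : ℤ) :
    (coeffDer η f).coeff n = η (f.coeff n) := rfl

end Groth.Agent.H63.CoeffDer
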