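import Mathlib

set_option autoImplicit false

namespace Groth.Agent.H63.DerAeval
open Polynomial

variable {k K K' M : Type*} [Field k] [Field K] [Field K'] [Algebra K K']
  [Algebra k K'] [AddCommGroup M] [Module K' M] [Module k M]

theorem der_aeval (d : Derivation k K' M) (x : K') (p : K[X]) :
    d (aeval x p) = aeval x (derivative p) • d x +
      p.sum (fun i a => x ^ i • d (algebraMap K K' a)) := by
  induction p using Polynomial.induction_on' with
  | add p q hp hq =>
    rw [map_add, map_add, hp, hq, derivative_add, map_add, add_smul,
      Polynomial.sum_add_index p q _ (by intro i; simp) (by intro i a b; simp [smul_add])]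
    abel
  | monomial n a =>
    rw [aeval_monomial, Derivation.leibniz, Derivation.leibniz_pow, derivative_monomial,
      aeval_monomial, Polynomial.sum_monomial_index _ _ (by simp)]
    rw [map_mul, map_natCast]
    congr 1
    rw [← Nat.cast_smul_eq_nsmul K', smul_smul, smul_smul, mul_assoc]

end Groth.Agent.H63.DerAeval
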