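import Mathlib
import Groth.Prelude.Def_W4bk4goldsch23Ext

set_option autoImplicit false
set_option linter.style.haveILetI false

namespace Groth.Agent.H63.Eisenstein
open FunFld

universe u v

variable {k : Type u} {K K' : Type v} [Field k] [Field K] [Field K'] [Algebra k K] [Algebra K K']
  [Algebra k K']

/-- the value of the `i`-th term -/
theorem term_val (P : Place k K) (Q : Place k K') (e : ℕ) (he : IsOverWith Q P e) (s : K')
    (hs : Q.1 s = WithZero.exp (-1 : ℤ)) (c : K) (hc : c ≠ 0) (i : ℕ) :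
    Q.1 (algebraMap K K' c * s ^ i) =
      WithZero.exp ((e : ℤ) * WithZero.log (P.1 c) - i) := by
  have hPc : P.1 c ≠ 0 := (Valuation.ne_zero_iff _).2 hc
  rw [map_mul, map_pow, he c, hs, ← WithZero.exp_nsmul, ← WithZero.exp_log hPc, ← WithZero.exp_nsmul,
    ← WithZero.exp_add, WithZero.log_exp]
  congr 1
  simp only [nsmul_eq_mul]
  ring

/-- **Distinct orders**: the valuation of `∑_{i<e} c_i s^i` is the largest of the valuations of its
terms. -/
theorem exists_max_term (P : Place k K) (Q : Place k K') (e : ℕ) (he : IsOverWith Q P e) (s : K')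
    (hs : Q.1 s = WithZero.exp (-1 : ℤ)) (c : ℕ → K) (hc : ∃ i < e, c i ≠ 0) :
    ∃ j < e, c j ≠ 0 ∧
      Q.1 (∑ i ∈ Finset.range e, algebraMap K K' (c i) * s ^ i) = Q.1 (algebraMap K K' (c j) * s ^ j) ∧
      ∀ i < e, Q.1 (algebraMap K K' (c i) * s ^ i) ≤ Q.1 (algebraMap K K' (c j) * s ^ j) := by
  classical
  obtain ⟨i0, hi0, hci0⟩ := hc
  have hne : ((Finset.range e).filter (fun i => c i ≠ 0)).Nonempty :=
    ⟨i0, Finset.mem_filter.2 ⟨Finset.mem_range.2 hi0, hci0⟩⟩
  obtain ⟨j, hj, hmax⟩ := Finset.exists_max_image _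
    (fun i => Q.1 (algebraMap K K' (c i) * s ^ i)) hne
  rw [Finset.mem_filter, Finset.mem_range] at hj
  have hle : ∀ i < e, Q.1 (algebraMap K K' (c i) * s ^ i) ≤ Q.1 (algebraMap K K' (c j) * s ^ j) := by
    intro i hi
    by_cases hci : c i = 0
    · rw [hci, map_zero, zero_mul, map_zero]
      exact zero_le
    · exact hmax i (Finset.mem_filter.2 ⟨Finset.mem_range.2 hi, hci⟩)
  refine ⟨j, hj.1, hj.2, ?_, hle⟩
  apply Valuation.map_sum_eq_of_lt _ (Finset.mem_range.2 hj.1)
  intro i hi
  rw [Finset.mem_sdiff, Finset.mem_range, Finset.mem_singleton] at hi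
  have hjv := term_val P Q e he s hs (c j) hj.2 j
  by_cases hci : c i = 0
  · rw [hci, map_zero, zero_mul, map_zero, hjv]
    exact WithZero.exp_pos
  · refine lt_of_le_of_ne (hle i hi.1) ?_
    rw [hjv, term_val P Q e he s hs (c i) hci i]
    intro heq
    have h1 := WithZero.exp_injective heq
    have hdvd : (e : ℤ) ∣ (i : ℤ) - j :=
      ⟨WithZero.log (P.1 (c i)) - WithZero.log (P.1 (c j)), by linarith⟩
    have habs : |(i : ℤ) - j| < e := by
      rw [abs_lt]
      constructor <;> omega
    have := Int.eq_zero_of_abs_lt_dvd hdvd habs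
    apply hi.2
    omega


theorem ramIdx_ne_zero (P : Place k K) (Q : Place k K') (e : ℕ) (he : IsOverWith Q P e) : e ≠ 0 := by
  rintro rfl
  have := he 0
  rw [map_zero, map_zero, map_zero, pow_zero] at this
  exact zero_ne_one this

/-- the minimal polynomial of a uniformizer at a totally ramified place is Eisenstein -/
theorem minpoly_eisenstein [FiniteDimensional K K'] (P : Place k K) (Q : Place k K') (e : ℕ)
    (he : IsOverWith Q P e) (hn : e = Module.finrank K K') (s : K')
    (hs : Q.1 s = WithZero.exp (-1 : ℤ)) :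
    (minpoly K s).natDegree = e ∧ (∀ i < e, P.1 ((minpoly K s).coeff i) < 1) ∧
      P.1 ((minpoly K s).coeff 0) = WithZero.exp (-1 : ℤ) := by
  have hint : IsIntegral K s := IsIntegral.of_finite K s
  have he0 : e ≠ 0 := ramIdx_ne_zero P Q e he
  have hs0 : s ≠ 0 := by
    rintro rfl
    rw [map_zero] at hs
    exact WithZero.exp_ne_zero hs.symm
  set f := minpoly K s with hf
  have hmonic : f.Monic := minpoly.monic hint
  have hdeg_le : f.natDegree ≤ e := by rw [hn]; exact minpoly.natDegree_le s
  have hdeg : f.natDegree = e := by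
    apply le_antisymm hdeg_le
    by_contra hlt
    rw [not_le] at hlt
    have h1 := Polynomial.aeval_eq_sum_range' hlt s
    rw [hf, minpoly.aeval] at h1
    have h2 : ∑ i ∈ Finset.range e, algebraMap K K' (f.coeff i) * s ^ i = 0 := by
      rw [h1]
      refine Finset.sum_congr rfl (fun i _ => ?_)
      rw [Algebra.smul_def]
    obtain ⟨j, hj, hcj, hval, -⟩ := exists_max_term P Q e he s hs (fun i => f.coeff i)
      ⟨f.natDegree, hlt, by rw [Polynomial.coeff_natDegree, hmonic.leadingCoeff]; exact one_ne_zero⟩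
    rw [h2, map_zero, term_val P Q e he s hs _ hcj j] at hval
    exact WithZero.exp_ne_zero hval.symm
  -- the Eisenstein relation
  have h1 := Polynomial.aeval_eq_sum_range (p := f) s
  rw [hf, minpoly.aeval, ← hf, hdeg, Finset.sum_range_succ] at h1
  have hce : f.coeff e = 1 := by rw [← hdeg, Polynomial.coeff_natDegree, hmonic.leadingCoeff]
  rw [hce, one_smul] at h1
  have h2 : ∑ i ∈ Finset.range e, algebraMap K K' (f.coeff i) * s ^ i = -s ^ e := by
    have : ∑ i ∈ Finset.range e, algebraMap K K' (f.coeff i) * s ^ i =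
        ∑ i ∈ Finset.range e, f.coeff i • s ^ i :=
      Finset.sum_congr rfl (fun i _ => by rw [Algebra.smul_def])
    rw [this]
    exact eq_neg_of_add_eq_zero_left h1.symm
  have hex : ∃ i < e, f.coeff i ≠ 0 := by
    by_contra hall
    push Not at hall
    have : ∑ i ∈ Finset.range e, algebraMap K K' (f.coeff i) * s ^ i = 0 :=
      Finset.sum_eq_zero (fun i hi => by rw [hall i (Finset.mem_range.1 hi), map_zero, zero_mul])
    rw [this] at h2
    exact pow_ne_zero e hs0 (neg_eq_zero.1 h2.symm)
  obtain ⟨j, hj, hcj, hval, hle⟩ := exists_max_term P Q e he s hs (fun i => f.coeff i) hex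
  have hse : Q.1 (-s ^ e) = WithZero.exp (-(e : ℤ)) := by
    rw [Valuation.map_neg, map_pow, hs, ← WithZero.exp_nsmul]
    congr 1
    simp
  rw [h2, hse, term_val P Q e he s hs _ hcj j] at hval
  have hj1 := WithZero.exp_injective hval
  have he1 : (0 : ℤ) < e := by exact_mod_cast Nat.pos_of_ne_zero he0
  have hdvd : (e : ℤ) ∣ (j : ℤ) := ⟨WithZero.log (P.1 (f.coeff j)) + 1, by linarith⟩
  have hj0 : j = 0 := by
    have := Int.eq_zero_of_abs_lt_dvd hdvd (by rw [abs_lt]; constructor <;> omega)
    exact_mod_cast this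
  subst hj0
  refine ⟨hdeg, ?_, ?_⟩
  · intro i hi
    by_cases hci : f.coeff i = 0
    · rw [hci, map_zero]; exact zero_lt_one
    · have h3 := hle i hi
      rw [term_val P Q e he s hs _ hci i, term_val P Q e he s hs _ hcj 0, ← hval,
        WithZero.exp_le_exp] at h3
      have hPc : P.1 (f.coeff i) ≠ 0 := (Valuation.ne_zero_iff _).2 hci
      have hlog : WithZero.log (P.1 (f.coeff i)) < 0 := by
        by_contra hge
        rw [not_lt] at hge
        have : (0 : ℤ) ≤ (e : ℤ) * WithZero.log (P.1 (f.coeff i)) := mul_nonneg he1.le hge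
        omega
      rw [← WithZero.exp_log hPc]
      exact (WithZero.exp_lt_exp.2 hlog).trans_eq WithZero.exp_zero
  · have hPc : P.1 (f.coeff 0) ≠ 0 := (Valuation.ne_zero_iff _).2 hcj
    rw [← WithZero.exp_log hPc]
    congr 1
    have : (e : ℤ) * (WithZero.log (P.1 (f.coeff 0)) + 1) = 0 := by
      push_cast at hj1
      linarith
    rcases mul_eq_zero.1 this with h | h
    · omega
    · omega

end Groth.Agent.H63.Eisenstein
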