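import Mathlib
import Groth.Prelude.Def_W4bk4goldsch23FF
import Groth.Agent.H63.KaehlerFF

/-!
# Geometric function fields are separably generated; their differentials are one-dimensional
-/

set_option autoImplicit false
set_option linter.style.haveILetI false

namespace Groth.Agent.H63.SepGen
open FunFld TensorProduct

universe u v

section
variable {k : Type u} {K : Type v} [Field k] [Field K] [Algebra k K]

/-- MacLane's criterion from geometric irreducibility: `p`-th powers of `k`-independent elements
stay `k`-independent. -/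
theorem linearIndepOn_pow_of_isGeometric (hg : IsGeometric k K) (p : ℕ) [hp : Fact p.Prime]
    [CharP k p] (s : Finset K) (hs : LinearIndepOn k _root_.id (s : Set K)) :
    LinearIndepOn k (· ^ p) (s : Set K) := by
  classical
  unfold LinearIndepOn
  rw [linearIndependent_iff']
  intro t c hsum i hi
  -- p-th roots of the coefficients
  have hroot : ∀ j : (s : Set K), ∃ b : AlgebraicClosure k, b ^ p = algebraMap k (AlgebraicClosure k) (c j) :=
    fun j => IsAlgClosed.exists_pow_nat_eq _ hp.out.pos
  choose b hb using hroot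
  let S : Finset (AlgebraicClosure k) := t.image b
  let k' : IntermediateField k (AlgebraicClosure k) := IntermediateField.adjoin k (S : Set (AlgebraicClosure k))
  haveI : FiniteDimensional k k' :=
    IntermediateField.finiteDimensional_adjoin (fun x _ => Algebra.IsIntegral.isIntegral x)
  have hmem : ∀ j ∈ t, b j ∈ k' := fun j hj =>
    IntermediateField.subset_adjoin k _ (Finset.mem_coe.2 (Finset.mem_image_of_mem b hj))
  let b' : ↥(s : Set K) → k' := fun j => if hj : j ∈ t then ⟨b j, hmem j hj⟩ else 0
  have hb' : ∀ j ∈ t, (b' j) ^ p = algebraMap k k' (c j) := by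
    intro j hj
    apply Subtype.ext
    simp only [b', dif_pos hj]
    change b j ^ p = algebraMap k (AlgebraicClosure k) (c j)
    exact hb j
  have hfield := hg k' inferInstance
  letI := hfield.toField
  haveI : CharP (k' ⊗[k] K) p :=
    charP_of_injective_algebraMap (algebraMap k (k' ⊗[k] K)).injective p
  set ξ : k' ⊗[k] K := ∑ j ∈ t, (b' j) ⊗ₜ[k] (j : K) with hξ
  have hξp : ξ ^ p = 0 := by
    rw [hξ, sum_pow_char]
    have h1 : ∀ j ∈ t, ((b' j) ⊗ₜ[k] (j : K)) ^ p = (1 : k') ⊗ₜ[k] (c j • (j : K) ^ p) := by
      intro j hj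
      rw [Algebra.TensorProduct.tmul_pow, hb' j hj, Algebra.algebraMap_eq_smul_one,
        TensorProduct.smul_tmul]
    rw [Finset.sum_congr rfl h1, ← TensorProduct.tmul_sum]
    have h2 : ∑ j ∈ t, c j • (j : K) ^ p = 0 := hsum
    rw [h2, TensorProduct.tmul_zero]
  have hξ0 : ξ = 0 := pow_eq_zero_iff hp.out.ne_zero |>.1 hξp
  -- the coordinate functional
  let B := Module.Basis.extend hs
  have hiB : (i : K) ∈ hs.extend (Set.subset_univ _) := Module.Basis.subset_extend hs i.2
  let ℓ : K →ₗ[k] k := B.coord ⟨(i : K), hiB⟩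
  have hℓ : ∀ j : (s : Set K), ℓ (j : K) = if j = i then 1 else 0 := by
    intro j
    have hjB : (j : K) ∈ hs.extend (Set.subset_univ _) := Module.Basis.subset_extend hs j.2
    have : (j : K) = B ⟨(j : K), hjB⟩ := (Module.Basis.extend_apply_self hs ⟨(j : K), hjB⟩).symm
    change B.coord ⟨(i : K), hiB⟩ (j : K) = _
    rw [this, Module.Basis.coord_apply, Module.Basis.repr_self, Finsupp.single_apply]
    simp only [Subtype.mk.injEq, Subtype.coe_inj]
  let T : k' ⊗[k] K →ₗ[k] k' := (TensorProduct.rid k k').toLinearMap ∘ₗ (LinearMap.lTensor k' ℓ)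
  have hT : T ξ = b' i := by
    rw [hξ, map_sum]
    have h1 : ∀ j ∈ t, T ((b' j) ⊗ₜ[k] (j : K)) = if j = i then b' j else 0 := by
      intro j _
      change TensorProduct.rid k k' ((b' j) ⊗ₜ[k] ℓ (j : K)) = _
      rw [TensorProduct.rid_tmul, hℓ j]
      split_ifs <;> simp
    rw [Finset.sum_congr rfl h1, Finset.sum_ite_eq' t i, if_pos hi]
  rw [hξ0, map_zero] at hT
  have hbi : b i = 0 := by
    have := congrArg Subtype.val hT
    simp only [b', dif_pos hi] at this
    exact this.symm
  have := hb i
  rw [hbi, zero_pow hp.out.ne_zero] at this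
  exact (map_eq_zero _).1 this.symm

end

end Groth.Agent.H63.SepGen

namespace Groth.Agent.H63.SepGen
open FunFld

universe u v

variable {k : Type u} {K : Type v} [Field k] [Field K] [Algebra k K]

theorem essFiniteType (hK : IsFunctionField k K) : Algebra.EssFiniteType k K := by
  obtain ⟨x, -, hfin⟩ := hK.1
  have h1 : Algebra.EssFiniteType k (IntermediateField.adjoin k ({x} : Set K)) := by
    rw [IntermediateField.essFiniteType_iff]
    exact IntermediateField.fg_adjoin_of_finite (Set.finite_singleton x)
  exact Algebra.EssFiniteType.comp k (IntermediateField.adjoin k ({x} : Set K)) K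

/-- a geometric function field is separably generated -/
theorem exists_sep_basis (hK : IsFunctionField k K) (hg : IsGeometric k K) :
    ∃ s : Finset K, IsTranscendenceBasis k ((↑) : s → K) ∧
      Algebra.IsSeparable (IntermediateField.adjoin k (s : Set K)) K := by
  haveI := essFiniteType hK
  obtain _ | ⟨p, hp, hpk⟩ := CharP.exists' k
  · exact exists_isTranscendenceBasis_and_isSeparable_of_perfectField k K
  · haveI : ExpChar k p := .prime hp.out
    exact exists_isTranscendenceBasis_and_isSeparable_of_linearIndepOn_pow_of_essFiniteType p hp.out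
      (fun s hs => linearIndepOn_pow_of_isGeometric hg p s hs)

theorem trdeg_le_one (hK : IsFunctionField k K) : Algebra.trdeg k K ≤ 1 := by
  obtain ⟨x, hx, hfin⟩ := hK.1
  haveI : Algebra.IsAlgebraic (IntermediateField.adjoin k ({x} : Set K)) K :=
    Algebra.IsAlgebraic.of_finite _ _
  haveI : Algebra.IsAlgebraic (Algebra.adjoin k ({x} : Set K)) K :=
    IntermediateField.isAlgebraic_adjoin_iff_top.1 this
  have := Algebra.IsAlgebraic.trdeg_le_cardinalMk k ({x} : Set K)
  rwa [Cardinal.mk_singleton] at this

end Groth.Agent.H63.SepGen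

namespace Groth.Agent.H63.SepGen
open FunFld

universe u v

variable {k : Type u} {K : Type v} [Field k] [Field K] [Algebra k K]

theorem exists_generator (hK : IsFunctionField k K) (hg : IsGeometric k K) :
    ∃ ω₀ : Ω[K⁄k], ∀ ω : Ω[K⁄k], ∃ a : K, ω = a • ω₀ := by
  obtain ⟨s, hs, hsep⟩ := exists_sep_basis hK hg
  have hcard : s.card ≤ 1 := by
    have h1 := hs.cardinalMk_eq_trdeg
    have h2 := trdeg_le_one hK
    rw [← h1, Cardinal.mk_coe_finset] at h2
    exact_mod_cast h2
  obtain ⟨t, ht⟩ := Finset.card_le_one_iff_subset_singleton.1 hcard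
  refine ⟨KaehlerDifferential.D k K t, fun ω => ?_⟩
  have htop := Groth.Agent.H63.KaehlerFF.span_D_eq_top (k := k) (s : Set K)
  have hle : Submodule.span K ((KaehlerDifferential.D k K) '' (s : Set K)) ≤
      Submodule.span K {KaehlerDifferential.D k K t} := by
    apply Submodule.span_mono
    rintro _ ⟨z, hz, rfl⟩
    have := ht (Finset.mem_coe.1 hz)
    rw [Finset.mem_singleton] at this
    rw [this]
    exact Set.mem_singleton _
  rw [htop, top_le_iff] at hle
  have hω : ω ∈ Submodule.span K {KaehlerDifferential.D k K t} := by rw [hle]; trivial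
  obtain ⟨a, ha⟩ := Submodule.mem_span_singleton.1 hω
  exact ⟨a, ha.symm⟩

theorem exists_smul_D_eq (hK : IsFunctionField k K) (hg : IsGeometric k K) {x : K}
    (hx : KaehlerDifferential.D k K x ≠ 0) (ω : Ω[K⁄k]) :
    ∃ a : K, ω = a • KaehlerDifferential.D k K x := by
  obtain ⟨ω₀, h⟩ := exists_generator hK hg
  obtain ⟨b, hb⟩ := h (KaehlerDifferential.D k K x)
  obtain ⟨a, ha⟩ := h ω
  have hb0 : b ≠ 0 := by
    rintro rfl
    rw [zero_smul] at hb
    exact hx hb
  refine ⟨a * b⁻¹, ?_⟩
  rw [hb, smul_smul, mul_assoc, inv_mul_cancel₀ hb0, mul_one, ha]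

end Groth.Agent.H63.SepGen
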