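import Mathlib
import Groth.Prelude.Def_W4bk4goldsch23Ext
import Groth.Agent.H63.SepGen

set_option autoImplicit false
set_option linter.style.haveILetI false

namespace Groth.Agent.H63.DiffExp
open FunFld LocRes LaurentSeries

universe u v w

section A
variable {k : Type u} {K : Type v} {F : Type w} [Field k] [Field K] [Algebra k K] [Field F] [Algebra k F]

theorem vDiff_one (φ : K →ₐ[k] F⸨X⸩) (s : K) :
    LocRes.vDiff φ 1 s = Valued.v (LocRes.D F (φ s)) := by
  unfold LocRes.vDiff
  rw [map_one, one_mul]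

theorem ordDiff_eq_add (φ : K →ₐ[k] F⸨X⸩) (w : Valuation K (WithZero (Multiplicative ℤ)))
    (hφ : ∀ f : K, Valued.v (φ f) = w f) {x x' a : K}
    (h : KaehlerDifferential.D k K x' = a • KaehlerDifferential.D k K x)
    (hx : LocRes.vDiff φ 1 x ≠ 0) (hx' : LocRes.vDiff φ 1 x' ≠ 0) :
    LocRes.ordDiff φ 1 x' = -WithZero.log (w a) + LocRes.ordDiff φ 1 x := by
  have h1 := Groth.Agent.H63.KaehlerFF.D_map_eq_of_D_eq φ h
  rw [vDiff_one] at hx hx'
  have ha : w a ≠ 0 := by
    intro h0
    apply hx'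
    rw [h1, map_mul, hφ, h0, zero_mul]
  unfold LocRes.ordDiff
  rw [vDiff_one, vDiff_one, h1, map_mul, hφ, WithZero.log_mul ha hx]
  ring

end A

section B
variable {k : Type u} {K K' : Type v} [Field k] [Field K] [Field K'] [Algebra k K] [Algebra K K']
  [Algebra k K'] [IsScalarTower k K K']

theorem D_algebraMap_eq {x x' a : K}
    (h : KaehlerDifferential.D k K x' = a • KaehlerDifferential.D k K x) :
    KaehlerDifferential.D k K' (algebraMap K K' x') =
      algebraMap K K' a • KaehlerDifferential.D k K' (algebraMap K K' x) := by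
  have h1 := congrArg (KaehlerDifferential.map k k K K') h
  rw [map_smul, KaehlerDifferential.map_D, KaehlerDifferential.map_D] at h1
  rw [h1, algebraMap_smul]

variable {F F' : Type w} [Field F] [Algebra k F] [Field F'] [Algebra k F']

/-- the different exponent does not depend on the differential used -/
theorem diffExp_eq_of_D_eq (P : Place k K) (Q : Place k K') (e : ℕ) (he : IsOverWith Q P e)
    (φ : K →ₐ[k] LaurentSeries F) (hφ : LocRes.IsExpansionAt P.1 φ)
    (ψ : K' →ₐ[k] LaurentSeries F') (hψ : LocRes.IsExpansionAt Q.1 ψ)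
    {x x' a : K} (h : KaehlerDifferential.D k K x' = a • KaehlerDifferential.D k K x)
    (hx : LocRes.vDiff φ 1 x ≠ 0) (hx' : LocRes.vDiff ψ 1 (algebraMap K K' x) ≠ 0)
    (hx2 : LocRes.vDiff φ 1 x' ≠ 0) (hx2' : LocRes.vDiff ψ 1 (algebraMap K K' x') ≠ 0) :
    LocRes.diffExp φ ψ e x = LocRes.diffExp φ ψ e x' := by
  unfold LocRes.diffExp
  rw [ordDiff_eq_add φ P.1 hφ.1 h hx hx2,
    ordDiff_eq_add ψ Q.1 hψ.1 (D_algebraMap_eq h) hx' hx2', he a, WithZero.log_pow]
  simp only [nsmul_eq_mul]
  ring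

end B

end Groth.Agent.H63.DiffExp
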