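import Mathlib
import Groth.Agent.H63.DiffExp

set_option autoImplicit false
set_option linter.style.haveILetI false

namespace Groth.Agent.H63.TameDiff
open FunFld LocRes LaurentSeries

universe u v w

section L
variable {F : Type w} [Field F]

theorem coeff_eq_zero_of_v (g : F⸨X⸩) (e : ℕ) (hg : Valued.v g = WithZero.exp (-(e : ℤ))) :
    ∀ n : ℤ, n < e → g.coeff n = 0 :=
  (valuation_le_iff_coeff_lt_eq_zero F).mp hg.le

theorem coeff_ne_zero_of_v (g : F⸨X⸩) (e : ℕ) (hg : Valued.v g = WithZero.exp (-(e : ℤ))) :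
    g.coeff e ≠ 0 := by
  intro h0
  have : Valued.v g ≤ WithZero.exp (-((e : ℤ) + 1)) := by
    rw [valuation_le_iff_coeff_lt_eq_zero]
    intro m hm
    rcases lt_or_eq_of_le (show m ≤ (e : ℤ) by omega) with h | h
    · exact coeff_eq_zero_of_v g e hg m h
    · rw [h]; exact h0
  rw [hg, WithZero.exp_le_exp] at this
  omega

theorem v_D_le (g : F⸨X⸩) (e : ℕ) (hg : Valued.v g = WithZero.exp (-(e : ℤ))) :
    Valued.v (LocRes.D F g) ≤ WithZero.exp (-((e : ℤ) - 1)) := by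
  rw [valuation_le_iff_coeff_lt_eq_zero]
  intro m hm
  rw [LocRes.D_coeff, coeff_eq_zero_of_v g e hg (m + 1) (by omega), smul_zero]

theorem v_D_tame (g : F⸨X⸩) (e : ℕ) (hg : Valued.v g = WithZero.exp (-(e : ℤ)))
    (he : (e : F) ≠ 0) : Valued.v (LocRes.D F g) = WithZero.exp (-((e : ℤ) - 1)) := by
  have hle := v_D_le g e hg
  have hnle : ¬ Valued.v (LocRes.D F g) ≤ WithZero.exp (-(e : ℤ)) := by
    rw [valuation_le_iff_coeff_lt_eq_zero]
    intro hall
    have := hall ((e : ℤ) - 1) (by omega)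
    rw [LocRes.D_coeff, sub_add_cancel] at this
    have h2 : ((e : ℤ) • g.coeff (e : ℤ) : F) = (e : F) * g.coeff (e : ℤ) := by
      rw [zsmul_eq_mul]; norm_cast
    rw [h2] at this
    exact (mul_ne_zero he (coeff_ne_zero_of_v g e hg)) this
  have hv0 : Valued.v (LocRes.D F g) ≠ 0 := by
    intro h0
    apply hnle
    rw [h0]
    exact zero_le
  obtain ⟨m, hm⟩ : ∃ m : ℤ, Valued.v (LocRes.D F g) = WithZero.exp m :=
    ⟨WithZero.log (Valued.v (LocRes.D F g)), (WithZero.exp_log hv0).symm⟩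
  rw [hm, WithZero.exp_le_exp] at hle hnle
  rw [hm]
  congr 1
  omega

theorem v_D_wild (g : F⸨X⸩) (e : ℕ) (hg : Valued.v g = WithZero.exp (-(e : ℤ)))
    (he : (e : F) = 0) : Valued.v (LocRes.D F g) ≤ WithZero.exp (-(e : ℤ)) := by
  rw [valuation_le_iff_coeff_lt_eq_zero]
  intro m hm
  rw [LocRes.D_coeff]
  rcases lt_or_eq_of_le (show m + 1 ≤ (e : ℤ) by omega) with h | h
  · rw [coeff_eq_zero_of_v g e hg (m + 1) h, smul_zero]
  · rw [h]
    have h2 : ((e : ℤ) • g.coeff (e : ℤ) : F) = (e : F) * g.coeff (e : ℤ) := by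
      rw [zsmul_eq_mul]; norm_cast
    rw [h2, he, zero_mul]

end L


section M
variable {k : Type u} {K K' : Type v} [Field k] [Field K] [Field K'] [Algebra k K] [Algebra K K']
  [Algebra k K'] [IsScalarTower k K K']
variable {F F' : Type w} [Field F] [Algebra k F] [Field F'] [Algebra k F']

include k in
theorem natCast_eq_zero_iff (e : ℕ) : (e : F') = 0 ↔ ringChar K ∣ e := by
  haveI : CharP k (ringChar k) := ringChar.charP k
  haveI : CharP K (ringChar k) := charP_of_injective_algebraMap (algebraMap k K).injective _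
  haveI : CharP F' (ringChar k) := charP_of_injective_algebraMap (algebraMap k F').injective _
  rw [ringChar.eq K (ringChar k)]
  exact CharP.cast_eq_zero_iff F' (ringChar k) e

theorem diffExp_param (hK : IsFunctionField k K) (hg : IsGeometric k K)
    (P : Place k K) (Q : Place k K') (e : ℕ) (he : IsOverWith Q P e)
    (φ : K →ₐ[k] LaurentSeries F) (hφ : LocRes.IsExpansionAt P.1 φ)
    (ψ : K' →ₐ[k] LaurentSeries F') (hψ : LocRes.IsExpansionAt Q.1 ψ)
    (x : K) (hx : LocRes.vDiff φ 1 x ≠ 0) (hx' : LocRes.vDiff ψ 1 (algebraMap K K' x) ≠ 0) :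
    ∃ t : K, P.1 t = WithZero.exp (-1 : ℤ) ∧ LocRes.vDiff ψ 1 (algebraMap K K' t) ≠ 0 ∧
      LocRes.diffExp φ ψ e x = LocRes.ordDiff ψ 1 (algebraMap K K' t) := by
  obtain ⟨t, ht⟩ := hφ.2.2
  have hvt : Valued.v (φ t) = WithZero.exp (-((1 : ℕ) : ℤ)) := by rw [hφ.1, ht]; rfl
  have hDt : Valued.v (LocRes.D F (φ t)) = 1 := by
    have := v_D_tame (φ t) 1 hvt (by simp)
    simpa using this
  have hvt1 : LocRes.vDiff φ 1 t ≠ 0 := by
    rw [Groth.Agent.H63.DiffExp.vDiff_one, hDt]; exact one_ne_zero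
  have hdx : KaehlerDifferential.D k K x ≠ 0 := by
    intro h0
    apply hx
    rw [Groth.Agent.H63.DiffExp.vDiff_one]
    have := Groth.Agent.H63.KaehlerFF.D_map_eq_of_D_eq φ (x := x) (z := x) (a := 0)
      (by rw [h0, zero_smul])
    rw [this, map_zero, zero_mul, map_zero]
  obtain ⟨a, ha⟩ := Groth.Agent.H63.SepGen.exists_smul_D_eq hK hg hdx (KaehlerDifferential.D k K t)
  have ha0 : a ≠ 0 := by
    rintro rfl
    apply hvt1
    rw [Groth.Agent.H63.DiffExp.vDiff_one,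
      Groth.Agent.H63.KaehlerFF.D_map_eq_of_D_eq φ ha, map_zero, zero_mul, map_zero]
  have hvt2 : LocRes.vDiff ψ 1 (algebraMap K K' t) ≠ 0 := by
    rw [Groth.Agent.H63.DiffExp.vDiff_one] at hx' ⊢
    rw [Groth.Agent.H63.KaehlerFF.D_map_eq_of_D_eq ψ (Groth.Agent.H63.DiffExp.D_algebraMap_eq ha),
      map_mul]
    refine mul_ne_zero ?_ hx'
    rw [hψ.1, he a]
    exact pow_ne_zero _ ((Valuation.ne_zero_iff _).2 ha0)
  refine ⟨t, ht, hvt2, ?_⟩
  rw [Groth.Agent.H63.DiffExp.diffExp_eq_of_D_eq P Q e he φ hφ ψ hψ ha hx hx' hvt1 hvt2]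
  unfold LocRes.diffExp
  have : LocRes.ordDiff φ 1 t = 0 := by
    unfold LocRes.ordDiff
    rw [Groth.Agent.H63.DiffExp.vDiff_one, hDt]
    simp
  rw [this, mul_zero, sub_zero]

theorem diffExp_tame_wild (hK : IsFunctionField k K) (hg : IsGeometric k K)
    (P : Place k K) (Q : Place k K') (e : ℕ) (he : IsOverWith Q P e)
    (φ : K →ₐ[k] LaurentSeries F) (hφ : LocRes.IsExpansionAt P.1 φ)
    (ψ : K' →ₐ[k] LaurentSeries F') (hψ : LocRes.IsExpansionAt Q.1 ψ)
    (x : K) (hx : LocRes.vDiff φ 1 x ≠ 0) (hx' : LocRes.vDiff ψ 1 (algebraMap K K' x) ≠ 0) :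
    (¬ (ringChar K ∣ e) → LocRes.diffExp φ ψ e x = (e : ℤ) - 1) ∧
    (ringChar K ∣ e → (e : ℤ) ≤ LocRes.diffExp φ ψ e x) := by
  obtain ⟨t, ht, hvt2, hd⟩ := diffExp_param hK hg P Q e he φ hφ ψ hψ x hx hx'
  have hvg : Valued.v (ψ (algebraMap K K' t)) = WithZero.exp (-(e : ℤ)) := by
    rw [hψ.1, he t, ht, ← WithZero.exp_nsmul]
    congr 1
    simp
  rw [hd]
  unfold LocRes.ordDiff
  rw [Groth.Agent.H63.DiffExp.vDiff_one] at hvt2 ⊢
  constructor
  · intro hne
    have he0 : (e : F') ≠ 0 := fun h => hne ((natCast_eq_zero_iff (k := k) (K := K) (F' := F') e).1 h)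
    rw [v_D_tame _ e hvg he0, WithZero.log_exp]
    ring
  · intro hdvd
    have he0 : (e : F') = 0 := (natCast_eq_zero_iff (k := k) (K := K) (F' := F') e).2 hdvd
    have hle := v_D_wild _ e hvg he0
    have := (WithZero.log_le_log hvt2 WithZero.exp_ne_zero).2 hle
    rw [WithZero.log_exp] at this
    omega

end M

end Groth.Agent.H63.TameDiff
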