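import Mathlib
import Groth.Agent.H63.TameDiff
import Groth.Agent.H63.Eisenstein
import Groth.Agent.H63.DerAeval

set_option autoImplicit false
set_option linter.style.haveILetI false

namespace Groth.Agent.H63.MinpolyDiff
open FunFld LocRes LaurentSeries Polynomial
open Groth.Agent.H63.TameDiff Groth.Agent.H63.Eisenstein Groth.Agent.H63.DiffExp

universe u v w

variable {k : Type u} {K K' : Type v} [Field k] [Field K] [Field K'] [Algebra k K] [Algebra K K']
  [Algebra k K'] [IsScalarTower k K K'] [FiniteDimensional K K']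
variable {F F' : Type w} [Field F] [Algebra k F] [Field F'] [Algebra k F']

theorem v_D_le_one (f : F⸨X⸩) (hf : Valued.v f ≤ 1) : Valued.v (LocRes.D F f) ≤ 1 := by
  have hf' : Valued.v f ≤ WithZero.exp (-(0 : ℤ)) := by simpa using hf
  have hcoef := (valuation_le_iff_coeff_lt_eq_zero F).mp hf'
  have : Valued.v (LocRes.D F f) ≤ WithZero.exp (-(0 : ℤ)) := by
    rw [valuation_le_iff_coeff_lt_eq_zero]
    intro m hm
    rw [LocRes.D_coeff]
    by_cases h : m + 1 < 0
    · rw [hcoef (m + 1) h, smul_zero]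
    · have h0 : m + 1 = 0 := by omega
      rw [h0, zero_smul]
  simpa using this

theorem v_D_unif (g : F⸨X⸩) (hg : Valued.v g = WithZero.exp (-1 : ℤ)) :
    Valued.v (LocRes.D F g) = 1 := by
  have := v_D_tame g 1 (by rw [hg]; rfl) (by simp)
  simpa using this

theorem ord_derivative_minpoly (hK : IsFunctionField k K) (hg : IsGeometric k K)
    (P : Place k K) (Q : Place k K') (e : ℕ) (he : IsOverWith Q P e)
    (φ : K →ₐ[k] LaurentSeries F) (hφ : LocRes.IsExpansionAt P.1 φ)
    (ψ : K' →ₐ[k] LaurentSeries F') (hψ : LocRes.IsExpansionAt Q.1 ψ)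
    (x : K) (hx : LocRes.vDiff φ 1 x ≠ 0) (hx' : LocRes.vDiff ψ 1 (algebraMap K K' x) ≠ 0)
    (hn : e = Module.finrank K K') (s : K') (hs : Q.1 s = WithZero.exp (-1 : ℤ)) :
    Q.ord (Polynomial.aeval s (Polynomial.derivative (minpoly K s))) = LocRes.diffExp φ ψ e x := by
  classical
  obtain ⟨t, ht, hvt2, hd⟩ := diffExp_param hK hg P Q e he φ hφ ψ hψ x hx hx'
  obtain ⟨hdeg, hint, h0⟩ := minpoly_eisenstein P Q e he hn s hs
  set f := minpoly K s with hf
  have hDt : Valued.v (LocRes.D F (φ t)) = 1 := v_D_unif _ (by rw [hφ.1, ht])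
  have hdt : KaehlerDifferential.D k K t ≠ 0 := by
    intro h0'
    have := Groth.Agent.H63.KaehlerFF.D_map_eq_of_D_eq φ (x := t) (z := t) (a := 0)
      (by rw [h0', zero_smul])
    rw [this, map_zero, zero_mul, map_zero] at hDt
    exact zero_ne_one hDt
  choose δ hδ using fun a : K =>
    Groth.Agent.H63.SepGen.exists_smul_D_eq hK hg hdt (KaehlerDifferential.D k K a)
  have hδv : ∀ a : K, Valued.v (LocRes.D F (φ a)) = P.1 (δ a) := by
    intro a
    rw [Groth.Agent.H63.KaehlerFF.D_map_eq_of_D_eq φ (hδ a), map_mul, hφ.1, hDt, mul_one]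
  have hδint : ∀ a : K, P.1 a ≤ 1 → P.1 (δ a) ≤ 1 := by
    intro a ha
    rw [← hδv a]
    exact v_D_le_one _ (by rw [hφ.1]; exact ha)
  have hδ0 : P.1 (δ (f.coeff 0)) = 1 := by
    rw [← hδv]
    exact v_D_unif _ (by rw [hφ.1, h0])
  have hδ1 : δ 1 = 0 := by
    have := hδ 1
    rw [Derivation.map_one_eq_zero] at this
    rcases smul_eq_zero.1 this.symm with h | h
    · exact h
    · exact absurd h hdt
  -- the differential identity
  have hid := Groth.Agent.H63.DerAeval.der_aeval (KaehlerDifferential.D k K') s f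
  rw [hf, minpoly.aeval, ← hf, map_zero] at hid
  set Sg : K' := f.sum (fun i a => s ^ i * algebraMap K K' (δ a)) with hSg
  have hsum : f.sum (fun i a => s ^ i • KaehlerDifferential.D k K' (algebraMap K K' a)) =
      Sg • KaehlerDifferential.D k K' (algebraMap K K' t) := by
    rw [hSg, Polynomial.sum_def, Polynomial.sum_def, Finset.sum_smul]
    refine Finset.sum_congr rfl (fun i _ => ?_)
    rw [D_algebraMap_eq (hδ (f.coeff i)), smul_smul]
  rw [hsum] at hid
  have hid2 : Polynomial.aeval s (Polynomial.derivative f) • KaehlerDifferential.D k K' s =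
      (-Sg) • KaehlerDifferential.D k K' (algebraMap K K' t) := by
    rw [neg_smul]
    exact eq_neg_of_add_eq_zero_left hid.symm
  have hlift := Groth.Agent.H63.KaehlerFF.lift_smul_eq ψ hid2
  have hDs : Valued.v (LocRes.D F' (ψ s)) = 1 := v_D_unif _ (by rw [hψ.1, hs])
  have hval := congrArg Valued.v hlift
  rw [map_mul, map_mul, hψ.1, hψ.1, hDs, mul_one, Valuation.map_neg] at hval
  -- the valuation of Sg
  have hc0 : f.coeff 0 ≠ 0 := by
    intro h
    rw [h, map_zero] at h0
    exact WithZero.exp_ne_zero h0.symm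
  have h0supp : 0 ∈ f.support := Polynomial.mem_support_iff.2 hc0
  have hSg1 : Q.1 Sg = 1 := by
    rw [hSg, Polynomial.sum_def, Valuation.map_sum_eq_of_lt _ h0supp]
    · rw [pow_zero, one_mul, he, hδ0, one_pow]
    · intro i hi
      rw [Finset.mem_sdiff, Finset.mem_singleton] at hi
      rw [pow_zero, one_mul, he, hδ0, one_pow, map_mul, map_pow, hs, he]
      have hile : i ≤ e := by
        rw [← hdeg]
        exact Polynomial.le_natDegree_of_mem_supp i hi.1
      rcases lt_or_eq_of_le hile with hlt | heq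
      · have h1 : P.1 (δ (f.coeff i)) ^ e ≤ 1 :=
          pow_le_one' (hδint _ (hint i hlt).le) e
        have h2 : (WithZero.exp (-1 : ℤ)) ^ i < 1 := by
          rw [← WithZero.exp_nsmul, ← WithZero.exp_zero, WithZero.exp_lt_exp]
          have : 0 < i := Nat.pos_of_ne_zero hi.2
          simp only [nsmul_eq_mul]
          omega
        calc (WithZero.exp (-1 : ℤ)) ^ i * P.1 (δ (f.coeff i)) ^ e
            ≤ (WithZero.exp (-1 : ℤ)) ^ i * 1 := mul_le_mul' le_rfl h1
          _ < 1 := by rw [mul_one]; exact h2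
      · have hce : f.coeff i = 1 := by
          rw [heq, ← hdeg, Polynomial.coeff_natDegree, (minpoly.monic (IsIntegral.of_finite K s)).leadingCoeff]
        rw [hce, hδ1, map_zero, zero_pow (ramIdx_ne_zero P Q e he), mul_zero]
        exact zero_lt_one
  rw [hSg1, one_mul] at hval
  rw [hd]
  unfold Place.ord LocRes.ordDiff
  rw [vDiff_one, hval]

end Groth.Agent.H63.MinpolyDiff
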