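import Mathlib
import Groth.Agent.H63.CoeffDer
import Groth.Agent.H63.MinpolyDiff

set_option autoImplicit false
set_option linter.style.haveILetI false

namespace Groth.Agent.H63.ResidueSep
open FunFld LocRes HahnSeries LaurentSeries Groth.Agent.H63.LaurentTaylor
open Groth.Agent.H63.CoeffDer

universe u v w

variable {k : Type u} {K : Type v} {F : Type w} [Field k] [Field K] [Algebra k K] [Field F]
  [Algebra k F]

/-- transfer of an identity of differentials through the coefficientwise derivation -/
theorem coeffDer_map_eq (φ : K →ₐ[k] F⸨X⸩) (η : Derivation k F F) {f t a : K}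
    (h : KaehlerDifferential.D k K f = a • KaehlerDifferential.D k K t) :
    coeffDer η (φ f) = φ a * coeffDer η (φ t) := by
  letI := φ.toRingHom.toAlgebra
  haveI : IsScalarTower k K F⸨X⸩ := LocRes.isScalarTower_exp φ
  have h1 := congrArg ((coeffDer η).compAlgebraMap K).liftKaehlerDifferential h
  rw [map_smul, Derivation.liftKaehlerDifferential_comp_D,
    Derivation.liftKaehlerDifferential_comp_D] at h1
  exact h1

/-- every `k`-derivation of the coefficient field of an expansion vanishes -/
theorem der_eq_zero (hK : IsFunctionField k K) (hg : IsGeometric k K) (P : Place k K)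
    (φ : K →ₐ[k] F⸨X⸩) (hφ : LocRes.IsExpansionAt P.1 φ) (η : Derivation k F F) : η = 0 := by
  obtain ⟨t, ht⟩ := hφ.2.2
  have hDt : Valued.v (LocRes.D F (φ t)) = 1 :=
    Groth.Agent.H63.MinpolyDiff.v_D_unif _ (by rw [hφ.1, ht])
  have hdt : KaehlerDifferential.D k K t ≠ 0 := by
    intro h0'
    have := Groth.Agent.H63.KaehlerFF.D_map_eq_of_D_eq φ (x := t) (z := t) (a := 0)
      (by rw [h0', zero_smul])
    rw [this, map_zero, zero_mul, map_zero] at hDt
    exact zero_ne_one hDt
  have htcoef : ∀ q : ℤ, q < 1 → (coeffDer η (φ t)).coeff q = 0 := by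
    intro q hq
    have hv : Valued.v (φ t) ≤ WithZero.exp (-(1 : ℤ)) := by rw [hφ.1, ht]
    rw [coeffDer_coeff, (valuation_le_iff_coeff_lt_eq_zero F).mp hv q hq, map_zero]
  ext b
  obtain ⟨f, hf, hfb⟩ := hφ.2.1 b
  obtain ⟨a, ha⟩ := Groth.Agent.H63.SepGen.exists_smul_D_eq hK hg hdt (KaehlerDifferential.D k K f)
  have hPa : P.1 a ≤ 1 := by
    have h1 : Valued.v (LocRes.D F (φ f)) ≤ 1 :=
      Groth.Agent.H63.MinpolyDiff.v_D_le_one _ (by rw [hφ.1]; exact hf)
    rwa [Groth.Agent.H63.KaehlerFF.D_map_eq_of_D_eq φ ha, map_mul, hDt, mul_one, hφ.1] at h1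
  have hacoef : ∀ p : ℤ, p < 0 → (φ a).coeff p = 0 := by
    have hv : Valued.v (φ a) ≤ WithZero.exp (-(0 : ℤ)) := by
      rw [hφ.1]; simpa using hPa
    exact (valuation_le_iff_coeff_lt_eq_zero F).mp hv
  have h1 := congrArg (fun g : F⸨X⸩ => g.coeff 0) (coeffDer_map_eq φ η ha)
  rw [coeffDer_coeff, hfb, coeff_mul_eq_sum _ _ 0 0 1 hacoef htcoef] at h1
  rw [h1]
  have : Finset.Icc (0 : ℤ) (0 - 1) = ∅ := by
    rw [Finset.Icc_eq_empty]; omega
  rw [this, Finset.sum_empty]
  rfl

/-- the coefficient field of an expansion at a place of a geometric function field is separable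
over the constant field -/
theorem isSeparable (hK : IsFunctionField k K) (hg : IsGeometric k K) (P : Place k K)
    (φ : K →ₐ[k] F⸨X⸩) (hφ : LocRes.IsExpansionAt P.1 φ) [FiniteDimensional k F] :
    Algebra.IsSeparable k F := by
  have hsub : Subsingleton (Ω[F⁄k]) := by
    by_contra hns
    rw [not_subsingleton_iff_nontrivial] at hns
    obtain ⟨ω, hω⟩ := exists_ne (0 : Ω[F⁄k])
    obtain ⟨ℓ, hℓ⟩ := Module.Projective.exists_dual_eq_one F hω
    have hη := der_eq_zero hK hg P φ hφ (ℓ.compDer (KaehlerDifferential.D k F))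
    have hℓ0 : ℓ = 0 := by
      apply LinearMap.ext_on_range (KaehlerDifferential.span_range_derivation k F)
      intro z
      have := congrArg (fun d : Derivation k F F => d z) hη
      simpa using this
    rw [hℓ0] at hℓ
    exact zero_ne_one hℓ
  haveI : Algebra.FormallyUnramified k F := ⟨hsub⟩
  exact Algebra.FormallyUnramified.isSeparable k F

end Groth.Agent.H63.ResidueSep
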