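import Mathlib
import Groth.Agent.H63.ResidueSep

set_option autoImplicit false
set_option linter.style.haveILetI false

namespace Groth.Agent.H63.LocNondeg
open FunFld LocRes HahnSeries LaurentSeries Groth.Agent.H63.LaurentTaylor

universe u v w

variable {k : Type u} {K : Type v} {F : Type w} [Field k] [Field K] [Algebra k K] [Field F]
  [Algebra k F]

theorem coeff_eq_zero_of_v (g : F⸨X⸩) (n : ℤ) (hg : Valued.v g ≤ WithZero.exp (-n)) :
    ∀ p : ℤ, p < n → g.coeff p = 0 :=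
  (valuation_le_iff_coeff_lt_eq_zero F).mp hg

theorem coeff_ne_zero_of_v (g : F⸨X⸩) (n : ℤ) (hg : Valued.v g = WithZero.exp (-n)) :
    g.coeff n ≠ 0 := by
  intro h0
  have : Valued.v g ≤ WithZero.exp (-(n + 1)) := by
    rw [valuation_le_iff_coeff_lt_eq_zero]
    intro m hm
    rcases lt_or_eq_of_le (show m ≤ n by omega) with h | h
    · exact coeff_eq_zero_of_v g n hg.le m h
    · rw [h]; exact h0
  rw [hg, WithZero.exp_le_exp] at this
  omega

/-- elements of `K` with prescribed order and leading coefficient through an expansion -/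
theorem exists_leading (P : Place k K) (φ : K →ₐ[k] F⸨X⸩) (hφ : LocRes.IsExpansionAt P.1 φ)
    (m : ℤ) (b : F) :
    ∃ y : K, (∀ p : ℤ, p < m → (φ y).coeff p = 0) ∧ (φ y).coeff m = b := by
  obtain ⟨s, hs⟩ := P.2.2 (WithZero.exp (-m))
  have hvs : Valued.v (φ s) = WithZero.exp (-m) := by rw [hφ.1, hs]
  have hs0 := coeff_ne_zero_of_v (φ s) m hvs
  obtain ⟨f, hf, hfb⟩ := hφ.2.1 (b / (φ s).coeff m)
  have hfcoef : ∀ p : ℤ, p < 0 → (φ f).coeff p = 0 :=
    coeff_eq_zero_of_v (φ f) 0 (by rw [hφ.1]; simpa using hf)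
  have hscoef := coeff_eq_zero_of_v (φ s) m hvs.le
  refine ⟨f * s, ?_, ?_⟩
  · intro p hp
    rw [map_mul, coeff_mul_eq_sum _ _ p 0 m hfcoef hscoef, Finset.Icc_eq_empty (by omega),
      Finset.sum_empty]
  · rw [map_mul, coeff_mul_eq_sum _ _ m 0 m hfcoef hscoef, sub_self, Finset.Icc_self,
      Finset.sum_singleton, hfb, sub_zero, div_mul_cancel₀ _ hs0]

/-- the derivative of the expansion of a separating element does not vanish -/
theorem D_ne_zero (hK : IsFunctionField k K) (hg : IsGeometric k K) (P : Place k K)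
    (φ : K →ₐ[k] F⸨X⸩) (hφ : LocRes.IsExpansionAt P.1 φ) {x : K}
    (hx : KaehlerDifferential.D k K x ≠ 0) : LocRes.D F (φ x) ≠ 0 := by
  obtain ⟨t, ht⟩ := hφ.2.2
  have hDt : Valued.v (LocRes.D F (φ t)) = 1 :=
    Groth.Agent.H63.MinpolyDiff.v_D_unif _ (by rw [hφ.1, ht])
  obtain ⟨a, ha⟩ := Groth.Agent.H63.SepGen.exists_smul_D_eq hK hg hx (KaehlerDifferential.D k K t)
  rw [Groth.Agent.H63.KaehlerFF.D_map_eq_of_D_eq φ ha] at hDt
  intro h0
  rw [h0, mul_zero, map_zero] at hDt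
  exact zero_ne_one hDt

/-- **local nondegeneracy**: for `g ≠ 0` every element of `F` is a residue `res(φ y · g)` -/
theorem exists_res_eq (P : Place k K) (φ : K →ₐ[k] F⸨X⸩) (hφ : LocRes.IsExpansionAt P.1 φ)
    (g : F⸨X⸩) (hg0 : g ≠ 0) (b : F) : ∃ y : K, (φ y * g).coeff (-1) = b := by
  have hv0 : Valued.v g ≠ 0 := (Valuation.ne_zero_iff _).2 hg0
  set n : ℤ := -WithZero.log (Valued.v g) with hn
  have hvg : Valued.v g = WithZero.exp (-n) := by
    rw [hn, neg_neg, WithZero.exp_log hv0]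
  have hc := coeff_ne_zero_of_v g n hvg
  have hgcoef := coeff_eq_zero_of_v g n hvg.le
  obtain ⟨y, hy1, hy2⟩ := exists_leading P φ hφ (-1 - n) (b / g.coeff n)
  refine ⟨y, ?_⟩
  rw [coeff_mul_eq_sum _ _ (-1) (-1 - n) n hy1 hgcoef, Finset.Icc_self, Finset.sum_singleton, hy2,
    show (-1 : ℤ) - (-1 - n) = n by ring, div_mul_cancel₀ _ hc]

theorem exists_locRes_ne_zero (hK : IsFunctionField k K) (hg : IsGeometric k K) (P : Place k K)
    [FiniteDimensional k F] (φ : K →ₐ[k] F⸨X⸩) (hφ : LocRes.IsExpansionAt P.1 φ) {x : K}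
    (hx : KaehlerDifferential.D k K x ≠ 0) : ∃ y : K, LocRes.locRes φ y x ≠ 0 := by
  haveI := Groth.Agent.H63.ResidueSep.isSeparable hK hg P φ hφ
  obtain ⟨b, hb⟩ := Algebra.trace_surjective k F 1
  obtain ⟨y, hy⟩ := exists_res_eq P φ hφ _ (D_ne_zero hK hg P φ hφ hx) b
  refine ⟨y, ?_⟩
  unfold LocRes.locRes LocRes.resExp
  rw [LocRes.res_apply, hy, hb]
  exact one_ne_zero

end Groth.Agent.H63.LocNondeg
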