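import Mathlib
import Groth.Agent.H63.DerGoodGen
import Groth.Agent.H63.LocNondeg

set_option autoImplicit false
set_option linter.style.haveILetI false

namespace Groth.Agent.H63.OrdDiffGen
open FunFld LocRes LaurentSeries Groth.Agent.H55 WithZero

universe u v w

variable {k : Type u} {K : Type v} [Field k] [Field K] [Algebra k K]

/-- the derivation `d/dx` for `dx ≠ 0`, geometric function field over any field -/
theorem exists_der (hK : IsFunctionField k K) (hg : IsGeometric k K) {x : K}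
    (hx : KaehlerDifferential.D k K x ≠ 0) :
    ∃ δ : Derivation k K K, ∀ z, KaehlerDifferential.D k K z = δ z • KaehlerDifferential.D k K x := by
  obtain ⟨ℓ, hℓ⟩ := Module.Projective.exists_dual_eq_one K hx
  refine ⟨ℓ.compDer (KaehlerDifferential.D k K), fun z => ?_⟩
  obtain ⟨a, ha⟩ := Groth.Agent.H63.SepGen.exists_smul_D_eq hK hg hx (KaehlerDifferential.D k K z)
  change _ = ℓ (KaehlerDifferential.D k K z) • _
  rw [ha, map_smul, hℓ, smul_eq_mul, mul_one]

section one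
variable {F : Type w} [Field F] [Algebra k F]

theorem v_D_ne_zero (hK : IsFunctionField k K) (hg : IsGeometric k K) {x : K}
    (hx : KaehlerDifferential.D k K x ≠ 0) (P : Place k K) (φ : K →ₐ[k] F⸨X⸩)
    (hφ : LocRes.IsExpansionAt P.1 φ) : Valued.v (LocRes.D F (φ x)) ≠ 0 :=
  (Valuation.ne_zero_iff _).2 (Groth.Agent.H63.LocNondeg.D_ne_zero hK hg P φ hφ hx)

theorem vDiff_eq_mul (P : Place k K) (φ : K →ₐ[k] F⸨X⸩) (hφ : LocRes.IsExpansionAt P.1 φ)
    (u x : K) : LocRes.vDiff φ u x = P.1 u * LocRes.vDiff φ 1 x := by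
  unfold LocRes.vDiff
  rw [map_mul, hφ.1, map_one, one_mul]

theorem vDiff_mul_left (P : Place k K) (φ : K →ₐ[k] F⸨X⸩) (hφ : LocRes.IsExpansionAt P.1 φ)
    (a u x : K) : LocRes.vDiff φ (a * u) x = P.1 a * LocRes.vDiff φ u x := by
  rw [vDiff_eq_mul P φ hφ, vDiff_eq_mul P φ hφ u, map_mul, mul_assoc]

theorem vDiff_ne_zero (hK : IsFunctionField k K) (hg : IsGeometric k K) {x : K}
    (hx : KaehlerDifferential.D k K x ≠ 0) (P : Place k K) (φ : K →ₐ[k] F⸨X⸩)
    (hφ : LocRes.IsExpansionAt P.1 φ) {u : K} (hu : u ≠ 0) : LocRes.vDiff φ u x ≠ 0 := by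
  rw [vDiff_eq_mul P φ hφ, Groth.Agent.H63.DiffExp.vDiff_one]
  exact mul_ne_zero ((Valuation.ne_zero_iff _).2 hu) (v_D_ne_zero hK hg hx P φ hφ)

theorem vDiff_eq_exp (hK : IsFunctionField k K) (hg : IsGeometric k K) {x : K}
    (hx : KaehlerDifferential.D k K x ≠ 0) (P : Place k K) (φ : K →ₐ[k] F⸨X⸩)
    (hφ : LocRes.IsExpansionAt P.1 φ) {u : K} (hu : u ≠ 0) :
    LocRes.vDiff φ u x = exp (-(LocRes.ordDiff φ u x)) := by
  unfold LocRes.ordDiff
  rw [neg_neg, exp_log (vDiff_ne_zero hK hg hx P φ hφ hu)]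

theorem ordDiff_smul (hK : IsFunctionField k K) (hg : IsGeometric k K) {x : K}
    (hx : KaehlerDifferential.D k K x ≠ 0) (P : Place k K) (φ : K →ₐ[k] F⸨X⸩)
    (hφ : LocRes.IsExpansionAt P.1 φ) (g : K) (hg0 : g ≠ 0) :
    LocRes.ordDiff φ g x = P.ord g + LocRes.ordDiff φ 1 x := by
  unfold LocRes.ordDiff
  rw [vDiff_eq_mul P φ hφ g x, Groth.Agent.H63.DiffExp.vDiff_one,
    WithZero.log_mul ((Valuation.ne_zero_iff _).mpr hg0) (v_D_ne_zero hK hg hx P φ hφ)]
  unfold Place.ord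
  ring

end one

variable {F : Place k K → Type w} [∀ P, Field (F P)] [∀ P, Algebra k (F P)]

theorem finite_support_ordDiff_one (hK : IsFunctionField k K) (hg : IsGeometric k K) {x : K}
    (hx : KaehlerDifferential.D k K x ≠ 0) (φ : ∀ P : Place k K, K →ₐ[k] (F P)⸨X⸩)
    (hφ : ∀ P : Place k K, LocRes.IsExpansionAt P.1 (φ P)) :
    (Function.support fun P : Place k K => LocRes.ordDiff (φ P) 1 x).Finite := by
  obtain ⟨δ, hδ⟩ := exists_der hK hg hx
  have hfin := (Groth.Agent.H63.DerGoodGen.finite_poles' hK x).union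
    (Groth.Agent.H63.DerGoodGen.finite_der_bad hK δ)
  refine hfin.subset ?_
  intro P hP
  rw [Function.mem_support] at hP
  by_contra hbad
  rw [Set.mem_union, not_or] at hbad
  obtain ⟨hpole, hgood⟩ := hbad
  apply hP
  have hs1 : P.1 x ≤ 1 := not_lt.1 hpole
  obtain ⟨π, hπ⟩ := Place.exists_uniformizer P
  have hδπ : P.1 (δ π) ≤ 1 := by
    by_contra hlt
    rw [not_le] at hlt
    exact hgood ⟨π, by rw [hπ]; exact (exp_le_exp.2 (by omega)).trans_eq exp_zero, hlt⟩
  have h1 : Valued.v (LocRes.D (F P) (φ P π)) = 1 :=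
    Groth.Agent.H63.MinpolyDiff.v_D_unif _ (by rw [(hφ P).1, hπ])
  rw [Groth.Agent.H63.KaehlerFF.D_map_eq_of_D_eq (φ P) (hδ π), map_mul, (hφ P).1] at h1
  have h2 : Valued.v (LocRes.D (F P) (φ P x)) ≤ 1 :=
    Groth.Agent.H63.MinpolyDiff.v_D_le_one _ (by rw [(hφ P).1]; exact hs1)
  have h3 : Valued.v (LocRes.D (F P) (φ P x)) = 1 := by
    apply le_antisymm h2
    rw [← h1]
    exact mul_le_of_le_one_left' hδπ
  change LocRes.ordDiff (φ P) 1 x = 0
  unfold LocRes.ordDiff
  rw [Groth.Agent.H63.DiffExp.vDiff_one, h3]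
  simp

theorem finite_support_ordDiff (hK : IsFunctionField k K) (hg : IsGeometric k K) {x : K}
    (hx : KaehlerDifferential.D k K x ≠ 0) (φ : ∀ P : Place k K, K →ₐ[k] (F P)⸨X⸩)
    (hφ : ∀ P : Place k K, LocRes.IsExpansionAt P.1 (φ P)) (u : K) :
    (Function.support fun P : Place k K => LocRes.ordDiff (φ P) u x).Finite := by
  by_cases hu : u = 0
  · subst hu
    have : (fun P : Place k K => LocRes.ordDiff (φ P) 0 x) = fun _ => 0 := by
      funext P
      unfold LocRes.ordDiff LocRes.vDiff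
      rw [map_zero, zero_mul, map_zero]
      simp
    rw [this]
    simp
  refine ((Place.finite_support_ord hK u).union (finite_support_ordDiff_one hK hg hx φ hφ)).subset ?_
  intro Q hQ
  rw [Function.mem_support] at hQ
  by_contra hnot
  rw [Set.mem_union, not_or, Function.mem_support, Function.mem_support, not_not, not_not] at hnot
  apply hQ
  rw [ordDiff_smul hK hg hx Q (φ Q) (hφ Q) u hu, hnot.1, hnot.2, add_zero]

end Groth.Agent.H63.OrdDiffGen
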