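import Mathlib
import Groth.Agent.H63.OrdDiffGen
import Groth.Agent.H55.FFWeil
import Groth.Agent.H55.FFRiemannRoch

set_option autoImplicit false
set_option linter.style.haveILetI false

namespace Groth.Agent.H63.WeilRes
open FunFld LocRes LaurentSeries Groth.Agent.H55 WithZero Groth.Agent.H63.OrdDiffGen

universe u v w

variable {k : Type u} {K : Type v} [Field k] [Field K] [Algebra k K]

section one
variable {F : Type w} [Field F] [Algebra k F]

/-- the `k`-linear map `y ↦ Res(y u dv)` -/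
noncomputable def locResLin (φ : K →ₐ[k] F⸨X⸩) (u v : K) : K →ₗ[k] k :=
  (Algebra.trace k F) ∘ₗ (resOmega φ) ∘ₗ
    ((LinearMap.toSpanSingleton K Ω[K⁄k] (u • KaehlerDifferential.D k K v)).restrictScalars k)

theorem locResLin_apply (φ : K →ₐ[k] F⸨X⸩) (u v y : K) :
    locResLin φ u v y = locRes φ (y * u) v := by
  unfold locResLin locRes
  rw [LinearMap.comp_apply, LinearMap.comp_apply, LinearMap.restrictScalars_apply,
    LinearMap.toSpanSingleton_apply, smul_smul, resOmega_smul_D]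

theorem resExp_eq_zero_of_vDiff_le (φ : K →ₐ[k] F⸨X⸩) (y v : K) (h : vDiff φ y v ≤ 1) :
    resExp φ y v = 0 := by
  unfold resExp
  rw [res_apply]
  unfold vDiff at h
  exact Groth.Agent.H63.LocNondeg.coeff_eq_zero_of_v _ 0 (by simpa using h) (-1) (by omega)

theorem locRes_eq_zero_of_vDiff_le (φ : K →ₐ[k] F⸨X⸩) (y v : K) (h : vDiff φ y v ≤ 1) :
    locRes φ y v = 0 := by
  unfold locRes
  rw [resExp_eq_zero_of_vDiff_le φ y v h, map_zero]

/-- nondegeneracy with control of the pole order -/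
theorem exists_locRes_ne_zero_of_le (hK : IsFunctionField k K) (hg : IsGeometric k K)
    [FiniteDimensional k F] (P : Place k K)
    (φ : K →ₐ[k] F⸨X⸩) (hφ : LocRes.IsExpansionAt P.1 φ) {u v : K} (hu : u ≠ 0)
    (hv : KaehlerDifferential.D k K v ≠ 0) :
    ∃ y : K, P.1 y ≤ exp (ordDiff φ u v + 1) ∧ locRes φ (y * u) v ≠ 0 := by
  haveI := Groth.Agent.H63.ResidueSep.isSeparable hK hg P φ hφ
  obtain ⟨b, hb⟩ := Algebra.trace_surjective k F 1
  set n : ℤ := ordDiff φ u v with hn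
  have hvg : Valued.v (φ u * LocRes.D F (φ v)) = exp (-n) := vDiff_eq_exp hK hg hv P φ hφ hu
  have hc := Groth.Agent.H63.LocNondeg.coeff_ne_zero_of_v _ n hvg
  have hgcoef := Groth.Agent.H63.LocNondeg.coeff_eq_zero_of_v _ n hvg.le
  obtain ⟨y, hy1, hy2⟩ := Groth.Agent.H63.LocNondeg.exists_leading P φ hφ (-1 - n)
    (b / (φ u * LocRes.D F (φ v)).coeff n)
  refine ⟨y, ?_, ?_⟩
  · rw [← hφ.1]
    have : Valued.v (φ y) ≤ exp (-(-1 - n)) := by
      rw [valuation_le_iff_coeff_lt_eq_zero]; exact hy1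
    refine this.trans (exp_le_exp.2 (by omega))
  · unfold locRes resExp
    rw [res_apply, map_mul, mul_assoc,
      Groth.Agent.H63.LaurentTaylor.coeff_mul_eq_sum _ _ (-1) (-1 - n) n hy1 hgcoef,
      Finset.Icc_self, Finset.sum_singleton, hy2,
      show (-1 : ℤ) - (-1 - n) = n by ring, div_mul_cancel₀ _ hc, hb]
    exact one_ne_zero

end one

variable {F : Place k K → Type w} [∀ P, Field (F P)] [∀ P, Algebra k (F P)]

/-- finiteness of the support of the residues of an adele against `u dv` -/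
theorem finite_support_locRes (hK : IsFunctionField k K) (hg : IsGeometric k K)
    (φ : ∀ P : Place k K, K →ₐ[k] (F P)⸨X⸩)
    (hφ : ∀ P : Place k K, LocRes.IsExpansionAt P.1 (φ P)) (u : K) {v : K}
    (hv : KaehlerDifferential.D k K v ≠ 0) (a : Place k K → K) (ha : a ∈ adele k K) :
    (Function.support fun P => locRes (φ P) (a P * u) v).Finite := by
  by_cases hu : u = 0
  · subst hu
    have : (fun P : Place k K => locRes (φ P) (a P * 0) v) = fun _ => 0 := by
      funext P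
      unfold locRes resExp
      rw [mul_zero, map_zero, zero_mul, map_zero, map_zero]
    rw [this]
    simp
  rw [mem_adele] at ha
  refine (ha.union (finite_support_ordDiff hK hg hv φ hφ u)).subset ?_
  intro P hP
  rw [Function.mem_support] at hP
  by_contra hnot
  rw [Set.mem_union, not_or, Set.mem_ofPred_eq, not_lt, Function.mem_support, not_not] at hnot
  apply hP
  apply locRes_eq_zero_of_vDiff_le
  rw [vDiff_mul_left P (φ P) (hφ P), vDiff_eq_exp hK hg hv P (φ P) (hφ P) hu, hnot.2, neg_zero,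
    exp_zero, mul_one]
  exact hnot.1

/-- the residue functional `a ↦ ∑_P Res_P(a_P u dv)` on adeles -/
noncomputable def resFun (hK : IsFunctionField k K) (hg : IsGeometric k K)
    (φ : ∀ P : Place k K, K →ₐ[k] (F P)⸨X⸩)
    (hφ : ∀ P : Place k K, LocRes.IsExpansionAt P.1 (φ P)) (u : K) {v : K}
    (hv : KaehlerDifferential.D k K v ≠ 0) : Module.Dual k (adele k K) where
  toFun a := ∑ᶠ P, locRes (φ P) ((a : Place k K → K) P * u) v
  map_add' a b := by
    have h1 := finite_support_locRes hK hg φ hφ u hv a.1 a.2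
    have h2 := finite_support_locRes hK hg φ hφ u hv b.1 b.2
    rw [← finsum_add_distrib h1 h2]
    apply finsum_congr
    intro P
    rw [← locResLin_apply, ← locResLin_apply, ← locResLin_apply, ← map_add]
    rfl
  map_smul' c a := by
    rw [RingHom.id_apply, smul_eq_mul, mul_finsum]
    apply finsum_congr
    intro P
    rw [← locResLin_apply, ← locResLin_apply, ← smul_eq_mul, ← map_smul]
    rfl

theorem resFun_apply (hK : IsFunctionField k K) (hg : IsGeometric k K)
    (φ : ∀ P : Place k K, K →ₐ[k] (F P)⸨X⸩)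
    (hφ : ∀ P : Place k K, LocRes.IsExpansionAt P.1 (φ P)) (u : K) {v : K}
    (hv : KaehlerDifferential.D k K v ≠ 0) (a : adele k K) :
    resFun hK hg φ hφ u hv a = ∑ᶠ P, locRes (φ P) ((a : Place k K → K) P * u) v := rfl


theorem single_mem_adele (P0 : Place k K) (y : K) [DecidableEq (Place k K)] :
    (Pi.single P0 y : Place k K → K) ∈ adele k K := by
  rw [mem_adele]
  refine (Set.finite_singleton P0).subset ?_
  intro Q hQ
  rw [Set.mem_ofPred_eq] at hQ
  by_contra hne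
  rw [Set.mem_singleton_iff] at hne
  rw [Pi.single_eq_of_ne hne, map_zero] at hQ
  exact absurd hQ (not_lt.2 zero_le_one)

theorem resFun_single (hK : IsFunctionField k K) (hg : IsGeometric k K)
    (φ : ∀ P : Place k K, K →ₐ[k] (F P)⸨X⸩)
    (hφ : ∀ P : Place k K, LocRes.IsExpansionAt P.1 (φ P)) (u : K) {v : K}
    (hv : KaehlerDifferential.D k K v ≠ 0) [DecidableEq (Place k K)] (P0 : Place k K) (y : K) :
    resFun hK hg φ hφ u hv ⟨Pi.single P0 y, single_mem_adele P0 y⟩ = locRes (φ P0) (y * u) v := by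
  rw [resFun_apply, finsum_eq_single _ P0]
  · simp only [Pi.single_eq_same]
  · intro P hP
    simp only [Pi.single_eq_of_ne hP]
    unfold locRes resExp
    rw [zero_mul, map_zero, zero_mul, map_zero, map_zero]

theorem resFun_AD (hK : IsFunctionField k K) (hg : IsGeometric k K)
    (φ : ∀ P : Place k K, K →ₐ[k] (F P)⸨X⸩)
    (hφ : ∀ P : Place k K, LocRes.IsExpansionAt P.1 (φ P)) {u : K} (hu : u ≠ 0) {v : K}
    (hv : KaehlerDifferential.D k K v ≠ 0) (C : Divisor k K)
    (hC : ∀ P, C P = ordDiff (φ P) u v) (a : Place k K → K) (ha : a ∈ AD C) :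
    resFun hK hg φ hφ u hv ⟨a, AD_le_adele C ha⟩ = 0 := by
  rw [resFun_apply]
  apply finsum_eq_zero_of_forall_eq_zero
  intro P
  apply locRes_eq_zero_of_vDiff_le
  rw [vDiff_mul_left P (φ P) (hφ P), vDiff_eq_exp hK hg hv P (φ P) (hφ P) hu, ← hC P]
  refine (mul_le_mul' (ha P) le_rfl).trans_eq ?_
  rw [← exp_add, add_neg_cancel, exp_zero]

theorem resFun_mem_WD (hK : IsFunctionField k K) (hg : IsGeometric k K)
    (φ : ∀ P : Place k K, K →ₐ[k] (F P)⸨X⸩)
    (hφ : ∀ P : Place k K, LocRes.IsExpansionAt P.1 (φ P))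
    (hres : ∀ u v : K, ∑ᶠ P, locRes (φ P) u v = 0)
    {u : K} (hu : u ≠ 0) {v : K}
    (hv : KaehlerDifferential.D k K v ≠ 0) (C : Divisor k K)
    (hC : ∀ P, C P = ordDiff (φ P) u v) :
    resFun hK hg φ hφ u hv ∈ WD C := by
  rw [mem_WD_iff hK]
  refine ⟨fun a ha => resFun_AD hK hg φ hφ hu hv C hC a ha, fun x => ?_⟩
  rw [resFun_apply]
  exact hres (x * u) v

section fin
variable [∀ P, FiniteDimensional k (F P)]

theorem resFun_notMem_WD (hK : IsFunctionField k K) (hg : IsGeometric k K)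
    (φ : ∀ P : Place k K, K →ₐ[k] (F P)⸨X⸩)
    (hφ : ∀ P : Place k K, LocRes.IsExpansionAt P.1 (φ P))
    {u : K} (hu : u ≠ 0) {v : K}
    (hv : KaehlerDifferential.D k K v ≠ 0) (E : Divisor k K) (P0 : Place k K)
    (hE : ordDiff (φ P0) u v < E P0) :
    resFun hK hg φ hφ u hv ∉ WD E := by
  classical
  intro hmem
  rw [mem_WD_iff hK] at hmem
  obtain ⟨y, hy1, hy2⟩ := exists_locRes_ne_zero_of_le hK hg P0 (φ P0) (hφ P0) hu hv
  have ha : (Pi.single P0 y : Place k K → K) ∈ AD E := by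
    intro Q
    by_cases hQ : Q = P0
    · subst hQ
      rw [Pi.single_eq_same]
      exact hy1.trans (exp_le_exp.2 (by omega))
    · rw [Pi.single_eq_of_ne hQ, map_zero]
      exact zero_le
  have h1 := hmem.1 _ ha
  have h2 := resFun_single hK hg φ hφ u hv P0 y
  exact hy2 (h2.symm.trans h1)

theorem isDivOf_resFun (hK : IsFunctionField k K) (hg : IsGeometric k K)
    (φ : ∀ P : Place k K, K →ₐ[k] (F P)⸨X⸩)
    (hφ : ∀ P : Place k K, LocRes.IsExpansionAt P.1 (φ P))
    (hres : ∀ u v : K, ∑ᶠ P, locRes (φ P) u v = 0)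
    {u : K} (hu : u ≠ 0) {v : K}
    (hv : KaehlerDifferential.D k K v ≠ 0) (C : Divisor k K)
    (hC : ∀ P, C P = ordDiff (φ P) u v) :
    IsDivOf (resFun hK hg φ hφ u hv) C := by
  intro E
  constructor
  · intro hE
    by_contra hle
    obtain ⟨P0, hP0⟩ : ∃ P0, ¬ E P0 ≤ C P0 := by
      by_contra hall
      push Not at hall
      exact hle (fun P => hall P)
    rw [not_le, hC P0] at hP0
    exact resFun_notMem_WD hK hg φ hφ hu hv E P0 hP0 hE
  · intro hE
    exact WD_anti hK hE (resFun_mem_WD hK hg φ hφ hres hu hv C hC)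

theorem resFun_ne_zero (hK : IsFunctionField k K) (hg : IsGeometric k K)
    (φ : ∀ P : Place k K, K →ₐ[k] (F P)⸨X⸩)
    (hφ : ∀ P : Place k K, LocRes.IsExpansionAt P.1 (φ P))
    {u : K} (hu : u ≠ 0) {v : K}
    (hv : KaehlerDifferential.D k K v ≠ 0) :
    resFun hK hg φ hφ u hv ≠ 0 := by
  classical
  obtain ⟨P0⟩ := exists_place hK
  intro h0
  apply resFun_notMem_WD hK hg φ hφ hu hv (Finsupp.single P0 (ordDiff (φ P0) u v + 1)) P0
    (by rw [Finsupp.single_eq_same]; omega)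
  rw [h0]
  exact zero_mem _

end fin

/-- the divisor of the differential `u dv` -/
noncomputable def divOf (hK : IsFunctionField k K) (hg : IsGeometric k K)
    (φ : ∀ P : Place k K, K →ₐ[k] (F P)⸨X⸩)
    (hφ : ∀ P : Place k K, LocRes.IsExpansionAt P.1 (φ P))
    (u : K) {v : K} (hv : KaehlerDifferential.D k K v ≠ 0) : Divisor k K :=
  Finsupp.ofSupportFinite _ (finite_support_ordDiff hK hg hv φ hφ u)

theorem divOf_apply (hK : IsFunctionField k K) (hg : IsGeometric k K)
    (φ : ∀ P : Place k K, K →ₐ[k] (F P)⸨X⸩)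
    (hφ : ∀ P : Place k K, LocRes.IsExpansionAt P.1 (φ P))
    (u : K) {v : K} (hv : KaehlerDifferential.D k K v ≠ 0) (P : Place k K) :
    divOf hK hg φ hφ u hv P = ordDiff (φ P) u v := rfl



theorem mulW_resFun (hK : IsFunctionField k K) (hg : IsGeometric k K)
    (φ : ∀ P : Place k K, K →ₐ[k] (F P)⸨X⸩)
    (hφ : ∀ P : Place k K, LocRes.IsExpansionAt P.1 (φ P)) (x u : K) {v : K}
    (hv : KaehlerDifferential.D k K v ≠ 0) :
    mulW x (hsm hK x) (resFun hK hg φ hφ u hv) = resFun hK hg φ hφ (x * u) hv := by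
  apply LinearMap.ext
  rintro ⟨a, ha⟩
  rw [mulW_apply, resFun_apply, resFun_apply]
  apply finsum_congr
  intro P
  congr 1
  simp only [Pi.smul_apply, smul_eq_mul]
  ring

theorem setOf_vDiff_le_eq (hK : IsFunctionField k K) (hg : IsGeometric k K)
    (φ : ∀ P : Place k K, K →ₐ[k] (F P)⸨X⸩)
    (hφ : ∀ P : Place k K, LocRes.IsExpansionAt P.1 (φ P))
    (v : K) (hv : KaehlerDifferential.D k K v ≠ 0) (D : Divisor k K) :
    {y : K | ∀ P, vDiff (φ P) y v ≤ exp (-(D P))} = (L (divOf hK hg φ hφ 1 hv - D) : Set K) := by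
  ext y
  rw [Set.mem_ofPred_eq, SetLike.mem_coe, Groth.Agent.H55.mem_L]
  refine forall_congr' fun P => ?_
  rw [vDiff_eq_mul P (φ P) (hφ P), vDiff_eq_exp hK hg hv P (φ P) (hφ P) one_ne_zero,
    ← divOf_apply hK hg φ hφ 1 hv P, exp_neg, mul_inv_le_iff₀ exp_pos, ← exp_add,
    Finsupp.sub_apply]
  rw [show -(D P) + divOf hK hg φ hφ 1 hv P = divOf hK hg φ hφ 1 hv P - D P by ring]

section fin2
variable [∀ P, FiniteDimensional k (F P)]

/-- conditional form of S12581 -/
theorem weil_of_res (hK : IsFunctionField k K) (hg : IsGeometric k K)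
    (φ : ∀ P : Place k K, K →ₐ[k] (F P)⸨X⸩)
    (hφ : ∀ P : Place k K, LocRes.IsExpansionAt P.1 (φ P))
    (hres : ∀ u v : K, ∑ᶠ P, locRes (φ P) u v = 0)
    (u v : K) (hu : u ≠ 0) (hv : KaehlerDifferential.D k K v ≠ 0) :
    ∃ ω : Module.Dual k (adele k K),
      (∀ a : adele k K,
        (Function.support fun P => locRes (φ P) ((a : Place k K → K) P * u) v).Finite ∧
        ω a = ∑ᶠ P, locRes (φ P) ((a : Place k K → K) P * u) v) ∧
      IsWeil ω ∧ ω ≠ 0 ∧
      (Function.support fun P => ordDiff (φ P) u v).Finite ∧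
      ∀ C : Divisor k K, (∀ P, C P = ordDiff (φ P) u v) → IsDivOf ω C :=
  ⟨resFun hK hg φ hφ u hv, fun a => ⟨finite_support_locRes hK hg φ hφ u hv a.1 a.2, rfl⟩,
    ⟨divOf hK hg φ hφ u hv, resFun_mem_WD hK hg φ hφ hres hu hv _ (divOf_apply hK hg φ hφ u hv)⟩,
    resFun_ne_zero hK hg φ hφ hu hv, finite_support_ordDiff hK hg hv φ hφ u,
    fun C hC => isDivOf_resFun hK hg φ hφ hres hu hv C hC⟩

/-- the divisor of `dv` is canonical -/
theorem isDivOf_dv (hK : IsFunctionField k K) (hg : IsGeometric k K)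
    (φ : ∀ P : Place k K, K →ₐ[k] (F P)⸨X⸩)
    (hφ : ∀ P : Place k K, LocRes.IsExpansionAt P.1 (φ P))
    (hres : ∀ u v : K, ∑ᶠ P, locRes (φ P) u v = 0)
    {v : K} (hv : KaehlerDifferential.D k K v ≠ 0) :
    IsDivOf (resFun hK hg φ hφ 1 hv) (divOf hK hg φ hφ 1 hv) :=
  isDivOf_resFun hK hg φ hφ hres one_ne_zero hv _ (divOf_apply hK hg φ hφ 1 hv)

theorem isCanonical_dv (hK : IsFunctionField k K) (hg : IsGeometric k K)
    (φ : ∀ P : Place k K, K →ₐ[k] (F P)⸨X⸩)
    (hφ : ∀ P : Place k K, LocRes.IsExpansionAt P.1 (φ P))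
    (hres : ∀ u v : K, ∑ᶠ P, locRes (φ P) u v = 0)
    {v : K} (hv : KaehlerDifferential.D k K v ≠ 0) :
    IsCanonical k K (divOf hK hg φ hφ 1 hv) :=
  ⟨resFun hK hg φ hφ 1 hv, resFun_ne_zero hK hg φ hφ one_ne_zero hv, isDivOf_dv hK hg φ hφ hres hv⟩

/-- conditional form of S12628 -/
theorem existsUnique_of_res (hK : IsFunctionField k K) (hg : IsGeometric k K)
    (φ : ∀ P : Place k K, K →ₐ[k] (F P)⸨X⸩)
    (hφ : ∀ P : Place k K, LocRes.IsExpansionAt P.1 (φ P))
    (hres : ∀ u v : K, ∑ᶠ P, locRes (φ P) u v = 0)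
    (v : K) (hv : KaehlerDifferential.D k K v ≠ 0)
    (ω : Module.Dual k (adele k K)) (hω : IsWeil ω) :
    ∃! u : K, ∀ a : adele k K,
      (Function.support fun P => locRes (φ P) ((a : Place k K → K) P * u) v).Finite ∧
        ω a = ∑ᶠ P, locRes (φ P) ((a : Place k K → K) P * u) v := by
  have h0 := resFun_ne_zero hK hg φ hφ (one_ne_zero (α := K)) hv
  have hW : IsWeil (resFun hK hg φ hφ 1 hv) := IsDivOf.isWeil (isDivOf_dv hK hg φ hφ hres hv)
  obtain ⟨x, hx⟩ := exists_mulW_eq hK _ ω hW h0 hω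
  rw [mulW_resFun, mul_one] at hx
  refine ⟨x, fun a => ⟨finite_support_locRes hK hg φ hφ x hv a.1 a.2, ?_⟩, ?_⟩
  · rw [← hx]; rfl
  · intro y hy
    have hy' : resFun hK hg φ hφ y hv = ω := by
      apply LinearMap.ext
      intro a
      rw [(hy a).2]; rfl
    have h1 : mulW y (hsm hK y) (resFun hK hg φ hφ 1 hv) =
        mulW x (hsm hK x) (resFun hK hg φ hφ 1 hv) := by
      rw [mulW_resFun, mulW_resFun, mul_one, mul_one, hy', hx]
    exact mulW_injective hK h0 h1


/-- conditional form of S12629 -/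
theorem finrank_span_of_res (hK : IsFunctionField k K) (hg : IsGeometric k K)
    (φ : ∀ P : Place k K, K →ₐ[k] (F P)⸨X⸩)
    (hφ : ∀ P : Place k K, LocRes.IsExpansionAt P.1 (φ P))
    (hres : ∀ u v : K, ∑ᶠ P, locRes (φ P) u v = 0)
    (v : K) (hv : KaehlerDifferential.D k K v ≠ 0) (D : Divisor k K) :
    Module.finrank k (Submodule.span k {y : K | ∀ P, vDiff (φ P) y v ≤ exp (-(D P))}) =
      Module.finrank k (WD D) := by
  rw [setOf_vDiff_le_eq hK hg φ hφ v hv D, Submodule.span_eq]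
  exact ell_sub_eq_finrank_WD hK (isDivOf_dv hK hg φ hφ hres hv) D

/-- conditional form of S12582 -/
theorem finrank_regular_of_res (hK : IsFunctionField k K) (hg : IsGeometric k K)
    (φ : ∀ P : Place k K, K →ₐ[k] (F P)⸨X⸩)
    (hφ : ∀ P : Place k K, LocRes.IsExpansionAt P.1 (φ P))
    (hres : ∀ u v : K, ∑ᶠ P, locRes (φ P) u v = 0)
    (x : K) (hx : KaehlerDifferential.D k K x ≠ 0) :
    Module.finrank k (Submodule.span k {y : K | ∀ P, vDiff (φ P) y x ≤ 1}) = genus k K := by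
  have h1 : {y : K | ∀ P, vDiff (φ P) y x ≤ 1} =
      {y : K | ∀ P, vDiff (φ P) y x ≤ exp (-((0 : Divisor k K) P))} := by
    ext y
    simp
  rw [h1, setOf_vDiff_le_eq hK hg φ hφ x hx 0, Submodule.span_eq, sub_zero]
  exact (canonical_ell_deg hK (isCanonical_dv hK hg φ hφ hres hx)).1

/-- conditional form of S12631 -/
theorem genus_one_of_res (hK : IsFunctionField k K) (hg : IsGeometric k K)
    (h1 : genus k K = 1)
    (φ : ∀ P : Place k K, K →ₐ[k] (F P)⸨X⸩)
    (hφ : ∀ P : Place k K, LocRes.IsExpansionAt P.1 (φ P))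
    (hres : ∀ u v : K, ∑ᶠ P, locRes (φ P) u v = 0)
    (v : K) (hv : KaehlerDifferential.D k K v ≠ 0) :
    (∃ u : K, u ≠ 0 ∧ ∀ P, vDiff (φ P) u v = 1) ∧
      ∀ u u' : K, u ≠ 0 → (∀ P, vDiff (φ P) u v = 1) → (∀ P, vDiff (φ P) u' v = 1) →
        ∃ c : k, u' = c • u := by
  set C := divOf hK hg φ hφ 1 hv with hC
  obtain ⟨hell, hdeg⟩ := canonical_ell_deg hK (isCanonical_dv hK hg φ hφ hres hv)
  rw [h1] at hell hdeg
  have hmem : ∀ u : K, (∀ P, vDiff (φ P) u v = 1) → u ∈ L C := by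
    intro u hu
    have : u ∈ {y : K | ∀ P, vDiff (φ P) y v ≤ exp (-((0 : Divisor k K) P))} := by
      intro P
      rw [hu P]; simp
    rw [setOf_vDiff_le_eq hK hg φ hφ v hv 0, sub_zero] at this
    exact this
  constructor
  · have hne : L C ≠ ⊥ := by
      rw [← ell_pos_iff hK, hell]; exact one_pos
    obtain ⟨u, hu0, hu⟩ := (L_ne_bot_iff hK C).1 hne
    refine ⟨u, hu0, fun P => ?_⟩
    have heq : (0 : Divisor k K) = C + div k u :=
      Divisor.eq_of_le_of_deg_eq hK hu (by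
        rw [Divisor.deg_add, deg_div hK, hdeg, Divisor.deg_zero]; norm_num)
    have hP : C P + P.ord u = 0 := by
      have := congrArg (fun D : Divisor k K => D P) heq
      simp only [Finsupp.zero_apply, Finsupp.add_apply, Place.div_apply hK] at this
      omega
    rw [vDiff_eq_mul P (φ P) (hφ P), vDiff_eq_exp hK hg hv P (φ P) (hφ P) one_ne_zero,
      ← divOf_apply hK hg φ hφ 1 hv P, Place.val_eq_exp_neg_ord P hu0, ← exp_add, ← exp_zero]
    congr 1
    have hCP : C P = divOf hK hg φ hφ 1 hv P := rfl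
    omega
  · intro u u' hu0 hu hu'
    haveI := L_finite hK C
    have hfr : Module.finrank k (L C) = 1 := hell
    have hu0' : (⟨u, hmem u hu⟩ : L C) ≠ 0 := fun h => hu0 (congrArg Subtype.val h)
    obtain ⟨c, hc⟩ := (finrank_eq_one_iff_of_nonzero' _ hu0').1 hfr ⟨u', hmem u' hu'⟩
    exact ⟨c, (congrArg Subtype.val hc).symm⟩

end fin2

end Groth.Agent.H63.WeilRes
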