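import Mathlib
import Groth.Agent.H63.WeilRes
import Groth.Agent.H63.SemiW
import Groth.Agent.H63.TateTrace
import Groth.Agent.H86.TT12

set_option autoImplicit false
set_option linter.style.haveILetI false
set_option linter.unusedSectionVars false

namespace Groth.Agent.H63.TraceDual
open FunFld LocRes HahnSeries LaurentSeries Groth.Agent.H55 WithZero Module

universe u v w

section one
variable {k : Type u} {K : Type v} {F : Type w} [Field k] [Field K] [Algebra k K] [Field F]
  [Algebra k F]

/-- the constant coefficient, `k`-linearly -/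
noncomputable def coeff0 : F⸨X⸩ →ₗ[k] F where
  toFun g := g.coeff 0
  map_add' f g := rfl
  map_smul' c g := by
    rw [HahnSeries.coeff_smul, RingHom.id_apply]

/-- the coefficient field of an expansion at a place of a (weak) function field is finite over
the constants -/
theorem finiteDimensional_coeff (hK : W.IsWeakFF k K) (P : Place k K) (φ : K →ₐ[k] F⸨X⸩)
    (hφ : LocRes.IsExpansionAt P.1 φ) : FiniteDimensional k F := by
  let ρ : Place.ball P 0 →ₗ[k] F :=
    (coeff0 (k := k) (F := F)) ∘ₗ Groth.Agent.H86.Tate.expL φ ∘ₗ (Place.ball P 0).subtype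
  have hsurj : Function.Surjective ρ := by
    intro a
    obtain ⟨f, hf, hfa⟩ := hφ.2.1 a
    exact ⟨⟨f, by rw [Place.mem_ball]; simpa using hf⟩, hfa⟩
  have hker : (Place.ball P (0 + 1)).comap (Place.ball P 0).subtype ≤ LinearMap.ker ρ := by
    intro x hx
    rw [Submodule.mem_comap, Place.mem_ball] at hx
    rw [LinearMap.mem_ker]
    change (φ (x : K)).coeff 0 = 0
    have hv : Valued.v (φ (x : K)) ≤ exp (-((0 : ℤ) + 1)) := by rw [hφ.1]; exact hx
    exact (valuation_le_iff_coeff_lt_eq_zero F).mp hv 0 (by omega)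
  haveI := (W.Place.ballQuot_finrank hK P 0).1
  refine Module.Finite.of_surjective (Submodule.liftQ _ ρ hker) ?_
  intro a
  obtain ⟨x, hx⟩ := hsurj a
  exact ⟨Submodule.Quotient.mk x, by rw [Submodule.liftQ_apply]; exact hx⟩

end one

section two
variable {k : Type u} {K K' : Type v} [Field k] [Field K] [Field K'] [Algebra k K] [Algebra K K']
  [Algebra k K'] [IsScalarTower k K K']

/-- residue degree one: integral elements above are congruent to integral elements below -/
theorem exists_congr (P : Place k K) (Q : Place k K') [P.1.HasExtension Q.1]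
    (hf : Function.Surjective
      (algebraMap (IsLocalRing.ResidueField P.O) (IsLocalRing.ResidueField Q.O)))
    (z : K') (hz : Q.1 z ≤ 1) : ∃ f : K, P.1 f ≤ 1 ∧ Q.1 (z - algebraMap K K' f) < 1 := by
  obtain ⟨r, hr⟩ := hf (IsLocalRing.residue Q.O ⟨z, hz⟩)
  obtain ⟨f, rfl⟩ := IsLocalRing.residue_surjective r
  refine ⟨f, f.2, ?_⟩
  rw [Valuation.HasExtension.algebraMap_residue_eq_residue_algebraMap, ← sub_eq_zero,
    ← map_sub, Place.residue_eq_zero_iff] at hr
  rw [← neg_sub, Valuation.map_neg]
  exact hr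

variable {F F' : Type w} [Field F] [Algebra k F] [Field F'] [Algebra k F']

open Groth.Agent.H63.LaurentTaylor Groth.Agent.H63.CoeffDer in
/-- every `k`-derivation of the coefficient field of an expansion at a place of residue degree
one over a place of a geometric function field vanishes -/
theorem der_eq_zero_above (hK : IsFunctionField k K) (hg : IsGeometric k K) (P : Place k K)
    (Q : Place k K') (e : ℕ) (he : IsOverWith Q P e)
    (φ : K →ₐ[k] F⸨X⸩) (hφ : LocRes.IsExpansionAt P.1 φ)
    (ψ : K' →ₐ[k] F'⸨X⸩) (hψ : LocRes.IsExpansionAt Q.1 ψ) [P.1.HasExtension Q.1]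
    (hf : Function.Surjective
      (algebraMap (IsLocalRing.ResidueField P.O) (IsLocalRing.ResidueField Q.O)))
    (η : Derivation k F' F') : η = 0 := by
  obtain ⟨t, ht⟩ := hφ.2.2
  have hDt : Valued.v (LocRes.D F (φ t)) = 1 :=
    Groth.Agent.H63.MinpolyDiff.v_D_unif _ (by rw [hφ.1, ht])
  have hdt : KaehlerDifferential.D k K t ≠ 0 := by
    intro h0'
    have := Groth.Agent.H63.KaehlerFF.D_map_eq_of_D_eq φ (x := t) (z := t) (a := 0)
      (by rw [h0', zero_smul])
    rw [this, map_zero, zero_mul, map_zero] at hDt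
    exact zero_ne_one hDt
  have he1 : 0 < e := isOverWith_pos he
  have htcoef : ∀ q : ℤ, q < 1 → (coeffDer η (ψ (algebraMap K K' t))).coeff q = 0 := by
    intro q hq
    have hv : Valued.v (ψ (algebraMap K K' t)) ≤ WithZero.exp (-(1 : ℤ)) := by
      rw [hψ.1, he, ht, exp_pow_nat, exp_le_exp]
      have : (1 : ℤ) ≤ e := by exact_mod_cast he1
      nlinarith
    rw [coeffDer_coeff, (valuation_le_iff_coeff_lt_eq_zero F').mp hv q hq, map_zero]
  ext b
  obtain ⟨f', hf', hfb⟩ := hψ.2.1 b
  obtain ⟨f, hfP, hfQ⟩ := exists_congr P Q hf f' hf'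
  have hfb' : (ψ (algebraMap K K' f)).coeff 0 = b := by
    have hv : Valued.v (ψ (f' - algebraMap K K' f)) ≤ WithZero.exp (-(1 : ℤ)) := by
      rw [hψ.1]
      exact Groth.Agent.H55.le_exp_neg_one_of_lt_one hfQ
    have h0 := (valuation_le_iff_coeff_lt_eq_zero F').mp hv 0 (by omega)
    rw [map_sub, HahnSeries.coeff_sub, hfb, sub_eq_zero] at h0
    exact h0.symm
  obtain ⟨a, ha⟩ := Groth.Agent.H63.SepGen.exists_smul_D_eq hK hg hdt (KaehlerDifferential.D k K f)
  have hPa : P.1 a ≤ 1 := by
    have h1 : Valued.v (LocRes.D F (φ f)) ≤ 1 :=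
      Groth.Agent.H63.MinpolyDiff.v_D_le_one _ (by rw [hφ.1]; exact hfP)
    rwa [Groth.Agent.H63.KaehlerFF.D_map_eq_of_D_eq φ ha, map_mul, hDt, mul_one, hφ.1] at h1
  have hacoef : ∀ p : ℤ, p < 0 → (ψ (algebraMap K K' a)).coeff p = 0 := by
    have hv : Valued.v (ψ (algebraMap K K' a)) ≤ WithZero.exp (-(0 : ℤ)) := by
      rw [hψ.1, he a, neg_zero, exp_zero]
      exact pow_le_one₀ zero_le hPa
    exact (valuation_le_iff_coeff_lt_eq_zero F').mp hv
  have h1 := congrArg (fun g : F'⸨X⸩ => g.coeff 0)
    (Groth.Agent.H63.ResidueSep.coeffDer_map_eq ψ η (Groth.Agent.H63.DiffExp.D_algebraMap_eq ha))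
  rw [coeffDer_coeff, hfb', coeff_mul_eq_sum _ _ 0 0 1 hacoef htcoef] at h1
  rw [h1]
  have : Finset.Icc (0 : ℤ) (0 - 1) = ∅ := by
    rw [Finset.Icc_eq_empty]; omega
  rw [this, Finset.sum_empty]
  rfl

/-- the coefficient field at a place of residue degree one over a place of a geometric function
field is separable over the constants -/
theorem isSeparable_above (hK : IsFunctionField k K) (hg : IsGeometric k K) (P : Place k K)
    (Q : Place k K') (e : ℕ) (he : IsOverWith Q P e)
    (φ : K →ₐ[k] F⸨X⸩) (hφ : LocRes.IsExpansionAt P.1 φ)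
    (ψ : K' →ₐ[k] F'⸨X⸩) (hψ : LocRes.IsExpansionAt Q.1 ψ) [P.1.HasExtension Q.1]
    (hf : Function.Surjective
      (algebraMap (IsLocalRing.ResidueField P.O) (IsLocalRing.ResidueField Q.O)))
    [FiniteDimensional k F'] : Algebra.IsSeparable k F' := by
  have hsub : Subsingleton (Ω[F'⁄k]) := by
    by_contra hns
    rw [not_subsingleton_iff_nontrivial] at hns
    obtain ⟨ω, hω⟩ := exists_ne (0 : Ω[F'⁄k])
    obtain ⟨ℓ, hℓ⟩ := Module.Projective.exists_dual_eq_one F' hω
    have hη := der_eq_zero_above hK hg P Q e he φ hφ ψ hψ hf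
      (ℓ.compDer (KaehlerDifferential.D k F'))
    have hℓ0 : ℓ = 0 := by
      apply LinearMap.ext_on_range (KaehlerDifferential.span_range_derivation k F')
      intro z
      have := congrArg (fun d : Derivation k F' F' => d z) hη
      simpa using this
    rw [hℓ0] at hℓ
    exact zero_ne_one hℓ
  haveI : Algebra.FormallyUnramified k F' := ⟨hsub⟩
  exact Algebra.FormallyUnramified.isSeparable k F'

end two

end Groth.Agent.H63.TraceDual
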