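import Mathlib
import Groth.Agent.H63.WeilRes
import Groth.Agent.H63.TraceDual1
import Groth.Agent.H55.WConorm
import Groth.Agent.S11010
import Groth.Agent.S12579

set_option autoImplicit false
set_option linter.style.haveILetI false
set_option linter.unusedSectionVars false

namespace Groth.Agent.H63.RH
open FunFld LocRes LaurentSeries Groth.Agent.H55 WithZero Module

universe u v w

section places
variable {k k' : Type u} {K' : Type v} [Field k] [Field k'] [Field K']
  [Algebra k k'] [Algebra k' K'] [Algebra k K'] [IsScalarTower k k' K']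

/-- a place over the larger constant field is a place over the smaller one -/
def toK (Q : Place k' K') : Place k K' :=
  ⟨Q.1, fun c => by
    rw [IsScalarTower.algebraMap_apply k k' K']
    exact Q.2.1 _, Q.2.2⟩

theorem toK_val (Q : Place k' K') : (toK (k := k) Q).1 = Q.1 := rfl

theorem toK_injective : Function.Injective (toK (k := k) (k' := k') (K' := K')) := by
  intro Q Q' h
  apply Subtype.ext
  exact congrArg (fun R : Place k K' => R.1) h

theorem toK_surjective [FiniteDimensional k k'] :
    Function.Surjective (toK (k := k) (k' := k') (K' := K')) := by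
  intro R
  refine ⟨⟨R.1, fun c => ?_, R.2.2⟩, Subtype.ext rfl⟩
  apply W.val_le_one_of_isAlgebraic R
  have h1 : IsAlgebraic k c := Algebra.IsAlgebraic.isAlgebraic c
  exact h1.algebraMap (A := K')

/-- the bijection between places over `k'` and over `k` -/
noncomputable def toKEquiv [FiniteDimensional k k'] : Place k' K' ≃ Place k K' :=
  Equiv.ofBijective toK ⟨toK_injective, toK_surjective⟩

theorem toKEquiv_apply [FiniteDimensional k k'] (Q : Place k' K') :
    toKEquiv (k := k) Q = toK Q := rfl

theorem finrank_tower_aux (A : Type*) [Field A] [a1 : Algebra k A] [a2 : Algebra k' A]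
    (h : ∀ c : k, algebraMap k A c = algebraMap k' A (algebraMap k k' c)) :
    Module.finrank k A = Module.finrank k k' * Module.finrank k' A := by
  haveI : IsScalarTower k k' A := IsScalarTower.of_algebraMap_eq h
  exact (Module.finrank_mul_finrank k k' A).symm

/-- degrees over the two constant fields -/
theorem deg_toK (Q : Place k' K') :
    (toK (k := k) Q).deg = Module.finrank k k' * Q.deg := by
  unfold Place.deg
  refine @finrank_tower_aux k k' _ _ _ (IsLocalRing.ResidueField Q.O) _
    (Place.algRes (toK (k := k) Q)) (Place.algRes Q) ?_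
  intro c
  change IsLocalRing.residue Q.O _ = IsLocalRing.residue Q.O _
  congr 1
  apply Subtype.ext
  change algebraMap k K' c = algebraMap k' K' (algebraMap k k' c)
  rw [← IsScalarTower.algebraMap_apply]

end places

section degsum
variable {k : Type*} {K : Type*} [Field k] [Field K] [Algebra k K]

theorem deg_eq_finsum (D : Divisor k K) : D.deg = ∑ᶠ P, D P * (P.deg : ℤ) := by
  rw [Divisor.deg_eq_sum]
  symm
  apply finsum_eq_sum_of_support_subset
  intro P hP
  rw [Function.mem_support] at hP
  rw [Finset.mem_coe, Finsupp.mem_support_iff]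
  intro h0
  rw [h0, zero_mul] at hP
  exact hP rfl

end degsum

section main
variable (k k' : Type u) (K K' : Type v) [Field k] [Field k'] [Field K] [Field K']
    [Algebra k k'] [Algebra k K] [Algebra K K'] [Algebra k' K'] [Algebra k K']
    [IsScalarTower k k' K'] [IsScalarTower k K K'] [FiniteDimensional k k'] [FiniteDimensional K K']
    [Algebra.IsSeparable K K']

open Groth.Agent.H63.WeilRes in
/-- Riemann–Hurwitz -/
theorem riemann_hurwitz
    (hK : IsFunctionField k K) (hg : IsGeometric k K) (hK' : IsFunctionField k' K')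
    (F : Place k K → Type w) [∀ P, Field (F P)] [∀ P, Algebra k (F P)]
    (φ : ∀ P, K →ₐ[k] LaurentSeries (F P)) (hφ : ∀ P, LocRes.IsExpansionAt P.1 (φ P))
    (F' : Place k' K' → Type w) [∀ Q, Field (F' Q)] [∀ Q, Algebra k' (F' Q)]
    (ψ : ∀ Q, K' →ₐ[k'] LaurentSeries (F' Q)) (hψ : ∀ Q, LocRes.IsExpansionAt Q.1 (ψ Q))
    (below : Place k' K' → Place k K) (e : Place k' K' → ℕ)
    (he : ∀ Q (z : K), Q.1 (algebraMap K K' z) = (below Q).1 z ^ e Q)
    (x : K) (hx : ∀ P, LocRes.vDiff (φ P) 1 x ≠ 0)
    (hx' : ∀ Q, LocRes.vDiff (ψ Q) 1 (algebraMap K K' x) ≠ 0) :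
    (Function.support fun Q => LocRes.diffExp (φ (below Q)) (ψ Q) (e Q) x).Finite ∧
    (Module.finrank k k' : ℤ) * (2 * (genus k' K' : ℤ) - 2) =
      (Module.finrank K K' : ℤ) * (2 * (genus k K : ℤ) - 2) +
      (Module.finrank k k' : ℤ) *
        ∑ᶠ Q, LocRes.diffExp (φ (below Q)) (ψ Q) (e Q) x * (Q.deg : ℤ) := by
  classical
  have hg' : IsGeometric k' K' := Groth.Agent.S11010.result k k' K K' hK hg hK'
  haveI : ∀ P, FiniteDimensional k (F P) := fun P =>
    Groth.Agent.H63.TraceDual.finiteDimensional_coeff hK.weak P (φ P) (hφ P)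
  haveI : ∀ Q, FiniteDimensional k' (F' Q) := fun Q =>
    Groth.Agent.H63.TraceDual.finiteDimensional_coeff hK'.weak Q (ψ Q) (hψ Q)
  have hres : ∀ u v : K, ∑ᶠ P, LocRes.locRes (φ P) u v = 0 := fun u v =>
    (Groth.Agent.S12579.result k K hK F φ hφ u v).2
  have hres' : ∀ u v : K', ∑ᶠ Q, LocRes.locRes (ψ Q) u v = 0 := fun u v =>
    (Groth.Agent.S12579.result k' K' hK' F' ψ hψ u v).2
  obtain ⟨P0⟩ := W.exists_place hK.weak
  obtain ⟨Q0⟩ := W.exists_place hK'.weak
  have hdx : KaehlerDifferential.D k K x ≠ 0 := by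
    intro h0
    apply hx P0
    rw [Groth.Agent.H63.DiffExp.vDiff_one]
    have := Groth.Agent.H63.KaehlerFF.D_map_eq_of_D_eq (φ P0) (x := x) (z := x) (a := 0)
      (by rw [h0, zero_smul])
    rw [this, map_zero, zero_mul, map_zero]
  have hdx' : KaehlerDifferential.D k' K' (algebraMap K K' x) ≠ 0 := by
    intro h0
    apply hx' Q0
    rw [Groth.Agent.H63.DiffExp.vDiff_one]
    have := Groth.Agent.H63.KaehlerFF.D_map_eq_of_D_eq (ψ Q0) (x := algebraMap K K' x)
      (z := algebraMap K K' x) (a := 0) (by rw [h0, zero_smul])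
    rw [this, map_zero, zero_mul, map_zero]
  set C : Divisor k K := divOf hK hg φ hφ 1 hdx with hCdef
  set C' : Divisor k' K' := divOf hK' hg' ψ hψ 1 hdx' with hC'def
  have hCdeg : C.deg = 2 * (genus k K : ℤ) - 2 :=
    (canonical_ell_deg hK (isCanonical_dv hK hg φ hφ hres hdx)).2
  have hC'deg : C'.deg = 2 * (genus k' K' : ℤ) - 2 :=
    (canonical_ell_deg hK' (isCanonical_dv hK' hg' ψ hψ hres' hdx')).2
  set D'' : Divisor k K' := conorm K' C with hD''
  have hD''deg : D''.deg = Module.finrank K K' * C.deg := deg_conorm hK C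
  have hD''app : ∀ Q : Place k' K', D'' (toK (k := k) Q) = e Q * C (below Q) := fun Q =>
    conorm_apply hK C (Q := toK (k := k) Q) (P := below Q) (e := e Q) (he Q)
  -- the two sums
  set a : Place k' K' → ℤ := fun Q => C' Q * (Q.deg : ℤ) with ha
  set b : Place k' K' → ℤ := fun Q => (e Q * C (below Q)) * (Q.deg : ℤ) with hb
  have hfa : (Function.support a).Finite := by
    refine C'.support.finite_toSet.subset ?_
    intro Q hQ
    rw [Function.mem_support] at hQ
    rw [Finset.mem_coe, Finsupp.mem_support_iff]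
    intro h0
    apply hQ
    rw [ha]
    simp only [h0, zero_mul]
  have hfin' : (toK (k := k) (k' := k') (K' := K') ⁻¹' (D''.support : Set (Place k K'))).Finite :=
    D''.support.finite_toSet.preimage toK_injective.injOn
  have hfb : (Function.support b).Finite := by
    refine hfin'.subset ?_
    intro Q hQ
    rw [Function.mem_support] at hQ
    rw [Set.mem_preimage, Finset.mem_coe, Finsupp.mem_support_iff, hD''app]
    intro h0
    apply hQ
    rw [hb]
    simp only [h0, zero_mul]
  have hdiff : ∀ Q, LocRes.diffExp (φ (below Q)) (ψ Q) (e Q) x = C' Q - e Q * C (below Q) :=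
    fun Q => rfl
  refine ⟨?_, ?_⟩
  · refine (C'.support.finite_toSet.union hfin').subset ?_
    intro Q hQ
    rw [Function.mem_support, hdiff] at hQ
    by_contra hcon
    rw [Set.mem_union, not_or, Finset.mem_coe, Finsupp.mem_support_iff, not_not, Set.mem_preimage,
      Finset.mem_coe, Finsupp.mem_support_iff, not_not, hD''app] at hcon
    apply hQ
    rw [hcon.1, hcon.2, sub_zero]
  · have h1 : ∑ᶠ Q, LocRes.diffExp (φ (below Q)) (ψ Q) (e Q) x * (Q.deg : ℤ) =
        ∑ᶠ Q, a Q - ∑ᶠ Q, b Q := by
      rw [← finsum_sub_distrib hfa hfb]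
      refine finsum_congr fun Q => ?_
      rw [hdiff, ha, hb]
      ring
    have h2 : ∑ᶠ Q, a Q = C'.deg := (deg_eq_finsum C').symm
    have h3 : (Module.finrank k k' : ℤ) * ∑ᶠ Q, b Q = D''.deg := by
      rw [deg_eq_finsum D'', ← finsum_comp_equiv (toKEquiv (k := k) (k' := k') (K' := K')),
        mul_finsum]
      refine finsum_congr fun Q => ?_
      rw [toKEquiv_apply, hD''app, deg_toK, hb]
      push_cast
      ring
    have h4 : (Module.finrank k k' : ℤ) * (∑ᶠ Q, a Q - ∑ᶠ Q, b Q) =
        (Module.finrank k k' : ℤ) * C'.deg - D''.deg := by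
      rw [mul_sub, h2, h3]
    rw [h1, h4, hD''deg, hC'deg, hCdeg]
    ring

end main

end Groth.Agent.H63.RH
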