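import Mathlib
import Groth.Agent.H63.HasseFF
import Groth.Agent.H63.Jumps
import Groth.Prelude.Def_W4bk4goldsch45p2

/-!
# Order sequences and Wronskians of projective maps of function fields (helper63)

`span_hcol_eq_top`: the columns `τφ, D^(0)φ, D^(1)φ, …` span `K^(n+1)` when `φ` is `k`-linearly
independent; `exists_orders`: there are exactly `n` `τ`-orders and the Wronskian is nonzero.
-/

set_option autoImplicit false
set_option linter.style.haveILetI false
set_option linter.unusedSectionVars false

namespace Groth.Agent.H63.HasseFF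
open LocRes

section Orders
variable {k K : Type*} [Field k] [Field K] [Algebra k K]

theorem span_hcol_eq_top (hK : FunFld.IsFunctionField k K) {s : K}
    {H : K →ₐ[k] PowerSeries K} (hH : IsHasseFamily s H) {n : ℕ} (φ : Fin (n + 1) → K)
    (hφ : LinearIndependent k φ) (τ : K →ₐ[k] K) :
    Submodule.span K (Set.range (FunFld.hcol τ H φ)) = ⊤ := by
  classical
  by_contra hlt
  obtain ⟨ψ, hψ0, hψ⟩ := Submodule.exists_le_ker_of_lt_top _ (lt_top_iff_ne_top.2 hlt)
  set a : Fin (n + 1) → K := fun i => ψ (Pi.single i 1) with ha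
  have hψa : ∀ v : Fin (n + 1) → K, ψ v = ∑ i, a i * v i := by
    intro v
    rw [LinearMap.pi_apply_eq_sum_univ ψ v]
    refine Finset.sum_congr rfl fun i _ => ?_
    rw [smul_eq_mul, mul_comm, ha]
    congr 2
    funext j
    simp [Pi.single_apply, eq_comm]
  have h0 : a = 0 := by
    refine wronskian_indep hK hH φ hφ a fun j => ?_
    have h1 : FunFld.hcol τ H φ (j + 1) ∈ Submodule.span K (Set.range (FunFld.hcol τ H φ)) :=
      Submodule.subset_span ⟨j + 1, rfl⟩
    have h2 := hψ h1
    rw [LinearMap.mem_ker, hψa] at h2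
    exact h2
  apply hψ0
  refine LinearMap.ext fun v => ?_
  rw [hψa, h0]
  simp

/-- a sequence of vectors spanning a finite-dimensional space: finitely many suffice. -/
theorem exists_span_Iio_eq_top {V : Type*} [AddCommGroup V] [Module K V] [FiniteDimensional K V]
    (c : ℕ → V) (h : Submodule.span K (Set.range c) = ⊤) :
    ∃ N, Submodule.span K (c '' Set.Iio N) = ⊤ := by
  let f : ℕ →o Submodule K V :=
    ⟨fun N => Submodule.span K (c '' Set.Iio N), fun a b hab =>
      Submodule.span_mono (Set.image_mono (Set.Iio_subset_Iio hab))⟩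
  obtain ⟨N, hN⟩ := monotone_stabilizes_iff_noetherian.2 (inferInstance : IsNoetherian K V) f
  refine ⟨N, ?_⟩
  rw [eq_top_iff, ← h, Submodule.span_le]
  rintro _ ⟨j, rfl⟩
  have h1 : c j ∈ f (j + 1) := Submodule.subset_span ⟨j, Nat.lt_succ_self j, rfl⟩
  rcases le_total (j + 1) N with hle | hle
  · exact f.monotone hle h1
  · have := hN (j + 1) hle
    change c j ∈ f N
    rw [this]
    exact h1

/-- **Existence of the order sequence and non-vanishing of the Wronskian.** -/
theorem exists_orders (hK : FunFld.IsFunctionField k K) {s : K}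
    {H : K →ₐ[k] PowerSeries K} (hH : IsHasseFamily s H) {n : ℕ} (φ : Fin (n + 1) → K)
    (hφ : LinearIndependent k φ) (τ : K →ₐ[k] K) :
    ∃ J : Fin n → ℕ, FunFld.IsOrders K (FunFld.hcol τ H φ) J ∧
      (FunFld.wrMat τ H φ J).det ≠ 0 := by
  classical
  set c := FunFld.hcol τ H φ with hc
  obtain ⟨N, hN⟩ := exists_span_Iio_eq_top c (span_hcol_eq_top hK hH φ hφ τ)
  -- jumps are below N
  have hjumpN : ∀ j, FunFld.IsJump K c j → j < N := by
    intro j hj
    by_contra hle
    rw [not_lt] at hle
    apply hj
    have : Submodule.span K (c '' Set.Iio N) ≤ Submodule.span K (c '' Set.Iio j) :=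
      Submodule.span_mono (Set.image_mono (Set.Iio_subset_Iio hle))
    exact this (hN ▸ Submodule.mem_top)
  set T := (Finset.range N).filter (FunFld.IsJump K c) with hT
  have hTcard : T.card = n + 1 := by
    rw [hT, ← finrank_span_Iio c N, hN, finrank_top, Module.finrank_fin_fun]
  -- 0 is a jump
  have hj0 : FunFld.IsJump K c 0 := by
    unfold FunFld.IsJump
    have : c '' Set.Iio 0 = ∅ := by ext x; simp
    rw [this, Submodule.span_empty, Submodule.mem_bot]
    intro h0
    have h1 := congrFun h0 0
    change τ (φ 0) = 0 at h1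
    rw [map_eq_zero] at h1
    exact hφ.ne_zero 0 h1
  set S := (Finset.range N).filter (fun j => FunFld.IsJump K c (j + 1)) with hS
  have hTS : T = insert 0 (S.image Nat.succ) := by
    ext j
    simp only [hT, hS, Finset.mem_filter, Finset.mem_range, Finset.mem_insert, Finset.mem_image]
    constructor
    · rintro ⟨hjN, hj⟩
      rcases j with _ | j
      · exact Or.inl rfl
      · exact Or.inr ⟨j, ⟨by omega, hj⟩, rfl⟩
    · rintro (rfl | ⟨j', ⟨_, hj'⟩, rfl⟩)
      · exact ⟨hjumpN 0 hj0, hj0⟩
      · exact ⟨hjumpN _ hj', hj'⟩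
  have hScard : S.card = n := by
    have h1 : (insert 0 (S.image Nat.succ)).card = (S.image Nat.succ).card + 1 :=
      Finset.card_insert_of_notMem (by simp)
    rw [← hTS, hTcard, Finset.card_image_of_injective _ Nat.succ_injective] at h1
    omega
  set J : Fin n → ℕ := fun l => S.orderEmbOfFin hScard l with hJ
  have hJrange : ∀ j, j ∈ Set.range J ↔ FunFld.IsJump K c (j + 1) := by
    intro j
    have hr : Set.range J = S := by
      rw [← Finset.range_orderEmbOfFin S hScard]
    rw [hr]
    simp only [hS, Finset.coe_filter, Finset.mem_range, Set.mem_ofPred_eq]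
    constructor
    · exact fun h => h.2
    · intro h
      exact ⟨by have := hjumpN _ h; omega, h⟩
  refine ⟨J, ⟨(S.orderEmbOfFin hScard).strictMono, hJrange⟩, ?_⟩
  -- the Wronskian
  let idx : Fin (n + 1) → ℕ := fun a => Fin.cases (motive := fun _ => ℕ) 0 (fun i => J i + 1) a
  have hcolumn : ∀ a : Fin (n + 1), (FunFld.wrMat τ H φ J).col a = c (idx a) := by
    intro a
    refine Fin.cases ?_ (fun i => ?_) a
    · rfl
    · rfl
  have hspan : ⊤ ≤ Submodule.span K (Set.range fun a : Fin (n + 1) => c (idx a)) := by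
    rw [← hN]
    refine (span_Iio_le_span_jumps c N).trans (Submodule.span_mono ?_)
    rintro _ ⟨j, ⟨_, hj⟩, rfl⟩
    rcases j with _ | j
    · exact ⟨0, rfl⟩
    · obtain ⟨l, hl⟩ := (hJrange j).2 hj
      refine ⟨l.succ, ?_⟩
      change c (J l + 1) = c (j + 1)
      rw [hl]
  have hli : LinearIndependent K (fun a : Fin (n + 1) => c (idx a)) :=
    linearIndependent_of_top_le_span_of_card_eq_finrank hspan
      (by rw [Fintype.card_fin, Module.finrank_fin_fun])
  have hli' : LinearIndependent K (FunFld.wrMat τ H φ J).col := by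
    have : (FunFld.wrMat τ H φ J).col = fun a : Fin (n + 1) => c (idx a) := funext hcolumn
    rw [this]
    exact hli
  have hunit := Matrix.linearIndependent_cols_iff_isUnit.1 hli'
  exact ((Matrix.isUnit_iff_isUnit_det _).1 hunit).ne_zero

end Orders

end Groth.Agent.H63.HasseFF
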