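import Mathlib
import Groth.Agent.H63.OrdDiff
import Groth.Agent.H55.FFPlane1

set_option autoImplicit false
set_option linter.style.haveILetI false

namespace Groth.Agent.H63.MapDivLemmas
open FunFld Groth.Agent.H55

variable {k K : Type*} [Field k] [Field K] [Algebra k K]

theorem inf_ord_mul (P : Place k K) {n : ℕ} (ψ : Fin (n + 1) → K) (hψ : ∀ i, ψ i ≠ 0) (y : K)
    (hy : y ≠ 0) :
    Finset.univ.inf' Finset.univ_nonempty (fun i => P.ord (y * ψ i)) =
      P.ord y + Finset.univ.inf' Finset.univ_nonempty (fun i => P.ord (ψ i)) := by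
  have h := Finset.apply_inf'_eq_inf'_comp (s := (Finset.univ : Finset (Fin (n + 1))))
    Finset.univ_nonempty (f := fun i => P.ord (ψ i)) (fun a : ℤ => P.ord y + a)
    (fun a b => (min_add_add_left (P.ord y) a b).symm)
  rw [h]
  congr 1
  funext i
  exact Place.ord_mul P hy (hψ i)

theorem comb_ne_zero {n : ℕ} (ψ : Fin (n + 1) → K) (hψ : LinearIndependent k ψ)
    (A : Matrix (Fin (n + 1)) (Fin (n + 1)) k) (hA : A.det ≠ 0) (i : Fin (n + 1)) :
    ∑ j, A i j • ψ j ≠ 0 := by
  intro h0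
  have := Fintype.linearIndependent_iff.1 hψ (fun j => A i j) h0
  exact hA (Matrix.det_eq_zero_of_row_eq_zero i this)

theorem le_inf_ord_comb (P : Place k K) {n : ℕ} (ψ : Fin (n + 1) → K) (hψ : ∀ i, ψ i ≠ 0)
    (B : Matrix (Fin (n + 1)) (Fin (n + 1)) k) (hB : ∀ i, ∑ j, B i j • ψ j ≠ 0) :
    Finset.univ.inf' Finset.univ_nonempty (fun i => P.ord (ψ i)) ≤
      Finset.univ.inf' Finset.univ_nonempty (fun i => P.ord (∑ j, B i j • ψ j)) := by
  apply Finset.le_inf'
  intro i _
  rw [Place.le_ord_iff P (hB i)]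
  apply Valuation.map_sum_le
  intro j _
  rw [Algebra.smul_def, map_mul]
  refine (mul_le_of_le_one_left' (P.2.1 (B i j))).trans ?_
  rw [← Place.le_ord_iff P (hψ j)]
  exact Finset.inf'_le _ (Finset.mem_univ j)

theorem inf_ord_comb (P : Place k K) {n : ℕ} (ψ : Fin (n + 1) → K) (hψ : LinearIndependent k ψ)
    (A : Matrix (Fin (n + 1)) (Fin (n + 1)) k) (hA : A.det ≠ 0) :
    Finset.univ.inf' Finset.univ_nonempty (fun i => P.ord (∑ j, A i j • ψ j)) =
      Finset.univ.inf' Finset.univ_nonempty (fun i => P.ord (ψ i)) := by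
  have hψ0 : ∀ i, ψ i ≠ 0 := fun i => hψ.ne_zero i
  apply le_antisymm
  · -- ψ = A⁻¹ (A ψ)
    have hinv : ∀ i, ∑ j, A⁻¹ i j • (∑ l, A j l • ψ l) = ψ i := by
      intro i
      simp only [Finset.smul_sum, smul_smul]
      rw [Finset.sum_comm]
      simp only [← Finset.sum_smul]
      have : ∀ l, ∑ j, A⁻¹ i j * A j l = (1 : Matrix _ _ k) i l := by
        intro l
        rw [← Matrix.mul_apply, Matrix.nonsing_inv_mul _ (isUnit_iff_ne_zero.2 hA)]
      simp only [this, Matrix.one_apply, ite_smul, one_smul, zero_smul, Finset.sum_ite_eq,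
        Finset.mem_univ, if_true]
    have h := le_inf_ord_comb P (fun j => ∑ l, A j l • ψ l) (comb_ne_zero ψ hψ A hA) A⁻¹
      (fun i => by rw [hinv i]; exact hψ0 i)
    simp only [hinv] at h
    exact h
  · exact le_inf_ord_comb P ψ hψ0 A (comb_ne_zero ψ hψ A hA)

theorem linearIndependent_comb {n : ℕ} (ψ : Fin (n + 1) → K) (hψ : LinearIndependent k ψ)
    (A : Matrix (Fin (n + 1)) (Fin (n + 1)) k) (hA : A.det ≠ 0) :
    LinearIndependent k (fun i => ∑ j, A i j • ψ j) := by
  rw [Fintype.linearIndependent_iff]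
  intro c hc
  have h1 : ∑ j, (∑ i, c i * A i j) • ψ j = 0 := by
    rw [← hc]
    simp only [Finset.smul_sum, smul_smul, Finset.sum_smul]
    rw [Finset.sum_comm]
  have h2 := Fintype.linearIndependent_iff.1 hψ _ h1
  have h3 : Matrix.vecMul c A = 0 := by
    funext j
    exact h2 j
  have := Matrix.eq_zero_of_vecMul_eq_zero hA h3
  intro i
  rw [this]
  rfl

theorem linearIndependent_mul {n : ℕ} (ψ : Fin (n + 1) → K) (hψ : LinearIndependent k ψ)
    (y : K) (hy : y ≠ 0) : LinearIndependent k (y • ψ) := by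
  have := hψ.map' (LinearMap.mulLeft k y)
    (LinearMap.ker_eq_bot.2 (by
      intro a b hab
      exact mul_left_cancel₀ hy hab))
  exact this

theorem linearIndependent_comp {n : ℕ} (ψ : Fin (n + 1) → K) (hψ : LinearIndependent k ψ)
    (τ : K →ₐ[k] K) : LinearIndependent k (τ ∘ ψ) :=
  hψ.map' τ.toLinearMap (LinearMap.ker_eq_bot.2 τ.toRingHom.injective)

end Groth.Agent.H63.MapDivLemmas
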