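import Mathlib
import Groth.Agent.H63.MinpolyDiff
import Groth.Agent.H55.FFBasic

/-!
# Local Laurent-series lemmas for hyperelliptic differentials

* `v_D_of_sq`: if `ys² = f(xs)` with `f` squarefree over `k`, `xs` integral and `ys` of order one
  (characteristic `≠ 2`), then `xs'` has order exactly one.
* `v_D_tame_int`: the order of the derivative of a series of (possibly negative) order `e`
  with `e ≠ 0` in the coefficient field.
-/

set_option autoImplicit false
set_option linter.style.haveILetI false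

namespace Groth.Agent.H63.HypLocal
open LocRes LaurentSeries Polynomial WithZero
open Groth.Agent.H63.TameDiff Groth.Agent.H63.MinpolyDiff

variable {k F : Type*} [Field k] [Field F] [Algebra k F]

theorem v_coe_le_exp_neg_one_iff (G : PowerSeries F) :
    Valued.v (G : F⸨X⸩) ≤ exp (-(1 : ℤ)) ↔ PowerSeries.constantCoeff G = 0 := by
  rw [valuation_le_iff_coeff_lt_eq_zero]
  constructor
  · intro h
    have := h 0 (by norm_num)
    rwa [show (0 : ℤ) = ((0 : ℕ) : ℤ) from rfl, coeff_coe_powerSeries,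
      PowerSeries.coeff_zero_eq_constantCoeff_apply] at this
  · intro h n hn
    rcases lt_or_eq_of_le (show n ≤ 0 by omega) with h1 | h1
    · exact (PowerSeries.coeff_coe G n).trans (if_pos h1)
    · rw [h1, show (0 : ℤ) = ((0 : ℕ) : ℤ) from rfl, coeff_coe_powerSeries,
        PowerSeries.coeff_zero_eq_constantCoeff_apply, h]

theorem v_coe_eq_one_iff (G : PowerSeries F) :
    Valued.v (G : F⸨X⸩) = 1 ↔ PowerSeries.constantCoeff G ≠ 0 := by
  have hle : Valued.v (G : F⸨X⸩) ≤ 1 := (val_le_one_iff_eq_coe F _).mpr ⟨G, rfl⟩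
  rw [Ne, ← v_coe_le_exp_neg_one_iff]
  constructor
  · intro h1 h2
    rw [h1, ← exp_zero, exp_le_exp] at h2
    omega
  · intro h
    rcases lt_or_eq_of_le hle with h1 | h1
    · exact absurd (Groth.Agent.H55.le_exp_neg_one_of_lt_one h1) h
    · exact h1

theorem aeval_coe (G : PowerSeries F) (p : k[X]) :
    aeval (G : F⸨X⸩) p = ((aeval G p : PowerSeries F) : F⸨X⸩) := by
  rw [aeval_def, aeval_def]
  have := Polynomial.hom_eval₂ p (algebraMap k (PowerSeries F)) (HahnSeries.ofPowerSeries ℤ F) G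
  rw [this]
  congr 1

theorem constantCoeff_aeval (G : PowerSeries F) (p : k[X]) :
    PowerSeries.constantCoeff (aeval G p) = aeval (PowerSeries.constantCoeff G) p := by
  rw [aeval_def, aeval_def]
  have := Polynomial.hom_eval₂ p (algebraMap k (PowerSeries F)) (PowerSeries.constantCoeff (R := F)) G
  rw [this]
  congr 1

theorem aeval_map' (xs : F⸨X⸩) (p : k[X]) :
    aeval xs (p.map (algebraMap k F)) = aeval xs p := by
  rw [aeval_def, aeval_def, eval₂_map]
  congr 1
  ext c : 1
  rw [RingHom.comp_apply, HahnSeries.algebraMap_apply', HahnSeries.algebraMap_apply',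
    PowerSeries.algebraMap_apply, PowerSeries.algebraMap_apply, Algebra.algebraMap_self,
    RingHom.id_apply]

theorem D_aeval (xs : F⸨X⸩) (p : k[X]) :
    LocRes.D F (aeval xs p) = aeval xs (derivative p) * LocRes.D F xs := by
  rw [← aeval_map' xs p, Derivation.map_aeval, smul_eq_mul, derivative_map, aeval_map']

/-- valuation of `p(xs)` for a power series `xs`, by the constant coefficient -/
theorem v_aeval_eq_one (G : PowerSeries F) (p : k[X])
    (h : aeval (PowerSeries.constantCoeff G) p ≠ 0) : Valued.v (aeval (G : F⸨X⸩) p) = 1 := by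
  rw [aeval_coe, v_coe_eq_one_iff, constantCoeff_aeval]
  exact h

theorem aeval_constantCoeff_eq_zero (G : PowerSeries F) (p : k[X])
    (h : Valued.v (aeval (G : F⸨X⸩) p) < 1) : aeval (PowerSeries.constantCoeff G) p = 0 := by
  by_contra h0
  rw [v_aeval_eq_one G p h0] at h
  exact lt_irrefl _ h

/-- **Ramified finite place**: if `ys² = f(xs)` with `f` squarefree, `xs` integral and `ys` a
uniformizer, then `xs' ` has order exactly one. -/
theorem v_D_of_sq [Algebra.IsAlgebraic k F] (h2 : (2 : F) ≠ 0) {f : k[X]} (hf : Squarefree f)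
    (xs ys : F⸨X⸩) (heq : ys ^ 2 = aeval xs f) (hx : Valued.v xs ≤ 1)
    (hy : Valued.v ys = exp (-(1 : ℤ))) : Valued.v (LocRes.D F xs) = exp (-(1 : ℤ)) := by
  obtain ⟨G, rfl⟩ := (val_le_one_iff_eq_coe F xs).mp hx
  set a₀ := PowerSeries.constantCoeff G with ha₀
  have hvf : Valued.v (aeval (G : F⸨X⸩) f) = exp (-((2 : ℕ) : ℤ)) := by
    rw [← heq, map_pow, hy, ← exp_nsmul]
    norm_num
  have hfa : aeval a₀ f = 0 := by
    apply aeval_constantCoeff_eq_zero G f
    rw [hvf, ← exp_zero, exp_lt_exp]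
    norm_num
  have ha₀alg : IsIntegral k a₀ := (Algebra.IsAlgebraic.isAlgebraic a₀).isIntegral
  obtain ⟨h, hfh⟩ := minpoly.dvd k a₀ hfa
  set π := minpoly k a₀ with hπ
  have hπa : aeval a₀ π = 0 := minpoly.aeval k a₀
  have hha : aeval a₀ h ≠ 0 := by
    intro h0
    obtain ⟨h', hh'⟩ := minpoly.dvd k a₀ h0
    have : π * π ∣ f := ⟨h', by rw [hfh, hh', ← hπ]; ring⟩
    exact minpoly.not_isUnit k a₀ (hf π this)
  have hvh : Valued.v (aeval (G : F⸨X⸩) h) = 1 := v_aeval_eq_one G h hha
  have hvπ : Valued.v (aeval (G : F⸨X⸩) π) = exp (-((2 : ℕ) : ℤ)) := by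
    rw [hfh, map_mul, map_mul, hvh, mul_one] at hvf
    exact hvf
  have h2F : ((2 : ℕ) : F) ≠ 0 := by exact_mod_cast h2
  -- `f'(a₀) ≠ 0`
  have hf'a : aeval a₀ (derivative f) ≠ 0 := by
    intro h0
    rw [hfh, Polynomial.derivative_mul, map_add, map_mul, map_mul, hπa, zero_mul, add_zero] at h0
    have hπ'a : aeval a₀ (derivative π) = 0 := by
      rcases mul_eq_zero.mp h0 with h1 | h1
      · exact h1
      · exact absurd h1 hha
    have hπ' : derivative π = 0 := by
      by_contra hne
      have hdvd : π ∣ derivative π := minpoly.dvd k a₀ hπ'a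
      have hdeg : π.natDegree ≤ (derivative π).natDegree := natDegree_le_of_dvd hdvd hne
      have hpos : 0 < π.natDegree := minpoly.natDegree_pos ha₀alg
      have hlt := natDegree_derivative_lt (p := π) (by omega)
      omega
    have hD := D_aeval (G : F⸨X⸩) π
    rw [hπ', map_zero, zero_mul] at hD
    have ht := v_D_tame _ 2 hvπ h2F
    rw [hD, map_zero] at ht
    exact WithZero.exp_ne_zero ht.symm
  have hvf' : Valued.v (aeval (G : F⸨X⸩) (derivative f)) = 1 := v_aeval_eq_one G _ hf'a
  have ht := v_D_tame _ 2 hvf h2F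
  rw [D_aeval, map_mul, hvf', one_mul] at ht
  rw [ht]
  norm_num

theorem coeff_ne_zero_of_v_int (g : F⸨X⸩) (e : ℤ) (hg : Valued.v g = WithZero.exp (-e)) :
    g.coeff e ≠ 0 := by
  intro h0
  have hc := (valuation_le_iff_coeff_lt_eq_zero F).mp hg.le
  have : Valued.v g ≤ WithZero.exp (-(e + 1)) := by
    rw [valuation_le_iff_coeff_lt_eq_zero]
    intro m hm
    rcases lt_or_eq_of_le (show m ≤ e by omega) with h | h
    · exact hc m h
    · rw [h]; exact h0
  rw [hg, WithZero.exp_le_exp] at this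
  omega

theorem v_D_tame_int (g : F⸨X⸩) (e : ℤ) (hg : Valued.v g = WithZero.exp (-e))
    (he : (e : F) ≠ 0) : Valued.v (LocRes.D F g) = WithZero.exp (-(e - 1)) := by
  have hc := (valuation_le_iff_coeff_lt_eq_zero F).mp hg.le
  have hle : Valued.v (LocRes.D F g) ≤ WithZero.exp (-(e - 1)) := by
    rw [valuation_le_iff_coeff_lt_eq_zero]
    intro m hm
    rw [LocRes.D_coeff, hc (m + 1) (by omega), smul_zero]
  have hnle : ¬ Valued.v (LocRes.D F g) ≤ WithZero.exp (-e) := by
    rw [valuation_le_iff_coeff_lt_eq_zero]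
    intro hall
    have := hall (e - 1) (by omega)
    rw [LocRes.D_coeff, sub_add_cancel] at this
    have h2 : (e • g.coeff e : F) = (e : F) * g.coeff e := by
      rw [zsmul_eq_mul]
    rw [h2] at this
    exact (mul_ne_zero he (coeff_ne_zero_of_v_int g e hg)) this
  have hv0 : Valued.v (LocRes.D F g) ≠ 0 := by
    intro h0
    apply hnle
    rw [h0]
    exact zero_le
  obtain ⟨m, hm⟩ : ∃ m : ℤ, Valued.v (LocRes.D F g) = WithZero.exp m :=
    ⟨WithZero.log (Valued.v (LocRes.D F g)), (WithZero.exp_log hv0).symm⟩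
  rw [hm, WithZero.exp_le_exp] at hle hnle
  rw [hm]
  congr 1
  omega


end Groth.Agent.H63.HypLocal
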