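import Mathlib
import Groth.Agent.H63.HypLocal

/-!
# Local Laurent-series lemmas for Artin–Schreier extensions in characteristic two

* `v_D_quot_le`: quotient-rule bound for a rational function of a power series.
* `v_D_wild`: if `Y² + Y = U · S^{-m}`, `m` odd, `S` of order two, `U` a unit with
  `ord U' ≥ ord S'`, then `ord S' = m + 1` (the different exponent of a wildly ramified place).
-/

set_option autoImplicit false
set_option linter.style.haveILetI false

namespace Groth.Agent.H63.ASLocal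
open LocRes LaurentSeries Polynomial WithZero
open Groth.Agent.H63.TameDiff Groth.Agent.H63.MinpolyDiff Groth.Agent.H63.HypLocal

variable {k F : Type*} [Field k] [Field F] [Algebra k F]

theorem v_aeval_coe_le_one (Z : PowerSeries F) (p : k[X]) :
    Valued.v (aeval (Z : F⸨X⸩) p) ≤ 1 := by
  rw [aeval_coe]
  exact (val_le_one_iff_eq_coe F _).mpr ⟨_, rfl⟩

/-- **quotient rule bound**: a rational function of a power series `Z`, with denominator not
vanishing at the constant term, has derivative of order at least that of `Z'`. -/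
theorem v_D_quot_le (a b : k[X]) (Z : PowerSeries F)
    (hb : aeval (PowerSeries.constantCoeff Z) b ≠ 0) :
    Valued.v (LocRes.D F (aeval (Z : F⸨X⸩) a / aeval (Z : F⸨X⸩) b)) ≤
      Valued.v (LocRes.D F (Z : F⸨X⸩)) := by
  have hvb : Valued.v (aeval (Z : F⸨X⸩) b) = 1 := v_aeval_eq_one Z b hb
  rw [Derivation.leibniz_div, D_aeval, D_aeval, smul_eq_mul, smul_eq_mul, smul_eq_mul]
  have h1 : (aeval (Z : F⸨X⸩) b)⁻¹ ^ 2 *
      (aeval (Z : F⸨X⸩) b * (aeval (Z : F⸨X⸩) (derivative a) * LocRes.D F (Z : F⸨X⸩)) -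
        aeval (Z : F⸨X⸩) a * (aeval (Z : F⸨X⸩) (derivative b) * LocRes.D F (Z : F⸨X⸩))) =
      ((aeval (Z : F⸨X⸩) b)⁻¹ ^ 2 *
      (aeval (Z : F⸨X⸩) b * aeval (Z : F⸨X⸩) (derivative a) -
        aeval (Z : F⸨X⸩) a * aeval (Z : F⸨X⸩) (derivative b))) * LocRes.D F (Z : F⸨X⸩) := by ring
  rw [h1, map_mul, map_mul, map_pow, map_inv₀, hvb, inv_one, one_pow, one_mul]
  have h2 : Valued.v (aeval (Z : F⸨X⸩) b * aeval (Z : F⸨X⸩) (derivative a) -
        aeval (Z : F⸨X⸩) a * aeval (Z : F⸨X⸩) (derivative b)) ≤ 1 := by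
    refine (Valuation.map_sub _ _ _).trans (max_le ?_ ?_)
    · rw [map_mul]
      exact mul_le_one' (v_aeval_coe_le_one Z b) (v_aeval_coe_le_one Z _)
    · rw [map_mul]
      exact mul_le_one' (v_aeval_coe_le_one Z a) (v_aeval_coe_le_one Z _)
  calc _ ≤ 1 * Valued.v (LocRes.D F (Z : F⸨X⸩)) := mul_le_mul' h2 le_rfl
    _ = _ := one_mul _

theorem natCast_odd_eq_one {R : Type*} [Ring R] [CharP R 2] {m : ℕ} (hm : Odd m) : (m : R) = 1 := by
  obtain ⟨j, rfl⟩ := hm
  have h2 : (2 : R) = 0 := by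
    have := CharP.cast_eq_zero R 2
    exact_mod_cast this
  push_cast
  rw [h2, zero_mul, zero_add]

/-- **wild Artin–Schreier lemma**: if `Y² + Y = U · S^{-m}` in characteristic two with `m` odd,
`S` of order two, `U` a unit whose derivative has order at least that of `S'`, then `S'` has
order exactly `m + 1`. -/
theorem v_D_wild [CharP F 2] (Y U S : F⸨X⸩) (m : ℕ) (hm : Odd m)
    (hS : Valued.v S = exp (-(2 : ℤ))) (hU : Valued.v U = 1)
    (hDU : Valued.v (LocRes.D F U) ≤ Valued.v (LocRes.D F S))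
    (heq : Y ^ 2 + Y = U * (S⁻¹) ^ m) :
    Valued.v (LocRes.D F S) = exp (-((m : ℤ) + 1)) := by
  haveI : CharP F⸨X⸩ 2 := charP_of_injective_algebraMap (algebraMap F F⸨X⸩).injective 2
  have hm1 : 1 ≤ m := hm.pos
  have hT : Valued.v (S⁻¹) = exp (2 : ℤ) := by
    rw [map_inv₀, hS, ← exp_neg, neg_neg]
  have hTm : Valued.v ((S⁻¹) ^ m) = exp (2 * (m : ℤ)) := by
    rw [map_pow, hT, ← exp_nsmul, nsmul_eq_mul]
    congr 1; ring
  have hvG : Valued.v (Y ^ 2 + Y) = exp (2 * (m : ℤ)) := by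
    rw [heq, map_mul, hU, one_mul, hTm]
  have hY1 : 1 < Valued.v Y := by
    by_contra hle
    push Not at hle
    have h3 : Valued.v (Y ^ 2 + Y) ≤ 1 := by
      refine (Valuation.map_add _ _ _).trans (max_le ?_ hle)
      rw [map_pow]
      exact pow_le_one₀ zero_le hle
    rw [hvG, ← exp_zero, exp_le_exp] at h3
    omega
  have hY0 : Valued.v Y ≠ 0 := fun h => by rw [h] at hY1; exact absurd hY1 (by simp)
  have hsq : Valued.v Y < Valued.v (Y ^ 2) := by
    rw [map_pow, sq]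
    have h0 : 0 < Valued.v Y := lt_trans zero_lt_one hY1
    calc Valued.v Y = Valued.v Y * 1 := (mul_one _).symm
      _ < Valued.v Y * Valued.v Y := (mul_lt_mul_iff_right₀ h0).mpr hY1
  have h4 : Valued.v (Y ^ 2 + Y) = Valued.v (Y ^ 2) := Valuation.map_add_eq_of_lt_left _ hsq
  obtain ⟨a, ha⟩ : ∃ a : ℤ, Valued.v Y = exp a := ⟨_, (exp_log hY0).symm⟩
  have ham : a = m := by
    rw [h4, map_pow, ha, ← exp_nsmul, exp_inj] at hvG
    simp only [nsmul_eq_mul] at hvG
    push_cast at hvG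
    omega
  have hvY : Valued.v Y = exp (-(-(m : ℤ))) := by rw [ha, ham, neg_neg]
  have hmF : (((-(m : ℤ)) : ℤ) : F) ≠ 0 := by
    push_cast
    rw [natCast_odd_eq_one hm]
    simp
  have hvDY := v_D_tame_int Y (-(m : ℤ)) hvY hmF
  -- `D (Y² + Y) = D Y`
  have hDY : LocRes.D F (Y ^ 2 + Y) = LocRes.D F Y := by
    rw [map_add, Derivation.leibniz_pow]
    have : (2 : ℕ) • (Y ^ (2 - 1) • LocRes.D F Y) = 0 := by
      rw [two_nsmul]
      exact CharTwo.add_self_eq_zero _
    rw [this, zero_add]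
  -- the derivative of the right-hand side
  have hDG : LocRes.D F (U * (S⁻¹) ^ m) =
      LocRes.D F U * (S⁻¹) ^ m + U * ((S⁻¹) ^ (m - 1) * (-(S⁻¹) ^ 2 * LocRes.D F S)) := by
    rw [Derivation.leibniz, Derivation.leibniz_pow, Derivation.leibniz_inv, smul_eq_mul,
      smul_eq_mul, smul_eq_mul, smul_eq_mul, nsmul_eq_mul, natCast_odd_eq_one hm, one_mul]
    ring
  have hv2 : Valued.v (U * ((S⁻¹) ^ (m - 1) * (-(S⁻¹) ^ 2 * LocRes.D F S))) =
      exp (2 * (m : ℤ) + 2) * Valued.v (LocRes.D F S) := by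
    rw [map_mul, map_mul, map_mul, Valuation.map_neg, map_pow, map_pow, hU, hT, one_mul,
      ← exp_nsmul, ← exp_nsmul, ← mul_assoc, ← exp_add]
    congr 2
    simp only [nsmul_eq_mul]
    push_cast [Nat.cast_sub hm1]
    ring
  have hv1 : Valued.v (LocRes.D F U * (S⁻¹) ^ m) ≤
      exp (2 * (m : ℤ)) * Valued.v (LocRes.D F S) := by
    rw [map_mul, hTm, mul_comm]
    exact mul_le_mul' le_rfl hDU
  have hDS0 : Valued.v (LocRes.D F S) ≠ 0 := by
    intro h0
    have hDS : LocRes.D F S = 0 := (Valuation.zero_iff _).mp h0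
    have hDU0 : LocRes.D F U = 0 := by
      rw [h0] at hDU
      exact (Valuation.zero_iff _).mp (le_antisymm hDU zero_le)
    rw [← hDY, heq, hDG, hDS, hDU0, mul_zero, zero_mul, mul_zero, mul_zero, add_zero,
      map_zero] at hvDY
    exact exp_ne_zero hvDY.symm
  obtain ⟨b, hb⟩ : ∃ b : ℤ, Valued.v (LocRes.D F S) = exp b := ⟨_, (exp_log hDS0).symm⟩
  have hlt : Valued.v (LocRes.D F U * (S⁻¹) ^ m) <
      Valued.v (U * ((S⁻¹) ^ (m - 1) * (-(S⁻¹) ^ 2 * LocRes.D F S))) := by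
    refine lt_of_le_of_lt hv1 ?_
    rw [hv2, hb, ← exp_add, ← exp_add, exp_lt_exp]
    omega
  have hfin : Valued.v (LocRes.D F (U * (S⁻¹) ^ m)) =
      exp (2 * (m : ℤ) + 2) * Valued.v (LocRes.D F S) := by
    rw [hDG, Valuation.map_add_eq_of_lt_right _ hlt, hv2]
  rw [← hDY, heq, hfin, hb, ← exp_add, exp_inj] at hvDY
  rw [hb]
  congr 1
  omega

end Groth.Agent.H63.ASLocal
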