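import Mathlib
import Groth.Agent.H62.FFHypGenus2
import Groth.Agent.H62.FFHyper2
import Groth.Agent.H62.FFParity
import Groth.Agent.H62.FFQuad
import Groth.Agent.H55.Geom5
import Groth.Agent.H63.SepGen
import Groth.Agent.H63.KaehlerFF
import Groth.Agent.H63.HypLocal
import Groth.Agent.H63.WeilRes
import Groth.Agent.S12535
import Groth.Agent.S12582

/-!
# Regular differentials of a hyperelliptic function field (`char ≠ 2`)

Glue between the `Algebra (RatFunc k) K` presentation and the `k⟮x⟯` presentation, geometricity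
of `k(x)` and of separable extensions of it, and the local analysis showing that `xⁱ dx / y`
is regular for `i < g`.
-/

open scoped TensorProduct Polynomial
open Polynomial IntermediateField FunFld Module LaurentSeries WithZero

universe u v w

set_option linter.style.haveILetI false
set_option autoImplicit false

namespace Groth.Agent.H63.HypDiff

section geometric

theorem isDomain_tensor_ratFunc (k : Type*) (k' : Type*) [Field k] [Field k'] [Algebra k k'] :
    IsDomain (k' ⊗[k] RatFunc k) := by
  let g : (k' ⊗[k] k[X]) →ₐ[k'] (k' ⊗[k] RatFunc k) :=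
    Algebra.TensorProduct.map (AlgHom.id k' k') (IsScalarTower.toAlgHom k k[X] (RatFunc k))
  letI : Algebra (k' ⊗[k] k[X]) (k' ⊗[k] RatFunc k) := g.toRingHom.toAlgebra
  haveI : IsScalarTower k' (k' ⊗[k] k[X]) (k' ⊗[k] RatFunc k) := ⟨fun c a b => by
    rw [Algebra.smul_def a b, Algebra.smul_def (c • a) b]
    change g (c • a) * b = c • (g a * b)
    rw [map_smul, smul_mul_assoc]⟩
  have H : (algebraMap (k' ⊗[k] k[X]) (k' ⊗[k] RatFunc k)).comp
      Algebra.TensorProduct.includeRight.toRingHom =
      Algebra.TensorProduct.includeRight.toRingHom.comp (algebraMap k[X] (RatFunc k)) := by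
    ext p <;> simp [RingHom.algebraMap_toAlgebra, g]
  have hloc := IsLocalization.tensorProduct_tensorProduct_right k k' (nonZeroDivisors k[X])
    (RatFunc k) H
  haveI : IsDomain (k' ⊗[k] k[X]) := (polyEquivTensor k k').symm.toMulEquiv.isDomain
  refine IsLocalization.isDomain_of_le_nonZeroDivisors (R := k' ⊗[k] k[X])
    (M := (nonZeroDivisors k[X]).map (Algebra.TensorProduct.includeRight (R := k) (A := k'))) _ ?_
  rintro _ ⟨p, hp, rfl⟩
  apply mem_nonZeroDivisors_of_ne_zero
  have hinj : Function.Injective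
      (Algebra.TensorProduct.includeRight (R := k) (A := k') (B := k[X])) :=
    Algebra.TensorProduct.includeRight_injective (FaithfulSMul.algebraMap_injective k k')
  intro h0
  have : p = 0 := hinj (by rw [map_zero]; exact h0)
  exact (nonZeroDivisors.ne_zero hp) this

variable {k : Type u} {K : Type v} [Field k] [Field K] [Algebra k K]

/-- the rational function field `k(x)` is geometric -/
theorem isGeometric_adjoin_simple {x : K} (hx : Transcendental k x) :
    FunFld.IsGeometric k k⟮x⟯ := by
  intro k' _ _ hfin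
  let e : RatFunc k ≃ₐ[k] k⟮x⟯ := RatFunc.algEquivOfTranscendental x hx
  haveI := isDomain_tensor_ratFunc k k'
  let E : k' ⊗[k] RatFunc k ≃ₐ[k] k' ⊗[k] k⟮x⟯ :=
    Algebra.TensorProduct.congr AlgEquiv.refl e
  haveI : IsDomain (k' ⊗[k] k⟮x⟯) := E.symm.toMulEquiv.isDomain
  exact Algebra.TensorProduct.isField_of_isAlgebraic k k' k⟮x⟯ (Or.inl inferInstance)

open Groth.Agent.H55 in
theorem isFunctionField_intermediateField (hK : IsFunctionField k K)
    (K₀ : IntermediateField k K) (h₀ : ∃ x ∈ K₀, Transcendental k x) :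
    IsFunctionField k K₀ := by
  obtain ⟨x, hxK₀, hx⟩ := h₀
  refine ⟨⟨⟨x, hxK₀⟩, ?_, ?_⟩, ?_⟩
  · intro halg
    apply hx
    have := (isAlgebraic_algHom_iff K₀.val K₀.val.injective (a := (⟨x, hxK₀⟩ : K₀))).mpr halg
    exact this
  · have hfd : FiniteDimensional k⟮x⟯ K := finiteDimensional_adjoin_of_transcendental hK hx
    have h1 := finrank_adjoin_algebraMap (k := k) (K := K₀) (K' := K) (⟨x, hxK₀⟩ : K₀)
    have h2 : 0 < finrank k⟮algebraMap K₀ K (⟨x, hxK₀⟩ : K₀)⟯ K := by
      have h3 : algebraMap K₀ K (⟨x, hxK₀⟩ : K₀) = x := rfl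
      rw [h3]
      exact Module.finrank_pos
    rw [h1] at h2
    exact Module.finite_of_finrank_pos (Nat.pos_of_mul_pos_right h2)
  · intro y hy
    have h1 : IsAlgebraic k (y : K) :=
      (isAlgebraic_algHom_iff K₀.val K₀.val.injective (a := y)).mpr hy
    obtain ⟨c, hc⟩ := hK.2 (y : K) h1
    exact ⟨c, Subtype.ext hc⟩

/-- a function field which is finite separable over `k(x)` is geometric -/
theorem isGeometric_of_separable_over_simple (hK : IsFunctionField k K) {x : K}
    (hx : Transcendental k x) [FiniteDimensional k⟮x⟯ K]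
    [Algebra.IsSeparable k⟮x⟯ K] : IsGeometric k K := by
  have hK₀ : IsFunctionField k k⟮x⟯ :=
    isFunctionField_intermediateField hK k⟮x⟯ ⟨x, mem_adjoin_simple_self k x, hx⟩
  exact Groth.Agent.H55.isGeometric_of_finite_separable (k := k) (k' := k) (K := k⟮x⟯) (K' := K)
    hK₀ (isGeometric_adjoin_simple hx) hK

/-- a separating element has nonzero differential, given one place with an expansion -/
theorem D_ne_zero_of_separable (hK : IsFunctionField k K) {x : K}
    [Algebra.IsSeparable k⟮x⟯ K] {F : Type w} [Field F] [Algebra k F] (P : Place k K)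
    (φ : K →ₐ[k] F⸨X⸩) (hφ : LocRes.IsExpansionAt P.1 φ) :
    KaehlerDifferential.D k K x ≠ 0 := by
  intro h0
  obtain ⟨t, ht⟩ := hφ.2.2
  have hDt : Valued.v (LocRes.D F (φ t)) = 1 :=
    Groth.Agent.H63.MinpolyDiff.v_D_unif _ (by rw [hφ.1, ht])
  have htop := Groth.Agent.H63.KaehlerFF.span_D_eq_top (k := k) ({x} : Set K)
  rw [Set.image_singleton, h0] at htop
  have hmem : KaehlerDifferential.D k K t ∈ Submodule.span K ({0} : Set (Ω[K⁄k])) := by
    rw [htop]; trivial
  rw [Submodule.span_zero_singleton, Submodule.mem_bot] at hmem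
  have := Groth.Agent.H63.KaehlerFF.D_map_eq_of_D_eq φ (x := t) (z := t) (a := 0)
    (by rw [zero_smul]; exact hmem)
  rw [map_zero, zero_mul] at this
  rw [this, map_zero] at hDt
  exact zero_ne_one hDt

end geometric

theorem isSeparable_of_sq {K K' : Type*} [Field K] [Field K'] [Algebra K K']
    (hdeg : finrank K K' = 2) (h2 : (2 : K) ≠ 0) {y : K'} {F : K}
    (hy : y ∉ Set.range (algebraMap K K')) (heq : y ^ 2 = algebraMap K K' F) :
    Algebra.IsSeparable K K' := by
  have hF0 : F ≠ 0 := by
    rintro rfl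
    rw [map_zero] at heq
    have : y = 0 := by simpa using heq
    exact hy ⟨0, by rw [map_zero, this]⟩
  have hmin := Groth.Agent.H62.FFQuad.minpoly_eq hdeg hy heq
  have hsep : IsSeparable K y := by
    unfold IsSeparable
    rw [hmin]
    exact separable_X_pow_sub_C F (by exact_mod_cast h2) hF0
  have htop := Groth.Agent.H62.FFQuad.adjoin_eq_top hdeg hy
  have h1 : Algebra.IsSeparable K K⟮y⟯ :=
    (isSeparable_adjoin_simple_iff_isSeparable K K').2 hsep
  rw [htop] at h1
  exact AlgEquiv.Algebra.isSeparable (IntermediateField.topEquiv (F := K) (E := K'))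

section glue

variable {k : Type u} {K : Type v} [Field k] [Field K] [Algebra k K]
  [Algebra (RatFunc k) K] [IsScalarTower k (RatFunc k) K]

variable (k K) in
theorem transcendental_X : Transcendental k (algebraMap (RatFunc k) K RatFunc.X) := by
  have h1 : Transcendental k (RatFunc.X : RatFunc k) := by
    have := RatFunc.transcendental_X (K := k)
    exact this
  exact (transcendental_algebraMap_iff (algebraMap (RatFunc k) K).injective).mpr h1

theorem algebraMap_eq_ev (r : RatFunc k) :
    algebraMap (RatFunc k) K r =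
      Groth.Agent.H62.FFHol.ev (transcendental_X k K) r := by
  have h := IsLocalization.ringHom_ext (nonZeroDivisors k[X])
    (j := (algebraMap (RatFunc k) K))
    (k := (Groth.Agent.H62.FFHol.ev (transcendental_X k K)).toRingHom) (by
      apply Polynomial.ringHom_ext
      · intro c
        simp only [RingHom.comp_apply, AlgHom.toRingHom_eq_coe, RingHom.coe_coe]
        rw [Groth.Agent.H62.FFHol.ev_algebraMap, aeval_C]
        rw [IsScalarTower.algebraMap_apply k (RatFunc k) K,
          IsScalarTower.algebraMap_apply k k[X] (RatFunc k), Polynomial.algebraMap_apply,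
          Algebra.algebraMap_self, RingHom.id_apply]
      · simp only [RingHom.comp_apply, AlgHom.toRingHom_eq_coe, RingHom.coe_coe]
        rw [Groth.Agent.H62.FFHol.ev_algebraMap, aeval_X, RatFunc.algebraMap_X])
  exact congrArg (fun φ : RatFunc k →+* K => φ r) h

theorem algebraMap_mem (r : RatFunc k) :
    algebraMap (RatFunc k) K r ∈ k⟮algebraMap (RatFunc k) K RatFunc.X⟯ := by
  rw [algebraMap_eq_ev r]
  exact Groth.Agent.H62.FFHol.ev_mem _ r

theorem algebraMap_poly (f : k[X]) :
    algebraMap (RatFunc k) K (algebraMap k[X] (RatFunc k) f) =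
      aeval (algebraMap (RatFunc k) K RatFunc.X) f := by
  rw [algebraMap_eq_ev (K := K), Groth.Agent.H62.FFHol.ev_algebraMap]

omit [Field K] [Algebra k K] [Algebra (RatFunc k) K] [IsScalarTower k (RatFunc k) K] in
theorem two_ne_zero_of_ringChar (h2 : ringChar k ≠ 2) : (2 : k) ≠ 0 := by
  intro h0
  apply h2
  have hchar : CharP k 2 := by
    apply (CharP.charP_iff_prime_eq_zero Nat.prime_two).mpr
    exact_mod_cast h0
  exact (ringChar.eq k 2)

section hyp

variable (hdeg : finrank (RatFunc k) K = 2) (h2 : ringChar k ≠ 2)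
  {y : K} {f : k[X]} (hf : Squarefree f) (hd : 1 ≤ f.natDegree)
  (heq : y ^ 2 = algebraMap (RatFunc k) K (algebraMap k[X] (RatFunc k) f))

local notation "xx" => algebraMap (RatFunc k) K RatFunc.X

include hf hd heq in
theorem y_notMem : y ∉ k⟮xx⟯ :=
  Groth.Agent.H62.FFHypRepr.not_mem_adjoin (transcendental_X k K) hf hd
    (by rw [heq, algebraMap_poly])

include hdeg hf hd heq in
theorem adjoin_xy : adjoin k ({xx, y} : Set K) = ⊤ := by
  rw [eq_top_iff]
  intro w _
  have hy := Groth.Agent.H62.FFHyper2.not_mem_range_of_sq_eq hf hd heq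
  obtain ⟨a, b, rfl⟩ := Groth.Agent.H62.FFParity.exists_eq_add_mul hdeg hy w
  have hle : k⟮xx⟯ ≤ adjoin k ({xx, y} : Set K) :=
    adjoin.mono k _ _ (by
      intro z hz; rw [Set.mem_singleton_iff] at hz; rw [hz]; exact Set.mem_insert _ _)
  have hy' : y ∈ adjoin k ({xx, y} : Set K) :=
    subset_adjoin k _ (Set.mem_insert_of_mem _ (Set.mem_singleton _))
  exact add_mem (hle (algebraMap_mem a)) (mul_mem (hle (algebraMap_mem b)) hy')

include hdeg hf hd heq in
theorem finrank_adjoin : finrank k⟮xx⟯ K = 2 :=
  Groth.Agent.H62.FFHypRepr.finrank_eq_two (adjoin_xy hdeg hf hd heq) (y_notMem hf hd heq)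
    (by rw [heq, algebraMap_poly])

include hdeg h2 hf hd heq in
theorem genus_eq (hK : IsFunctionField k K) : genus k K = (f.natDegree - 1) / 2 :=
  Groth.Agent.H62.FFHypGenus.genus_eq hK (transcendental_X k K) (finrank_adjoin hdeg hf hd heq)
    (y_notMem hf hd heq) hf (by rw [heq, algebraMap_poly]) (two_ne_zero_of_ringChar h2) hd

include hdeg h2 hf hd heq in
theorem isSeparable_adjoin : Algebra.IsSeparable k⟮xx⟯ K := by
  have hdeg' := finrank_adjoin hdeg hf hd heq
  have hy := y_notMem hf hd heq
  have h2' : (2 : k⟮xx⟯) ≠ 0 := by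
    intro h0
    apply two_ne_zero_of_ringChar h2
    have : algebraMap k k⟮xx⟯ 2 = 0 := by rw [map_ofNat]; exact h0
    exact (map_eq_zero_iff _ (algebraMap k k⟮xx⟯).injective).mp this
  refine isSeparable_of_sq hdeg' h2' (y := y)
    (F := ⟨aeval xx f, Groth.Agent.H62.FFHypRepr.aeval_mem_adjoin xx f⟩) ?_ ?_
  · rintro ⟨z, rfl⟩
    exact hy z.2
  · rw [heq, algebraMap_poly]
    rfl

include hdeg h2 hf hd heq in
theorem isGeometric (hK : IsFunctionField k K) : IsGeometric k K := by
  haveI := isSeparable_adjoin hdeg h2 hf hd heq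
  haveI : FiniteDimensional k⟮xx⟯ K :=
    Module.finite_of_finrank_pos (by rw [finrank_adjoin hdeg hf hd heq]; norm_num)
  exact isGeometric_of_separable_over_simple hK (transcendental_X k K)

end hyp

end glue

end Groth.Agent.H63.HypDiff
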