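import Mathlib
import Groth.Agent.H63.ASLocal
import Groth.Agent.H63.HypDiff
import Groth.Agent.H62.FFRat
import Groth.Agent.H62.FFASGenus2

/-!
# Differentials of Artin–Schreier extensions `y² + y = f` of `k(x)` in characteristic two, I

* `finite_pole`, `infinite_pole`: the order of `dx` at the wildly ramified places.
* `deg_E_eq`: `deg E = deg q + E(∞)` for the polynomial `q` with the prescribed finite orders.
-/

open scoped Polynomial
open Polynomial IntermediateField FunFld Module LaurentSeries WithZero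
open Groth.Agent.H55 Groth.Agent.H62.FFRat Groth.Agent.H63.HypLocal Groth.Agent.H63.ASLocal
open Groth.Agent.H63.HypDiff Groth.Agent.H62.FFASGenus

universe u v w

set_option linter.style.haveILetI false
set_option linter.unusedSectionVars false
set_option autoImplicit false

namespace Groth.Agent.H63.ASDiff

section main

variable {k : Type u} {K : Type v} [Field k] [Field K] [Algebra k K]
  [Algebra (RatFunc k) K] [IsScalarTower k (RatFunc k) K]

local notation "xx" => algebraMap (RatFunc k) K RatFunc.X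

section expand

variable {F : Type w} [Field F] [Algebra k F]
  {P : Place k K} {p : Place k (RatFunc k)} {e : ℕ} (he : IsOverWith P p e)
  (φ : K →ₐ[k] F⸨X⸩) (hφ : LocRes.IsExpansionAt P.1 φ)

include he hφ in
/-- the value of a polynomial in `x` through the expansion -/
theorem v_aeval_eq (g : k[X]) :
    Valued.v (aeval (φ xx) g) = p.1 (algebraMap k[X] (RatFunc k) g) ^ e := by
  rw [← he, algebraMap_poly, ← hφ.1]
  congr 1
  exact (Polynomial.aeval_algHom_apply φ xx g)

theorem map_ratFunc (r : RatFunc k) :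
    φ (algebraMap (RatFunc k) K r) = aeval (φ xx) r.num / aeval (φ xx) r.denom := by
  conv_lhs => rw [← RatFunc.num_div_denom r]
  rw [map_div₀, map_div₀, algebraMap_poly, algebraMap_poly]
  congr 1
  · exact (Polynomial.aeval_algHom_apply φ xx r.num).symm
  · exact (Polynomial.aeval_algHom_apply φ xx r.denom).symm

end expand

section finitePole

variable [PerfectField k] [CharP k 2]
  {F : Type w} [Field F] [Algebra k F] [FiniteDimensional k F]

/-- **finite wild place**: the order of `dx` at a place above a finite pole of odd order `m`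
of `f` is `m + 1`. -/
theorem finite_pole {y : K} {f : RatFunc k}
    (heq : y ^ 2 + y = algebraMap (RatFunc k) K f)
    {P : Place k K} {p : Place k (RatFunc k)} (he : IsOverWith P p 2)
    (hfin : p.1 RatFunc.X ≤ 1) {m : ℕ} (hm : Odd m) (hval : p.1 f = exp (m : ℤ))
    (φ : K →ₐ[k] F⸨X⸩) (hφ : LocRes.IsExpansionAt P.1 φ) :
    Valued.v (LocRes.D F (φ xx)) = exp (-((m : ℤ) + 1)) := by
  haveI : CharP F 2 := charP_of_injective_algebraMap (algebraMap k F).injective 2
  have hm1 : 1 ≤ m := hm.pos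
  have hinj : Function.Injective (algebraMap k[X] (RatFunc k)) :=
    IsFractionRing.injective k[X] (RatFunc k)
  have hvx : Valued.v (φ xx) ≤ 1 := by
    rw [hφ.1, he]; exact pow_le_one₀ zero_le hfin
  obtain ⟨Z, hZ⟩ := (val_le_one_iff_eq_coe F (φ xx)).mp hvx
  set a₀ := PowerSeries.constantCoeff Z with ha₀
  have hv : ∀ g : k[X], Valued.v (aeval (Z : F⸨X⸩) g) =
      p.1 (algebraMap k[X] (RatFunc k) g) ^ 2 := by
    intro g; rw [hZ]; exact v_aeval_eq he φ hφ g
  have hle : ∀ g : k[X], p.1 (algebraMap k[X] (RatFunc k) g) ≤ 1 := val_poly_le_one p hfin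
  -- vanishing at `a₀` detects positive order
  have hzero : ∀ g : k[X], aeval a₀ g = 0 ↔ p.1 (algebraMap k[X] (RatFunc k) g) < 1 := by
    intro g
    constructor
    · intro h0
      by_contra hnot
      have h1 : p.1 (algebraMap k[X] (RatFunc k) g) = 1 := le_antisymm (hle g) (not_lt.mp hnot)
      have h2 := hv g
      rw [h1, one_pow, HypLocal.aeval_coe, v_coe_eq_one_iff, constantCoeff_aeval] at h2
      exact h2 h0
    · intro hlt
      apply aeval_constantCoeff_eq_zero Z g
      rw [hv g]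
      exact pow_lt_one₀ zero_le hlt two_ne_zero
  have hone : ∀ g : k[X], aeval a₀ g ≠ 0 → p.1 (algebraMap k[X] (RatFunc k) g) = 1 := by
    intro g hg
    exact le_antisymm (hle g) (not_lt.mp fun hlt => hg ((hzero g).mpr hlt))
  -- the minimal polynomial of `a₀`
  have ha₀int : IsIntegral k a₀ := (Algebra.IsAlgebraic.isAlgebraic a₀).isIntegral
  set π := minpoly k a₀ with hπ
  have hπirr : Irreducible π := minpoly.irreducible ha₀int
  have hπa : aeval a₀ π = 0 := minpoly.aeval k a₀
  have hπ0 : π ≠ 0 := hπirr.ne_zero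
  have hπne : algebraMap k[X] (RatFunc k) π ≠ 0 := (map_ne_zero_iff _ hinj).mpr hπ0
  have hπval : p.1 (algebraMap k[X] (RatFunc k) π) = exp (-(1 : ℤ)) := by
    have hlt := (hzero π).mp hπa
    have hpos : 0 < p.ord (algebraMap k[X] (RatFunc k) π) := (Place.ord_pos_iff p hπne).mpr hlt
    have h1 := ord_squarefree p hfin hπirr.squarefree hpos
    rw [Place.val_eq_exp_neg_ord p hπne, h1]
  -- numerator and denominator
  set A := f.num with hA
  set B := f.denom with hB
  have hB0 : B ≠ 0 := RatFunc.denom_ne_zero f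
  have hBne : algebraMap k[X] (RatFunc k) B ≠ 0 := (map_ne_zero_iff _ hinj).mpr hB0
  have hfAB : f = algebraMap k[X] (RatFunc k) A / algebraMap k[X] (RatFunc k) B :=
    (RatFunc.num_div_denom f).symm
  have hvf : p.1 (algebraMap k[X] (RatFunc k) A) =
      exp (m : ℤ) * p.1 (algebraMap k[X] (RatFunc k) B) := by
    rw [← hval]
    conv_rhs => rw [hfAB]
    rw [map_div₀, div_mul_cancel₀]
    exact (Valuation.ne_zero_iff _).mpr hBne
  have hBlt : p.1 (algebraMap k[X] (RatFunc k) B) < 1 := by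
    by_contra hnot
    have h1 : p.1 (algebraMap k[X] (RatFunc k) B) = 1 := le_antisymm (hle B) (not_lt.mp hnot)
    have h2 := hle A
    rw [hvf, h1, mul_one, ← exp_zero, exp_le_exp] at h2
    omega
  have hBa : aeval a₀ B = 0 := (hzero B).mpr hBlt
  have hAa : aeval a₀ A ≠ 0 := by
    intro h0
    obtain ⟨u, w, huw⟩ := RatFunc.isCoprime_num_denom f
    have := congrArg (aeval a₀) huw
    rw [map_add, map_mul, map_mul, ← hA, ← hB, h0, hBa, mul_zero, mul_zero, add_zero,
      map_one] at this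
    exact zero_ne_one this
  have hAval := hone A hAa
  have hBval : p.1 (algebraMap k[X] (RatFunc k) B) = exp (-(m : ℤ)) := by
    rw [hAval] at hvf
    have h0 : exp (-(m : ℤ)) * exp (m : ℤ) = 1 := by rw [← exp_add]; simp
    calc p.1 (algebraMap k[X] (RatFunc k) B)
        = (exp (-(m : ℤ)) * exp (m : ℤ)) * p.1 (algebraMap k[X] (RatFunc k) B) := by
          rw [h0, one_mul]
      _ = exp (-(m : ℤ)) := by rw [mul_assoc, ← hvf, mul_one]
  -- factor the denominator
  obtain ⟨n, B₁, hπB₁, hBfac⟩ := WfDvdMonoid.max_power_factor hB0 hπirr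
  have hB₁a : aeval a₀ B₁ ≠ 0 := fun h0 => hπB₁ (minpoly.dvd k a₀ h0)
  have hB₁val := hone B₁ hB₁a
  have hnm : n = m := by
    have h1 := hBval
    rw [hBfac, map_mul, map_pow, map_mul, map_pow, hB₁val, mul_one, hπval, ← exp_nsmul,
      exp_inj] at h1
    simp only [nsmul_eq_mul] at h1
    omega
  subst hnm
  -- the Laurent side
  set S : F⸨X⸩ := aeval (Z : F⸨X⸩) π with hS
  set U : F⸨X⸩ := aeval (Z : F⸨X⸩) A / aeval (Z : F⸨X⸩) B₁ with hU
  have hvS : Valued.v S = exp (-(2 : ℤ)) := by
    rw [hS, hv π, hπval, ← exp_nsmul]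
    norm_num
  have hvA : Valued.v (aeval (Z : F⸨X⸩) A) = 1 := v_aeval_eq_one Z A hAa
  have hvB₁ : Valued.v (aeval (Z : F⸨X⸩) B₁) = 1 := v_aeval_eq_one Z B₁ hB₁a
  have hvU : Valued.v U = 1 := by rw [hU, map_div₀, hvA, hvB₁, div_one]
  have hπsep : π.Separable := PerfectField.separable_of_irreducible hπirr
  have hπ'a : aeval a₀ (derivative π) ≠ 0 := hπsep.aeval_derivative_ne_zero hπa
  have hDS : Valued.v (LocRes.D F S) = Valued.v (LocRes.D F (Z : F⸨X⸩)) := by
    rw [hS, D_aeval, map_mul, v_aeval_eq_one Z _ hπ'a, one_mul]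
  have hDU : Valued.v (LocRes.D F U) ≤ Valued.v (LocRes.D F S) := by
    rw [hDS, hU]
    exact v_D_quot_le A B₁ Z hB₁a
  have hS0 : S ≠ 0 := by
    intro h0
    rw [h0, map_zero] at hvS
    exact exp_ne_zero hvS.symm
  have hB₁0 : aeval (Z : F⸨X⸩) B₁ ≠ 0 := by
    intro h0
    rw [h0, map_zero] at hvB₁
    exact zero_ne_one hvB₁
  have heq' : (φ y) ^ 2 + φ y = U * (S⁻¹) ^ n := by
    rw [← map_pow, ← map_add, heq, map_ratFunc φ f, ← hZ, ← hA, ← hB, hBfac, map_mul, map_pow,
      ← hS, hU, inv_pow]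
    field_simp
  have hW := v_D_wild (φ y) U S n hm hvS hvU hDU heq'
  rw [hZ] at hDS
  rw [← hDS, hW]

end finitePole

section infinitePole

variable [CharP k 2]
  {F : Type w} [Field F] [Algebra k F]

theorem aeval_reverse (Xs : F⸨X⸩) (hX0 : Xs ≠ 0) (g : k[X]) :
    aeval Xs g = aeval Xs⁻¹ g.reverse * Xs ^ g.natDegree := by
  letI : Invertible Xs := invertibleOfNonzero hX0
  have := Polynomial.eval₂_reverse_mul_pow (algebraMap k F⸨X⸩) Xs g
  rw [invOf_eq_inv] at this
  rw [aeval_def, aeval_def, this]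

/-- **infinite wild place**: the order of `dx` at a place above `∞`, when `f` has a pole of odd
order `m` there, is `m - 3`. -/
theorem infinite_pole {y : K} {f : RatFunc k}
    (heq : y ^ 2 + y = algebraMap (RatFunc k) K f)
    {P : Place k K} {p : Place k (RatFunc k)} (he : IsOverWith P p 2)
    (hinf : 1 < p.1 RatFunc.X) {m : ℕ} (hm : Odd m) (hval : p.1 f = exp (m : ℤ))
    (φ : K →ₐ[k] F⸨X⸩) (hφ : LocRes.IsExpansionAt P.1 φ) :
    Valued.v (LocRes.D F (φ xx)) = exp (3 - (m : ℤ)) := by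
  haveI : CharP F 2 := charP_of_injective_algebraMap (algebraMap k F).injective 2
  have hinj : Function.Injective (algebraMap k[X] (RatFunc k)) :=
    IsFractionRing.injective k[X] (RatFunc k)
  have hX0 : (RatFunc.X : RatFunc k) ≠ 0 := RatFunc.X_ne_zero
  obtain ⟨hordX, -, -⟩ := infinite_place p hinf
  have hvX : p.1 (RatFunc.X : RatFunc k) = exp (1 : ℤ) := by
    rw [Place.val_eq_exp_neg_ord p hX0, hordX]; norm_num
  set Xs := φ xx with hXs
  have hvXs : Valued.v Xs = exp (2 : ℤ) := by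
    rw [hXs, hφ.1, he, hvX, ← exp_nsmul]; norm_num
  have hXs0 : Xs ≠ 0 := by
    intro h0
    rw [h0, map_zero] at hvXs
    exact exp_ne_zero hvXs.symm
  set S := Xs⁻¹ with hS
  have hvS : Valued.v S = exp (-(2 : ℤ)) := by rw [hS, map_inv₀, hvXs, ← exp_neg]
  obtain ⟨Z, hZ⟩ := (val_le_one_iff_eq_coe F S).mp (by
    rw [hvS, ← exp_zero, exp_le_exp]; norm_num)
  have hZ0 : PowerSeries.constantCoeff Z = 0 := by
    rw [← v_coe_le_exp_neg_one_iff, hZ, hvS, exp_le_exp]; norm_num
  -- numerator and denominator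
  have hf0 : f ≠ 0 := by
    rintro rfl
    rw [map_zero] at hval
    exact exp_ne_zero hval.symm
  set A := f.num with hA
  set B := f.denom with hB
  have hA0 : A ≠ 0 := RatFunc.num_ne_zero hf0
  have hB0 : B ≠ 0 := RatFunc.denom_ne_zero f
  have hvpoly : ∀ g : k[X], g ≠ 0 →
      p.1 (algebraMap k[X] (RatFunc k) g) = exp (g.natDegree : ℤ) := by
    intro g hg
    have hne : algebraMap k[X] (RatFunc k) g ≠ 0 := (map_ne_zero_iff _ hinj).mpr hg
    rw [Place.val_eq_exp_neg_ord p hne, ord_poly_infinite p hinf hg, neg_neg]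
  have hdeg : (A.natDegree : ℤ) = B.natDegree + m := by
    have h1 : p.1 f = p.1 (algebraMap k[X] (RatFunc k) A) / p.1 (algebraMap k[X] (RatFunc k) B) := by
      conv_lhs => rw [← RatFunc.num_div_denom f]
      rw [map_div₀]
    rw [hval, hvpoly A hA0, hvpoly B hB0, ← exp_sub, exp_inj] at h1
    omega
  have hdeg' : A.natDegree = B.natDegree + m := by exact_mod_cast hdeg
  -- reversed polynomials
  have hAr : aeval (0 : F) A.reverse ≠ 0 := by
    rw [← Polynomial.coeff_zero_eq_aeval_zero', Polynomial.coeff_zero_reverse]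
    exact (map_ne_zero_iff _ (algebraMap k F).injective).mpr (leadingCoeff_ne_zero.mpr hA0)
  have hBr : aeval (0 : F) B.reverse ≠ 0 := by
    rw [← Polynomial.coeff_zero_eq_aeval_zero', Polynomial.coeff_zero_reverse]
    exact (map_ne_zero_iff _ (algebraMap k F).injective).mpr (leadingCoeff_ne_zero.mpr hB0)
  set U : F⸨X⸩ := aeval (Z : F⸨X⸩) A.reverse / aeval (Z : F⸨X⸩) B.reverse with hU
  have hvA : Valued.v (aeval (Z : F⸨X⸩) A.reverse) = 1 :=
    v_aeval_eq_one Z _ (by rw [hZ0]; exact hAr)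
  have hvB : Valued.v (aeval (Z : F⸨X⸩) B.reverse) = 1 :=
    v_aeval_eq_one Z _ (by rw [hZ0]; exact hBr)
  have hvU : Valued.v U = 1 := by rw [hU, map_div₀, hvA, hvB, div_one]
  have hDU : Valued.v (LocRes.D F U) ≤ Valued.v (LocRes.D F S) := by
    rw [← hZ, hU]
    exact v_D_quot_le _ _ Z (by rw [hZ0]; exact hBr)
  have hBr0 : aeval (Z : F⸨X⸩) B.reverse ≠ 0 := by
    intro h0
    rw [h0, map_zero] at hvB
    exact zero_ne_one hvB
  have heq' : (φ y) ^ 2 + φ y = U * (S⁻¹) ^ m := by
    rw [← map_pow, ← map_add, heq, map_ratFunc φ f, ← hXs, ← hA, ← hB,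
      aeval_reverse Xs hXs0 A, aeval_reverse Xs hXs0 B, ← hS, ← hZ, hU, hdeg', pow_add]
    have hT : Xs = ((Z : F⸨X⸩))⁻¹ := by rw [hZ, hS, inv_inv]
    have hT0 : ((Z : F⸨X⸩))⁻¹ ≠ 0 := by rw [← hT]; exact hXs0
    rw [hT]
    generalize ((Z : F⸨X⸩))⁻¹ = T at hT0 ⊢
    field_simp
  have hW := v_D_wild (φ y) U S m hm hvS hvU hDU heq'
  have hDS : LocRes.D F S = -Xs⁻¹ ^ 2 • LocRes.D F Xs := by
    rw [hS, Derivation.leibniz_inv]
  rw [hDS, smul_eq_mul, map_mul, Valuation.map_neg, map_pow, map_inv₀, hvXs, ← exp_neg,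
    ← exp_nsmul] at hW
  have h4 : exp (4 : ℤ) * (exp ((2 : ℕ) • (-(2 : ℤ))) * Valued.v (LocRes.D F Xs)) =
      Valued.v (LocRes.D F Xs) := by
    rw [← mul_assoc, ← exp_add]
    norm_num
  rw [← h4, hW, ← exp_add]
  congr 1
  ring

end infinitePole

end main

section deg

variable {k : Type u} [Field k]

section degE

variable {f : RatFunc k}
  (hodd : ∀ p : Place k (RatFunc k), 1 < p.1 f → Odd (p.ord f))
  {q : k[X]} (hq0 : q ≠ 0)
  (hq : ∀ p : Place k (RatFunc k), p.1 RatFunc.X ≤ 1 →
      p.ord (algebraMap k[X] (RatFunc k) q) = if 1 < p.1 f then (1 - p.ord f) / 2 else 0)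

include hodd in
theorem hodd_div (P : Place k (RatFunc k)) (h : FunFld.div k f P < 0) :
    Odd (FunFld.div k f P) := by
  have hK₀ := Groth.Agent.H62.FFRat.isFunctionField_ratFunc (k := k)
  rw [Place.div_apply hK₀] at h ⊢
  have hf0 : f ≠ 0 := by
    rintro rfl
    rw [Place.ord_zero] at h
    exact lt_irrefl _ h
  exact hodd P ((Place.ord_neg_iff P hf0).mp h)

include hodd hq in
/-- at a finite place, `E f` is the order of `q` -/
theorem E_eq_ord_q (p : Place k (RatFunc k)) (hfin : p.1 RatFunc.X ≤ 1) :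
    E f p = p.ord (algebraMap k[X] (RatFunc k) q) := by
  rw [hq p hfin]
  rcases local_cases (hodd_div hodd) p with ⟨h1, h2⟩ | ⟨hf0, h1, h2⟩
  · rw [h2, if_neg (not_lt.mpr h1)]
  · have hneg : p.ord f < 0 := by omega
    rw [if_pos ((Place.ord_neg_iff p hf0).mp hneg), h2]
    omega

include hodd hq0 hq in
/-- `deg E = deg q + E(∞)` -/
theorem deg_E_eq (pinf : Place k (RatFunc k)) (hinf : 1 < pinf.1 RatFunc.X) :
    (E f).deg = q.natDegree + E f pinf := by
  classical
  have hK₀ := Groth.Agent.H62.FFRat.isFunctionField_ratFunc (k := k)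
  obtain ⟨hordX, hdeginf, huniq⟩ := infinite_place pinf hinf
  have hE : E f = FunFld.div k (algebraMap k[X] (RatFunc k) q) +
      Finsupp.single pinf ((q.natDegree : ℤ) + E f pinf) := by
    ext p
    rw [Finsupp.add_apply, Place.div_apply hK₀, Finsupp.single_apply]
    rcases le_or_gt (p.1 RatFunc.X) 1 with hfin | hp
    · have hne : pinf ≠ p := by
        rintro rfl
        exact absurd hinf (not_lt.mpr hfin)
      rw [if_neg hne, add_zero]
      exact E_eq_ord_q hodd hq p hfin
    · have := huniq p hp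
      subst this
      rw [if_pos rfl, ord_poly_infinite p hp hq0]
      ring
  have h1 := congrArg FunFld.Divisor.deg hE
  rw [Divisor.deg_add, deg_div hK₀, zero_add, deg_single_of_deg_one hdeginf] at h1
  exact h1

end degE

end deg

end Groth.Agent.H63.ASDiff
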