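import Mathlib
import Groth.Agent.H63.HypDiff
import Groth.Agent.H62.FFHyper

/-!
# Regular differentials of a hyperelliptic function field, part 2

* `exists_comb_of_regular`: `g` linearly independent regular differentials span all of them.
* `regular`: `xⁱ dx / y` is regular for `i < (deg f - 1)/2`.
* `span_regular`: every regular `z dx` has `z = a(x)/y`, `deg a < g`.
-/

open scoped TensorProduct Polynomial
open Polynomial IntermediateField FunFld Module LaurentSeries WithZero
open Groth.Agent.H55 Groth.Agent.H62.FFRat Groth.Agent.H62.FFHyper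

universe u v w

set_option linter.style.haveILetI false
set_option autoImplicit false

namespace Groth.Agent.H63.HypDiff

section general

variable {k : Type u} {K : Type v} [Field k] [Field K] [Algebra k K]

/-- dimension count: `g` linearly independent regular differentials span all regular ones -/
theorem exists_comb_of_regular (hK : IsFunctionField k K) (hg : IsGeometric k K)
    (F : Place k K → Type w) [∀ P, Field (F P)] [∀ P, Algebra k (F P)]
    [∀ P, FiniteDimensional k (F P)]
    (φ : ∀ P, K →ₐ[k] LaurentSeries (F P)) (hφ : ∀ P, LocRes.IsExpansionAt P.1 (φ P))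
    (x : K) (hx : KaehlerDifferential.D k K x ≠ 0) {n : ℕ} (hn : n = genus k K)
    (v : Fin n → K) (hv : LinearIndependent k v)
    (hreg : ∀ i P, LocRes.vDiff (φ P) (v i) x ≤ 1)
    (z : K) (hz : ∀ P, LocRes.vDiff (φ P) z x ≤ 1) : ∃ c : Fin n → k, z = ∑ i, c i • v i := by
  have hfin := Groth.Agent.S12582.result k K hK hg F φ hφ x hx
  have h1 : {y : K | ∀ P, LocRes.vDiff (φ P) y x ≤ 1} =
      {y : K | ∀ P, LocRes.vDiff (φ P) y x ≤ exp (-((0 : Divisor k K) P))} := by
    ext y
    simp
  have hset := Groth.Agent.H63.WeilRes.setOf_vDiff_le_eq hK hg φ hφ x hx 0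
  rw [← h1] at hset
  rw [hset, Submodule.span_eq] at hfin
  set W := Groth.Agent.H63.WeilRes.divOf hK hg φ hφ 1 hx - 0 with hW
  haveI : Module.Finite k (L W) := L_finite hK W
  have hmem : ∀ y : K, (∀ P, LocRes.vDiff (φ P) y x ≤ 1) → y ∈ L W := by
    intro y hy
    have : y ∈ {y : K | ∀ P, LocRes.vDiff (φ P) y x ≤ 1} := hy
    rw [hset] at this
    exact this
  have hle : Submodule.span k (Set.range v) ≤ L W := by
    rw [Submodule.span_le]
    rintro _ ⟨i, rfl⟩
    exact hmem _ (hreg i)
  have hrank : finrank k (Submodule.span k (Set.range v)) = finrank k (L W) := by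
    rw [finrank_span_eq_card hv, Fintype.card_fin, hfin, hn]
  have heq := Submodule.eq_of_le_of_finrank_eq hle hrank
  have hzmem : z ∈ Submodule.span k (Set.range v) := by rw [heq]; exact hmem z hz
  obtain ⟨c, hc⟩ := (Submodule.mem_span_range_iff_exists_fun k).mp hzmem
  exact ⟨c, hc.symm⟩


/-- powers of a transcendental element, divided by a nonzero element, are linearly independent -/
theorem linearIndependent_pow_div {x : K} (hx : Transcendental k x) {w : K} (hw : w ≠ 0) (n : ℕ) :
    LinearIndependent k (fun i : Fin n => x ^ (i : ℕ) / w) := by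
  rw [Fintype.linearIndependent_iff]
  intro c hc i
  have h1 : (∑ j : Fin n, c j • x ^ (j : ℕ)) / w = 0 := by
    rw [Finset.sum_div, ← hc]
    apply Finset.sum_congr rfl
    intro j _
    rw [smul_div_assoc]
  have h2 : aeval x (∑ j : Fin n, Polynomial.C (c j) * Polynomial.X ^ (j : ℕ)) = 0 := by
    rw [map_sum]
    rcases div_eq_zero_iff.mp h1 with h | h
    · rw [← h]
      apply Finset.sum_congr rfl
      intro j _
      rw [map_mul, aeval_C, map_pow, aeval_X, Algebra.smul_def]
    · exact absurd h hw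
  have h3 := (transcendental_iff.mp hx) _ h2
  have h4 := congrArg (fun p : k[X] => p.coeff (i : ℕ)) h3
  simp only [Polynomial.finsetSum_coeff, Polynomial.coeff_C_mul_X_pow, coeff_zero] at h4
  rw [Finset.sum_eq_single i] at h4
  · simpa using h4
  · intro j _ hji
    rw [if_neg]
    intro h
    exact hji (Fin.ext h.symm)
  · intro h
    exact absurd (Finset.mem_univ i) h

end general

section hyp

variable {k : Type u} {K : Type v} [Field k] [Field K] [Algebra k K]
  [Algebra (RatFunc k) K] [IsScalarTower k (RatFunc k) K]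

local notation "xx" => algebraMap (RatFunc k) K RatFunc.X

theorem regular (hdeg : finrank (RatFunc k) K = 2) (h2 : ringChar k ≠ 2)
    {y : K} {f : k[X]} (hf : Squarefree f) (hd : 1 ≤ f.natDegree)
    (heq : y ^ 2 = algebraMap (RatFunc k) K (algebraMap k[X] (RatFunc k) f))
    {F : Type w} [Field F] [Algebra k F] [FiniteDimensional k F] (P : Place k K)
    (φ : K →ₐ[k] F⸨X⸩) (hφ : LocRes.IsExpansionAt P.1 φ)
    (i : ℕ) (hi : i < (f.natDegree - 1) / 2) :
    LocRes.vDiff φ (xx ^ i / y) xx ≤ 1 := by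
  have hK₀ : IsFunctionField k (RatFunc k) := Groth.Agent.H62.FFRat.isFunctionField_ratFunc
  have hfd : FiniteDimensional (RatFunc k) K := finiteDimensional_of_finrank_two hdeg
  have h2k : (2 : k) ≠ 0 := two_ne_zero_of_ringChar h2
  have h2F : (2 : F) ≠ 0 := by
    intro h0
    apply h2k
    have : algebraMap k F 2 = 0 := by rw [map_ofNat]; exact h0
    exact (map_eq_zero_iff _ (algebraMap k F).injective).mp this
  have heq' : y ^ 2 = aeval xx f := by rw [heq, algebraMap_poly]
  have hf0 : f ≠ 0 := hf.ne_zero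
  have hynot : y ∉ Set.range (algebraMap (RatFunc k) K) :=
    Groth.Agent.H62.FFHyper2.not_mem_range_of_sq_eq hf hd heq
  have hy0 : y ≠ 0 := fun h => hynot ⟨0, by rw [map_zero, h]⟩
  have hX0 : (RatFunc.X : RatFunc k) ≠ 0 := RatFunc.X_ne_zero
  have hx0 : xx ≠ 0 := by
    rw [Ne, map_eq_zero_iff _ (algebraMap (RatFunc k) K).injective]; exact hX0
  have hφeq : (φ y) ^ 2 = aeval (φ xx) f := by
    rw [← map_pow, heq']
    exact (Polynomial.aeval_algHom_apply φ xx f).symm
  -- unfold vDiff
  have hv : LocRes.vDiff φ (xx ^ i / y) xx =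
      P.1 xx ^ i * (P.1 y)⁻¹ * Valued.v (LocRes.D F (φ xx)) := by
    unfold LocRes.vDiff
    rw [map_mul, hφ.1, map_div₀, map_pow, div_eq_mul_inv]
  rw [hv]
  rcases le_or_gt (P.1 xx) 1 with hfin | hinf
  · -- finite place
    have hxi : P.1 xx ^ i ≤ 1 := pow_le_one₀ zero_le hfin
    have hyle : P.1 y ≤ 1 := Groth.Agent.H62.FFHypGenus.val_y_le_one heq' P hfin
    have hDle : Valued.v (LocRes.D F (φ xx)) ≤ 1 :=
      Groth.Agent.H63.MinpolyDiff.v_D_le_one _ (by rw [hφ.1]; exact hfin)
    rcases lt_or_eq_of_le hyle with hylt | hyeq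
    · have hpos : 0 < P.ord y := (Place.ord_pos_iff P hy0).mpr hylt
      have hord : P.ord y = 1 :=
        (Groth.Agent.S12535.result k K h2 hdeg y f hf hd heq P).1 hpos
      have hvy : P.1 y = exp (-(1 : ℤ)) := by
        rw [Place.val_eq_exp_neg_ord P hy0, hord]
      have hD : Valued.v (LocRes.D F (φ xx)) = exp (-(1 : ℤ)) :=
        Groth.Agent.H63.HypLocal.v_D_of_sq h2F hf (φ xx) (φ y) hφeq
          (by rw [hφ.1]; exact hfin) (by rw [hφ.1, hvy])
      rw [hvy, hD, mul_assoc, ← exp_neg, neg_neg, ← exp_add]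
      norm_num
      exact hxi
    · rw [hyeq, inv_one, mul_one]
      exact mul_le_one' hxi hDle
  · -- infinite place
    obtain ⟨P₀, e, he⟩ := exists_place_under hK₀ P
    have hinf₀ : 1 < P₀.1 (RatFunc.X : RatFunc k) := by
      by_contra hle
      push Not at hle
      have := he (RatFunc.X : RatFunc k)
      rw [this] at hinf
      exact absurd (pow_le_one₀ zero_le hle) (not_le.mpr hinf)
    obtain ⟨hordX, -, -⟩ := infinite_place P₀ hinf₀
    have hordF : P₀.ord (algebraMap k[X] (RatFunc k) f) = -(f.natDegree : ℤ) :=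
      ord_poly_infinite P₀ hinf₀ hf0
    have hordx : P.ord xx = -(e : ℤ) := by
      rw [isOverWith_ord_eq he, hordX]; ring
    have hordy : 2 * P.ord y = (e : ℤ) * -(f.natDegree : ℤ) := by
      rw [two_mul_ord heq he, hordF]
    have he12 := ramIdx_eq_one_or_two hK₀ hdeg he
    have heF : (((-(e : ℤ)) : ℤ) : F) ≠ 0 := by
      rcases he12 with rfl | rfl
      · simp
      · push_cast
        simpa using h2F
    have hvx : Valued.v (φ xx) = exp (-(-(e : ℤ))) := by
      rw [hφ.1, Place.val_eq_exp_neg_ord P hx0, hordx]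
    have hD := Groth.Agent.H63.HypLocal.v_D_tame_int (φ xx) (-(e : ℤ)) hvx heF
    rw [hD, Place.val_eq_exp_neg_ord P hx0, Place.val_eq_exp_neg_ord P hy0, hordx, ← exp_neg,
      ← exp_nsmul, ← exp_add, ← exp_add, ← exp_zero, exp_le_exp]
    have hi' : 2 * (i : ℤ) + 2 ≤ (f.natDegree : ℤ) - 1 := by omega
    rcases he12 with rfl | rfl
    · simp only [nsmul_eq_mul]
      push_cast at hordy ⊢
      omega
    · simp only [nsmul_eq_mul]
      push_cast at hordy ⊢
      omega


theorem span_regular (hdeg : finrank (RatFunc k) K = 2) (h2 : ringChar k ≠ 2)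
    {y : K} {f : k[X]} (hf : Squarefree f) (hd : 1 ≤ f.natDegree)
    (heq : y ^ 2 = algebraMap (RatFunc k) K (algebraMap k[X] (RatFunc k) f))
    (hK : IsFunctionField k K)
    (F : Place k K → Type w) [∀ P, Field (F P)] [∀ P, Algebra k (F P)]
    [∀ P, FiniteDimensional k (F P)]
    (φ : ∀ P, K →ₐ[k] LaurentSeries (F P)) (hφ : ∀ P, LocRes.IsExpansionAt P.1 (φ P))
    (hreg : ∀ i : ℕ, i < genus k K → ∀ P, LocRes.vDiff (φ P) (xx ^ i / y) xx ≤ 1) :
    ∀ z : K, (∀ P, LocRes.vDiff (φ P) z xx ≤ 1) →
      ∃ a : k[X], a.degree < (genus k K : WithBot ℕ) ∧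
        z = algebraMap (RatFunc k) K (algebraMap k[X] (RatFunc k) a) / y := by
  intro z hz
  have hg := isGeometric hdeg h2 hf hd heq hK
  haveI := isSeparable_adjoin hdeg h2 hf hd heq
  obtain ⟨P₁⟩ := exists_place hK
  have hx : KaehlerDifferential.D k K xx ≠ 0 :=
    D_ne_zero_of_separable hK P₁ (φ P₁) (hφ P₁)
  have hynot : y ∉ Set.range (algebraMap (RatFunc k) K) :=
    Groth.Agent.H62.FFHyper2.not_mem_range_of_sq_eq hf hd heq
  have hy0 : y ≠ 0 := fun h => hynot ⟨0, by rw [map_zero, h]⟩
  obtain ⟨c, hc⟩ := exists_comb_of_regular hK hg F φ hφ xx hx (n := genus k K) rfl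
    (fun i : Fin (genus k K) => xx ^ (i : ℕ) / y)
    (linearIndependent_pow_div (transcendental_X k K) hy0 _)
    (fun i P => hreg i i.2 P) z hz
  refine ⟨∑ i : Fin (genus k K), Polynomial.C (c i) * Polynomial.X ^ (i : ℕ),
    Polynomial.degree_sum_fin_lt c, ?_⟩
  rw [algebraMap_poly, hc, map_sum, Finset.sum_div]
  apply Finset.sum_congr rfl
  intro i _
  rw [map_mul, aeval_C, map_pow, aeval_X, Algebra.smul_def, mul_div_assoc]

end hyp

end Groth.Agent.H63.HypDiff
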