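import Mathlib
import Groth.Agent.H63.ASDiff1
import Groth.Agent.H63.HypDiff2
import Groth.Agent.H55.Geom1
import Groth.Agent.S12519

/-!
# Differentials of Artin–Schreier extensions `y² + y = f` of `k(x)` in characteristic two, II

* `regular`: `xⁱ dx / q(x)` is regular for `i < g`.
* `isSeparable_adjoin_of_ratFunc`, `span_regular_div`: the dimension count.
-/

open scoped Polynomial
open Polynomial IntermediateField FunFld Module LaurentSeries WithZero
open Groth.Agent.H55 Groth.Agent.H62.FFRat Groth.Agent.H63.HypLocal Groth.Agent.H63.ASLocal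
open Groth.Agent.H63.HypDiff Groth.Agent.H62.FFASGenus

universe u v w

set_option linter.style.haveILetI false
set_option autoImplicit false

namespace Groth.Agent.H63.ASDiff

variable {k : Type u} {K : Type v} [Field k] [Field K] [Algebra k K]
  [Algebra (RatFunc k) K] [IsScalarTower k (RatFunc k) K]

local notation "xx" => algebraMap (RatFunc k) K RatFunc.X

theorem regular [PerfectField k] (h2 : ringChar k = 2) (hK : IsFunctionField k K)
    (hdeg : finrank (RatFunc k) K = 2) [Algebra.IsSeparable (RatFunc k) K]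
    {y : K} (hy : y ∉ Set.range (algebraMap (RatFunc k) K)) {f : RatFunc k}
    (heq : y ^ 2 + y = algebraMap (RatFunc k) K f)
    (hodd : ∀ p : Place k (RatFunc k), 1 < p.1 f → Odd (p.ord f))
    {q : k[X]} (hq0 : q ≠ 0)
    (hq : ∀ p : Place k (RatFunc k), p.1 RatFunc.X ≤ 1 →
      p.ord (algebraMap k[X] (RatFunc k) q) = if 1 < p.1 f then (1 - p.ord f) / 2 else 0)
    {F : Type w} [Field F] [Algebra k F] [FiniteDimensional k F] (P : Place k K)
    (φ : K →ₐ[k] F⸨X⸩) (hφ : LocRes.IsExpansionAt P.1 φ)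
    (i : ℕ) (hi : i < genus k K) :
    LocRes.vDiff φ (algebraMap (RatFunc k) K (RatFunc.X ^ i / algebraMap k[X] (RatFunc k) q)) xx
      ≤ 1 := by
  haveI : CharP k 2 := h2 ▸ ringChar.charP k
  haveI : CharP K 2 := charP_of_injective_algebraMap (algebraMap k K).injective 2
  haveI : CharP F 2 := charP_of_injective_algebraMap (algebraMap k F).injective 2
  have h2K : (2 : K) = 0 := by
    have := CharP.cast_eq_zero K 2
    exact_mod_cast this
  have hK₀ : IsFunctionField k (RatFunc k) := Groth.Agent.H62.FFRat.isFunctionField_ratFunc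
  have hfd : FiniteDimensional (RatFunc k) K := Module.finite_of_finrank_pos (by omega)
  have hinj : Function.Injective (algebraMap k[X] (RatFunc k)) :=
    IsFractionRing.injective k[X] (RatFunc k)
  have hqne : algebraMap k[X] (RatFunc k) q ≠ 0 := (map_ne_zero_iff _ hinj).mpr hq0
  have hX0 : (RatFunc.X : RatFunc k) ≠ 0 := RatFunc.X_ne_zero
  have hgen := Groth.Agent.H62.FFASGenus.genus_eq hK h2K hdeg hy heq (hodd_div hodd)
  obtain ⟨p, e, he⟩ := exists_place_under hK₀ P
  have hS := Groth.Agent.S12519.result k K h2 hdeg y hy f heq p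
  -- unfold vDiff
  have hv : LocRes.vDiff φ
      (algebraMap (RatFunc k) K (RatFunc.X ^ i / algebraMap k[X] (RatFunc k) q)) xx =
      (p.1 RatFunc.X ^ i / p.1 (algebraMap k[X] (RatFunc k) q)) ^ e *
        Valued.v (LocRes.D F (φ xx)) := by
    unfold LocRes.vDiff
    rw [map_mul, hφ.1, he, map_div₀, map_pow]
  rw [hv]
  have hvx : Valued.v (φ xx) = p.1 RatFunc.X ^ e := by rw [hφ.1, he]
  rcases le_or_gt (p.1 RatFunc.X) 1 with hfin | hinf
  · -- finite place
    have hEq := E_eq_ord_q hodd hq p hfin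
    have hXi : p.1 RatFunc.X ^ i ≤ 1 := pow_le_one₀ zero_le hfin
    rcases local_cases (hodd_div hodd) p with ⟨h1, h2'⟩ | ⟨hf0, h1, h2'⟩
    · -- no pole
      have hqval : p.1 (algebraMap k[X] (RatFunc k) q) = 1 := by
        rw [Place.val_eq_exp_neg_ord p hqne, ← hEq, h2']; simp
      rw [hqval, div_one]
      have hDle : Valued.v (LocRes.D F (φ xx)) ≤ 1 :=
        Groth.Agent.H63.MinpolyDiff.v_D_le_one _ (by rw [hvx]; exact pow_le_one₀ zero_le hfin)
      exact mul_le_one' (pow_le_one₀ zero_le hXi) hDle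
    · -- pole of odd order
      have hneg : p.ord f < 0 := by omega
      have hpole : 1 < p.1 f := (Place.ord_neg_iff p hf0).mp hneg
      have he2 : IsOverWith P p 2 := ((hS.1 ⟨hneg, hodd p hpole⟩).2 P ⟨e, he⟩).1
      have hee : e = 2 := by
        have h3 := ramIdx_eq he
        have h4 := ramIdx_eq he2
        omega
      subst hee
      obtain ⟨d, hd⟩ : ∃ d : ℕ, E f p = d := ⟨(E f p).toNat, by omega⟩
      have hm : Odd (2 * d - 1) := by
        have : 1 ≤ d := by omega
        exact ⟨d - 1, by omega⟩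
      have hval : p.1 f = exp (((2 * d - 1 : ℕ)) : ℤ) := by
        rw [Place.val_eq_exp_neg_ord p hf0, h2', hd]
        congr 1
        have : 1 ≤ d := by omega
        push_cast [Nat.cast_sub (by omega : 1 ≤ 2 * d)]
        ring
      have hD := finite_pole heq he hfin hm hval φ hφ
      have hqval : p.1 (algebraMap k[X] (RatFunc k) q) = exp (-(d : ℤ)) := by
        rw [Place.val_eq_exp_neg_ord p hqne, ← hEq, hd]
      rw [hD, hqval, div_eq_mul_inv, ← exp_neg, neg_neg, mul_pow, ← exp_nsmul, mul_assoc,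
        ← exp_add]
      have h0 : (2 : ℕ) • (d : ℤ) + -(((2 * d - 1 : ℕ) : ℤ) + 1) = 0 := by
        have : 1 ≤ d := by omega
        push_cast [Nat.cast_sub (by omega : 1 ≤ 2 * d)]
        simp only [nsmul_eq_mul]
        push_cast
        ring
      rw [h0, exp_zero, mul_one]
      exact pow_le_one₀ zero_le hXi
  · -- infinite place
    obtain ⟨hordX, -, -⟩ := infinite_place p hinf
    have hvX : p.1 (RatFunc.X : RatFunc k) = exp (1 : ℤ) := by
      rw [Place.val_eq_exp_neg_ord p hX0, hordX]; norm_num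
    have hqval : p.1 (algebraMap k[X] (RatFunc k) q) = exp (q.natDegree : ℤ) := by
      rw [Place.val_eq_exp_neg_ord p hqne, ord_poly_infinite p hinf hq0, neg_neg]
    have hdegE := deg_E_eq hodd hq0 hq p hinf
    have hi' : (i : ℤ) + 2 ≤ q.natDegree + E f p := by
      rw [← hdegE]; omega
    rw [hvX, hqval, ← exp_nsmul, ← exp_sub, ← exp_nsmul]
    rcases local_cases (hodd_div hodd) p with ⟨h1, h2'⟩ | ⟨hf0, h1, h2'⟩
    · -- no pole at infinity: unramified
      have hnn : 0 ≤ p.ord f := by
        by_cases hf0 : f = 0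
        · rw [hf0, Place.ord_zero]
        · exact (Place.ord_nonneg_iff p hf0).mpr h1
      have he1 : IsOverWith P p 1 := hS.2 hnn P ⟨e, he⟩
      have hee : e = 1 := by
        have h3 := ramIdx_eq he
        have h4 := ramIdx_eq he1
        omega
      subst hee
      have hvx' : Valued.v (φ xx) = exp (-(-(1 : ℤ))) := by
        rw [hvx, hvX, pow_one, neg_neg]
      have hD := v_D_tame_int (φ xx) (-(1 : ℤ)) hvx' (by simp)
      rw [hD, ← exp_add, ← exp_zero, exp_le_exp]
      simp only [nsmul_eq_mul]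
      push_cast
      omega
    · -- pole at infinity
      have hneg : p.ord f < 0 := by omega
      have hpole : 1 < p.1 f := (Place.ord_neg_iff p hf0).mp hneg
      have he2 : IsOverWith P p 2 := ((hS.1 ⟨hneg, hodd p hpole⟩).2 P ⟨e, he⟩).1
      have hee : e = 2 := by
        have h3 := ramIdx_eq he
        have h4 := ramIdx_eq he2
        omega
      subst hee
      obtain ⟨d, hd⟩ : ∃ d : ℕ, E f p = d := ⟨(E f p).toNat, by omega⟩
      have hm : Odd (2 * d - 1) := by
        have : 1 ≤ d := by omega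
        exact ⟨d - 1, by omega⟩
      have hval : p.1 f = exp (((2 * d - 1 : ℕ)) : ℤ) := by
        rw [Place.val_eq_exp_neg_ord p hf0, h2', hd]
        congr 1
        have : 1 ≤ d := by omega
        push_cast [Nat.cast_sub (by omega : 1 ≤ 2 * d)]
        ring
      have hD := infinite_pole heq he hinf hm hval φ hφ
      rw [hD, ← exp_add, ← exp_zero, exp_le_exp]
      have : 1 ≤ d := by omega
      push_cast [Nat.cast_sub (by omega : 1 ≤ 2 * d)]
      simp only [nsmul_eq_mul]
      push_cast
      rw [hd] at hi'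
      omega

/-- transfer of separability from the `RatFunc`-algebra presentation to `k⟮x⟯` -/
theorem isSeparable_adjoin_of_ratFunc [Algebra.IsSeparable (RatFunc k) K] :
    Algebra.IsSeparable k⟮xx⟯ K := by
  let e₁ : RatFunc k ≃+* k⟮xx⟯ :=
    (RatFunc.algEquivOfTranscendental xx (transcendental_X k K)).toRingEquiv
  refine Algebra.IsSeparable.of_equiv_equiv e₁ (RingEquiv.refl K) ?_
  ext r
  simp only [RingHom.comp_apply, RingEquiv.coe_ringHom_refl, RingHom.id_apply]
  exact (algebraMap_eq_ev r).symm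

/-- dimension count in the `RatFunc` presentation: regular `z dx` is `a(x)/w dx`, `deg a < g`,
once all `xⁱ/w dx`, `i < g`, are regular. -/
theorem span_regular_div [Algebra.IsSeparable (RatFunc k) K]
    (hK : IsFunctionField k K) (hg : IsGeometric k K)
    (F : Place k K → Type w) [∀ P, Field (F P)] [∀ P, Algebra k (F P)]
    [∀ P, FiniteDimensional k (F P)]
    (φ : ∀ P, K →ₐ[k] LaurentSeries (F P)) (hφ : ∀ P, LocRes.IsExpansionAt P.1 (φ P))
    {q : k[X]} (hq0 : q ≠ 0)
    (hreg : ∀ i : ℕ, i < genus k K → ∀ P, LocRes.vDiff (φ P)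
      (algebraMap (RatFunc k) K (RatFunc.X ^ i / algebraMap k[X] (RatFunc k) q)) xx ≤ 1) :
    ∀ z : K, (∀ P, LocRes.vDiff (φ P) z xx ≤ 1) →
      ∃ a : k[X], a.degree < (genus k K : WithBot ℕ) ∧
        z = algebraMap (RatFunc k) K
          (algebraMap k[X] (RatFunc k) a / algebraMap k[X] (RatFunc k) q) := by
  intro z hz
  haveI := isSeparable_adjoin_of_ratFunc (k := k) (K := K)
  obtain ⟨P₁⟩ := exists_place hK
  have hx : KaehlerDifferential.D k K xx ≠ 0 :=
    D_ne_zero_of_separable hK P₁ (φ P₁) (hφ P₁)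
  have hw0 : aeval xx q ≠ 0 := by
    intro h0
    exact hq0 ((transcendental_iff.mp (transcendental_X k K)) q h0)
  have hvi : ∀ i : ℕ, algebraMap (RatFunc k) K
      (RatFunc.X ^ i / algebraMap k[X] (RatFunc k) q) = xx ^ i / aeval xx q := by
    intro i
    rw [map_div₀, map_pow, algebraMap_poly]
  obtain ⟨c, hc⟩ := exists_comb_of_regular hK hg F φ hφ xx hx (n := genus k K) rfl
    (fun i : Fin (genus k K) => xx ^ (i : ℕ) / aeval xx q)
    (linearIndependent_pow_div (transcendental_X k K) hw0 _)
    (fun i P => by rw [← hvi]; exact hreg i i.2 P) z hz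
  refine ⟨∑ i : Fin (genus k K), Polynomial.C (c i) * Polynomial.X ^ (i : ℕ),
    Polynomial.degree_sum_fin_lt c, ?_⟩
  rw [map_div₀, algebraMap_poly, algebraMap_poly, hc, map_sum, Finset.sum_div]
  apply Finset.sum_congr rfl
  intro i _
  rw [map_mul, aeval_C, map_pow, aeval_X, Algebra.smul_def, mul_div_assoc]

end Groth.Agent.H63.ASDiff
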