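import Mathlib
import Groth.Agent.H63.ASDiff2

/-!
# Partial-fraction basis of the regular differentials of `y² + y = f(x)` in characteristic two

`f` has poles of odd order `d_α` at the points `x = α`, `α ∈ B ⊆ k` (`0 ∈ B`), and no others.
The forms `(x - α)^{-(j+1)} dx` (`1 ≤ j ≤ (d_α - 1)/2`) and `α/(x(x-α)) dx` (`α ≠ 0`) are a basis of the
regular differentials.
-/

open scoped Polynomial
open Polynomial IntermediateField FunFld Module LaurentSeries WithZero
open Groth.Agent.H55 Groth.Agent.H62.FFRat Groth.Agent.H63.HypLocal Groth.Agent.H63.ASLocal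
open Groth.Agent.H63.HypDiff Groth.Agent.H62.FFASGenus

universe u v w

set_option linter.style.haveILetI false
set_option autoImplicit false

namespace Groth.Agent.H63.ASPartial

variable {k : Type u} [Field k]

/-- the partial fractions `(x - α)^{-(m+1)}` -/
noncomputable def U (a : k × ℕ) : RatFunc k := ((RatFunc.X - RatFunc.C a.1)⁻¹) ^ (a.2 + 1)

theorem linearIndependent_U : LinearIndependent k (U (k := k)) := by
  classical
  rw [linearIndependent_iff']
  intro s g hg i hi
  set B' : Finset k := s.image Prod.fst with hB'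
  set N : ℕ := s.sup Prod.snd + 1 with hN
  set g' : k × ℕ → k := fun a => if a ∈ s then g a else 0 with hg'
  have hsub : s ⊆ B' ×ˢ Finset.range N := by
    intro a ha
    rw [Finset.mem_product, Finset.mem_range]
    refine ⟨Finset.mem_image_of_mem _ ha, ?_⟩
    have := Finset.le_sup (f := Prod.snd) ha
    omega
  have h1 : ∑ a ∈ B' ×ˢ Finset.range N, g' a • U a = 0 := by
    rw [← Finset.sum_subset hsub, ← hg]
    · apply Finset.sum_congr rfl
      intro a ha
      simp only [hg', if_pos ha]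
    · intro a _ ha
      simp only [hg', if_neg ha, zero_smul]
  rw [Finset.sum_product] at h1
  have hmonic : ∀ α ∈ B', (X - C α : k[X]).Monic := fun α _ => monic_X_sub_C α
  have hcop : Set.Pairwise (B' : Set k) fun a b => IsCoprime (X - C a : k[X]) (X - C b) := by
    intro a _ b _ hab
    exact Polynomial.isCoprime_X_sub_C_of_isUnit_sub (sub_ne_zero.mpr hab).isUnit
  have hgi : ∀ α ∈ B', ((RatFunc.X - RatFunc.C α : RatFunc k)⁻¹) *
      algebraMap k[X] (RatFunc k) (X - C α) = 1 := by
    intro α _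
    have hne : algebraMap k[X] (RatFunc k) (X - C α) ≠ 0 :=
      (map_ne_zero_iff _ (IsFractionRing.injective k[X] (RatFunc k))).mpr (X_sub_C_ne_zero α)
    rw [map_sub, RatFunc.algebraMap_X, RatFunc.algebraMap_C] at hne ⊢
    exact inv_mul_cancel₀ hne
  have huniq := Polynomial.quo_add_sum_rem_mul_pow_inverse_unique (K := RatFunc k) (s := B')
    (g := fun α => (X - C α : k[X])) hmonic hcop (n := fun _ => N)
    (gi := fun α => (RatFunc.X - RatFunc.C α : RatFunc k)⁻¹) hgi
    (q₁ := 0) (q₂ := 0) (r₁ := fun α m => C (g' (α, m))) (r₂ := fun _ _ => 0)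
    (fun α _ m => by
      rw [degree_X_sub_C]
      exact lt_of_le_of_lt degree_C_le (by norm_num))
    (fun α _ m => by simp)
    (by
      simp only [map_zero, zero_mul, Finset.sum_const_zero, zero_add, add_zero]
      rw [← h1]
      apply Finset.sum_congr rfl
      intro α _
      rw [Fin.sum_univ_eq_sum_range (fun m => algebraMap k[X] (RatFunc k) (C (g' (α, m))) *
        ((RatFunc.X - RatFunc.C α : RatFunc k)⁻¹) ^ (m + 1)) N]
      apply Finset.sum_congr rfl
      intro m _
      rw [RatFunc.algebraMap_C, ← RatFunc.smul_eq_C_mul]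
      rfl)
  have h2 := huniq.2 i.1 (Finset.mem_image_of_mem _ hi)
  have hi2 : i.2 < N := by
    have := Finset.le_sup (f := Prod.snd) hi
    omega
  have h3 := congrFun h2 ⟨i.2, hi2⟩
  simp only [hg', if_pos hi, C_eq_zero] at h3
  exact h3

theorem X_sub_C_ne_zero' (α : k) : (RatFunc.X - RatFunc.C α : RatFunc k) ≠ 0 := by
  have hne : algebraMap k[X] (RatFunc k) (X - C α) ≠ 0 :=
    (map_ne_zero_iff _ (IsFractionRing.injective k[X] (RatFunc k))).mpr (X_sub_C_ne_zero α)
  rwa [map_sub, RatFunc.algebraMap_X, RatFunc.algebraMap_C] at hne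

/-- the denominator `∏ (x - α)^{(d_α + 1)/2}` -/
noncomputable def q (B : Finset k) (d : k → ℕ) : k[X] := ∏ α ∈ B, (X - C α) ^ ((d α + 1) / 2)

theorem q_monic (B : Finset k) (d : k → ℕ) : (q B d).Monic :=
  monic_prod_of_monic _ _ fun α _ => (monic_X_sub_C α).pow _

theorem q_ne_zero (B : Finset k) (d : k → ℕ) : q B d ≠ 0 := (q_monic B d).ne_zero

theorem natDegree_q (B : Finset k) (d : k → ℕ) :
    (q B d).natDegree = ∑ α ∈ B, (d α + 1) / 2 := by
  rw [q, natDegree_prod_of_monic _ _ fun α _ => (monic_X_sub_C α).pow _]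
  apply Finset.sum_congr rfl
  intro α _
  rw [(monic_X_sub_C α).natDegree_pow, natDegree_X_sub_C, mul_one]

theorem algebraMap_q (B : Finset k) (d : k → ℕ) :
    algebraMap k[X] (RatFunc k) (q B d) =
      ∏ α ∈ B, (RatFunc.X - RatFunc.C α) ^ ((d α + 1) / 2) := by
  rw [q, map_prod]
  apply Finset.prod_congr rfl
  intro α _
  rw [map_pow, map_sub, RatFunc.algebraMap_X, RatFunc.algebraMap_C]

section places

variable {f : RatFunc k} {B : Finset k} {d : k → ℕ}

/-- at a finite place where `x - β` vanishes, the other `x - α` are units -/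
theorem val_X_sub_C_eq_one (p : Place k (RatFunc k)) {α β : k} (hαβ : α ≠ β)
    (hβ : p.1 (RatFunc.X - RatFunc.C β) < 1) : p.1 (RatFunc.X - RatFunc.C α) = 1 := by
  have h1 : (RatFunc.X - RatFunc.C α : RatFunc k) =
      algebraMap k (RatFunc k) (β - α) + (RatFunc.X - RatFunc.C β) := by
    rw [RatFunc.algebraMap_eq_C, map_sub]; ring
  have h2 : p.1 (algebraMap k (RatFunc k) (β - α)) = 1 :=
    Place.val_algebraMap_eq_one p (sub_ne_zero.mpr hαβ.symm)
  rw [h1, Valuation.map_add_eq_of_lt_left, h2]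
  rw [h2]; exact hβ

theorem ord_X_sub_C (p : Place k (RatFunc k)) {β : k}
    (hβ : p.1 (RatFunc.X - RatFunc.C β) < 1) : p.ord (RatFunc.X - RatFunc.C β) = 1 := by
  have hfin : p.1 RatFunc.X ≤ 1 := by
    have h1 : (RatFunc.X : RatFunc k) = (RatFunc.X - RatFunc.C β) + algebraMap k (RatFunc k) β := by
      rw [RatFunc.algebraMap_eq_C]; ring
    rw [h1]
    exact le_trans (p.1.map_add _ _) (max_le hβ.le (Place.val_algebraMap_le_one p β))
  have h2 : algebraMap k[X] (RatFunc k) (X - C β) = RatFunc.X - RatFunc.C β := by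
    rw [map_sub, RatFunc.algebraMap_X, RatFunc.algebraMap_C]
  have h3 := ord_squarefree p hfin (irreducible_X_sub_C β).squarefree
  rw [h2] at h3
  exact h3 ((Place.ord_pos_iff p (X_sub_C_ne_zero' β)).mpr hβ)

variable (hd : ∀ α ∈ B, Odd (d α))
    (hpole : ∀ (p : Place k (RatFunc k)) (α : k), α ∈ B →
      p.1 ((RatFunc.X : RatFunc k) - RatFunc.C α) < 1 → p.ord f = -(d α : ℤ))
    (hint : ∀ p : Place k (RatFunc k),
      (∀ α ∈ B, 1 ≤ p.1 ((RatFunc.X : RatFunc k) - RatFunc.C α)) → p.1 f ≤ 1)

include hd hpole hint in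
theorem hodd (p : Place k (RatFunc k)) (hp : 1 < p.1 f) : Odd (p.ord f) := by
  by_cases h : ∀ α ∈ B, 1 ≤ p.1 ((RatFunc.X : RatFunc k) - RatFunc.C α)
  · exact absurd (hint p h) (not_le.mpr hp)
  · push Not at h
    obtain ⟨β, hβ, hlt⟩ := h
    rw [hpole p β hβ hlt]
    exact (Int.odd_coe_nat _).mpr (hd β hβ) |>.neg

include hd hpole hint in
theorem hq (p : Place k (RatFunc k)) (hfin : p.1 RatFunc.X ≤ 1) :
    p.ord (algebraMap k[X] (RatFunc k) (q B d)) =
      if 1 < p.1 f then (1 - p.ord f) / 2 else 0 := by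
  classical
  have hqne : algebraMap k[X] (RatFunc k) (q B d) ≠ 0 :=
    (map_ne_zero_iff _ (IsFractionRing.injective k[X] (RatFunc k))).mpr (q_ne_zero B d)
  have hv : p.1 (algebraMap k[X] (RatFunc k) (q B d)) =
      ∏ α ∈ B, p.1 (RatFunc.X - RatFunc.C α) ^ ((d α + 1) / 2) := by
    rw [algebraMap_q, map_prod]
    apply Finset.prod_congr rfl
    intro α _
    rw [map_pow]
  by_cases h : ∀ α ∈ B, 1 ≤ p.1 ((RatFunc.X : RatFunc k) - RatFunc.C α)
  · rw [if_neg (not_lt.mpr (hint p h)), Place.ord_eq_iff p hqne, hv, neg_zero, exp_zero]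
    apply Finset.prod_eq_one
    intro α hα
    have h1 : p.1 (RatFunc.X - RatFunc.C α) ≤ 1 := by
      have := val_poly_le_one p hfin (X - C α)
      rwa [map_sub, RatFunc.algebraMap_X, RatFunc.algebraMap_C] at this
    rw [le_antisymm h1 (h α hα), one_pow]
  · push Not at h
    obtain ⟨β, hβ, hlt⟩ := h
    have hordf := hpole p β hβ hlt
    obtain ⟨m, hm⟩ := hd β hβ
    have hf0 : f ≠ 0 := by
      rintro rfl
      rw [Place.ord_zero] at hordf
      omega
    have hpf : 1 < p.1 f := (Place.ord_neg_iff p hf0).mp (by rw [hordf]; omega)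
    rw [if_pos hpf, Place.ord_eq_iff p hqne, hv, Finset.prod_eq_single_of_mem β hβ]
    · rw [Place.val_eq_exp_neg_ord p (X_sub_C_ne_zero' β), ord_X_sub_C p hlt, ← exp_nsmul, hordf]
      congr 1
      rw [hm]
      simp only [nsmul_eq_mul]
      push_cast
      omega
    · intro α _ hαβ
      rw [val_X_sub_C_eq_one p hαβ hlt, one_pow]

include hint in
theorem E_infinite (p : Place k (RatFunc k)) (hinf : 1 < p.1 RatFunc.X) : E f p = 0 := by
  have hK₀ := Groth.Agent.H62.FFRat.isFunctionField_ratFunc (k := k)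
  have h1 : p.1 f ≤ 1 := by
    apply hint p
    intro α _
    have h2 : p.1 (RatFunc.C α) < p.1 RatFunc.X := by
      rw [← RatFunc.algebraMap_eq_C]
      exact lt_of_le_of_lt (Place.val_algebraMap_le_one p α) hinf
    rw [Valuation.map_sub_eq_of_lt_left _ h2]
    exact hinf.le
  rw [E_apply, Place.div_apply hK₀, if_neg]
  rw [not_lt]
  by_cases hf0 : f = 0
  · rw [hf0, Place.ord_zero]
  · exact (Place.ord_nonneg_iff p hf0).mpr h1

end places

section family

variable (B : Finset k) (d : k → ℕ)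

abbrev I1 := {a : ↥B × ℕ // 1 ≤ a.2 ∧ 2 * a.2 + 1 ≤ d (a.1 : k)}
abbrev I2 := {b : ↥B // (b : k) ≠ 0}

/-- the family of the statement, inside `k(x)` -/
noncomputable def w : I1 B d ⊕ I2 B → RatFunc k :=
  Sum.elim
    (fun a => ((RatFunc.X : RatFunc k) - RatFunc.C (a.1.1 : k))⁻¹ ^ (a.1.2 + 1))
    (fun b => RatFunc.C (b.1 : k) / ((RatFunc.X : RatFunc k) * ((RatFunc.X : RatFunc k) - RatFunc.C (b.1 : k))))

/-- coordinates of the family in terms of the partial fractions -/
noncomputable def W : I1 B d ⊕ I2 B → (k × ℕ →₀ k) :=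
  Sum.elim (fun a => Finsupp.single ((a.1.1 : k), a.1.2) 1)
    (fun b => Finsupp.single ((b.1 : k), 0) 1 - Finsupp.single ((0 : k), 0) 1)

theorem w_eq : w B d = Finsupp.linearCombination k (U (k := k)) ∘ W B d := by
  funext i
  rcases i with a | b
  · simp only [w, W, Sum.elim_inl, Function.comp_apply, Finsupp.linearCombination_single, one_smul, U]
  · simp only [w, W, Sum.elim_inr, Function.comp_apply, map_sub, Finsupp.linearCombination_single,
      one_smul, U, zero_add, pow_one, map_zero, sub_zero]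
    have h1 := X_sub_C_ne_zero' (b.1 : k)
    have h2 : (RatFunc.X : RatFunc k) ≠ 0 := RatFunc.X_ne_zero
    field_simp
    ring

theorem linearIndependent_W : LinearIndependent k (W B d) := by
  classical
  rw [linearIndependent_iff']
  intro s g hg i hi
  rcases i with a | b
  · have h1 := DFunLike.congr_fun hg ((a.1.1 : k), a.1.2)
    rw [Finsupp.finsetSum_apply, Finsupp.zero_apply] at h1
    rw [Finset.sum_eq_single_of_mem _ hi] at h1
    · simpa [W] using h1
    · intro j _ hj
      rcases j with a' | b'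
      · simp only [W, Sum.elim_inl, Finsupp.smul_apply, smul_eq_mul]
        rw [Finsupp.single_apply, if_neg, mul_zero]
        intro h
        apply hj
        congr 1
        apply Subtype.ext
        apply Prod.ext
        · exact Subtype.ext (Prod.mk.inj h).1
        · exact (Prod.mk.inj h).2
      · have ha := a.2.1
        simp only [W, Sum.elim_inr, Finsupp.smul_apply, smul_eq_mul, Finsupp.sub_apply]
        rw [Finsupp.single_apply, Finsupp.single_apply, if_neg, if_neg]
        · simp
        · intro h; have := congrArg Prod.snd h; simp at this; omega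
        · intro h; have := congrArg Prod.snd h; simp at this; omega
  · have h1 := DFunLike.congr_fun hg ((b.1 : k), 0)
    rw [Finsupp.finsetSum_apply, Finsupp.zero_apply] at h1
    rw [Finset.sum_eq_single_of_mem _ hi] at h1
    · have hb := b.2
      simp only [W, Sum.elim_inr, Finsupp.smul_apply, smul_eq_mul, Finsupp.sub_apply,
        Finsupp.single_eq_same] at h1
      rw [Finsupp.single_apply, if_neg] at h1
      · simpa using h1
      · intro h; exact hb (congrArg Prod.fst h).symm
    · intro j _ hj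
      rcases j with a' | b'
      · have ha := a'.2.1
        simp only [W, Sum.elim_inl, Finsupp.smul_apply, smul_eq_mul]
        rw [Finsupp.single_apply, if_neg, mul_zero]
        intro h; have := congrArg Prod.snd h; simp at this; omega
      · have hb := b.2
        simp only [W, Sum.elim_inr, Finsupp.smul_apply, smul_eq_mul, Finsupp.sub_apply]
        rw [Finsupp.single_apply, Finsupp.single_apply, if_neg, if_neg]
        · simp
        · intro h; exact hb (congrArg Prod.fst h).symm
        · intro h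
          apply hj
          congr 1
          apply Subtype.ext
          exact Subtype.ext (congrArg Prod.fst h)

theorem linearIndependent_w : LinearIndependent k (w B d) := by
  rw [w_eq]
  exact (linearIndependent_W B d).map' _ (LinearMap.ker_eq_bot.mpr linearIndependent_U)

/-- the index set `I1` as a finset of a sigma type -/
noncomputable def S1 : Finset (Σ _ : ↥B, ℕ) :=
  (Finset.univ : Finset ↥B).sigma (fun α => Finset.Icc 1 ((d (α : k) - 1) / 2))

noncomputable def equivS1 : I1 B d ≃ ↥(S1 B d) where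
  toFun a := ⟨⟨a.1.1, a.1.2⟩, by
    have := a.2
    simp only [S1, Finset.mem_sigma, Finset.mem_univ, Finset.mem_Icc, true_and]
    omega⟩
  invFun s := ⟨(s.1.1, s.1.2), by
    have := s.2
    simp only [S1, Finset.mem_sigma, Finset.mem_univ, Finset.mem_Icc, true_and] at this
    show 1 ≤ s.1.2 ∧ 2 * s.1.2 + 1 ≤ d (s.1.1 : k)
    omega⟩
  left_inv a := by rfl
  right_inv s := by rfl

instance : Finite (I1 B d) := Finite.of_equiv _ (equivS1 B d).symm

omit [Field k] in
theorem card_I1 : Nat.card (I1 B d) = ∑ α ∈ B, (d α - 1) / 2 := by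
  classical
  rw [Nat.card_congr (equivS1 B d), Nat.card_eq_fintype_card, Fintype.card_coe, S1,
    Finset.card_sigma]
  simp only [Nat.card_Icc, add_tsub_cancel_right]
  exact Finset.sum_coe_sort B (fun α => (d α - 1) / 2)

theorem card_I2 (h0 : (0 : k) ∈ B) : Nat.card (I2 B) = B.card - 1 := by
  classical
  rw [Nat.card_eq_fintype_card, Fintype.card_subtype]
  have : (Finset.univ.filter fun b : ↥B => (b : k) ≠ 0) = Finset.univ.erase ⟨0, h0⟩ := by
    ext b
    simp only [Finset.mem_filter, Finset.mem_univ, true_and, Finset.mem_erase, and_true, ne_eq]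
    rw [Subtype.ext_iff]
  rw [this, Finset.card_erase_of_mem (Finset.mem_univ _), Finset.card_univ, Fintype.card_coe]

theorem card_I (h0 : (0 : k) ∈ B) (hd : ∀ α ∈ B, Odd (d α)) :
    Nat.card (I1 B d ⊕ I2 B) + 1 = ∑ α ∈ B, (d α + 1) / 2 := by
  rw [Nat.card_sum, card_I1, card_I2 B h0]
  have hpos : 0 < B.card := Finset.card_pos.mpr ⟨0, h0⟩
  have h1 : ∑ α ∈ B, (d α + 1) / 2 = ∑ α ∈ B, ((d α - 1) / 2 + 1) := by
    apply Finset.sum_congr rfl
    intro α hα
    obtain ⟨m, hm⟩ := hd α hα
    omega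
  rw [h1, Finset.sum_add_distrib, Finset.sum_const, smul_eq_mul, mul_one]
  omega

variable {B d}

theorem pow_dvd_q {α : k} (hα : α ∈ B) {m : ℕ} (hm : m ≤ (d α + 1) / 2) :
    (X - C α) ^ m ∣ q B d :=
  dvd_trans (pow_dvd_pow _ hm) (Finset.dvd_prod_of_mem (fun α => (X - C α) ^ ((d α + 1) / 2)) hα)

/-- every member of the family is `a / q` with `deg a ≤ deg q - 2` -/
theorem w_eq_div (h0 : (0 : k) ∈ B) (hd : ∀ α ∈ B, Odd (d α)) (i : I1 B d ⊕ I2 B) :
    ∃ a : k[X], a.natDegree + 2 ≤ (q B d).natDegree ∧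
      w B d i = algebraMap k[X] (RatFunc k) a / algebraMap k[X] (RatFunc k) (q B d) := by
  have hinj : Function.Injective (algebraMap k[X] (RatFunc k)) :=
    IsFractionRing.injective k[X] (RatFunc k)
  have hq0 := q_ne_zero B d
  rcases i with a | b
  · obtain ⟨⟨⟨α, hα⟩, j⟩, hj1, hj2⟩ := a
    simp only at hj1 hj2
    obtain ⟨a', ha'⟩ := pow_dvd_q (d := d) hα (m := j + 1) (by omega)
    have ha'0 : a' ≠ 0 := by
      rintro rfl
      rw [mul_zero] at ha'
      exact hq0 ha'
    refine ⟨a', ?_, ?_⟩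
    · rw [ha', natDegree_mul (pow_ne_zero _ (X_sub_C_ne_zero α)) ha'0,
        (monic_X_sub_C α).natDegree_pow, natDegree_X_sub_C]
      omega
    · simp only [w, Sum.elim_inl]
      rw [ha', map_mul, map_pow, map_sub, RatFunc.algebraMap_X, RatFunc.algebraMap_C]
      have h1 := X_sub_C_ne_zero' α
      have h2 : algebraMap k[X] (RatFunc k) a' ≠ 0 := (map_ne_zero_iff _ hinj).mpr ha'0
      rw [inv_pow, eq_div_iff (mul_ne_zero (pow_ne_zero _ h1) h2), ← mul_assoc,
        inv_mul_cancel₀ (pow_ne_zero _ h1), one_mul]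
  · obtain ⟨⟨β, hβ⟩, hβ0⟩ := b
    simp only at hβ0
    have hX : (X : k[X]) ∣ q B d := by
      have := pow_dvd_q (d := d) h0 (m := 1) (by obtain ⟨m, hm⟩ := hd 0 h0; omega)
      rwa [pow_one, C_0, sub_zero] at this
    have hXβ : (X - C β : k[X]) ∣ q B d := by
      have := pow_dvd_q (d := d) hβ (m := 1) (by obtain ⟨m, hm⟩ := hd β hβ; omega)
      rwa [pow_one] at this
    have hcop : IsCoprime (X : k[X]) (X - C β) := by
      have := Polynomial.isCoprime_X_sub_C_of_isUnit_sub (R := k) (a := 0) (b := β)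
        (by rw [zero_sub]; exact (neg_ne_zero.mpr hβ0).isUnit)
      rwa [C_0, sub_zero] at this
    obtain ⟨a', ha'⟩ := hcop.mul_dvd hX hXβ
    have ha'0 : a' ≠ 0 := by
      rintro rfl
      rw [mul_zero] at ha'
      exact hq0 ha'
    refine ⟨C β * a', ?_, ?_⟩
    · have h1 : (q B d).natDegree = 2 + a'.natDegree := by
        rw [ha', natDegree_mul (mul_ne_zero X_ne_zero (X_sub_C_ne_zero β)) ha'0,
          natDegree_mul X_ne_zero (X_sub_C_ne_zero β), natDegree_X, natDegree_X_sub_C]
      have h2 := natDegree_C_mul_le β a'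
      omega
    · simp only [w, Sum.elim_inr]
      rw [ha', map_mul, map_mul, map_mul, map_sub, RatFunc.algebraMap_X, RatFunc.algebraMap_C]
      have h1 := X_sub_C_ne_zero' β
      have h2 : algebraMap k[X] (RatFunc k) a' ≠ 0 := (map_ne_zero_iff _ hinj).mpr ha'0
      have h3 : (RatFunc.X : RatFunc k) ≠ 0 := RatFunc.X_ne_zero
      field_simp

end family

section curve

variable {K : Type v} [Field K] [Algebra k K] [Algebra (RatFunc k) K]
  [IsScalarTower k (RatFunc k) K]

local notation "xx" => algebraMap (RatFunc k) K RatFunc.X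

omit [Algebra (RatFunc k) K] [IsScalarTower k (RatFunc k) K] in
/-- `k`-linear combinations of regular differentials (at one place) are regular -/
theorem vDiff_sum_le {F : Type w} [Field F] [Algebra k F] {P : Place k K}
    (φ : K →ₐ[k] F⸨X⸩) (hφ : LocRes.IsExpansionAt P.1 φ) (x : K) {ι : Type*} (s : Finset ι)
    (c : ι → k) (z : ι → K) (h : ∀ i ∈ s, LocRes.vDiff φ (z i) x ≤ 1) :
    LocRes.vDiff φ (∑ i ∈ s, c i • z i) x ≤ 1 := by
  unfold LocRes.vDiff at h ⊢
  rw [map_sum, Finset.sum_mul]
  apply Valuation.map_sum_le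
  intro i hi
  rw [Algebra.smul_def, map_mul φ, mul_assoc, Valuation.map_mul, hφ.1]
  exact mul_le_one' (Place.val_algebraMap_le_one P (c i)) (h i hi)

variable {f : RatFunc k} {B : Finset k} {d : k → ℕ}

theorem genus_add_one [PerfectField k] (h2 : ringChar k = 2) (hK : IsFunctionField k K)
    (hdeg : finrank (RatFunc k) K = 2) [Algebra.IsSeparable (RatFunc k) K]
    {y : K} (hy : y ∉ Set.range (algebraMap (RatFunc k) K))
    (heq : y ^ 2 + y = algebraMap (RatFunc k) K f)
    (hd : ∀ α ∈ B, Odd (d α))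
    (hpole : ∀ (p : Place k (RatFunc k)) (α : k), α ∈ B →
      p.1 ((RatFunc.X : RatFunc k) - RatFunc.C α) < 1 → p.ord f = -(d α : ℤ))
    (hint : ∀ p : Place k (RatFunc k),
      (∀ α ∈ B, 1 ≤ p.1 ((RatFunc.X : RatFunc k) - RatFunc.C α)) → p.1 f ≤ 1) :
    genus k K + 1 = (q B d).natDegree := by
  haveI : CharP k 2 := h2 ▸ ringChar.charP k
  haveI : CharP K 2 := charP_of_injective_algebraMap (algebraMap k K).injective 2
  have h2K : (2 : K) = 0 := by
    have := CharP.cast_eq_zero K 2
    exact_mod_cast this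
  have hK₀ : IsFunctionField k (RatFunc k) := Groth.Agent.H62.FFRat.isFunctionField_ratFunc
  have hodd' := hodd hd hpole hint
  have hgen := Groth.Agent.H62.FFASGenus.genus_eq hK h2K hdeg hy heq (Groth.Agent.H63.ASDiff.hodd_div hodd')
  obtain ⟨pinf, hinf⟩ := exists_pole hK₀ (RatFunc.transcendental_X (K := k))
  have hdegE := Groth.Agent.H63.ASDiff.deg_E_eq hodd' (q_ne_zero B d) (hq hd hpole hint) pinf hinf
  rw [E_infinite hint pinf hinf, add_zero] at hdegE
  rw [hdegE] at hgen
  omega

theorem regular_poly [PerfectField k] (h2 : ringChar k = 2) (hK : IsFunctionField k K)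
    (hdeg : finrank (RatFunc k) K = 2) [Algebra.IsSeparable (RatFunc k) K]
    {y : K} (hy : y ∉ Set.range (algebraMap (RatFunc k) K))
    (heq : y ^ 2 + y = algebraMap (RatFunc k) K f)
    (hd : ∀ α ∈ B, Odd (d α))
    (hpole : ∀ (p : Place k (RatFunc k)) (α : k), α ∈ B →
      p.1 ((RatFunc.X : RatFunc k) - RatFunc.C α) < 1 → p.ord f = -(d α : ℤ))
    (hint : ∀ p : Place k (RatFunc k),
      (∀ α ∈ B, 1 ≤ p.1 ((RatFunc.X : RatFunc k) - RatFunc.C α)) → p.1 f ≤ 1)
    {F : Type w} [Field F] [Algebra k F] [FiniteDimensional k F] (P : Place k K)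
    (φ : K →ₐ[k] F⸨X⸩) (hφ : LocRes.IsExpansionAt P.1 φ)
    (a : k[X]) (ha : a.natDegree < genus k K) :
    LocRes.vDiff φ (algebraMap (RatFunc k) K
      (algebraMap k[X] (RatFunc k) a / algebraMap k[X] (RatFunc k) (q B d))) xx ≤ 1 := by
  have h1 : algebraMap (RatFunc k) K
      (algebraMap k[X] (RatFunc k) a / algebraMap k[X] (RatFunc k) (q B d)) =
      ∑ i ∈ Finset.range (genus k K), a.coeff i • algebraMap (RatFunc k) K
        (RatFunc.X ^ i / algebraMap k[X] (RatFunc k) (q B d)) := by
    conv_lhs => rw [a.as_sum_range' (genus k K) ha]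
    rw [map_sum, Finset.sum_div, map_sum]
    apply Finset.sum_congr rfl
    intro i _
    rw [← C_mul_X_pow_eq_monomial, map_mul, map_pow, RatFunc.algebraMap_X, RatFunc.algebraMap_C,
      mul_div_assoc, ← RatFunc.algebraMap_eq_C, ← Algebra.smul_def]
    exact map_smul (IsScalarTower.toAlgHom k (RatFunc k) K) _ _
  rw [h1]
  apply vDiff_sum_le φ hφ
  intro i hi
  exact Groth.Agent.H63.ASDiff.regular h2 hK hdeg hy heq (hodd hd hpole hint) (q_ne_zero B d) (hq hd hpole hint) P φ hφ i
    (Finset.mem_range.mp hi)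

/-- the main theorem: the partial-fraction family is a basis of the regular differentials -/
theorem main [PerfectField k] (h2 : ringChar k = 2) (hK : IsFunctionField k K)
    (hdeg : finrank (RatFunc k) K = 2) [Algebra.IsSeparable (RatFunc k) K]
    {y : K} (hy : y ∉ Set.range (algebraMap (RatFunc k) K))
    (heq : y ^ 2 + y = algebraMap (RatFunc k) K f)
    (h0 : (0 : k) ∈ B) (hd : ∀ α ∈ B, Odd (d α))
    (hpole : ∀ (p : Place k (RatFunc k)) (α : k), α ∈ B →
      p.1 ((RatFunc.X : RatFunc k) - RatFunc.C α) < 1 → p.ord f = -(d α : ℤ))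
    (hint : ∀ p : Place k (RatFunc k),
      (∀ α ∈ B, 1 ≤ p.1 ((RatFunc.X : RatFunc k) - RatFunc.C α)) → p.1 f ≤ 1)
    (F : Place k K → Type w) [∀ P, Field (F P)] [∀ P, Algebra k (F P)]
    [∀ P, FiniteDimensional k (F P)]
    (φ : ∀ P, K →ₐ[k] LaurentSeries (F P)) (hφ : ∀ P, LocRes.IsExpansionAt P.1 (φ P)) :
    (∀ i P, LocRes.vDiff (φ P) ((algebraMap (RatFunc k) K ∘ w B d) i) xx ≤ 1) ∧
    LinearIndependent k (algebraMap (RatFunc k) K ∘ w B d) ∧
    ∀ z : K, (∀ P, LocRes.vDiff (φ P) z xx ≤ 1) →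
      z ∈ Submodule.span k (Set.range (algebraMap (RatFunc k) K ∘ w B d)) := by
  have hg : IsGeometric k K := Groth.Agent.H55.isGeometric_of_perfectField k K hK
  have hgenus := genus_add_one h2 hK hdeg hy heq hd hpole hint
  have hreg : ∀ i P, LocRes.vDiff (φ P) ((algebraMap (RatFunc k) K ∘ w B d) i) xx ≤ 1 := by
    intro i P
    obtain ⟨a, ha, hw⟩ := w_eq_div h0 hd i
    rw [Function.comp_apply, hw]
    exact regular_poly h2 hK hdeg hy heq hd hpole hint P (φ P) (hφ P) a (by omega)
  have hli : LinearIndependent k (algebraMap (RatFunc k) K ∘ w B d) := by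
    have := (linearIndependent_w B d).map' (IsScalarTower.toAlgHom k (RatFunc k) K).toLinearMap
      (LinearMap.ker_eq_bot.mpr (algebraMap (RatFunc k) K).injective)
    exact this
  refine ⟨hreg, hli, ?_⟩
  intro z hz
  haveI := Groth.Agent.H63.ASDiff.isSeparable_adjoin_of_ratFunc (k := k) (K := K)
  obtain ⟨P₁⟩ := exists_place hK
  have hx : KaehlerDifferential.D k K xx ≠ 0 :=
    D_ne_zero_of_separable hK P₁ (φ P₁) (hφ P₁)
  have hcard : Nat.card (I1 B d ⊕ I2 B) = genus k K := by
    have := card_I B d h0 hd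
    rw [← natDegree_q] at this
    omega
  let e : I1 B d ⊕ I2 B ≃ Fin (genus k K) := Finite.equivFinOfCardEq hcard
  obtain ⟨c, hc⟩ := exists_comb_of_regular hK hg F φ hφ xx hx (n := genus k K) rfl
    ((algebraMap (RatFunc k) K ∘ w B d) ∘ e.symm)
    (hli.comp _ e.symm.injective) (fun i P => hreg _ P) z hz
  rw [hc]
  apply Submodule.sum_mem
  intro i _
  exact Submodule.smul_mem _ _ (Submodule.subset_span ⟨e.symm i, rfl⟩)

end curve

end Groth.Agent.H63.ASPartial
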