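import Mathlib.RingTheory.Noetherian.Defs
import Mathlib.RingTheory.Ideal.Maps
import Mathlib.Algebra.Ring.Hom.Defs

set_option autoImplicit false
universe u

namespace Groth.Agent.H63

/-- A surjective ring endomorphism of a Noetherian ring is injective. -/
theorem injective_of_surjective_ringEnd {R : Type*} [CommRing R] [IsNoetherianRing R] (φ : R →+* R)
    (hφ : Function.Surjective φ) : Function.Injective φ := by
  have hmono : Monotone (fun n : ℕ => RingHom.ker (φ ^ n)) := by
    apply monotone_nat_of_le_succ
    intro n x hx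
    rw [RingHom.mem_ker] at hx ⊢
    rw [pow_succ', RingHom.mul_def, RingHom.comp_apply, hx, map_zero]
  obtain ⟨n, hn⟩ := monotone_stabilizes_iff_noetherian.2 (inferInstance : IsNoetherian R R) ⟨_, hmono⟩
  have hsurj : Function.Surjective (φ ^ n) := by
    rw [RingHom.coe_pow]
    exact hφ.iterate n
  rw [injective_iff_map_eq_zero]
  intro x hx
  obtain ⟨y, rfl⟩ := hsurj x
  have h1 : y ∈ RingHom.ker (φ ^ (n + 1)) := by
    rw [RingHom.mem_ker, pow_succ', RingHom.mul_def, RingHom.comp_apply, hx]
  have h2 : RingHom.ker (φ ^ n) = RingHom.ker (φ ^ (n + 1)) := hn (n + 1) (Nat.le_succ n)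
  rw [← h2] at h1
  exact h1

end Groth.Agent.H63
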