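import Groth.Agent.H63.CRingHom
import Groth.Agent.H63.NoethEndo
import Groth.Agent.H63.ArtVersal

set_option autoImplicit false
set_option linter.style.haveILetI false
universe u v
open CategoryTheory

namespace Groth.Agent.H63

open ArtFun ArtFun.Art

variable {Λ : Type u} {k : Type u} [CommRing Λ] [Field k] [Algebra Λ k]

theorem isVersal_of_isUniversal {R : Type u} [CommRing R] [Algebra Λ R] {resR : R →ₐ[Λ] k}
    {F : Art Λ k ⥤ Type v} (ξ : Family R resR F) (h : IsUniversal ξ) : IsVersal ξ := by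
  intro B A μ _ φ y hy
  obtain ⟨ψ, hψ⟩ := (h B).2 y
  refine ⟨ψ, ?_, hψ⟩
  apply (h A).1
  rw [ξ.natural, hψ, hy]

theorem h0_of_isUniversal {R : Type u} [CommRing R] [Algebra Λ R] {resR : R →ₐ[Λ] k}
    {F : Art Λ k ⥤ Type v} (ξ : Family R resR F) (h : IsUniversal ξ) : H0 F := by
  refine ⟨⟨ξ.app _ (homSetBase R resR)⟩, ⟨fun x y => ?_⟩⟩
  obtain ⟨a, rfl⟩ := (h _).2 x
  obtain ⟨b, rfl⟩ := (h _).2 y
  rw [homSet_base_eq a, homSet_base_eq b]

theorem exists_pow_succ_eq_bot (B : Art Λ k) : ∃ n : ℕ, IsLocalRing.maximalIdeal B ^ (n + 1) = ⊥ := by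
  obtain ⟨n, hn⟩ := maximalIdeal_nilpotent B
  refine ⟨n, ?_⟩
  rw [eq_bot_iff, ← hn]
  exact Ideal.pow_le_pow_right (Nat.le_succ n)

/-- An endomorphism of a prorepresentable functor which is bijective on the tangent space is bijective. -/
theorem bijective_of_tangent_bijective {U : Art Λ k ⥤ Type v} (P : ProRep U) (φ : U ⟶ U)
    (hd : Function.Bijective (φ.app (dual Λ k))) (A : Art Λ k) : Function.Bijective (φ.app A) := by
  obtain ⟨R, ξ, hu⟩ := P
  have hv := isVersal_of_isUniversal ξ hu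
  have h0 := h0_of_isUniversal ξ hu
  let ξ' : Family R.carrier R.res U :=
    { app := fun A ψ => φ.app A (ξ.app A ψ)
      natural := fun f ψ => by rw [ξ.natural, NatTrans.naturality_apply] }
  obtain ⟨g, hg, hgξ⟩ := exists_along_of_isVersal h0 R ξ hv R ξ'.toFormalElt
  let pre : ∀ B : Art Λ k, HomSet R.carrier R.res B → HomSet R.carrier R.res B :=
    fun B ψ => ⟨ψ.1.comp g, by rw [← AlgHom.comp_assoc, ψ.2, hg]⟩
  have hn : ∀ n, ξ.app _ (pre _ (R.truncHom n)) = φ.app _ (ξ.app _ (R.truncHom n)) :=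
    fun n => congrArg (fun t : FormalElt U R => t.elt n) hgξ
  have key : ∀ (B : Art Λ k) (ψ : HomSet R.carrier R.res B), φ.app B (ξ.app B ψ) = ξ.app B (pre B ψ) := by
    intro B ψ
    obtain ⟨n, hB⟩ := exists_pow_succ_eq_bot B
    obtain ⟨ψ', rfl⟩ := CR.exists_factor_trunc R n B hB ψ
    rw [ξ.natural, NatTrans.naturality_apply, ← hn n, ← ξ.natural]
    rfl
  have hpre_inj : ∀ ψ₁ ψ₂ : HomSet R.carrier R.res (dual Λ k), ψ₁.1.comp g = ψ₂.1.comp g → ψ₁ = ψ₂ := by
    intro ψ₁ ψ₂ h
    apply (hu _).1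
    apply hd.1
    rw [key, key]
    congr 1
    exact Subtype.ext h
  have hgs := CR.surjective_of_dual_injective R R g hg hpre_inj
  have hgi : Function.Injective g := injective_of_surjective_ringEnd g.toRingHom hgs
  let e : R.carrier ≃ₐ[Λ] R.carrier := AlgEquiv.ofBijective g ⟨hgi, hgs⟩
  have heg : ∀ x, e.symm (g x) = x := fun x => e.symm_apply_apply x
  have hpre : ∀ B, Function.Bijective (pre B) := by
    intro B
    constructor
    · intro ψ₁ ψ₂ h
      apply Subtype.ext
      apply AlgHom.ext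
      intro x
      obtain ⟨y, rfl⟩ := hgs x
      exact congrArg (fun t : HomSet R.carrier R.res B => t.1 y) h
    · intro ψ
      have hres : ∀ x, R.res (e.symm x) = R.res x := by
        intro x
        obtain ⟨y, rfl⟩ := hgs x
        rw [heg]
        exact (AlgHom.congr_fun hg y).symm
      refine ⟨⟨ψ.1.comp (e.symm : R.carrier →ₐ[Λ] R.carrier), ?_⟩, ?_⟩
      · apply AlgHom.ext
        intro x
        have := AlgHom.congr_fun ψ.2 (e.symm x)
        exact this.trans (hres x)
      · apply Subtype.ext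
        apply AlgHom.ext
        intro x
        change ψ.1 (e.symm (g x)) = ψ.1 x
        rw [heg]
  constructor
  · intro x y hxy
    obtain ⟨a, rfl⟩ := (hu A).2 x
    obtain ⟨b, rfl⟩ := (hu A).2 y
    rw [key, key] at hxy
    have := (hpre A).1 ((hu A).1 hxy)
    rw [this]
  · intro y
    obtain ⟨b, rfl⟩ := (hu A).2 y
    obtain ⟨a, rfl⟩ := (hpre A).2 b
    exact ⟨ξ.app A a, key A a⟩

end Groth.Agent.H63
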