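import Groth.Agent.H63.CRingHom
import Groth.Agent.H63.ArtFinite
import Groth.Agent.H63.ArtProRep
import Groth.Prelude.Def_CAlgX
import Mathlib.RingTheory.FiniteType
import Mathlib.RingTheory.HopkinsLevitzki
import Mathlib.RingTheory.Adjoin.FG

set_option autoImplicit false
set_option linter.style.haveILetI false
universe u v
open CategoryTheory

namespace Groth.Agent.H63

open ArtFun ArtFun.Art

variable {Λ : Type u} {k : Type u} [CommRing Λ] [Field k] [Algebra Λ k]

theorem isSmoothFunctor_hR_iff (R : Type u) [CommRing R] [Algebra Λ R] (resR : R →ₐ[Λ] k) :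
    IsSmoothFunctor (hR R resR) ↔
      ∀ ⦃B A : Art Λ k⦄ (μ : B ⟶ A), Function.Surjective μ → ∀ φ : HomSet R resR A,
        ∃ ψ : HomSet R resR B, HomSet.map μ ψ = φ := by
  constructor
  · intro h B A μ hμ φ
    exact h μ hμ φ
  · intro h B A μ hμ φ
    exact h μ hμ φ

/-- maps from a coefficient ring to an Artinian object kill a power of the maximal ideal -/
theorem CR.exists_pow_le_ker (R : CRing Λ k) (A : Art Λ k) (φ : HomSet R.carrier R.res A) :
    ∃ n : ℕ, ∀ x ∈ IsLocalRing.maximalIdeal R.carrier ^ n, φ.1 x = 0 := by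
  obtain ⟨n, hn⟩ := maximalIdeal_nilpotent A
  refine ⟨n, ?_⟩
  have hm : Ideal.map φ.1 (IsLocalRing.maximalIdeal R.carrier) ≤ IsLocalRing.maximalIdeal A := by
    rw [Ideal.map_le_iff_le_comap]
    intro a ha
    rw [Ideal.mem_comap, Art.mem_maximalIdeal_iff]
    rw [CR.mem_maximalIdeal_iff] at ha
    have : A.res (φ.1 a) = R.res a := AlgHom.congr_fun φ.2 a
    rw [this, ha]
  intro a ha
  have h1 : φ.1 a ∈ Ideal.map φ.1 (IsLocalRing.maximalIdeal R.carrier ^ n) := Ideal.mem_map_of_mem _ ha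
  rw [Ideal.map_pow] at h1
  have h2 := Ideal.pow_right_mono hm n h1
  rw [hn] at h2
  exact h2

/-- formal smoothness for the adic topology implies smoothness of `h_R` -/
theorem isSmoothFunctor_of_isAdicFormallySmooth (R : CRing Λ k)
    (h : CAlgX.IsAdicFormallySmooth Λ R.carrier (IsLocalRing.maximalIdeal R.carrier)) :
    IsSmoothFunctor (hR R.carrier R.res) := by
  rw [isSmoothFunctor_hR_iff]
  intro B A μ hμ
  refine surjective_induction (fun A B μ => ∀ φ : HomSet R.carrier R.res A,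
    ∃ ψ : HomSet R.carrier R.res B, HomSet.map μ ψ = φ) ?_ ?_ ?_ μ hμ
  · intro A B e he φ
    refine ⟨HomSet.map (inv e) φ, ?_⟩
    rw [← homSet_map_comp, IsIso.inv_hom_id, homSet_map_id]
  · intro A B p hp φ
    obtain ⟨hsurj, -, -, hm⟩ := hp
    have hK2 : RingHom.ker p.toAlgHom ^ 2 = ⊥ := by
      rw [eq_bot_iff, ← hm, sq]
      exact Ideal.mul_mono_left (ker_le_maximalIdeal p)
    let e := Ideal.quotientKerAlgEquivOfSurjective (f := p.toAlgHom) hsurj
    let ψ₀ : R.carrier →ₐ[Λ] B ⧸ RingHom.ker p.toAlgHom := (e.symm : A →ₐ[Λ] _).comp φ.1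
    obtain ⟨n, hn⟩ := CR.exists_pow_le_ker R A φ
    obtain ⟨χ, hχ⟩ := h B (RingHom.ker p.toAlgHom) hK2 ψ₀ ⟨n, fun x hx => by
      change e.symm (φ.1 x) = 0
      rw [hn x hx, map_zero]⟩
    have hpχ : ∀ r, p (χ r) = φ.1 r := by
      intro r
      have h1 : Ideal.Quotient.mk (RingHom.ker p.toAlgHom) (χ r) = e.symm (φ.1 r) := AlgHom.congr_fun hχ r
      have h2 : e.symm (p.toAlgHom (χ r)) = Ideal.Quotient.mk (RingHom.ker p.toAlgHom) (χ r) :=
        Ideal.quotientKerAlgEquivOfSurjective_symm_apply hsurj (χ r)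
      exact e.symm.injective (h2.trans h1)
    refine ⟨⟨χ, ?_⟩, ?_⟩
    · apply AlgHom.ext
      intro r
      change B.res (χ r) = R.res r
      rw [← res_app p, hpχ]
      exact AlgHom.congr_fun φ.2 r
    · apply Subtype.ext
      apply AlgHom.ext
      intro r
      exact hpχ r
  · intro A B C p q hp hq φ
    obtain ⟨ψ₁, hψ₁⟩ := hq φ
    obtain ⟨ψ₂, hψ₂⟩ := hp ψ₁
    exact ⟨ψ₂, by rw [homSet_map_comp, hψ₂, hψ₁]⟩

/-- A surjection with square-zero kernel is a local homomorphism. -/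
theorem isUnit_of_sqZero_ker {P T : Type*} [CommRing P] [CommRing T] (π : P →+* T)
    (hπ : Function.Surjective π) (hK : ∀ x y : P, π x = 0 → π y = 0 → x * y = 0) (x : P)
    (hx : IsUnit (π x)) : IsUnit x := by
  obtain ⟨y, hy⟩ := hπ (↑hx.unit⁻¹ : T)
  have h1 : π (x * y - 1) = 0 := by
    rw [map_sub, map_mul, hy, map_one, IsUnit.mul_val_inv, sub_self]
  have h2 : (x * y - 1) * (x * y - 1) = 0 := hK _ _ h1 h1
  have h3 : x * (y * (2 - x * y)) = 1 := by linear_combination -h2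
  exact IsUnit.of_mul_eq_one _ h3

/-- A Noetherian `Λ`-algebra which is a square-zero extension of an object is an object. -/
theorem exists_art_of_sqZero_ext (T : Art Λ k) (P : Type u) [CommRing P] [Algebra Λ P] [IsNoetherianRing P]
    (π : P →ₐ[Λ] T) (hπ : Function.Surjective π) (hK : ∀ x y : P, π x = 0 → π y = 0 → x * y = 0) :
    ∃ (P' : Art Λ k) (e : P' ≃ₐ[Λ] P) (π' : P' ⟶ T), ∀ x, π' x = π (e x) := by
  haveI : IsLocalHom π.toRingHom := ⟨fun x hx => isUnit_of_sqZero_ker π.toRingHom hπ hK x hx⟩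
  haveI : IsLocalRing P := RingHom.domain_isLocalRing π.toRingHom
  have hmP : ∀ x : P, x ∈ IsLocalRing.maximalIdeal P → π x ∈ IsLocalRing.maximalIdeal T := by
    intro x hx
    rw [IsLocalRing.mem_maximalIdeal] at hx ⊢
    exact fun hu => hx (isUnit_of_sqZero_ker π.toRingHom hπ hK x hu)
  haveI : IsArtinianRing P := by
    rw [isArtinianRing_iff_isNilpotent_maximalIdeal]
    obtain ⟨n, hn⟩ := maximalIdeal_nilpotent T
    refine ⟨n + n, ?_⟩
    rw [Ideal.zero_eq_bot, eq_bot_iff, pow_add]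
    have hle : IsLocalRing.maximalIdeal P ^ n ≤ RingHom.ker π.toRingHom := by
      intro x hx
      have h1 : π x ∈ Ideal.map π.toRingHom (IsLocalRing.maximalIdeal P ^ n) := Ideal.mem_map_of_mem _ hx
      rw [Ideal.map_pow] at h1
      have h2 : Ideal.map π.toRingHom (IsLocalRing.maximalIdeal P) ≤ IsLocalRing.maximalIdeal T := by
        rw [Ideal.map_le_iff_le_comap]
        exact fun x hx => hmP x hx
      have h3 := Ideal.pow_right_mono h2 n h1
      rw [hn] at h3
      exact h3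
    rw [Ideal.mul_le]
    intro x hx y hy
    rw [Ideal.mem_bot]
    exact hK x y (hle hx) (hle hy)
  let P' : Art Λ k := Art.of P (T.res.comp π) (T.res_surjective.comp hπ)
  exact ⟨P', AlgEquiv.refl, ⟨π, rfl⟩, fun x => rfl⟩

/-- smoothness of `h_R` implies formal smoothness for the adic topology -/
theorem isAdicFormallySmooth_of_isSmoothFunctor [IsNoetherianRing Λ] [Module.Finite Λ k] (R : CRing Λ k)
    (h : IsSmoothFunctor (hR R.carrier R.res)) :
    CAlgX.IsAdicFormallySmooth Λ R.carrier (IsLocalRing.maximalIdeal R.carrier) := by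
  classical
  rw [isSmoothFunctor_hR_iff] at h
  intro A _ _ J hJ ψ hψ
  obtain ⟨n, hn⟩ := hψ
  have hkill : ∀ a ∈ CRing.mpow R n, ψ a = 0 :=
    fun a ha => hn a (Ideal.pow_le_pow_right (Nat.le_succ n) ha)
  let T : Art Λ k := R.trunc n
  let ψ' : T →ₐ[Λ] A ⧸ J := Ideal.Quotient.liftₐ (CRing.mpow R n) ψ hkill
  have hψ' : ∀ r : R.carrier, ψ' ((R.truncHom n).1 r) = ψ r := fun r => rfl
  haveI : Module.Finite Λ T := by
    haveI := isNoetherian_obj T
    infer_instance
  obtain ⟨s, t, ht⟩ := Module.Finite.exists_fin (R := Λ) (M := T)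
  have ha : ∀ i, ∃ a : A, Ideal.Quotient.mk J a = ψ' (t i) := fun i => Ideal.Quotient.mk_surjective _
  choose a ha using ha
  let p : Fin s → T × A := fun i => (t i, a i)
  let P₂ : Subalgebra Λ (T × A) := Algebra.adjoin Λ (Set.range p)
  let Eq : Subalgebra Λ (T × A) :=
    AlgHom.equalizer (ψ'.comp (AlgHom.fst Λ T A)) ((Ideal.Quotient.mkₐ Λ J).comp (AlgHom.snd Λ T A))
  have hP₂Eq : P₂ ≤ Eq := by
    apply Algebra.adjoin_le
    rintro _ ⟨i, rfl⟩
    exact (ha i).symm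
  have hinv : ∀ x : P₂, ψ' (x.1.1) = Ideal.Quotient.mk J (x.1.2) := fun x => hP₂Eq x.2
  haveI : Algebra.FiniteType Λ P₂ := by
    rw [← Subalgebra.fg_iff_finiteType]
    exact Subalgebra.fg_def.2 ⟨Set.range p, Set.finite_range p, rfl⟩
  haveI : IsNoetherianRing P₂ := Algebra.FiniteType.isNoetherianRing Λ P₂
  let π₂ : P₂ →ₐ[Λ] T := (AlgHom.fst Λ T A).comp P₂.val
  have hπ₂ : Function.Surjective π₂ := by
    intro x
    have hx : x ∈ Submodule.span Λ (Set.range t) := by rw [ht]; exact Submodule.mem_top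
    have hle : Submodule.span Λ (Set.range t) ≤ Subalgebra.toSubmodule π₂.range := by
      rw [Submodule.span_le]
      rintro _ ⟨i, rfl⟩
      exact ⟨⟨p i, Algebra.subset_adjoin ⟨i, rfl⟩⟩, rfl⟩
    obtain ⟨y, hy⟩ := hle hx
    exact ⟨y, hy⟩
  have hK : ∀ x y : P₂, π₂ x = 0 → π₂ y = 0 → x * y = 0 := by
    intro x y hx hy
    have hx1 : x.1.1 = 0 := hx
    have hy1 : y.1.1 = 0 := hy
    have hx2 : x.1.2 ∈ J := by
      rw [← Ideal.Quotient.eq_zero_iff_mem, ← hinv, hx1, map_zero]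
    have hy2 : y.1.2 ∈ J := by
      rw [← Ideal.Quotient.eq_zero_iff_mem, ← hinv, hy1, map_zero]
    have h2 : x.1.2 * y.1.2 = 0 := by
      have : x.1.2 * y.1.2 ∈ J ^ 2 := by rw [sq]; exact Ideal.mul_mem_mul hx2 hy2
      rwa [hJ, Ideal.mem_bot] at this
    apply Subtype.ext
    apply Prod.ext
    · change x.1.1 * y.1.1 = 0
      rw [hx1, zero_mul]
    · exact h2
  obtain ⟨P', e, π', hπ'⟩ := exists_art_of_sqZero_ext T P₂ π₂ hπ₂ hK
  have hπ's : Function.Surjective π' := by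
    intro x
    obtain ⟨y, hy⟩ := hπ₂ x
    refine ⟨e.symm y, ?_⟩
    rw [hπ', AlgEquiv.apply_symm_apply, hy]
  obtain ⟨χ₂, hχ₂⟩ := h π' hπ's (R.truncHom n)
  let χ : R.carrier →ₐ[Λ] A := (AlgHom.snd Λ T A).comp (P₂.val.comp ((e : P' →ₐ[Λ] P₂).comp χ₂.1))
  refine ⟨χ, ?_⟩
  apply AlgHom.ext
  intro r
  change Ideal.Quotient.mk J ((e (χ₂.1 r)).1.2) = ψ r
  rw [← hinv, ← hψ']
  congr 1
  have h1 : π' (χ₂.1 r) = (R.truncHom n).1 r :=
    congrArg (fun t : HomSet R.carrier R.res T => t.1 r) hχ₂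
  rw [hπ'] at h1
  exact h1

end Groth.Agent.H63
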