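import Mathlib
import Groth.Agent.H63.TraceDual1

set_option autoImplicit false
set_option linter.style.haveILetI false
set_option linter.unusedSectionVars false

namespace Groth.Agent.H63.TraceDual
open FunFld LocRes HahnSeries LaurentSeries Groth.Agent.H55 WithZero Module
open Groth.Agent.H86.Tate Groth.Agent.H63.TateSemi

universe u v w

section three
variable {k : Type u} {K K' : Type v} [Field k] [Field K] [Field K'] [Algebra k K] [Algebra K K']
  [Algebra k K'] [IsScalarTower k K K'] [FiniteDimensional K K']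
variable {F F' : Type w} [Field F] [Algebra k F] [Field F'] [Algebra k F']

open scoped Classical in
/-- the trace formula when only one place above carries an expansion and the function is integral
at the others -/
theorem locRes_trace_eq (hK : IsFunctionField k K) (hK' : W.IsWeakFF k K')
    [FiniteDimensional k F] [FiniteDimensional k F'] (P : Place k K) (Q : Place k K')
    (hQP : IsOver Q P)
    (φ : K →ₐ[k] F⸨X⸩) (hφ : LocRes.IsExpansionAt P.1 φ)
    (ψ : K' →ₐ[k] F'⸨X⸩) (hψ : LocRes.IsExpansionAt Q.1 ψ)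
    (y : K') (hy : ∀ Q' : Place k K', IsOver Q' P → Q' ≠ Q → Q'.1 y ≤ 1)
    (t : K) (ht : P.1 t ≤ 1) :
    LocRes.locRes φ (Algebra.trace K K' y) t = LocRes.locRes ψ y (algebraMap K K' t) := by
  obtain ⟨hfinQ, -⟩ := sum_ramIdx_mul_deg (K' := K') hK P
  set Qs : Finset (Place k K') := hfinQ.toFinset with hQsdef
  have hQs : ∀ Q', Q' ∈ Qs ↔ IsOver Q' P := fun Q' => by
    rw [hQsdef, Set.Finite.mem_toFinset]
    rfl
  have hQmem : Q ∈ Qs := (hQs Q).2 hQP
  haveI hne : Nonempty Qs := ⟨⟨Q, hQmem⟩⟩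
  obtain ⟨G, bs, hB⟩ := Groth.Agent.H63.SemiW.exists_basis hK hK' P Qs hQs
  obtain ⟨π, hπ⟩ := exists_isProj (ballP P 0)
  obtain ⟨πB, hπB⟩ := exists_isProj (semiB Qs (0 : Qs → ℤ))
  have hπQ' : ∀ Q' : Qs, ∃ πQ : K' →ₗ[k] K', LinearMap.IsProj (AQ Qs (0 : Qs → ℤ) Q') πQ :=
    fun Q' => exists_isProj _
  choose πQ hπQ using hπQ'
  have h1 := Groth.Agent.H63.TateTrace.tate_trace bs (A := ballP P 0)
    (B := semiB Qs (0 : Qs → ℤ))
    (by
      intro z
      rw [hB]
      refine forall_congr' fun g => ?_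
      change _ ↔ P.1 _ ≤ WithZero.exp (-(0 : ℤ))
      rw [neg_zero, WithZero.exp_zero])
    (fun u => nearStable_ballP hK P 0 u)
    (fun y => Groth.Agent.H63.SemiW.nearStable_semiB Qs hK' 0 y) hπ hπB y t
  have h2 := Groth.Agent.H63.SemiW.tate_semiB_eq_sum Qs hK' 0 hπB hπQ y (algebraMap K K' t)
  rw [← tate_ball_eq_locRes P.2.1 hφ 0 hπ, ← h1, h2,
    Finset.sum_eq_single (⟨Q, hQmem⟩ : Qs)]
  · exact tate_ball_eq_locRes Q.2.1 hψ 0 (hπQ ⟨Q, hQmem⟩) y _
  · intro Q' _ hne'
    have hQ'ne : Q'.1 ≠ Q := fun h => hne' (Subtype.ext h)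
    have hy' := hy Q'.1 ((hQs Q'.1).1 Q'.2) hQ'ne
    have ht' : Q'.1.1 (algebraMap K K' t) ≤ 1 :=
      Groth.Agent.H63.SemiFree.val_algebraMap_le_one P Qs hQs Q' ht
    unfold tate
    rw [tcomm_eq_zero_of_stable (hπQ Q') (mulLeft_comm y _) (map_mulLeft_ballP_le Q'.1 0 hy')
      (map_mulLeft_ballP_le Q'.1 0 ht'), trF_zero]
  · intro h
    exact absurd (Finset.mem_univ _) h

end three

section four
variable {k : Type u} {K : Type v} {F : Type w} [Field k] [Field K] [Algebra k K] [Field F]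
  [Algebra k F]

open Groth.Agent.H63.LaurentTaylor in
/-- nondegeneracy of the local residue pairing with control of the pole order, for a separable
coefficient field -/
theorem exists_locRes_ne_zero_of_le' [FiniteDimensional k F] [Algebra.IsSeparable k F]
    (Q : Place k K) (ψ : K →ₐ[k] F⸨X⸩) (hψ : LocRes.IsExpansionAt Q.1 ψ) {u v : K}
    (hne : LocRes.vDiff ψ u v ≠ 0) :
    ∃ z : K, Q.1 z ≤ exp (LocRes.ordDiff ψ u v + 1) ∧ LocRes.locRes ψ (z * u) v ≠ 0 := by
  obtain ⟨b, hb⟩ := Algebra.trace_surjective k F 1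
  set n : ℤ := LocRes.ordDiff ψ u v with hn
  have hvg : Valued.v (ψ u * LocRes.D F (ψ v)) = exp (-n) := by
    rw [hn]
    unfold LocRes.ordDiff
    rw [neg_neg, exp_log hne]
    rfl
  have hc := Groth.Agent.H63.LocNondeg.coeff_ne_zero_of_v _ n hvg
  have hgcoef := Groth.Agent.H63.LocNondeg.coeff_eq_zero_of_v _ n hvg.le
  obtain ⟨y, hy1, hy2⟩ := Groth.Agent.H63.LocNondeg.exists_leading Q ψ hψ (-1 - n)
    (b / (ψ u * LocRes.D F (ψ v)).coeff n)
  refine ⟨y, ?_, ?_⟩
  · rw [← hψ.1]
    have : Valued.v (ψ y) ≤ exp (-(-1 - n)) := by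
      rw [valuation_le_iff_coeff_lt_eq_zero]; exact hy1
    refine this.trans (exp_le_exp.2 (by omega))
  · unfold LocRes.locRes LocRes.resExp
    rw [LocRes.res_apply, map_mul, mul_assoc,
      coeff_mul_eq_sum _ _ (-1) (-1 - n) n hy1 hgcoef,
      Finset.Icc_self, Finset.sum_singleton, hy2,
      show (-1 : ℤ) - (-1 - n) = n by ring, div_mul_cancel₀ _ hc, hb]
    exact one_ne_zero

end four

section five
variable {k : Type u} {K K' : Type v} [Field k] [Field K] [Field K'] [Algebra k K] [Algebra K K']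
  [Algebra k K'] [IsScalarTower k K K']

/-- elements integral over `O_P` are integral at every place above `P` -/
theorem val_le_one_of_isIntegral (P : Place k K) (Q' : Place k K') (hQ' : IsOver Q' P)
    [Algebra P.O K'] [IsScalarTower P.O K K'] {z : K'} (hz : IsIntegral P.O z) : Q'.1 z ≤ 1 := by
  obtain ⟨e, he⟩ := hQ'
  obtain ⟨p, hp, hpz⟩ := hz
  let g : P.O →+* Q'.O := ((algebraMap K K').comp P.O.subtype).codRestrict Q'.O (fun a => by
    change Q'.1 (algebraMap K K' (a : K)) ≤ 1
    rw [he]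
    exact pow_le_one₀ zero_le a.2)
  have hcomp : (algebraMap Q'.O K').comp g = algebraMap P.O K' := by
    ext a
    rw [IsScalarTower.algebraMap_apply P.O K K']
    rfl
  have hint : IsIntegral Q'.O z := by
    refine ⟨p.map g, hp.map g, ?_⟩
    rw [Polynomial.eval₂_map, hcomp]
    exact hpz
  exact (Valuation.valuationSubring.integers Q'.1).isIntegral_iff_v_le_one.mp hint

open scoped Classical in
/-- elements integral at every place above `P` are integral over `O_P` -/
theorem isIntegral_of_mem_semiB [FiniteDimensional K K'] (hK : IsFunctionField k K)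
    (hK' : W.IsWeakFF k K') (P : Place k K) (Qs : Finset (Place k K'))
    (hQs : ∀ Q, Q ∈ Qs ↔ IsOver Q P) [Algebra P.O K'] [IsScalarTower P.O K K'] {z : K'}
    (hz : z ∈ semiB Qs (0 : Qs → ℤ)) : IsIntegral P.O z := by
  obtain ⟨G, bs, hB⟩ := Groth.Agent.H63.SemiW.exists_basis hK hK' P Qs hQs
  have hsmul : ∀ (a : P.O) (w : K'), a • w = algebraMap K K' (a : K) * w := by
    intro a w
    rw [Algebra.smul_def, IsScalarTower.algebraMap_apply P.O K K']
    rfl
  have hmulB : ∀ w₁ ∈ semiB Qs (0 : Qs → ℤ), ∀ w₂ ∈ semiB Qs (0 : Qs → ℤ),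
      w₁ * w₂ ∈ semiB Qs (0 : Qs → ℤ) := by
    intro w₁ h₁ w₂ h₂
    rw [mem_semiB] at h₁ h₂ ⊢
    intro Q
    have h1 := h₁ Q
    have h2 := h₂ Q
    simp only [Pi.zero_apply, neg_zero, exp_zero] at h1 h2 ⊢
    rw [map_mul]
    exact mul_le_one' h1 h2
  have hbsB : ∀ g, bs g ∈ semiB Qs (0 : Qs → ℤ) := by
    intro g
    rw [hB]
    intro g'
    rw [bs.repr_self, Finsupp.single_apply]
    split_ifs
    · rw [map_one]
    · rw [map_zero]; exact zero_le_one
  set N : Submodule P.O K' := Submodule.span P.O (Set.range bs) with hN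
  have hNB : ∀ w, w ∈ N ↔ w ∈ semiB Qs (0 : Qs → ℤ) := by
    intro w
    constructor
    · intro hw
      induction hw using Submodule.span_induction with
      | mem x hx =>
        obtain ⟨g, rfl⟩ := hx
        exact hbsB g
      | zero => exact Submodule.zero_mem _
      | add x y _ _ hx hy => exact Submodule.add_mem _ hx hy
      | smul a x _ hx =>
        rw [hsmul]
        refine hmulB _ ?_ _ hx
        rw [mem_semiB]
        intro Q
        simp only [Pi.zero_apply, neg_zero, exp_zero]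
        exact Groth.Agent.H63.SemiFree.val_algebraMap_le_one P Qs hQs Q a.2
    · intro hw
      have hc := (hB w).1 hw
      have : w = ∑ g, (⟨bs.repr w g, hc g⟩ : P.O) • bs g := by
        conv_lhs => rw [← bs.sum_repr w]
        refine Finset.sum_congr rfl fun g _ => ?_
        rw [hsmul, Algebra.smul_def]
      rw [this]
      exact Submodule.sum_mem _ fun g _ =>
        Submodule.smul_mem _ _ (Submodule.subset_span ⟨g, rfl⟩)
  haveI : Nonempty G := by
    by_contra hcon
    rw [not_nonempty_iff] at hcon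
    have : (1 : K') = 0 := by
      rw [← bs.sum_repr 1]
      exact Finset.sum_of_isEmpty _
    exact one_ne_zero this
  refine isIntegral_of_smul_mem_submodule N ?_ (Submodule.fg_span (Set.finite_range _)) z ?_
  · intro h0
    obtain ⟨g⟩ := ‹Nonempty G›
    have : bs g ∈ N := Submodule.subset_span ⟨g, rfl⟩
    rw [h0, Submodule.mem_bot] at this
    exact bs.ne_zero g this
  · intro w hw
    rw [hNB] at hw ⊢
    rw [smul_eq_mul]
    exact hmulB z hz w hw

end five

end Groth.Agent.H63.TraceDual
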