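import Mathlib
import Groth.Agent.H63.TraceDual2

set_option autoImplicit false
set_option linter.style.haveILetI false
set_option linter.unusedSectionVars false

namespace Groth.Agent.H63.TraceDual
open FunFld LocRes HahnSeries LaurentSeries Groth.Agent.H55 WithZero Module
open Groth.Agent.H86.Tate Groth.Agent.H63.TateSemi

universe u v w

section main
variable {k : Type u} {K K' : Type v} [Field k] [Field K] [Field K'] [Algebra k K] [Algebra K K']
  [Algebra k K'] [IsScalarTower k K K'] [FiniteDimensional K K']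
variable {F F' : Type w} [Field F] [Algebra k F] [Field F'] [Algebra k F']

/-- the order of `u dt'` above in terms of the order of `dt'` -/
theorem vDiff_above (Q : Place k K') (ψ : K' →ₐ[k] F'⸨X⸩) (hψ : LocRes.IsExpansionAt Q.1 ψ)
    (u t' : K') {m' : ℤ} (hm : LocRes.vDiff ψ 1 t' = exp (-m')) :
    LocRes.vDiff ψ u t' = Q.1 u * exp (-m') := by
  rw [Groth.Agent.H63.OrdDiffGen.vDiff_eq_mul Q ψ hψ, hm]

open scoped Classical in
/-- first half: elements of the trace dual have `v_Q ≥ -m'` -/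
theorem dual_le (hK : IsFunctionField k K) (hK' : W.IsWeakFF k K')
    [FiniteDimensional k F] [FiniteDimensional k F'] [Algebra.IsSeparable k F']
    (P : Place k K) (Q : Place k K') (hQP : IsOver Q P)
    (φ : K →ₐ[k] F⸨X⸩) (hφ : LocRes.IsExpansionAt P.1 φ)
    (ψ : K' →ₐ[k] F'⸨X⸩) (hψ : LocRes.IsExpansionAt Q.1 ψ)
    (t : K) (ht1 : P.1 t ≤ 1) (hDt : LocRes.vDiff φ 1 t = 1) {m' : ℤ}
    (hm : LocRes.vDiff ψ 1 (algebraMap K K' t) = exp (-m'))
    [Algebra P.O K'] [IsScalarTower P.O K K']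
    (y : K') (hy : ∀ z : K', IsIntegral P.O z → P.1 (Algebra.trace K K' (y * z)) ≤ 1) :
    Q.1 y ≤ exp m' := by
  by_contra hcon
  rw [not_le] at hcon
  have hy0 : y ≠ 0 := by
    rintro rfl
    rw [map_zero] at hcon
    exact not_lt.2 zero_le hcon
  have hQy : Q.1 y = exp (-(Q.ord y)) := Place.val_eq_exp_neg_ord Q hy0
  rw [hQy, exp_lt_exp] at hcon
  set t' : K' := algebraMap K K' t with ht'
  have hvy : LocRes.vDiff ψ y t' = exp (-(Q.ord y + m')) := by
    rw [vDiff_above Q ψ hψ y t' hm, hQy, ← exp_add]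
    congr 1
    ring
  have hne : LocRes.vDiff ψ y t' ≠ 0 := by
    rw [hvy]
    exact exp_ne_zero
  have hord : LocRes.ordDiff ψ y t' = Q.ord y + m' := by
    unfold LocRes.ordDiff
    rw [hvy, log_exp, neg_neg]
  obtain ⟨z₀, hz₀, hres⟩ := exists_locRes_ne_zero_of_le' Q ψ hψ hne
  rw [hord] at hz₀
  have hz₀1 : Q.1 z₀ ≤ 1 := by
    refine hz₀.trans ?_
    rw [← exp_zero, exp_le_exp]
    omega
  -- the places above `P`
  obtain ⟨hfinQ, -⟩ := sum_ramIdx_mul_deg (K' := K') hK P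
  set Qs : Finset (Place k K') := hfinQ.toFinset with hQsdef
  have hQs : ∀ Q', Q' ∈ Qs ↔ IsOver Q' P := fun Q' => by
    rw [hQsdef, Set.Finite.mem_toFinset]
    rfl
  have hQmem : Q ∈ Qs := (hQs Q).2 hQP
  -- approximation
  set B : ℤ := ((-(Q.ord y + m')).toNat : ℤ) + ∑ Q' ∈ Qs, ((-(Q'.ord y)).toNat : ℤ) with hB
  have hB0 : 0 ≤ B := by
    rw [hB]
    have : 0 ≤ ∑ Q' ∈ Qs, ((-(Q'.ord y)).toNat : ℤ) := Finset.sum_nonneg fun _ _ => by positivity
    positivity
  have hB1 : -(Q.ord y + m') ≤ B := by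
    rw [hB]
    have : 0 ≤ ∑ Q' ∈ Qs, ((-(Q'.ord y)).toNat : ℤ) := Finset.sum_nonneg fun _ _ => by positivity
    have := Int.self_le_toNat (-(Q.ord y + m'))
    omega
  have hB2 : ∀ Q' ∈ Qs, -(Q'.ord y) ≤ B := by
    intro Q' hQ'
    rw [hB]
    have h1 : ((-(Q'.ord y)).toNat : ℤ) ≤ ∑ Q' ∈ Qs, ((-(Q'.ord y)).toNat : ℤ) :=
      Finset.single_le_sum (f := fun Q' : Place k K' => ((-(Q'.ord y)).toNat : ℤ))
        (fun _ _ => by positivity) hQ'
    have := Int.self_le_toNat (-(Q'.ord y))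
    have : (0 : ℤ) ≤ ((-(Q.ord y + m')).toNat : ℤ) := by positivity
    omega
  obtain ⟨z, hz⟩ := Place.weak_approx_le Qs (fun Q' => if Q' = Q then z₀ else 0) B
  have hzQ : Q.1 (z - z₀) ≤ exp (-B) := by
    have := hz Q hQmem
    rwa [if_pos rfl] at this
  have hzQ' : ∀ Q' ∈ Qs, Q' ≠ Q → Q'.1 z ≤ exp (-B) := by
    intro Q' hQ' hne'
    have := hz Q' hQ'
    rwa [if_neg hne', sub_zero] at this
  have hexpB : exp (-B) ≤ (1 : WithZero (Multiplicative ℤ)) := by
    rw [← exp_zero, exp_le_exp]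
    omega
  have hzB : z ∈ semiB Qs (0 : Qs → ℤ) := by
    rw [mem_semiB]
    intro Q'
    simp only [Pi.zero_apply, neg_zero, exp_zero]
    by_cases hQ'Q : Q'.1 = Q
    · rw [hQ'Q]
      have : z = (z - z₀) + z₀ := by ring
      rw [this]
      exact (Q.1.map_add _ _).trans (max_le (hzQ.trans hexpB) hz₀1)
    · exact (hzQ' Q'.1 Q'.2 hQ'Q).trans hexpB
  have hzint : IsIntegral P.O z := isIntegral_of_mem_semiB hK hK' P Qs hQs hzB
  have hc := hy z hzint
  -- the residue below vanishes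
  have h0 : LocRes.locRes φ (Algebra.trace K K' (y * z)) t = 0 := by
    apply Groth.Agent.H63.WeilRes.locRes_eq_zero_of_vDiff_le
    rw [Groth.Agent.H63.OrdDiffGen.vDiff_eq_mul P φ hφ, hDt, mul_one]
    exact hc
  -- the trace formula
  have h1 := locRes_trace_eq hK hK' P Q hQP φ hφ ψ hψ (y * z) (fun Q' hQ'P hne' => by
    rw [map_mul, Place.val_eq_exp_neg_ord Q' hy0]
    refine (mul_le_mul' le_rfl (hzQ' Q' ((hQs Q').2 hQ'P) hne')).trans ?_
    rw [← exp_add, ← exp_zero, exp_le_exp]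
    have := hB2 Q' ((hQs Q').2 hQ'P)
    omega) t ht1
  rw [h0] at h1
  -- split `z = z₀ + (z - z₀)`
  have h2 : LocRes.locRes ψ (y * z) t' =
      LocRes.locRes ψ (z₀ * y) t' + LocRes.locRes ψ ((z - z₀) * y) t' := by
    have := map_add (Groth.Agent.H63.WeilRes.locResLin ψ y t') z₀ (z - z₀)
    rw [add_sub_cancel] at this
    rw [mul_comm y z]
    simpa only [Groth.Agent.H63.WeilRes.locResLin_apply] using this
  have h3 : LocRes.locRes ψ ((z - z₀) * y) t' = 0 := by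
    apply Groth.Agent.H63.WeilRes.locRes_eq_zero_of_vDiff_le
    rw [vDiff_above Q ψ hψ _ t' hm, map_mul, hQy]
    refine (mul_le_mul' (mul_le_mul' hzQ le_rfl) le_rfl).trans ?_
    rw [← exp_add, ← exp_add, ← exp_zero, exp_le_exp]
    omega
  rw [h2, h3, add_zero] at h1
  exact hres h1.symm

open scoped Classical in
/-- second half: the bound is attained -/
theorem dual_exists (hK : IsFunctionField k K) (hg : IsGeometric k K) (hK' : W.IsWeakFF k K')
    [FiniteDimensional k F] [FiniteDimensional k F']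
    (P : Place k K) (Q : Place k K') (hQP : IsOver Q P)
    (φ : K →ₐ[k] F⸨X⸩) (hφ : LocRes.IsExpansionAt P.1 φ)
    (ψ : K' →ₐ[k] F'⸨X⸩) (hψ : LocRes.IsExpansionAt Q.1 ψ)
    (t : K) (ht1 : P.1 t ≤ 1) (hDt : LocRes.vDiff φ 1 t = 1) {m' : ℤ}
    (hm : LocRes.vDiff ψ 1 (algebraMap K K' t) = exp (-m'))
    [Algebra P.O K'] [IsScalarTower P.O K K'] :
    ∃ y : K', (∀ z : K', IsIntegral P.O z → P.1 (Algebra.trace K K' (y * z)) ≤ 1) ∧
      Q.1 y = exp m' := by
  obtain ⟨hfinQ, -⟩ := sum_ramIdx_mul_deg (K' := K') hK P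
  set Qs : Finset (Place k K') := hfinQ.toFinset with hQsdef
  have hQs : ∀ Q', Q' ∈ Qs ↔ IsOver Q' P := fun Q' => by
    rw [hQsdef, Set.Finite.mem_toFinset]
    rfl
  have hQmem : Q ∈ Qs := (hQs Q).2 hQP
  obtain ⟨y, hy⟩ := Place.weak_approx Qs (fun _ => (0 : K')) (fun Q' => if Q' = Q then -m' else 0)
  have hyQ : Q.1 y = exp m' := by
    have := hy Q hQmem
    rwa [if_pos rfl, sub_zero, neg_neg] at this
  have hyQ' : ∀ Q' ∈ Qs, Q' ≠ Q → Q'.1 y = 1 := by
    intro Q' hQ' hne'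
    have := hy Q' hQ'
    rwa [if_neg hne', sub_zero, neg_zero, exp_zero] at this
  refine ⟨y, fun z hz => ?_, hyQ⟩
  by_contra hcon
  rw [not_le] at hcon
  set c : K := Algebra.trace K K' (y * z) with hc
  have hc0 : c ≠ 0 := by
    intro h0
    rw [h0, map_zero] at hcon
    exact not_lt.2 zero_le hcon
  have hdt : KaehlerDifferential.D k K t ≠ 0 := by
    intro h0'
    have := Groth.Agent.H63.KaehlerFF.D_map_eq_of_D_eq φ (x := t) (z := t) (a := 0)
      (by rw [h0', zero_smul])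
    rw [Groth.Agent.H63.DiffExp.vDiff_one, this, map_zero, zero_mul, map_zero] at hDt
    exact zero_ne_one hDt
  obtain ⟨y₀, hy₀, hres⟩ := Groth.Agent.H63.WeilRes.exists_locRes_ne_zero_of_le hK hg P φ hφ
    (u := c) (v := t) hc0 hdt
  have hord : LocRes.ordDiff φ c t = P.ord c := by
    rw [Groth.Agent.H63.OrdDiffGen.ordDiff_smul hK hg hdt P φ hφ c hc0]
    unfold LocRes.ordDiff
    rw [hDt, log_one, neg_zero, add_zero]
  rw [hord] at hy₀
  have hPc : P.1 c = exp (-(P.ord c)) := Place.val_eq_exp_neg_ord P hc0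
  rw [hPc, ← exp_zero, exp_lt_exp] at hcon
  have hy₀1 : P.1 y₀ ≤ 1 := by
    refine hy₀.trans ?_
    rw [← exp_zero, exp_le_exp]
    omega
  -- `y₀ c = Tr (y * (y₀ z))`
  set w : K' := y * (algebraMap K K' y₀ * z) with hw
  have htr : y₀ * c = Algebra.trace K K' w := by
    have : w = y₀ • (y * z) := by
      rw [hw, Algebra.smul_def]
      ring
    rw [this, map_smul, smul_eq_mul]
  have hzQ' : ∀ Q' : Place k K', IsOver Q' P → Q'.1 z ≤ 1 := fun Q' hQ' =>
    val_le_one_of_isIntegral P Q' hQ' hz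
  have hy₀Q' : ∀ Q' : Place k K', IsOver Q' P → Q'.1 (algebraMap K K' y₀) ≤ 1 := by
    intro Q' hQ'
    obtain ⟨e', he'⟩ := hQ'
    rw [he']
    exact pow_le_one₀ zero_le hy₀1
  have h1 := locRes_trace_eq hK hK' P Q hQP φ hφ ψ hψ w (fun Q' hQ'P hne' => by
    rw [hw, map_mul, map_mul, hyQ' Q' ((hQs Q').2 hQ'P) hne', one_mul]
    exact mul_le_one' (hy₀Q' Q' hQ'P) (hzQ' Q' hQ'P)) t ht1
  rw [← htr] at h1
  have h2 : LocRes.locRes ψ w (algebraMap K K' t) = 0 := by
    apply Groth.Agent.H63.WeilRes.locRes_eq_zero_of_vDiff_le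
    rw [vDiff_above Q ψ hψ _ _ hm, hw, map_mul, map_mul, hyQ]
    have h3 : Q.1 (algebraMap K K' y₀) * Q.1 z ≤ 1 := mul_le_one' (hy₀Q' Q hQP) (hzQ' Q hQP)
    calc exp m' * (Q.1 (algebraMap K K' y₀) * Q.1 z) * exp (-m')
        ≤ exp m' * 1 * exp (-m') := mul_le_mul' (mul_le_mul' le_rfl h3) le_rfl
      _ = 1 := by rw [mul_one, ← exp_add, add_neg_cancel, exp_zero]
  rw [h2] at h1
  exact hres h1

end main

end Groth.Agent.H63.TraceDual
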