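import Mathlib
import Groth.Agent.H63.TraceDual3

set_option autoImplicit false
set_option linter.style.haveILetI false
set_option linter.unusedSectionVars false

namespace Groth.Agent.H63.TraceDual
open FunFld Groth.Agent.H55 WithZero Module Polynomial

universe u v w

section adj
variable {k : Type u} {K K' : Type v} [Field k] [Field K] [Field K'] [Algebra k K] [Algebra K K']
  [Algebra k K'] [IsScalarTower k K K'] [FiniteDimensional K K'] [Algebra.IsSeparable K K']

open scoped Pointwise in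
/-- Euler: the trace dual of `O_P[y]` is `g'(y)⁻¹ O_P[y]` -/
theorem adjoin_dual (P : Place k K) [Algebra P.O K'] [IsScalarTower P.O K K']
    (y : K') (hy : IntermediateField.adjoin K ({y} : Set K') = ⊤) (hyi : IsIntegral P.O y) (w : K')
    (hw : ∀ c ∈ Algebra.adjoin P.O ({y} : Set K'), P.1 (Algebra.trace K K' (w * c)) ≤ 1) :
    aeval y (derivative (minpoly K y)) * w ∈ Algebra.adjoin P.O ({y} : Set K') := by
  have hyK : IsIntegral K y := Algebra.IsIntegral.isIntegral y
  have hx : Algebra.adjoin K ({y} : Set K') = ⊤ := by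
    rw [← IntermediateField.adjoin_simple_toSubalgebra_of_isAlgebraic hyK.isAlgebraic, hy]
    rfl
  have hδ : aeval y (derivative (minpoly K y)) ≠ 0 :=
    (Algebra.IsSeparable.isSeparable K y).aeval_derivative_ne_zero (minpoly.aeval K y)
  have h := traceForm_dualSubmodule_adjoin P.O K hx hyi
  have hmem : w ∈ (Algebra.traceForm K K').dualSubmodule
      (Subalgebra.toSubmodule (Algebra.adjoin P.O ({y} : Set K'))) := by
    rw [LinearMap.BilinForm.mem_dualSubmodule]
    intro c hc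
    rw [Algebra.traceForm_apply, Submodule.mem_one]
    exact ⟨⟨_, hw c hc⟩, rfl⟩
  rw [h] at hmem
  obtain ⟨c, hc, rfl⟩ := (Submodule.mem_smul_pointwise_iff_exists _ _ _).1 hmem
  rw [smul_eq_mul, ← mul_assoc, mul_inv_cancel₀ hδ, one_mul]
  exact hc

open scoped Classical in
open Groth.Agent.H63.TateSemi in
/-- Dedekind: `v_Q(g'(y)) ≥ d`, with equality forcing `O_Q` to be a localisation of `O_P[y]`;
`d` is characterised as the minimum of `-v_Q` on the trace dual of the integral closure -/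
theorem different_le (hK : IsFunctionField k K) (P : Place k K) (Q : Place k K')
    (hQP : IsOver Q P) [Algebra P.O K'] [IsScalarTower P.O K K'] (d : ℤ)
    (hdual : ∃ ys : K', (∀ z : K', IsIntegral P.O z → P.1 (Algebra.trace K K' (ys * z)) ≤ 1) ∧
      Q.1 ys = exp d)
    (y : K') (hy : IntermediateField.adjoin K ({y} : Set K') = ⊤) (hyi : IsIntegral P.O y) :
    d ≤ Q.ord (aeval y (derivative (minpoly K y))) ∧
    (Q.ord (aeval y (derivative (minpoly K y))) = d →
      ∀ z : K', Q.1 z ≤ 1 → ∃ a ∈ Algebra.adjoin P.O ({y} : Set K'),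
        ∃ b ∈ Algebra.adjoin P.O ({y} : Set K'), Q.1 b = 1 ∧ z * b = a) := by
  have hK' : W.IsWeakFF k K' := W.weak_of_finite hK.weak
  obtain ⟨ys, hys, hQys⟩ := hdual
  set δ : K' := aeval y (derivative (minpoly K y)) with hδdef
  have hδ : δ ≠ 0 :=
    (Algebra.IsSeparable.isSeparable K y).aeval_derivative_ne_zero (minpoly.aeval K y)
  have hCint : ∀ c ∈ Algebra.adjoin P.O ({y} : Set K'), IsIntegral P.O c := fun c hc =>
    adjoin_le_integralClosure hyi hc
  have ha : δ * ys ∈ Algebra.adjoin P.O ({y} : Set K') :=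
    adjoin_dual P y hy hyi ys fun c hc => hys c (hCint c hc)
  have hQδ : Q.1 δ = exp (-(Q.ord δ)) := Place.val_eq_exp_neg_ord Q hδ
  have hQa : Q.1 (δ * ys) = exp (-(Q.ord δ) + d) := by
    rw [map_mul, hQδ, hQys, ← exp_add]
  have hQa1 : Q.1 (δ * ys) ≤ 1 := val_le_one_of_isIntegral P Q hQP (hCint _ ha)
  refine ⟨?_, fun heq z hz => ?_⟩
  · rw [hQa, ← exp_zero, exp_le_exp] at hQa1
    omega
  -- the conductor contains `a = δ y*`
  have haR : ∀ r : K', IsIntegral P.O r → δ * ys * r ∈ Algebra.adjoin P.O ({y} : Set K') := by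
    intro r hr
    rw [mul_assoc]
    refine adjoin_dual P y hy hyi (ys * r) fun c hc => ?_
    rw [mul_assoc]
    exact hys (r * c) (hr.mul (hCint c hc))
  have hQa' : Q.1 (δ * ys) = 1 := by
    rw [hQa, heq, neg_add_cancel, exp_zero]
  -- the places above `P`
  obtain ⟨hfinQ, -⟩ := sum_ramIdx_mul_deg (K' := K') hK P
  set Qs : Finset (Place k K') := hfinQ.toFinset with hQsdef
  have hQs : ∀ Q', Q' ∈ Qs ↔ IsOver Q' P := fun Q' => by
    rw [hQsdef, Set.Finite.mem_toFinset]
    rfl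
  have hQmem : Q ∈ Qs := (hQs Q).2 hQP
  by_cases hz0 : z = 0
  · refine ⟨0, Subalgebra.zero_mem _, δ * ys, ha, hQa', ?_⟩
    rw [hz0, zero_mul]
  set B : ℤ := 1 + ∑ Q' ∈ Qs, ((-(Q'.ord z)).toNat : ℤ) with hB
  have hB1 : 1 ≤ B := by
    rw [hB]
    have : 0 ≤ ∑ Q' ∈ Qs, ((-(Q'.ord z)).toNat : ℤ) := Finset.sum_nonneg fun _ _ => by positivity
    omega
  have hB2 : ∀ Q' ∈ Qs, -(Q'.ord z) ≤ B := by
    intro Q' hQ'
    rw [hB]
    have h1 : ((-(Q'.ord z)).toNat : ℤ) ≤ ∑ Q' ∈ Qs, ((-(Q'.ord z)).toNat : ℤ) :=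
      Finset.single_le_sum (f := fun Q' : Place k K' => ((-(Q'.ord z)).toNat : ℤ))
        (fun _ _ => by positivity) hQ'
    have := Int.self_le_toNat (-(Q'.ord z))
    omega
  obtain ⟨u, hu⟩ := Place.weak_approx_le Qs (fun Q' => if Q' = Q then (1 : K') else 0) B
  have huQ : Q.1 (u - 1) ≤ exp (-B) := by
    have := hu Q hQmem
    rwa [if_pos rfl] at this
  have huQ' : ∀ Q' ∈ Qs, Q' ≠ Q → Q'.1 u ≤ exp (-B) := by
    intro Q' hQ' hne'
    have := hu Q' hQ'
    rwa [if_neg hne', sub_zero] at this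
  have hexpB : exp (-B) < (1 : WithZero (Multiplicative ℤ)) := by
    rw [← exp_zero, exp_lt_exp]
    omega
  have hQu : Q.1 u = 1 := by
    have hlt : Q.1 (u - 1) < Q.1 (1 : K') := by
      rw [map_one]
      exact huQ.trans_lt hexpB
    have : Q.1 (1 + (u - 1)) = Q.1 (1 : K') := Valuation.map_add_eq_of_lt_left _ hlt
    rwa [add_sub_cancel, map_one] at this
  have huB : u ∈ semiB Qs (0 : Qs → ℤ) := by
    rw [mem_semiB]
    intro Q'
    simp only [Pi.zero_apply, neg_zero, exp_zero]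
    by_cases hQ'Q : Q'.1 = Q
    · rw [hQ'Q, hQu]
    · exact (huQ' Q'.1 Q'.2 hQ'Q).trans hexpB.le
  have huzB : u * z ∈ semiB Qs (0 : Qs → ℤ) := by
    rw [mem_semiB]
    intro Q'
    simp only [Pi.zero_apply, neg_zero, exp_zero]
    rw [map_mul]
    by_cases hQ'Q : Q'.1 = Q
    · rw [hQ'Q, hQu, one_mul]
      exact hz
    · rw [Place.val_eq_exp_neg_ord Q'.1 hz0]
      refine (mul_le_mul' (huQ' Q'.1 Q'.2 hQ'Q) le_rfl).trans ?_
      rw [← exp_add, ← exp_zero, exp_le_exp]
      have := hB2 Q'.1 Q'.2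
      omega
  have hui : IsIntegral P.O u := isIntegral_of_mem_semiB hK hK' P Qs hQs huB
  have huzi : IsIntegral P.O (u * z) := isIntegral_of_mem_semiB hK hK' P Qs hQs huzB
  refine ⟨δ * ys * (u * z), haR _ huzi, δ * ys * u, haR _ hui, ?_, by ring⟩
  rw [map_mul, hQa', hQu, one_mul]

end adj

end Groth.Agent.H63.TraceDual
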