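import Mathlib
import Groth.Agent.H63.TraceDual4
import Groth.Agent.H62.FFIntClos2

set_option autoImplicit false
set_option linter.style.haveILetI false
set_option linter.unusedSectionVars false

namespace Groth.Agent.H63.AdjLocal
open FunFld Groth.Agent.H55 WithZero Module Polynomial Groth.Agent.H63.TraceDual

universe u v w

section adj
variable {k : Type u} {K K' : Type v} [Field k] [Field K] [Field K'] [Algebra k K] [Algebra K K']
  [Algebra k K'] [IsScalarTower k K K'] [FiniteDimensional K K'] [Algebra.IsSeparable K K']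
variable {F F' : Type w} [Field F] [Algebra k F] [Field F'] [Algebra k F']

open scoped Pointwise Classical in
/-- converse of Dedekind: if `O_Q` is (on integral elements) a localisation of `O_P[y]`, then
`v_Q(g'(y)) ≤ d(Q|P)` -/
theorem ord_derivative_le (hK : IsFunctionField k K) (hK' : W.IsWeakFF k K')
    [FiniteDimensional k F] [FiniteDimensional k F'] [Algebra.IsSeparable k F']
    (P : Place k K) (Q : Place k K') (hQP : IsOver Q P)
    (φ : K →ₐ[k] LaurentSeries F) (hφ : LocRes.IsExpansionAt P.1 φ)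
    (ψ : K' →ₐ[k] LaurentSeries F') (hψ : LocRes.IsExpansionAt Q.1 ψ)
    (t : K) (ht1 : P.1 t ≤ 1) (hDt : LocRes.vDiff φ 1 t = 1) {m' : ℤ}
    (hm : LocRes.vDiff ψ 1 (algebraMap K K' t) = exp (-m'))
    [Algebra P.O K'] [IsScalarTower P.O K K']
    (y : K') (hy : IntermediateField.adjoin K ({y} : Set K') = ⊤) (hyi : IsIntegral P.O y)
    (hloc : ∀ z : K', IsIntegral P.O z → ∃ b ∈ Algebra.adjoin P.O ({y} : Set K'),
      Q.1 b = 1 ∧ z * b ∈ Algebra.adjoin P.O ({y} : Set K')) :
    Q.ord (aeval y (derivative (minpoly K y))) ≤ m' := by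
  have hyK : IsIntegral K y := Algebra.IsIntegral.isIntegral y
  have hx : Algebra.adjoin K ({y} : Set K') = ⊤ := by
    rw [← IntermediateField.adjoin_simple_toSubalgebra_of_isAlgebraic hyK.isAlgebraic, hy]
    rfl
  set δ : K' := aeval y (derivative (minpoly K y)) with hδdef
  have hδ : δ ≠ 0 :=
    (Algebra.IsSeparable.isSeparable K y).aeval_derivative_ne_zero (minpoly.aeval K y)
  set A := Algebra.adjoin P.O ({y} : Set K') with hA
  have hfin : Module.Finite P.O (integralClosure P.O K') :=
    Groth.Agent.H62.FFIntClos.finite_integralClosure hK P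
  obtain ⟨S, hS⟩ := hfin.fg_top
  choose b hbA hb1 hbr using fun r : integralClosure P.O K' => hloc r.1 r.2
  set c : K' := ∏ r ∈ S, b r with hc
  have hcA : c ∈ A := Subalgebra.prod_mem _ fun r _ => hbA r
  have hc1 : Q.1 c = 1 := by
    rw [hc, map_prod]
    exact Finset.prod_eq_one fun r _ => hb1 r
  have hcr : ∀ r ∈ S, c * (r : K') ∈ A := by
    intro r hr
    rw [hc, ← Finset.mul_prod_erase S _ hr]
    have : (b r * ∏ x ∈ S.erase r, b x) * (r : K') = (∏ x ∈ S.erase r, b x) * ((r : K') * b r) := by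
      ring
    rw [this]
    exact A.mul_mem (Subalgebra.prod_mem _ fun r _ => hbA r) (hbr r)
  have hcz : ∀ z : K', IsIntegral P.O z → c * z ∈ A := by
    intro z hz
    have h1 : (⟨z, hz⟩ : integralClosure P.O K') ∈ Submodule.span P.O (S : Set (integralClosure P.O K')) := by
      rw [hS]; trivial
    have h2 : ∀ r : integralClosure P.O K', r ∈ Submodule.span P.O (S : Set (integralClosure P.O K')) →
        c * (r : K') ∈ A := by
      intro r hr
      induction hr using Submodule.span_induction with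
      | mem x hx => exact hcr x hx
      | zero => simp
      | add x y _ _ hx hy =>
        rw [Subalgebra.coe_add, mul_add]
        exact A.add_mem hx hy
      | smul a x _ hx =>
        have : c * ((a • x : integralClosure P.O K') : K') = a • (c * (x : K')) := by
          rw [Subalgebra.coe_smul, mul_smul_comm]
        rw [this]
        exact A.smul_mem hx a
    exact h2 ⟨z, hz⟩ h1
  have hdual := traceForm_dualSubmodule_adjoin P.O K hx hyi
  have hys : ∀ z : K', IsIntegral P.O z → P.1 (Algebra.trace K K' (c * δ⁻¹ * z)) ≤ 1 := by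
    intro z hz
    have hmem : δ⁻¹ * (c * z) ∈ (Algebra.traceForm K K').dualSubmodule (Subalgebra.toSubmodule A) := by
      rw [hdual]
      exact Submodule.smul_mem_pointwise_smul _ _ _ (hcz z hz)
    rw [LinearMap.BilinForm.mem_dualSubmodule] at hmem
    have h1 := hmem 1 (A.one_mem)
    rw [Algebra.traceForm_apply, mul_one, Submodule.mem_one] at h1
    obtain ⟨p, hp⟩ := h1
    have : c * δ⁻¹ * z = δ⁻¹ * (c * z) := by ring
    rw [this, ← hp]
    exact (Valuation.mem_valuationSubring_iff P.1 _).mp p.2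
  have hle := dual_le hK hK' P Q hQP φ hφ ψ hψ t ht1 hDt hm (c * δ⁻¹) hys
  rw [map_mul, hc1, one_mul, map_inv₀, Place.val_eq_exp_neg_ord Q hδ, ← exp_neg, neg_neg,
    exp_le_exp] at hle
  exact hle

open scoped Classical in
/-- Dedekind's different theorem with its converse: `v_Q(g'(y)) ≥ d(Q|P)`, with equality iff
`O_Q` is a localisation of `O_P[y]` -/
theorem different_iff (hK : IsFunctionField k K) (hg : IsGeometric k K) (hK' : W.IsWeakFF k K')
    [FiniteDimensional k F] [FiniteDimensional k F'] [Algebra.IsSeparable k F']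
    (P : Place k K) (Q : Place k K') (hQP : IsOver Q P)
    (φ : K →ₐ[k] LaurentSeries F) (hφ : LocRes.IsExpansionAt P.1 φ)
    (ψ : K' →ₐ[k] LaurentSeries F') (hψ : LocRes.IsExpansionAt Q.1 ψ)
    (t : K) (ht1 : P.1 t ≤ 1) (hDt : LocRes.vDiff φ 1 t = 1) {m' : ℤ}
    (hm : LocRes.vDiff ψ 1 (algebraMap K K' t) = exp (-m'))
    [Algebra P.O K'] [IsScalarTower P.O K K']
    (y : K') (hy : IntermediateField.adjoin K ({y} : Set K') = ⊤) (hyi : IsIntegral P.O y) :
    m' ≤ Q.ord (aeval y (derivative (minpoly K y))) ∧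
    (Q.ord (aeval y (derivative (minpoly K y))) = m' ↔
      ∀ z : K', Q.1 z ≤ 1 → ∃ a ∈ Algebra.adjoin P.O ({y} : Set K'),
        ∃ b ∈ Algebra.adjoin P.O ({y} : Set K'), Q.1 b = 1 ∧ z * b = a) := by
  obtain ⟨h1, h2⟩ := different_le hK P Q hQP m'
    (dual_exists hK hg hK' P Q hQP φ hφ ψ hψ t ht1 hDt hm) y hy hyi
  refine ⟨h1, h2, fun hloc => le_antisymm ?_ h1⟩
  refine ord_derivative_le hK hK' P Q hQP φ hφ ψ hψ t ht1 hDt hm y hy hyi ?_
  intro z hz
  obtain ⟨a, ha, b, hb, hb1, hzb⟩ := hloc z (val_le_one_of_isIntegral P Q hQP hz)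
  exact ⟨b, hb, hb1, hzb ▸ ha⟩

end adj

end Groth.Agent.H63.AdjLocal
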