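import Mathlib

set_option autoImplicit false

namespace Groth.Agent.H63.AdjPoly

open Polynomial

variable {k : Type*} [Field k]

section theta

variable {R : Type*} [CommRing R] [Algebra k R]

/-- view a polynomial in `X₀, X₁` as a polynomial in `X₀` over `R`, with `X₁ ↦ r` -/
noncomputable def theta (r : R) : MvPolynomial (Fin 2) k →ₐ[k] R[X] :=
  MvPolynomial.aeval ![Polynomial.X, Polynomial.C r]

theorem theta_eq_sum (r : R) (h : MvPolynomial (Fin 2) k) :
    theta r h = ∑ m ∈ h.support,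
      Polynomial.C (algebraMap k R (MvPolynomial.coeff m h) * r ^ (m 1)) * Polynomial.X ^ (m 0) := by
  unfold theta
  rw [MvPolynomial.aeval_def, MvPolynomial.eval₂_eq']
  apply Finset.sum_congr rfl
  intro m _
  rw [Fin.prod_univ_two]
  simp only [Matrix.cons_val_zero, Matrix.cons_val_one]
  rw [Polynomial.algebraMap_apply, Polynomial.C_mul, Polynomial.C_pow]
  ring

theorem sum_le_totalDegree {h : MvPolynomial (Fin 2) k} {m : Fin 2 →₀ ℕ} (hm : m ∈ h.support) :
    m 0 + m 1 ≤ h.totalDegree := by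
  have := MvPolynomial.le_totalDegree hm
  rwa [Finsupp.sum_fintype _ _ (fun _ => rfl), Fin.sum_univ_two] at this

theorem natDegree_theta_le (r : R) {h : MvPolynomial (Fin 2) k} {d : ℕ} (hd : h.totalDegree ≤ d) :
    (theta r h).natDegree ≤ d := by
  rw [theta_eq_sum]
  apply Polynomial.natDegree_sum_le_of_forall_le
  intro m hm
  have h1 := sum_le_totalDegree hm
  exact (Polynomial.natDegree_C_mul_X_pow_le _ _).trans (by omega)

theorem coeff_theta (r : R) {h : MvPolynomial (Fin 2) k} {d : ℕ} (hd : h.totalDegree ≤ d) :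
    (theta r h).coeff d = algebraMap k R (MvPolynomial.coeff (Finsupp.single 0 d) h) := by
  classical
  rw [theta_eq_sum, Polynomial.finsetSum_coeff]
  by_cases hs : Finsupp.single 0 d ∈ h.support
  · rw [Finset.sum_eq_single_of_mem _ hs]
    · rw [Polynomial.coeff_C_mul_X_pow]
      simp
    · intro m hm hne
      rw [Polynomial.coeff_C_mul_X_pow, if_neg]
      intro hd0
      apply hne
      have h1 := sum_le_totalDegree hm
      ext i
      fin_cases i
      · simp [hd0]
      · simp; omega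
  · rw [MvPolynomial.notMem_support_iff.mp hs, map_zero]
    apply Finset.sum_eq_zero
    intro m hm
    rw [Polynomial.coeff_C_mul_X_pow, if_neg]
    intro hd0
    apply hs
    have h1 := sum_le_totalDegree hm
    have : m = Finsupp.single 0 d := by
      ext i
      fin_cases i
      · simp [hd0]
      · simp; omega
    rwa [← this]

theorem derivative_theta (r : R) (h : MvPolynomial (Fin 2) k) :
    Polynomial.derivative (theta r h) = theta r (MvPolynomial.pderiv 0 h) := by
  induction h using MvPolynomial.induction_on with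
  | C a =>
    rw [MvPolynomial.pderiv_C, map_zero]
    unfold theta
    rw [MvPolynomial.aeval_C, Polynomial.algebraMap_apply (R := k) (A := R), Polynomial.derivative_C]
  | add p q hp hq => rw [map_add, map_add, map_add, map_add, hp, hq]
  | mul_X p i hp =>
    rw [map_mul, Polynomial.derivative_mul, hp, Derivation.leibniz, map_add, smul_eq_mul,
      smul_eq_mul, map_mul, map_mul]
    fin_cases i
    · have h1 : theta r (MvPolynomial.X (0 : Fin 2) : MvPolynomial (Fin 2) k) = Polynomial.X := by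
        unfold theta; rw [MvPolynomial.aeval_X]; rfl
      simp only [Fin.zero_eta, MvPolynomial.pderiv_X_self, map_one, h1, Polynomial.derivative_X]
      ring
    · have h1 : theta r (MvPolynomial.X (1 : Fin 2) : MvPolynomial (Fin 2) k) = Polynomial.C r := by
        unfold theta; rw [MvPolynomial.aeval_X]; rfl
      have h2 : MvPolynomial.pderiv (0 : Fin 2) (MvPolynomial.X (1 : Fin 2) : MvPolynomial (Fin 2) k) = 0 :=
        MvPolynomial.pderiv_X_of_ne (by decide)
      simp only [Fin.mk_one, h1, h2, map_zero, Polynomial.derivative_C]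
      ring

theorem eval₂_theta {S : Type*} [CommRing S] [Algebra k S] (ρ : R →+* S)
    (hρ : ∀ c : k, ρ (algebraMap k R c) = algebraMap k S c) (r : R) (s : S)
    (h : MvPolynomial (Fin 2) k) :
    (theta r h).eval₂ ρ s = MvPolynomial.aeval ![s, ρ r] h := by
  induction h using MvPolynomial.induction_on with
  | C a =>
    unfold theta
    rw [MvPolynomial.aeval_C, MvPolynomial.aeval_C, Polynomial.algebraMap_apply,
      Polynomial.eval₂_C, hρ]
  | add p q hp hq => rw [map_add, map_add, Polynomial.eval₂_add, hp, hq]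
  | mul_X p i hp =>
    rw [map_mul, map_mul, Polynomial.eval₂_mul, hp]
    congr 1
    unfold theta
    rw [MvPolynomial.aeval_X, MvPolynomial.aeval_X]
    fin_cases i
    · simp
    · simp

end theta

section twist

/-- the exponent `(a, b)` as a finitely supported function -/
noncomputable def ex (a b : ℕ) : Fin 2 →₀ ℕ := Finsupp.single 0 a + Finsupp.single 1 b

@[simp] theorem ex_zero (a b : ℕ) : ex a b 0 = a := by simp [ex]
@[simp] theorem ex_one (a b : ℕ) : ex a b 1 = b := by simp [ex]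

theorem ex_eq (m : Fin 2 →₀ ℕ) : ex (m 0) (m 1) = m := by
  ext i; fin_cases i <;> simp

/-- `T^d g(S/T, 1/T)` -/
noncomputable def twist (d : ℕ) (g : MvPolynomial (Fin 2) k) : MvPolynomial (Fin 2) k :=
  ∑ m ∈ g.support, MvPolynomial.monomial (ex (m 0) (d - m 0 - m 1)) (MvPolynomial.coeff m g)

variable {A : Type*} [CommRing A] [Algebra k A]

theorem aeval_monomial_ex (v : Fin 2 → A) (a b : ℕ) (c : k) :
    MvPolynomial.aeval v (MvPolynomial.monomial (ex a b) c) =
      algebraMap k A c * (v 0 ^ a * v 1 ^ b) := by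
  rw [MvPolynomial.aeval_monomial, Finsupp.prod_fintype _ _ (fun _ => pow_zero _),
    Fin.prod_univ_two, ex_zero, ex_one]

theorem aeval_eq_sum (v : Fin 2 → A) (g : MvPolynomial (Fin 2) k) :
    MvPolynomial.aeval v g = ∑ m ∈ g.support,
      algebraMap k A (MvPolynomial.coeff m g) * (v 0 ^ m 0 * v 1 ^ m 1) := by
  rw [MvPolynomial.aeval_def, MvPolynomial.eval₂_eq']
  apply Finset.sum_congr rfl
  intro m _
  rw [Fin.prod_univ_two]

theorem pderiv_monomial_ex (a b : ℕ) (c : k) :
    MvPolynomial.pderiv 0 (MvPolynomial.monomial (ex a b) c) =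
      MvPolynomial.monomial (ex (a - 1) b) (c * (a : k)) := by
  have h : ex a b - Finsupp.single 0 1 = ex (a - 1) b := by
    ext i
    fin_cases i <;> simp [ex]
  rw [MvPolynomial.pderiv_monomial, ex_zero, h]

theorem aeval_pderiv_eq_sum (v : Fin 2 → A) (g : MvPolynomial (Fin 2) k) :
    MvPolynomial.aeval v (MvPolynomial.pderiv 0 g) = ∑ m ∈ g.support,
      algebraMap k A (MvPolynomial.coeff m g) * ((m 0 : A) * (v 0 ^ (m 0 - 1) * v 1 ^ m 1)) := by
  conv_lhs => rw [← MvPolynomial.support_sum_monomial_coeff g]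
  rw [map_sum, map_sum]
  apply Finset.sum_congr rfl
  intro m _
  rw [show MvPolynomial.monomial m (MvPolynomial.coeff m g) =
    MvPolynomial.monomial (ex (m 0) (m 1)) (MvPolynomial.coeff m g) by rw [ex_eq]]
  rw [pderiv_monomial_ex, aeval_monomial_ex, map_mul, map_natCast]
  ring

theorem aeval_twist (v : Fin 2 → A) (d : ℕ) (g : MvPolynomial (Fin 2) k) :
    MvPolynomial.aeval v (twist d g) = ∑ m ∈ g.support,
      algebraMap k A (MvPolynomial.coeff m g) * (v 0 ^ m 0 * v 1 ^ (d - m 0 - m 1)) := by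
  unfold twist
  rw [map_sum]
  apply Finset.sum_congr rfl
  intro m _
  rw [aeval_monomial_ex]

theorem aeval_pderiv_twist (v : Fin 2 → A) (d : ℕ) (g : MvPolynomial (Fin 2) k) :
    MvPolynomial.aeval v (MvPolynomial.pderiv 0 (twist d g)) = ∑ m ∈ g.support,
      algebraMap k A (MvPolynomial.coeff m g) *
        ((m 0 : A) * (v 0 ^ (m 0 - 1) * v 1 ^ (d - m 0 - m 1))) := by
  unfold twist
  rw [map_sum, map_sum]
  apply Finset.sum_congr rfl
  intro m _
  rw [pderiv_monomial_ex, aeval_monomial_ex, map_mul, map_natCast]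
  ring

theorem totalDegree_twist_le {d : ℕ} {g : MvPolynomial (Fin 2) k} (hd : g.totalDegree ≤ d) :
    (twist d g).totalDegree ≤ d := by
  unfold twist
  apply MvPolynomial.totalDegree_finsetSum_le
  intro m hm
  have h1 := sum_le_totalDegree hm
  refine (MvPolynomial.totalDegree_monomial_le _ _).trans ?_
  rw [Finsupp.sum_fintype _ _ (fun _ => rfl), Fin.sum_univ_two, ex_zero, ex_one]
  simp only [id]
  omega

theorem coeff_twist {d : ℕ} {g : MvPolynomial (Fin 2) k} (hd : g.totalDegree ≤ d) :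
    MvPolynomial.coeff (Finsupp.single 0 d) (twist d g) =
      MvPolynomial.coeff (Finsupp.single 0 d) g := by
  classical
  unfold twist
  rw [MvPolynomial.coeff_sum]
  have key : ∀ m ∈ g.support, ex (m 0) (d - m 0 - m 1) = Finsupp.single 0 d → m = Finsupp.single 0 d := by
    intro m hm h
    have h1 := sum_le_totalDegree hm
    have h0 := DFunLike.congr_fun h 0
    have h1' := DFunLike.congr_fun h 1
    simp at h0 h1'
    ext i
    fin_cases i
    · simp [h0]
    · simp; omega
  by_cases hs : Finsupp.single 0 d ∈ g.support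
  · rw [Finset.sum_eq_single_of_mem _ hs]
    · rw [MvPolynomial.coeff_monomial, if_pos]
      ext i
      fin_cases i <;> simp
    · intro m hm hne
      rw [MvPolynomial.coeff_monomial, if_neg]
      intro h
      exact hne (key m hm h)
  · rw [MvPolynomial.notMem_support_iff.mp hs]
    apply Finset.sum_eq_zero
    intro m hm
    rw [MvPolynomial.coeff_monomial, if_neg]
    intro h
    exact hs (key m hm h ▸ hm)

end twist

section field

variable {K : Type*} [Field K] [Algebra k K]

/-- the twisted polynomial vanishes at `(σ/τ, 1/τ)` -/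
theorem aeval_twist_inv {σ τ : K} (hτ : τ ≠ 0) {d : ℕ} {g : MvPolynomial (Fin 2) k}
    (hd : g.totalDegree ≤ d) :
    MvPolynomial.aeval ![σ * τ⁻¹, τ⁻¹] (twist d g) =
      τ⁻¹ ^ d * MvPolynomial.aeval ![σ, τ] g := by
  rw [aeval_twist, aeval_eq_sum, Finset.mul_sum]
  apply Finset.sum_congr rfl
  intro m hm
  have h1 := sum_le_totalDegree hm
  simp only [Matrix.cons_val_zero, Matrix.cons_val_one]
  have h2 : τ⁻¹ ^ d = τ⁻¹ ^ (d - m 0 - m 1) * τ⁻¹ ^ m 0 * τ⁻¹ ^ m 1 := by
    rw [← pow_add, ← pow_add]; congr 1; omega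
  rw [h2, mul_pow]
  have h3 : τ⁻¹ ^ m 1 * τ ^ m 1 = 1 := by rw [← mul_pow, inv_mul_cancel₀ hτ, one_pow]
  calc algebraMap k K (MvPolynomial.coeff m g) * (σ ^ m 0 * τ⁻¹ ^ m 0 * τ⁻¹ ^ (d - m 0 - m 1))
      = algebraMap k K (MvPolynomial.coeff m g) * (σ ^ m 0 * τ⁻¹ ^ m 0 * τ⁻¹ ^ (d - m 0 - m 1)) *
          (τ⁻¹ ^ m 1 * τ ^ m 1) := by rw [h3, mul_one]
    _ = _ := by ring

theorem aeval_pderiv_twist_inv {σ τ : K} (hτ : τ ≠ 0) {d : ℕ} {g : MvPolynomial (Fin 2) k}
    (hd : g.totalDegree ≤ d) :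
    MvPolynomial.aeval ![σ * τ⁻¹, τ⁻¹] (MvPolynomial.pderiv 0 (twist d g)) =
      τ⁻¹ ^ (d - 1) * MvPolynomial.aeval ![σ, τ] (MvPolynomial.pderiv 0 g) := by
  rw [aeval_pderiv_twist, aeval_pderiv_eq_sum, Finset.mul_sum]
  apply Finset.sum_congr rfl
  intro m hm
  have h1 := sum_le_totalDegree hm
  simp only [Matrix.cons_val_zero, Matrix.cons_val_one]
  rcases Nat.eq_zero_or_pos (m 0) with h0 | h0
  · rw [h0]; simp
  have h2 : τ⁻¹ ^ (d - 1) = τ⁻¹ ^ (d - m 0 - m 1) * τ⁻¹ ^ (m 0 - 1) * τ⁻¹ ^ m 1 := by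
    rw [← pow_add, ← pow_add]; congr 1; omega
  rw [h2, mul_pow]
  have h3 : τ⁻¹ ^ m 1 * τ ^ m 1 = 1 := by rw [← mul_pow, inv_mul_cancel₀ hτ, one_pow]
  calc algebraMap k K (MvPolynomial.coeff m g) *
        ((m 0 : K) * (σ ^ (m 0 - 1) * τ⁻¹ ^ (m 0 - 1) * τ⁻¹ ^ (d - m 0 - m 1)))
      = algebraMap k K (MvPolynomial.coeff m g) *
        ((m 0 : K) * (σ ^ (m 0 - 1) * τ⁻¹ ^ (m 0 - 1) * τ⁻¹ ^ (d - m 0 - m 1))) *
          (τ⁻¹ ^ m 1 * τ ^ m 1) := by rw [h3, mul_one]
    _ = _ := by ring

end field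

end Groth.Agent.H63.AdjPoly
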