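import Mathlib
import Groth.Agent.H63.AdjLocal
import Groth.Agent.H63.AdjPoly
import Groth.Agent.H55.Plane2
import Groth.Agent.H86.EX2
import Groth.Agent.H86.HF1
import Groth.Agent.H63.MinpolyDiff
import Groth.Agent.H63.DiffExp
import Groth.Agent.H55.Geom1

set_option autoImplicit false
set_option linter.style.haveILetI false
set_option linter.unusedSectionVars false

namespace Groth.Agent.H63.AdjPlane
open FunFld Groth.Agent.H55 WithZero Module Polynomial IntermediateField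
open Groth.Agent.H63.AdjPoly

universe u v

variable {k : Type u} {K : Type v} [Field k] [Field K] [Algebra k K]

section base

variable {τ : K} (hτ : Transcendental k τ)

theorem coe_aeval_gen (p : k[X]) :
    ((aeval (AdjoinSimple.gen k τ) p : k⟮τ⟯) : K) = aeval τ p := by
  have := Polynomial.aeval_algHom_apply (k⟮τ⟯.val) (AdjoinSimple.gen k τ) p
  exact this.symm

include hτ in
/-- an element of `k(τ)` integral at a finite place has a denominator which is a unit there -/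
theorem exists_unit_denominator (P : Place k k⟮τ⟯) (hP : P.1 (AdjoinSimple.gen k τ) ≤ 1)
    (p : k⟮τ⟯) (hp : P.1 p ≤ 1) :
    ∃ α β : k[X], P.1 (aeval (AdjoinSimple.gen k τ) β) = 1 ∧
      p * aeval (AdjoinSimple.gen k τ) β = aeval (AdjoinSimple.gen k τ) α := by
  set g := AdjoinSimple.gen k τ with hg
  let e := RatFunc.algEquivOfTranscendental τ hτ
  obtain ⟨ρ, rfl⟩ := e.surjective p
  have hd0 : ρ.denom ≠ 0 := RatFunc.denom_ne_zero ρ
  have hρ : e ρ * aeval g ρ.denom = aeval g ρ.num := by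
    have h1 : e (algebraMap k[X] (RatFunc k) ρ.num) = aeval g ρ.num :=
      RatFunc.algEquivOfTranscendental_algebraMap τ hτ _
    have h2 : e (algebraMap k[X] (RatFunc k) ρ.denom) = aeval g ρ.denom :=
      RatFunc.algEquivOfTranscendental_algebraMap τ hτ _
    rw [← h1, ← h2, ← map_mul]
    congr 1
    have h3 := RatFunc.num_div_denom ρ
    have h4 : algebraMap k[X] (RatFunc k) ρ.denom ≠ 0 := by
      rw [Ne, map_eq_zero_iff _ (IsFractionRing.injective k[X] (RatFunc k))]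
      exact hd0
    rw [div_eq_iff h4] at h3
    exact h3.symm
  refine ⟨ρ.num, ρ.denom, ?_, hρ⟩
  have hle : ∀ q : k[X], P.1 (aeval g q) ≤ 1 := fun q => Place.aeval_mem P q hP
  by_contra hne
  have hlt : P.1 (aeval g ρ.denom) < 1 := lt_of_le_of_ne (hle _) hne
  obtain ⟨a, b, hab⟩ := RatFunc.isCoprime_num_denom ρ
  have h1 : aeval g a * aeval g ρ.num + aeval g b * aeval g ρ.denom = 1 := by
    rw [← map_mul, ← map_mul, ← map_add, hab, map_one]
  have hN : P.1 (aeval g ρ.num) = 1 := by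
    by_contra hN
    have hNlt : P.1 (aeval g ρ.num) < 1 := lt_of_le_of_ne (hle _) hN
    have h2 : P.1 (1 : k⟮τ⟯) < 1 := by
      rw [← h1]
      refine lt_of_le_of_lt (P.1.map_add _ _) (max_lt ?_ ?_)
      · rw [map_mul]
        exact mul_lt_one_of_nonneg_of_lt_one_right (hle a) zero_le hNlt
      · rw [map_mul]
        exact mul_lt_one_of_nonneg_of_lt_one_right (hle b) zero_le hlt
    rw [map_one] at h2
    exact lt_irrefl _ h2
  have h3 := congrArg P.1 hρ
  rw [map_mul, hN] at h3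
  have h0 : P.1 (aeval g ρ.denom) ≠ 0 := by
    intro h
    rw [h, mul_zero] at h3
    exact zero_ne_one h3
  have : P.1 (e ρ) * P.1 (aeval g ρ.denom) < 1 :=
    lt_of_le_of_lt (mul_le_mul' hp le_rfl) (by rw [one_mul]; exact hlt)
  rw [h3] at this
  exact lt_irrefl _ this

end base

section base2

variable {τ : K} (hτ : Transcendental k τ)

include hτ in
/-- elements of `O_P[σ]` are elements of `k[σ, τ]` up to a denominator in `k[τ]` which is a
unit at `P` -/
theorem exists_mul_mem_adjoin (P : Place k k⟮τ⟯) (hP : P.1 (AdjoinSimple.gen k τ) ≤ 1) (σ : K)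
    (a : K) (ha : a ∈ Algebra.adjoin P.O ({σ} : Set K)) :
    ∃ β : k[X], P.1 (aeval (AdjoinSimple.gen k τ) β) = 1 ∧
      aeval τ β * a ∈ Algebra.adjoin k ({σ, τ} : Set K) := by
  set R := Algebra.adjoin k ({σ, τ} : Set K) with hR
  have hσR : σ ∈ R := Algebra.subset_adjoin (by simp)
  have hpoly : ∀ q : k[X], aeval τ q ∈ R := fun q =>
    Algebra.adjoin_mono (by simp) (Polynomial.aeval_mem_adjoin_singleton k τ)
  induction ha using Algebra.adjoin_induction with
  | mem x hx =>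
    rw [Set.mem_singleton_iff] at hx
    subst hx
    exact ⟨1, by simp, by simpa using hσR⟩
  | algebraMap p =>
    obtain ⟨α, β, hβ, hpβ⟩ := exists_unit_denominator hτ P hP (p : k⟮τ⟯)
      ((Valuation.mem_valuationSubring_iff P.1 _).mp p.2)
    refine ⟨β, hβ, ?_⟩
    have h1 : algebraMap P.O K p = ((p : k⟮τ⟯) : K) := rfl
    have h2 := congrArg (fun z : k⟮τ⟯ => (z : K)) hpβ
    simp only [MulMemClass.coe_mul, coe_aeval_gen] at h2
    rw [h1, mul_comm, h2]
    exact hpoly α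
  | add x y _ _ hx hy =>
    obtain ⟨β₁, h1, hx⟩ := hx
    obtain ⟨β₂, h2, hy⟩ := hy
    refine ⟨β₁ * β₂, by rw [map_mul, map_mul, h1, h2, one_mul], ?_⟩
    have : aeval τ (β₁ * β₂) * (x + y) =
        aeval τ β₂ * (aeval τ β₁ * x) + aeval τ β₁ * (aeval τ β₂ * y) := by
      rw [map_mul]; ring
    rw [this]
    exact R.add_mem (R.mul_mem (hpoly _) hx) (R.mul_mem (hpoly _) hy)
  | mul x y _ _ hx hy =>
    obtain ⟨β₁, h1, hx⟩ := hx
    obtain ⟨β₂, h2, hy⟩ := hy
    refine ⟨β₁ * β₂, by rw [map_mul, map_mul, h1, h2, one_mul], ?_⟩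
    have : aeval τ (β₁ * β₂) * (x * y) = (aeval τ β₁ * x) * (aeval τ β₂ * y) := by
      rw [map_mul]; ring
    rw [this]
    exact R.mul_mem hx hy

end base2

section mpoly

/-- the monic normalisation of `h(X, r)` -/
noncomputable def mpoly (R : Type*) [CommRing R] [Algebra k R] (r : R)
    (h : MvPolynomial (Fin 2) k) (d : ℕ) : R[X] :=
  C (algebraMap k R (MvPolynomial.coeff (Finsupp.single 0 d) h)⁻¹) * theta r h

variable {R : Type*} [CommRing R] [Algebra k R] [Nontrivial R] (r : R)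
  {h : MvPolynomial (Fin 2) k} {d : ℕ}

theorem natDegree_mpoly_le (htd : h.totalDegree ≤ d) : (mpoly R r h d).natDegree ≤ d :=
  (natDegree_C_mul_le _ _).trans (natDegree_theta_le r htd)

theorem coeff_mpoly (htd : h.totalDegree ≤ d)
    (hc : MvPolynomial.coeff (Finsupp.single 0 d) h ≠ 0) : (mpoly R r h d).coeff d = 1 := by
  unfold mpoly
  rw [coeff_C_mul, coeff_theta r htd, ← map_mul, inv_mul_cancel₀ hc, map_one]

theorem mpoly_monic (htd : h.totalDegree ≤ d)
    (hc : MvPolynomial.coeff (Finsupp.single 0 d) h ≠ 0) : (mpoly R r h d).Monic :=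
  monic_of_natDegree_le_of_coeff_eq_one d (natDegree_mpoly_le r htd) (coeff_mpoly r htd hc)

theorem natDegree_mpoly (htd : h.totalDegree ≤ d)
    (hc : MvPolynomial.coeff (Finsupp.single 0 d) h ≠ 0) : (mpoly R r h d).natDegree = d := by
  apply le_antisymm (natDegree_mpoly_le r htd)
  apply le_natDegree_of_ne_zero
  rw [coeff_mpoly r htd hc]
  exact one_ne_zero

theorem eval₂_mpoly {S : Type*} [CommRing S] [Algebra k S] (ρ : R →+* S)
    (hρ : ∀ c : k, ρ (algebraMap k R c) = algebraMap k S c) (s : S) :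
    (mpoly R r h d).eval₂ ρ s =
      algebraMap k S (MvPolynomial.coeff (Finsupp.single 0 d) h)⁻¹ *
        MvPolynomial.aeval ![s, ρ r] h := by
  unfold mpoly
  rw [eval₂_mul, eval₂_C, hρ, eval₂_theta ρ hρ]

theorem eval₂_derivative_mpoly {S : Type*} [CommRing S] [Algebra k S] (ρ : R →+* S)
    (hρ : ∀ c : k, ρ (algebraMap k R c) = algebraMap k S c) (s : S) :
    (derivative (mpoly R r h d)).eval₂ ρ s =
      algebraMap k S (MvPolynomial.coeff (Finsupp.single 0 d) h)⁻¹ *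
        MvPolynomial.aeval ![s, ρ r] (MvPolynomial.pderiv 0 h) := by
  unfold mpoly
  rw [derivative_C_mul, derivative_theta, eval₂_mul, eval₂_C, hρ, eval₂_theta ρ hρ]

end mpoly

section rel

variable {σ τ : K} {h : MvPolynomial (Fin 2) k} {d : ℕ}
  (htd : h.totalDegree ≤ d) (hc : MvPolynomial.coeff (Finsupp.single 0 d) h ≠ 0)
  (hrel : MvPolynomial.aeval ![σ, τ] h = 0)

include htd hc hrel in
theorem isIntegral_of_rel (P : Place k k⟮τ⟯) (hP : P.1 (AdjoinSimple.gen k τ) ≤ 1) :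
    IsIntegral P.O σ := by
  refine ⟨mpoly P.O ⟨AdjoinSimple.gen k τ, (Valuation.mem_valuationSubring_iff P.1 _).mpr hP⟩ h d,
    mpoly_monic _ htd hc, ?_⟩
  rw [eval₂_mpoly _ (algebraMap P.O K) (fun c => rfl)]
  have : (algebraMap P.O K) ⟨AdjoinSimple.gen k τ, (Valuation.mem_valuationSubring_iff P.1 _).mpr hP⟩ = τ :=
    rfl
  rw [this, hrel, mul_zero]

include htd hc hrel in
theorem minpoly_eq_mpoly (hfin : finrank k⟮τ⟯ K = d) (hd : 0 < d)
    (hgen : k⟮τ⟯⟮σ⟯ = ⊤) :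
    minpoly k⟮τ⟯ σ = mpoly k⟮τ⟯ (AdjoinSimple.gen k τ) h d := by
  haveI : FiniteDimensional k⟮τ⟯ K := Module.finite_of_finrank_pos (by omega)
  have hint : IsIntegral k⟮τ⟯ σ := Algebra.IsIntegral.isIntegral σ
  have hdeg : (minpoly k⟮τ⟯ σ).natDegree = d := by
    rw [← IntermediateField.adjoin.finrank hint, hgen, IntermediateField.finrank_top', hfin]
  have hroot : aeval σ (mpoly k⟮τ⟯ (AdjoinSimple.gen k τ) h d) = 0 := by
    have h1 := eval₂_mpoly (k := k) (R := k⟮τ⟯) (AdjoinSimple.gen k τ) (h := h) (d := d)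
      (algebraMap k⟮τ⟯ K) (fun c => rfl) σ
    have : (algebraMap k⟮τ⟯ K) (AdjoinSimple.gen k τ) = τ := rfl
    rw [this, hrel, mul_zero] at h1
    rw [aeval_def]
    exact h1
  have hdvd := minpoly.dvd k⟮τ⟯ σ hroot
  exact (eq_of_monic_of_dvd_of_natDegree_le (minpoly.monic hint) (mpoly_monic _ htd hc) hdvd
    (by rw [hdeg, natDegree_mpoly _ htd hc])).symm

include htd hc hrel in
theorem aeval_derivative_minpoly (hfin : finrank k⟮τ⟯ K = d) (hd : 0 < d)
    (hgen : k⟮τ⟯⟮σ⟯ = ⊤) :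
    aeval σ (derivative (minpoly k⟮τ⟯ σ)) =
      algebraMap k K (MvPolynomial.coeff (Finsupp.single 0 d) h)⁻¹ *
        MvPolynomial.aeval ![σ, τ] (MvPolynomial.pderiv 0 h) := by
  rw [minpoly_eq_mpoly htd hc hrel hfin hd hgen, aeval_def]
  exact eval₂_derivative_mpoly (k := k) (R := k⟮τ⟯) (AdjoinSimple.gen k τ) (h := h) (d := d)
      (algebraMap k⟮τ⟯ K) (fun c => rfl) σ

include htd hc hrel in
theorem isSeparable_of_rel (hfin : finrank k⟮τ⟯ K = d) (hd : 0 < d)
    (hgen : k⟮τ⟯⟮σ⟯ = ⊤)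
    (hder : MvPolynomial.aeval ![σ, τ] (MvPolynomial.pderiv 0 h) ≠ 0) :
    Algebra.IsSeparable k⟮τ⟯ K := by
  haveI : FiniteDimensional k⟮τ⟯ K := Module.finite_of_finrank_pos (by omega)
  have hint : IsIntegral k⟮τ⟯ σ := Algebra.IsIntegral.isIntegral σ
  have h1 := aeval_derivative_minpoly htd hc hrel hfin hd hgen
  have hne : derivative (minpoly k⟮τ⟯ σ) ≠ 0 := by
    intro h0
    rw [h0, map_zero] at h1
    have hc' : algebraMap k K (MvPolynomial.coeff (Finsupp.single 0 d) h)⁻¹ ≠ 0 := by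
      rw [Ne, map_eq_zero_iff _ (algebraMap k K).injective]
      exact inv_ne_zero hc
    exact (mul_ne_zero hc' hder) h1.symm
  have hsep : IsSeparable k⟮τ⟯ σ :=
    (Polynomial.separable_iff_derivative_ne_zero (minpoly.irreducible hint)).mpr hne
  have h2 : Algebra.IsSeparable k⟮τ⟯ k⟮τ⟯⟮σ⟯ :=
    (isSeparable_adjoin_simple_iff_isSeparable k⟮τ⟯ K).2 hsep
  rw [hgen] at h2
  exact AlgEquiv.Algebra.isSeparable (IntermediateField.topEquiv (F := k⟮τ⟯) (E := K))

end rel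

section main

variable [IsAlgClosed k]

theorem vDiff_gen_eq_one {τ : K} (hτ : Transcendental k τ) (P : Place k k⟮τ⟯)
    (hP : P.1 (AdjoinSimple.gen k τ) ≤ 1) (φ : k⟮τ⟯ →ₐ[k] LaurentSeries k)
    (hφ : LocRes.IsExpansionAt P.1 φ) : LocRes.vDiff φ 1 (AdjoinSimple.gen k τ) = 1 := by
  have hK₀ : IsFunctionField k k⟮τ⟯ := isFunctionField_adjoin hτ
  obtain ⟨b, hb⟩ := Place.exists_const_sub_lt_one (Place.deg_eq_one_of_isAlgClosed hK₀ P) hP
  have h1 := val_gen_sub_eq hτ P b hb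
  have h2 : Valued.v (φ (AdjoinSimple.gen k τ - algebraMap k k⟮τ⟯ b)) = exp (-1 : ℤ) := by
    rw [hφ.1, h1]
  have h3 := Groth.Agent.H63.MinpolyDiff.v_D_unif _ h2
  rw [map_sub, map_sub, LocRes.map_algebraMap] at h3
  have h4 : LocRes.D k (HahnSeries.C ((algebraMap k k) b) : LaurentSeries k) = 0 :=
    LocRes.derivative_C k _
  rw [h4, sub_zero] at h3
  rw [Groth.Agent.H63.DiffExp.vDiff_one]
  exact h3

/-- **good position**: `τ` the base coordinate, `σ` the generator, `h(σ, τ) = 0` monic of degree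
`d = [K : k(τ)]` in `σ`; at a place `Q` where `τ` is finite, `ord_Q(dτ) ≤ ord_Q(h_σ(σ, τ))`, with
equality iff `O_Q` is the local ring of `k[σ, τ]` at `Q`. -/
theorem good_position (hK : IsFunctionField k K) {σ τ : K} (hτ : Transcendental k τ)
    {h : MvPolynomial (Fin 2) k} {d : ℕ} (hd : 0 < d) (htd : h.totalDegree ≤ d)
    (hc : MvPolynomial.coeff (Finsupp.single 0 d) h ≠ 0)
    (hrel : MvPolynomial.aeval ![σ, τ] h = 0) (hfin : finrank k⟮τ⟯ K = d)
    (hgen : k⟮τ⟯⟮σ⟯ = ⊤)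
    (hder : MvPolynomial.aeval ![σ, τ] (MvPolynomial.pderiv 0 h) ≠ 0)
    (Q : Place k K) (hQ : Q.1 τ ≤ 1) (Φ : K →ₐ[k] LaurentSeries k)
    (hΦ : LocRes.IsExpansionAt Q.1 Φ) (hD : LocRes.vDiff Φ 1 τ ≠ 0) :
    LocRes.ordDiff Φ 1 τ ≤ Q.ord (MvPolynomial.aeval ![σ, τ] (MvPolynomial.pderiv 0 h)) ∧
    (Q.ord (MvPolynomial.aeval ![σ, τ] (MvPolynomial.pderiv 0 h)) = LocRes.ordDiff Φ 1 τ ↔
      ∀ z : K, Q.1 z ≤ 1 → ∃ a ∈ Algebra.adjoin k ({σ, τ} : Set K),
        ∃ b ∈ Algebra.adjoin k ({σ, τ} : Set K), Q.1 b = 1 ∧ z * b = a) := by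
  have hK₀ : IsFunctionField k k⟮τ⟯ := isFunctionField_adjoin hτ
  have hg₀ : IsGeometric k k⟮τ⟯ := Groth.Agent.H55.isGeometric_of_perfectField k k⟮τ⟯ hK₀
  haveI : FiniteDimensional k⟮τ⟯ K := Module.finite_of_finrank_pos (by omega)
  haveI : Algebra.IsSeparable k⟮τ⟯ K := isSeparable_of_rel htd hc hrel hfin hd hgen hder
  have hK' : W.IsWeakFF k K := hK.weak
  obtain ⟨P, e, he⟩ := exists_place_under hK₀ Q
  set g := AdjoinSimple.gen k τ with hg
  have hgτ : algebraMap k⟮τ⟯ K g = τ := rfl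
  have hP : P.1 g ≤ 1 := (isOverWith_le_one_iff he g).mp (by rw [hgτ]; exact hQ)
  obtain ⟨s₀, H, hH⟩ := Groth.Agent.H86.FF.exists_hasseFamily hK₀
  obtain ⟨φ, hφ⟩ := Groth.Agent.H86.FF.exists_expansion hK₀ hH P
  have hDt : LocRes.vDiff φ 1 g = 1 := vDiff_gen_eq_one hτ P hP φ hφ
  have hm : LocRes.vDiff Φ 1 (algebraMap k⟮τ⟯ K g) = exp (-(LocRes.ordDiff Φ 1 τ)) := by
    rw [hgτ]
    unfold LocRes.ordDiff
    rw [neg_neg, WithZero.exp_log hD]
  have hint : IsIntegral P.O σ := isIntegral_of_rel htd hc hrel P hP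
  obtain ⟨h1, h2⟩ := Groth.Agent.H63.AdjLocal.different_iff hK₀ hg₀ hK' P Q ⟨e, he⟩ φ hφ Φ hΦ g hP
    hDt hm σ hgen hint
  have hδ := aeval_derivative_minpoly htd hc hrel hfin hd hgen
  have hc' : algebraMap k K (MvPolynomial.coeff (Finsupp.single 0 d) h)⁻¹ ≠ 0 := by
    rw [Ne, map_eq_zero_iff _ (algebraMap k K).injective]
    exact inv_ne_zero hc
  have hord : Q.ord (aeval σ (derivative (minpoly k⟮τ⟯ σ))) =
      Q.ord (MvPolynomial.aeval ![σ, τ] (MvPolynomial.pderiv 0 h)) := by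
    rw [hδ, Place.ord_mul Q hc' hder, Place.ord_algebraMap, zero_add]
  rw [hord] at h1 h2
  refine ⟨h1, h2.trans ⟨fun hloc z hz => ?_, fun hloc z hz => ?_⟩⟩
  · obtain ⟨a, ha, b, hb, hb1, hzb⟩ := hloc z hz
    obtain ⟨βa, hβa1, hβa⟩ := exists_mul_mem_adjoin hτ P hP σ a ha
    obtain ⟨βb, hβb1, hβb⟩ := exists_mul_mem_adjoin hτ P hP σ b hb
    have hQβ : ∀ β : k[X], P.1 (aeval g β) = 1 → Q.1 (aeval τ β) = 1 := by
      intro β hβ
      have := he (aeval g β)
      rw [hβ, one_pow] at this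
      have h3 : algebraMap k⟮τ⟯ K (aeval g β) = aeval τ β := coe_aeval_gen β
      rw [h3] at this
      exact this
    refine ⟨aeval τ βb * (aeval τ βa * a), ?_, aeval τ βa * (aeval τ βb * b), ?_, ?_, ?_⟩
    · exact Subalgebra.mul_mem _
        (Algebra.adjoin_mono (by simp) (Polynomial.aeval_mem_adjoin_singleton k τ)) hβa
    · exact Subalgebra.mul_mem _
        (Algebra.adjoin_mono (by simp) (Polynomial.aeval_mem_adjoin_singleton k τ)) hβb
    · rw [map_mul, map_mul, hQβ βa hβa1, hQβ βb hβb1, hb1, one_mul, one_mul]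
    · rw [← hzb]; ring
  · obtain ⟨a, ha, b, hb, hb1, hzb⟩ := hloc z hz
    have hle : ∀ w ∈ Algebra.adjoin k ({σ, τ} : Set K), w ∈ Algebra.adjoin P.O ({σ} : Set K) := by
      intro w hw
      induction hw using Algebra.adjoin_induction with
      | mem x hx =>
        rcases hx with rfl | hx
        · exact Algebra.subset_adjoin rfl
        · rw [Set.mem_singleton_iff] at hx
          subst hx
          exact Subalgebra.algebraMap_mem _
            (⟨g, (Valuation.mem_valuationSubring_iff P.1 _).mpr hP⟩ : P.O)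
      | algebraMap c =>
        exact Subalgebra.algebraMap_mem _ (algebraMap k P.O c)
      | add x y _ _ hx hy => exact Subalgebra.add_mem _ hx hy
      | mul x y _ _ hx hy => exact Subalgebra.mul_mem _ hx hy
    exact ⟨a, hle a ha, b, hle b hb, hb1, hzb⟩

end main

end Groth.Agent.H63.AdjPlane
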