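import Mathlib
import Groth.Agent.H63.AdjPlane1
import Groth.Agent.H55.Ker6
import Groth.Agent.H55.FFNS7

set_option autoImplicit false
set_option linter.style.haveILetI false
set_option linter.unusedSectionVars false

namespace Groth.Agent.H63.AdjPlane
open FunFld Groth.Agent.H55 WithZero Module Polynomial IntermediateField
open Groth.Agent.H63.AdjPoly

universe u v

section shear

variable {k : Type u} [Field k]

theorem pderiv_one_shear (c : k) (p : MvPolynomial (Fin 2) k) :
    MvPolynomial.pderiv 1 (shear c p) = shear c (MvPolynomial.pderiv 1 p) := by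
  induction p using MvPolynomial.induction_on with
  | C a =>
    have : shear c (MvPolynomial.C a) = MvPolynomial.C a := by
      unfold shear; rw [MvPolynomial.aeval_C]; rfl
    rw [this, MvPolynomial.pderiv_C, map_zero]
  | add p q hp hq => rw [map_add, map_add, map_add, map_add, hp, hq]
  | mul_X p i hp =>
    rw [map_mul, Derivation.leibniz, Derivation.leibniz, hp, map_add, smul_eq_mul, smul_eq_mul,
      smul_eq_mul, smul_eq_mul, map_mul, map_mul]
    congr 2
    fin_cases i
    · have h1 : shear c (MvPolynomial.X (0 : Fin 2) : MvPolynomial (Fin 2) k) = MvPolynomial.X 0 := by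
        unfold shear; rw [MvPolynomial.aeval_X]; rfl
      have h2 : MvPolynomial.pderiv (1 : Fin 2) (MvPolynomial.X (0 : Fin 2) : MvPolynomial (Fin 2) k) = 0 :=
        MvPolynomial.pderiv_X_of_ne (by decide)
      simp only [Fin.zero_eta, h1, h2, map_zero]
    · have h1 : shear c (MvPolynomial.X (1 : Fin 2) : MvPolynomial (Fin 2) k) =
          MvPolynomial.X 1 + MvPolynomial.C c * MvPolynomial.X 0 := by
        unfold shear; rw [MvPolynomial.aeval_X]; rfl
      have h2 : MvPolynomial.pderiv (1 : Fin 2) (MvPolynomial.X (0 : Fin 2) : MvPolynomial (Fin 2) k) = 0 :=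
        MvPolynomial.pderiv_X_of_ne (by decide)
      simp only [Fin.mk_one, h1, map_add, MvPolynomial.pderiv_X_self, MvPolynomial.pderiv_C_mul, h2,
        mul_zero, add_zero, map_one]

theorem pderiv_zero_shear (c : k) (p : MvPolynomial (Fin 2) k) :
    MvPolynomial.pderiv 0 (shear c p) =
      shear c (MvPolynomial.pderiv 0 p) + MvPolynomial.C c * shear c (MvPolynomial.pderiv 1 p) := by
  induction p using MvPolynomial.induction_on with
  | C a =>
    have : shear c (MvPolynomial.C a) = MvPolynomial.C a := by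
      unfold shear; rw [MvPolynomial.aeval_C]; rfl
    rw [this, MvPolynomial.pderiv_C, MvPolynomial.pderiv_C, map_zero, mul_zero, add_zero]
  | add p q hp hq =>
    rw [map_add, map_add, map_add, map_add, map_add, map_add, hp, hq]; ring
  | mul_X p i hp =>
    rw [map_mul, Derivation.leibniz, Derivation.leibniz, Derivation.leibniz, hp, map_add, map_add,
      smul_eq_mul, smul_eq_mul, smul_eq_mul, smul_eq_mul, smul_eq_mul, smul_eq_mul, map_mul, map_mul,
      map_mul, map_mul]
    fin_cases i
    · have h1 : shear c (MvPolynomial.X (0 : Fin 2) : MvPolynomial (Fin 2) k) = MvPolynomial.X 0 := by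
        unfold shear; rw [MvPolynomial.aeval_X]; rfl
      have h2 : MvPolynomial.pderiv (1 : Fin 2) (MvPolynomial.X (0 : Fin 2) : MvPolynomial (Fin 2) k) = 0 :=
        MvPolynomial.pderiv_X_of_ne (by decide)
      simp only [Fin.zero_eta, h1, h2, map_zero, MvPolynomial.pderiv_X_self, map_one]
      ring
    · have h1 : shear c (MvPolynomial.X (1 : Fin 2) : MvPolynomial (Fin 2) k) =
          MvPolynomial.X 1 + MvPolynomial.C c * MvPolynomial.X 0 := by
        unfold shear; rw [MvPolynomial.aeval_X]; rfl
      have h2 : MvPolynomial.pderiv (0 : Fin 2) (MvPolynomial.X (1 : Fin 2) : MvPolynomial (Fin 2) k) = 0 :=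
        MvPolynomial.pderiv_X_of_ne (by decide)
      simp only [Fin.mk_one, h1, map_add, MvPolynomial.pderiv_X_self, MvPolynomial.pderiv_C_mul, h2,
        mul_zero, map_one, zero_add, mul_one, map_zero]
      ring

end shear

section chain

variable {k : Type u} {K : Type v} [Field k] [Field K] [Algebra k K]
  {F : Type*} [Field F] [Algebra k F]

open LaurentSeries in
/-- chain rule through an expansion -/
theorem D_aeval_pair (Φ : K →ₐ[k] F⸨X⸩) (a b : K) (p : MvPolynomial (Fin 2) k) :
    LocRes.D F (Φ (MvPolynomial.aeval ![a, b] p)) =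
      Φ (MvPolynomial.aeval ![a, b] (MvPolynomial.pderiv 0 p)) * LocRes.D F (Φ a) +
      Φ (MvPolynomial.aeval ![a, b] (MvPolynomial.pderiv 1 p)) * LocRes.D F (Φ b) := by
  induction p using MvPolynomial.induction_on with
  | C c =>
    rw [MvPolynomial.aeval_C, MvPolynomial.pderiv_C, MvPolynomial.pderiv_C, map_zero, map_zero,
      zero_mul, zero_mul, add_zero, LocRes.map_algebraMap]
    exact LocRes.derivative_C F _
  | add p q hp hq =>
    simp only [map_add, hp, hq]; ring
  | mul_X p i hp =>
    rw [map_mul, map_mul, Derivation.leibniz, hp, Derivation.leibniz, Derivation.leibniz]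
    simp only [smul_eq_mul, map_add, map_mul, MvPolynomial.aeval_X]
    fin_cases i
    · have h2 : MvPolynomial.pderiv (1 : Fin 2) (MvPolynomial.X (0 : Fin 2) : MvPolynomial (Fin 2) k) = 0 :=
        MvPolynomial.pderiv_X_of_ne (by decide)
      simp only [Fin.zero_eta, Matrix.cons_val_zero, MvPolynomial.pderiv_X_self, h2, map_one,
        map_zero, mul_zero, zero_add, mul_one]
      ring
    · have h2 : MvPolynomial.pderiv (0 : Fin 2) (MvPolynomial.X (1 : Fin 2) : MvPolynomial (Fin 2) k) = 0 :=
        MvPolynomial.pderiv_X_of_ne (by decide)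
      simp only [Fin.mk_one, Matrix.cons_val_one, MvPolynomial.pderiv_X_self, h2, map_one,
        map_zero, mul_zero, zero_add, mul_one, Matrix.cons_val_fin_one]
      ring

open LaurentSeries in
theorem D_inv (f : F⸨X⸩) : LocRes.D F f⁻¹ = -(f⁻¹ ^ 2) * LocRes.D F f := by
  rw [Derivation.leibniz_inv, smul_eq_mul]

end chain

section setup

variable {k : Type u} {K : Type v} [Field k] [Field K] [Algebra k K]

theorem coeff_shear_eq_eval (c : k) (f : MvPolynomial (Fin 2) k) (d : ℕ) :
    MvPolynomial.coeff (Finsupp.single 0 d) (shear c f) =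
      (MvPolynomial.aeval ![(1 : k[X]), Polynomial.X]
        (MvPolynomial.homogeneousComponent d f)).eval c := by
  rw [coeff_shear]
  have h2 := MvPolynomial.comp_aeval_apply (f := ![(1 : Polynomial k), Polynomial.X])
    (Polynomial.aeval c : Polynomial k →ₐ[k] k) (MvPolynomial.homogeneousComponent d f)
  have h3 : (fun i => (Polynomial.aeval c : Polynomial k →ₐ[k] k)
      (![(1 : Polynomial k), Polynomial.X] i)) = ![(1 : k), c] := by
    ext i; fin_cases i <;> simp
  rw [h3] at h2
  rw [← h2, Polynomial.coe_aeval_eq_eval]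

/-- a generic shear: the top coefficient survives and a prescribed combination is nonzero -/
theorem exists_generic_shear [Infinite k] {f : MvPolynomial (Fin 2) k} (hf : f ≠ 0) (A B : K)
    (hB : B ≠ 0) :
    ∃ c : k, MvPolynomial.coeff (Finsupp.single 0 f.totalDegree) (shear c f) ≠ 0 ∧
      A + c • B ≠ 0 := by
  classical
  set fd := MvPolynomial.homogeneousComponent f.totalDegree f with hfd
  have hfd0 : fd ≠ 0 := homogeneousComponent_totalDegree_ne_zero hf
  set Q : Polynomial k := MvPolynomial.aeval ![(1 : Polynomial k), Polynomial.X] fd with hQ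
  have hQ0 : Q ≠ 0 := fun h => hfd0 (eq_zero_of_dehomogenize_eq_zero
    (MvPolynomial.homogeneousComponent_isHomogeneous _ f) h)
  by_cases hex : ∃ c₁ : k, A + c₁ • B = 0
  · obtain ⟨c₁, hc₁⟩ := hex
    obtain ⟨c, hc⟩ := Infinite.exists_notMem_finset (insert c₁ Q.roots.toFinset)
    rw [Finset.mem_insert, not_or, Multiset.mem_toFinset, Polynomial.mem_roots hQ0] at hc
    refine ⟨c, ?_, ?_⟩
    · rw [coeff_shear_eq_eval]
      exact hc.2
    · intro h0
      apply hc.1
      have h1 : (c - c₁) • B = 0 := by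
        rw [sub_smul]
        have : c • B = -A := by rw [← sub_eq_zero, sub_neg_eq_add, add_comm]; exact h0
        have : c₁ • B = -A := by rw [← sub_eq_zero, sub_neg_eq_add, add_comm]; exact hc₁
        simp [*]
      rcases smul_eq_zero.mp h1 with h | h
      · exact sub_eq_zero.mp h
      · exact absurd h hB
  · push Not at hex
    obtain ⟨c, hc⟩ := Infinite.exists_notMem_finset Q.roots.toFinset
    rw [Multiset.mem_toFinset, Polynomial.mem_roots hQ0] at hc
    exact ⟨c, by rw [coeff_shear_eq_eval]; exact hc, hex c⟩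

/-- the situation after a shear making the equation monic in `X₀` -/
theorem shear_setup [Infinite k] (hK : IsFunctionField k K) (x y : K)
    (hxy : IntermediateField.adjoin k ({x, y} : Set K) = ⊤) (f : MvPolynomial (Fin 2) k)
    (hf : Irreducible f) (hfxy : MvPolynomial.aeval ![x, y] f = 0) (c : k)
    (hc : MvPolynomial.coeff (Finsupp.single 0 f.totalDegree) (shear c f) ≠ 0) :
    MvPolynomial.aeval ![x, y - c • x] (shear c f) = 0 ∧
    (shear c f).totalDegree ≤ f.totalDegree ∧ f.totalDegree ≠ 0 ∧
    IntermediateField.adjoin k ({x, y - c • x} : Set K) = ⊤ ∧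
    Transcendental k (y - c • x) ∧
    finrank k⟮y - c • x⟯ K = f.totalDegree ∧
    (∀ P : Place k K, P.1 x ≤ max 1 (P.1 (y - c • x))) ∧
    mapDiv k ![(1 : K), x, y] = poleDiv k (y - c • x) := by
  set d := f.totalDegree with hd
  have hd0 : d ≠ 0 := totalDegree_ne_zero_of_irreducible hf
  set y' := y - c • x with hy'
  have hyy' : y = y' + c • x := by rw [hy']; ring
  set g := shear c f with hg
  have hgirr : Irreducible g := irreducible_shear c hf
  have hgxy : MvPolynomial.aeval ![x, y'] g = 0 := by
    rw [hg, aeval_shear, ← hyy', hfxy]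
  have htd : g.totalDegree ≤ d := totalDegree_shear_le c f
  have hsupp : Finsupp.single (0 : Fin 2) d ∈ g.support := MvPolynomial.mem_support_iff.mpr hc
  have hdeg0 : MvPolynomial.degreeOf 0 g = d := by
    apply le_antisymm
    · exact (MvPolynomial.degreeOf_le_totalDegree g 0).trans htd
    · have := MvPolynomial.monomial_le_degreeOf 0 hsupp
      simpa using this
  have hval : ∀ P : Place k K, P.1 x ≤ max 1 (P.1 y') := fun P =>
    val_le_max_of_relation P hgxy htd hc
  have hxy' : IntermediateField.adjoin k ({x, y'} : Set K) = ⊤ := by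
    rw [eq_top_iff, ← hxy, IntermediateField.adjoin_le_iff]
    intro z hz
    have hxm : x ∈ IntermediateField.adjoin k ({x, y'} : Set K) :=
      IntermediateField.subset_adjoin k _ (by simp)
    have hym : y' ∈ IntermediateField.adjoin k ({x, y'} : Set K) :=
      IntermediateField.subset_adjoin k _ (by simp)
    rcases hz with rfl | hz
    · exact hxm
    · rw [Set.mem_singleton_iff] at hz
      rw [hz, hyy']
      refine add_mem hym ?_
      rw [Algebra.smul_def]
      exact mul_mem (IntermediateField.algebraMap_mem _ c) hxm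
  have hy'tr : Transcendental k y' := by
    intro halg
    have hxalg : IsAlgebraic k x := by
      by_contra hxtr
      obtain ⟨P, hP⟩ := exists_pole hK hxtr
      have h1 := hval P
      have h2 : P.1 y' ≤ 1 := W.val_le_one_of_isAlgebraic P halg
      rw [max_eq_left h2] at h1
      exact absurd hP (not_lt.mpr h1)
    rcases transcendental_or_of_adjoin_pair hK hxy' with h | h
    · exact h hxalg
    · exact h halg
  have hfin : finrank k⟮y'⟯ K = d := by
    rw [finrank_adjoin_eq_degreeOf hy'tr hxy' hgirr hgxy (by rw [hdeg0]; exact hd0), hdeg0]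
  have hD : mapDiv k ![(1 : K), x, y] = poleDiv k y' := by
    rw [mapDiv_plane hK]
    ext P
    rw [Finsupp.sup_apply, poleDiv_apply hK, poleDiv_apply hK, poleDiv_apply hK]
    have hA : (0 : ℤ) ≤ max (-P.ord y') 0 := le_max_right _ _
    have hB : (0 : ℤ) ≤ max (max (-P.ord x) 0) (max (-P.ord y) 0) :=
      le_max_of_le_left (le_max_right _ _)
    have hvy' : P.1 y' ≤ exp (max (-P.ord y') 0) := (pole_le_iff P y' hA).mp le_rfl
    have hone : (1 : WithZero (Multiplicative ℤ)) ≤ exp (max (-P.ord y') 0) := by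
      rw [← exp_zero, exp_le_exp]; exact hA
    have hvx : P.1 x ≤ exp (max (-P.ord y') 0) := (hval P).trans (max_le hone hvy')
    have hvcx : P.1 (c • x) ≤ P.1 x := by
      rw [Algebra.smul_def, map_mul]
      calc P.1 (algebraMap k K c) * P.1 x ≤ 1 * P.1 x :=
            mul_le_mul_left (Place.val_algebraMap_le_one P c) _
        _ = P.1 x := one_mul _
    apply le_antisymm
    · apply max_le
      · exact (pole_le_iff P x hA).mpr hvx
      · apply (pole_le_iff P y hA).mpr
        rw [hyy']
        exact (P.1.map_add _ _).trans (max_le hvy' (hvcx.trans hvx))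
    · apply (pole_le_iff P y' hB).mpr
      have hvx' : P.1 x ≤ exp (max (max (-P.ord x) 0) (max (-P.ord y) 0)) :=
        (pole_le_iff P x hB).mp (le_max_left _ _)
      have hvy : P.1 y ≤ exp (max (max (-P.ord x) 0) (max (-P.ord y) 0)) :=
        (pole_le_iff P y hB).mp (le_max_right _ _)
      rw [hy']
      exact (P.1.map_sub _ _).trans (max_le hvy (hvcx.trans hvx'))
  exact ⟨hgxy, htd, hd0, hxy', hy'tr, hfin, hval, hD⟩

end setup

section nonsing

variable {k : Type u} {K : Type v} [Field k] [Field K] [Algebra k K]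

theorem span_plane_eq (x y : K) (c : k) :
    Submodule.span k (Set.range ![(1 : K), x, y]) =
      Submodule.span k ({1, x, y - c • x} : Set K) := by
  rw [range_plane]
  apply le_antisymm
  · rw [Submodule.span_le]
    intro z hz
    have h1 : (1 : K) ∈ Submodule.span k ({1, x, y - c • x} : Set K) :=
      Submodule.subset_span (by simp)
    have hx : x ∈ Submodule.span k ({1, x, y - c • x} : Set K) :=
      Submodule.subset_span (by simp)
    have hy' : y - c • x ∈ Submodule.span k ({1, x, y - c • x} : Set K) :=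
      Submodule.subset_span (by simp)
    rcases hz with rfl | rfl | rfl
    · exact h1
    · exact hx
    · have := Submodule.add_mem _ hy' (Submodule.smul_mem _ c hx)
      rwa [sub_add_cancel] at this
  · rw [Submodule.span_le]
    intro z hz
    have h1 : (1 : K) ∈ Submodule.span k ({1, x, y} : Set K) :=
      Submodule.subset_span (by simp)
    have hx : x ∈ Submodule.span k ({1, x, y} : Set K) :=
      Submodule.subset_span (by simp)
    have hy : y ∈ Submodule.span k ({1, x, y} : Set K) :=
      Submodule.subset_span (by simp)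
    rcases hz with rfl | rfl | rfl
    · exact h1
    · exact hx
    · exact Submodule.sub_mem _ hy (Submodule.smul_mem _ c hx)

theorem ratioAlg_one_eq (x y' : K) :
    ratioAlg (Submodule.span k ({1, x, y'} : Set K)) 1 = Algebra.adjoin k ({x, y'} : Set K) := by
  apply le_antisymm
  · apply Algebra.adjoin_le
    rintro _ ⟨w, hw, rfl⟩
    change w / 1 ∈ _
    rw [div_one]
    have hle : Submodule.span k ({1, x, y'} : Set K) ≤
        Subalgebra.toSubmodule (Algebra.adjoin k ({x, y'} : Set K)) := by
      rw [Submodule.span_le]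
      rintro z (rfl | rfl | rfl)
      · exact Subalgebra.one_mem _
      · exact Algebra.subset_adjoin (by simp)
      · exact Algebra.subset_adjoin (by simp)
    exact hle hw
  · apply Algebra.adjoin_le
    rintro z (rfl | rfl)
    · have := div_mem_ratioAlg (s := (1 : K))
        (Submodule.subset_span (s := ({1, z, y'} : Set K)) (R := k) (by simp : z ∈ _))
      rwa [div_one] at this
    · have := div_mem_ratioAlg (s := (1 : K))
        (Submodule.subset_span (s := ({1, x, z} : Set K)) (R := k) (by simp : z ∈ _))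
      rwa [div_one] at this

theorem ratioAlg_gen_eq (x y' : K) (hy' : y' ≠ 0) :
    ratioAlg (Submodule.span k ({1, x, y'} : Set K)) y' =
      Algebra.adjoin k ({x * y'⁻¹, y'⁻¹} : Set K) := by
  apply le_antisymm
  · apply Algebra.adjoin_le
    rintro _ ⟨w, hw, rfl⟩
    change w / y' ∈ Algebra.adjoin k ({x * y'⁻¹, y'⁻¹} : Set K)
    induction hw using Submodule.span_induction with
    | mem z hz =>
      rcases hz with rfl | rfl | rfl
      · rw [one_div]; exact Algebra.subset_adjoin (by simp)
      · rw [div_eq_mul_inv]; exact Algebra.subset_adjoin (by simp)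
      · rw [div_self hy']; exact Subalgebra.one_mem _
    | zero => rw [zero_div]; exact Subalgebra.zero_mem _
    | add a b _ _ ha hb => rw [add_div]; exact Subalgebra.add_mem _ ha hb
    | smul c a _ ha => rw [smul_div_assoc]; exact Subalgebra.smul_mem _ ha c
  · apply Algebra.adjoin_le
    rintro z (rfl | rfl)
    · have := div_mem_ratioAlg (s := y')
        (Submodule.subset_span (s := ({1, x, y'} : Set K)) (R := k) (by simp : x ∈ _))
      rwa [div_eq_mul_inv] at this
    · have := div_mem_ratioAlg (s := y')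
        (Submodule.subset_span (s := ({1, x, y'} : Set K)) (R := k) (by simp : (1 : K) ∈ _))
      rwa [one_div] at this

/-- nonsingularity of the plane map, computed with a fixed denominator of largest value -/
theorem isNonsingularAt_plane_iff (x y : K) (c : k) (Q : Place k K) {s₀ : K}
    (hs₀W : s₀ ∈ Submodule.span k ({1, x, y - c • x} : Set K)) (hs₀ : s₀ ≠ 0)
    (hmax : ∀ w ∈ Submodule.span k ({1, x, y - c • x} : Set K), Q.1 w ≤ Q.1 s₀) :
    IsNonsingularAt ![(1 : K), x, y] Q ↔
      ∀ z : K, Q.1 z ≤ 1 →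
        ∃ a ∈ ratioAlg (Submodule.span k ({1, x, y - c • x} : Set K)) s₀,
        ∃ b ∈ ratioAlg (Submodule.span k ({1, x, y - c • x} : Set K)) s₀, Q.1 b = 1 ∧ z * b = a := by
  rw [isNonsingularAt_iff _ Q ⟨0, by simp⟩, span_plane_eq x y c]
  unfold NonsingAt
  constructor
  · intro h z hz
    obtain ⟨s, hsW, hs0, hs, hloc⟩ := h z hz
    have hval : Q.1 s = Q.1 s₀ := le_antisymm (hmax s hsW) (hs s₀ hs₀W)
    exact InLoc.change hs₀W hs₀ hsW hs0 hval hloc
  · intro h z hz
    exact ⟨s₀, hs₀W, hs₀, hmax, h z hz⟩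

end nonsing

section final

variable {k : Type u} {K : Type v} [Field k] [Field K] [Algebra k K] [IsAlgClosed k]

theorem adjoin_adjoin_eq_top {a b : K} (h : IntermediateField.adjoin k ({b, a} : Set K) = ⊤) :
    k⟮a⟯⟮b⟯ = ⊤ := by
  rw [← IntermediateField.restrictScalars_eq_top_iff (K := k), IntermediateField.adjoin_simple_adjoin_simple,
    ← h]
  congr 1
  exact Set.pair_comm a b

theorem adjoin_inv_eq {a : K} (_ha : a ≠ 0) : k⟮a⁻¹⟯ = k⟮a⟯ := by
  apply le_antisymm
  · rw [IntermediateField.adjoin_simple_le_iff]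
    exact inv_mem (IntermediateField.mem_adjoin_simple_self k a)
  · rw [IntermediateField.adjoin_simple_le_iff]
    have := inv_mem (IntermediateField.mem_adjoin_simple_self k a⁻¹)
    rwa [inv_inv] at this

/-- **the adjoint divisor of a plane curve** (Gorenstein / Dedekind): for a birational plane map
`(1 : x : y)` of degree `e` with relation `f(x, y) = 0`, the coefficient of
`(e - 3)[φ] - [dx / f_y]` at `Q` is nonnegative, and zero exactly at the nonsingular places. -/
theorem adjoint (hK : IsFunctionField k K) (x y : K)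
    (hxy : IntermediateField.adjoin k ({x, y} : Set K) = ⊤)
    (f : MvPolynomial (Fin 2) k) (hf : Irreducible f) (hfxy : MvPolynomial.aeval ![x, y] f = 0)
    (Q : Place k K) (Φ : K →ₐ[k] LaurentSeries k) (hΦ : LocRes.IsExpansionAt Q.1 Φ)
    (hne : LocRes.vDiff Φ (MvPolynomial.aeval ![x, y] (MvPolynomial.pderiv 1 f))⁻¹ x ≠ 0) :
    0 ≤ ((mapDiv k ![(1 : K), x, y]).deg - 3) * mapDiv k ![(1 : K), x, y] Q -
        LocRes.ordDiff Φ (MvPolynomial.aeval ![x, y] (MvPolynomial.pderiv 1 f))⁻¹ x ∧
    (((mapDiv k ![(1 : K), x, y]).deg - 3) * mapDiv k ![(1 : K), x, y] Q -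
        LocRes.ordDiff Φ (MvPolynomial.aeval ![x, y] (MvPolynomial.pderiv 1 f))⁻¹ x = 0 ↔
      IsNonsingularAt ![(1 : K), x, y] Q) := by
  classical
  haveI : Infinite k := IsAlgClosed.instInfinite
  set B := MvPolynomial.aeval ![x, y] (MvPolynomial.pderiv 1 f) with hB
  set A := MvPolynomial.aeval ![x, y] (MvPolynomial.pderiv 0 f) with hA
  have hB0 : B ≠ 0 := by
    intro h
    apply hne
    unfold LocRes.vDiff
    rw [h, inv_zero, map_zero, zero_mul, map_zero]
  have hDx : LocRes.D k (Φ x) ≠ 0 := by
    intro h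
    apply hne
    unfold LocRes.vDiff
    rw [h, mul_zero, map_zero]
  obtain ⟨c, hc, hAB⟩ := exists_generic_shear hf.ne_zero A B hB0
  obtain ⟨hgxy, htd, hd0, hxy', hy'tr, hfin, hval, hmapDiv⟩ :=
    shear_setup hK x y hxy f hf hfxy c hc
  have hdeg : (mapDiv k ![(1 : K), x, y]).deg = f.totalDegree :=
    deg_mapDiv_plane_eq_totalDegree hK x y hxy f hf hfxy
  set d := f.totalDegree with hd
  set y' := y - c • x with hy'
  set g := shear c f with hg
  have hyy' : y' + c • x = y := by rw [hy']; ring
  have hy'0 : y' ≠ 0 := fun h => hy'tr (h ▸ isAlgebraic_zero)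
  have hdpos : 0 < d := Nat.pos_of_ne_zero hd0
  -- the partial derivatives of `g`
  have hg0 : MvPolynomial.aeval ![x, y'] (MvPolynomial.pderiv 0 g) = A + c • B := by
    rw [hg, pderiv_zero_shear, map_add, map_mul, aeval_shear, aeval_shear, MvPolynomial.aeval_C,
      hyy', Algebra.smul_def]
  have hg1 : MvPolynomial.aeval ![x, y'] (MvPolynomial.pderiv 1 g) = B := by
    rw [hg, pderiv_one_shear, aeval_shear, hyy']
  have hg00 : MvPolynomial.aeval ![x, y'] (MvPolynomial.pderiv 0 g) ≠ 0 := by rw [hg0]; exact hAB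
  set G0 := MvPolynomial.aeval ![x, y'] (MvPolynomial.pderiv 0 g) with hG0
  -- the chain rule
  have hchain := D_aeval_pair Φ x y' g
  rw [hgxy, map_zero, map_zero, hg1] at hchain
  have hchain' : Φ G0 * LocRes.D k (Φ x) = -(Φ B * LocRes.D k (Φ y')) :=
    eq_neg_of_add_eq_zero_left hchain.symm
  have hv : Q.1 G0 * Valued.v (LocRes.D k (Φ x)) = Q.1 B * Valued.v (LocRes.D k (Φ y')) := by
    have := congrArg Valued.v hchain'
    rwa [Valuation.map_neg, map_mul, map_mul, hΦ.1, hΦ.1] at this
  have hvA0 : Valued.v (LocRes.D k (Φ x)) ≠ 0 := (Valuation.ne_zero_iff _).mpr hDx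
  have hQG0 : Q.1 G0 ≠ 0 := (Valuation.ne_zero_iff _).mpr hg00
  have hQB0 : Q.1 B ≠ 0 := (Valuation.ne_zero_iff _).mpr hB0
  have hvy0 : Valued.v (LocRes.D k (Φ y')) ≠ 0 := by
    intro h
    rw [h, mul_zero] at hv
    exact (mul_ne_zero hQG0 hvA0) hv
  have hDy' : LocRes.vDiff Φ 1 y' ≠ 0 := by
    rw [Groth.Agent.H63.DiffExp.vDiff_one]; exact hvy0
  -- the key identity
  have hkey : LocRes.ordDiff Φ B⁻¹ x = LocRes.ordDiff Φ 1 y' - Q.ord G0 := by
    unfold LocRes.ordDiff Place.ord
    rw [Groth.Agent.H63.DiffExp.vDiff_one]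
    unfold LocRes.vDiff
    rw [map_mul, hΦ.1, map_inv₀, WithZero.log_mul (inv_ne_zero hQB0) hvA0, WithZero.log_inv]
    have h1 := congrArg WithZero.log hv
    rw [WithZero.log_mul hQG0 hvA0, WithZero.log_mul hQB0 hvy0] at h1
    linarith
  have hMQ : mapDiv k ![(1 : K), x, y] Q = max (-Q.ord y') 0 := by
    rw [hmapDiv, poleDiv_apply hK]
  rw [hdeg, hMQ, hkey]
  have hxy'' : IntermediateField.adjoin k ({x, y'} : Set K) = ⊤ := hxy'
  rcases le_or_gt (Q.1 y') 1 with hfinQ | hinfQ
  · -- the finite chart
    have hgen : k⟮y'⟯⟮x⟯ = ⊤ := adjoin_adjoin_eq_top hxy''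
    obtain ⟨h1, h2⟩ := good_position hK hy'tr hdpos htd hc hgxy hfin hgen hg00 Q hfinQ Φ hΦ hDy'
    have hordy : 0 ≤ Q.ord y' := (Place.ord_nonneg_iff Q hy'0).mpr hfinQ
    rw [max_eq_right (by omega), mul_zero, zero_sub]
    refine ⟨by linarith, ?_⟩
    have hmax : ∀ w ∈ Submodule.span k ({1, x, y'} : Set K), Q.1 w ≤ Q.1 (1 : K) := by
      have := val_le_of_mem_span ![(1 : K), x, y'] Q 0 (by
        intro i
        fin_cases i
        · simp
        · simpa using (hval Q).trans (max_le le_rfl hfinQ)
        · simpa using hfinQ)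
      rw [range_plane] at this
      exact this
    rw [isNonsingularAt_plane_iff x y c Q (s₀ := 1) (Submodule.subset_span (by simp)) one_ne_zero hmax,
      ratioAlg_one_eq, ← h2]
    constructor
    · intro h; linarith
    · intro h; linarith
  · -- the chart at infinity
    have hτtr : Transcendental k y'⁻¹ := fun h => hy'tr (by simpa using h.inv)
    have hrel : MvPolynomial.aeval ![x * y'⁻¹, y'⁻¹] (twist d g) = 0 := by
      rw [aeval_twist_inv hy'0 htd, hgxy, mul_zero]
    have htd' := totalDegree_twist_le htd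
    have hc' : MvPolynomial.coeff (Finsupp.single 0 d) (twist d g) ≠ 0 := by
      rw [coeff_twist htd]; exact hc
    have hfin' : finrank k⟮y'⁻¹⟯ K = d := by
      rw [adjoin_inv_eq hy'0]; exact hfin
    have hgen' : k⟮y'⁻¹⟯⟮x * y'⁻¹⟯ = ⊤ := by
      apply adjoin_adjoin_eq_top
      rw [eq_top_iff, ← hxy'', IntermediateField.adjoin_le_iff]
      have h1 : x * y'⁻¹ ∈ IntermediateField.adjoin k ({x * y'⁻¹, y'⁻¹} : Set K) :=
        IntermediateField.subset_adjoin k _ (by simp)
      have h2 : y'⁻¹ ∈ IntermediateField.adjoin k ({x * y'⁻¹, y'⁻¹} : Set K) :=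
        IntermediateField.subset_adjoin k _ (by simp)
      have h3 : y' ∈ IntermediateField.adjoin k ({x * y'⁻¹, y'⁻¹} : Set K) := by
        have := inv_mem h2
        rwa [inv_inv] at this
      rintro z (rfl | rfl)
      · have := mul_mem h1 h3
        rwa [mul_assoc, inv_mul_cancel₀ hy'0, mul_one] at this
      · exact h3
    have hder' : MvPolynomial.aeval ![x * y'⁻¹, y'⁻¹] (MvPolynomial.pderiv 0 (twist d g)) ≠ 0 := by
      rw [aeval_pderiv_twist_inv hy'0 htd]
      exact mul_ne_zero (pow_ne_zero _ (inv_ne_zero hy'0)) hg00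
    have hQ' : Q.1 y'⁻¹ ≤ 1 := by
      rw [map_inv₀]
      exact inv_le_one_of_one_le₀ hinfQ.le
    have hQy0 : Q.1 y' ≠ 0 := (Valuation.ne_zero_iff _).mpr hy'0
    have hvτ : LocRes.vDiff Φ 1 y'⁻¹ = (Q.1 y')⁻¹ ^ 2 * Valued.v (LocRes.D k (Φ y')) := by
      rw [Groth.Agent.H63.DiffExp.vDiff_one, map_inv₀, D_inv, map_mul, Valuation.map_neg, map_pow,
        map_inv₀, hΦ.1]
    have hD' : LocRes.vDiff Φ 1 y'⁻¹ ≠ 0 := by
      rw [hvτ]
      exact mul_ne_zero (pow_ne_zero _ (inv_ne_zero hQy0)) hvy0
    obtain ⟨h1, h2⟩ := good_position hK hτtr hdpos htd' hc' hrel hfin' hgen' hder' Q hQ' Φ hΦ hD'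
    have hordy : Q.ord y' < 0 := (Place.ord_neg_iff Q hy'0).mpr hinfQ
    set M : ℤ := -Q.ord y' with hM
    have hordτ : LocRes.ordDiff Φ 1 y'⁻¹ = 2 * M + LocRes.ordDiff Φ 1 y' := by
      unfold LocRes.ordDiff
      rw [hvτ, WithZero.log_mul (pow_ne_zero _ (inv_ne_zero hQy0)) hvy0, WithZero.log_pow,
        WithZero.log_inv, Groth.Agent.H63.DiffExp.vDiff_one, hM]
      unfold Place.ord
      simp only [nsmul_eq_mul]
      push_cast
      ring
    have hordδ : Q.ord (MvPolynomial.aeval ![x * y'⁻¹, y'⁻¹] (MvPolynomial.pderiv 0 (twist d g))) =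
        ((d : ℤ) - 1) * M + Q.ord G0 := by
      rw [aeval_pderiv_twist_inv hy'0 htd, Place.ord_mul Q (pow_ne_zero _ (inv_ne_zero hy'0)) hg00,
        Place.ord_pow, Place.ord_inv, hM, Nat.cast_sub hdpos]
      push_cast
      ring
    rw [hordτ, hordδ] at h1 h2
    rw [max_eq_left (by omega)]
    have e1 : ((d : ℤ) - 1) * M = (d : ℤ) * M - M := by ring
    have e3 : ((d : ℤ) - 3) * M = (d : ℤ) * M - 3 * M := by ring
    refine ⟨by rw [e3]; rw [e1] at h1; linarith, ?_⟩
    have hmax : ∀ w ∈ Submodule.span k ({1, x, y'} : Set K), Q.1 w ≤ Q.1 y' := by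
      have := val_le_of_mem_span ![(1 : K), x, y'] Q 2 (by
        intro i
        fin_cases i
        · simpa using hinfQ.le
        · simpa using (hval Q).trans (max_le hinfQ.le le_rfl)
        · simp)
      rw [range_plane] at this
      exact this
    rw [isNonsingularAt_plane_iff x y c Q (s₀ := y') (Submodule.subset_span (by
        rw [Set.mem_insert_iff, Set.mem_insert_iff, Set.mem_singleton_iff]
        exact Or.inr (Or.inr rfl))) hy'0 hmax,
      ratioAlg_gen_eq x y' hy'0, ← h2]
    rw [e1, e3]
    constructor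
    · intro h; linarith
    · intro h; linarith

end final

end Groth.Agent.H63.AdjPlane
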