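import Groth.Agent.H63.ArtPaste

set_option autoImplicit false
set_option linter.style.haveILetI false
universe u v
open CategoryTheory

namespace Groth.Agent.H63

open ArtFun ArtFun.Art

variable {Λ : Type u} {k : Type u} [CommRing Λ] [Field k] [Algebra Λ k]

theorem baseToDual_apply (a : k) : (baseToDual (Λ := Λ) (k := k)) a = TrivSqZeroExt.inl a := rfl

/-- A small extension with a section is a fibre product with the dual numbers over `k`. -/
theorem exists_delta_of_section {C B : Art Λ k} (p : C ⟶ B) (hp : IsSmallExt p) (Δ : B ⟶ C) (hΔ : Δ ≫ p = 𝟙 B) :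
    ∃ δ : C ⟶ dual Λ k, IsFibreProd p δ (toBase B) (toBase (dual Λ k)) ∧
      Δ ≫ δ = toBase B ≫ baseToDual := by
  classical
  obtain ⟨hsurj, hne, hprin, hm⟩ := hp
  obtain ⟨s, hs⟩ := hprin.principal
  have hs' : RingHom.ker p.toAlgHom = Ideal.span {s} := hs
  have hsker : s ∈ RingHom.ker p.toAlgHom := by rw [hs']; exact Ideal.subset_span rfl
  have hps : p s = 0 := RingHom.mem_ker.1 hsker
  have hsne : s ≠ 0 := by
    intro h0
    apply hne
    rw [hs', h0, Ideal.span_singleton_eq_bot]
  have hms : ∀ a ∈ IsLocalRing.maximalIdeal C, a * s = 0 := by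
    intro a ha
    have : a * s ∈ IsLocalRing.maximalIdeal C * RingHom.ker p.toAlgHom := Ideal.mul_mem_mul ha hsker
    rwa [hm, Ideal.mem_bot] at this
  have hpΔ : ∀ b, p (Δ b) = b := fun b => congrArg (fun t : B ⟶ B => t b) hΔ
  -- (ii) u * s depends only on res u
  have hres_s : ∀ u u' : C, C.res u = C.res u' → u * s = u' * s := by
    intro u u' h
    have : u - u' ∈ IsLocalRing.maximalIdeal C := by
      rw [mem_maximalIdeal_iff, map_sub, h, sub_self]
    have := hms _ this
    rwa [sub_mul, sub_eq_zero] at this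
  -- uniqueness of the coefficient
  have huniq : ∀ b b' : C, b * s = b' * s → C.res b = C.res b' := by
    intro b b' h
    by_contra hne'
    have hu : IsUnit (b - b') := by
      by_contra hnu
      have : b - b' ∈ IsLocalRing.maximalIdeal C := (IsLocalRing.mem_maximalIdeal _).2 hnu
      rw [mem_maximalIdeal_iff, map_sub, sub_eq_zero] at this
      exact hne' this
    have h0 : (b - b') * s = 0 := by rw [sub_mul, h, sub_self]
    exact hsne ((hu.mul_right_eq_zero).1 h0)
  have hex : ∀ c : C, ∃ b : C, c - Δ (p c) = b * s := by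
    intro c
    have : c - Δ (p c) ∈ RingHom.ker p.toAlgHom := by
      rw [RingHom.mem_ker, map_sub]
      change p c - p (Δ (p c)) = 0
      rw [hpΔ, sub_self]
    rw [hs'] at this
    obtain ⟨a, ha⟩ := Ideal.mem_span_singleton'.1 this
    exact ⟨a, ha.symm⟩
  let lam : C → k := fun c => C.res (hex c).choose
  have hlam : ∀ c b, c - Δ (p c) = b * s → lam c = C.res b := by
    intro c b h
    exact huniq _ _ ((hex c).choose_spec.symm.trans h)
  have hresΔ : ∀ b, C.res (Δ b) = B.res b := fun b => res_app Δ b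
  have hresp : ∀ c, B.res (p c) = C.res c := fun c => res_app p c
  have hlam_add : ∀ c c', lam (c + c') = lam c + lam c' := by
    intro c c'
    obtain ⟨b, hb⟩ := hex c
    obtain ⟨b', hb'⟩ := hex c'
    rw [hlam c b hb, hlam c' b' hb', ← map_add]
    apply hlam
    rw [map_add, map_add, add_mul, ← hb, ← hb']
    ring
  have hlam_mul : ∀ c c', lam (c * c') = C.res c * lam c' + C.res c' * lam c := by
    intro c c'
    obtain ⟨b, hb⟩ := hex c
    obtain ⟨b', hb'⟩ := hex c'
    rw [hlam c b hb, hlam c' b' hb']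
    have : lam (c * c') = C.res (c * b' + Δ (p c') * b) := by
      apply hlam
      rw [map_mul, map_mul, add_mul, mul_assoc, mul_assoc, ← hb, ← hb']
      ring
    rw [this, map_add, map_mul, map_mul, hresΔ, hresp]
  have hlam_zero : lam 0 = 0 := by
    have := hlam 0 0 (by rw [map_zero, map_zero, sub_self, zero_mul])
    rw [this, map_zero]
  have hlam_one : lam 1 = 0 := by
    have := hlam 1 0 (by rw [map_one, map_one, sub_self, zero_mul])
    rw [this, map_zero]
  have hlam_alg : ∀ r : Λ, lam (algebraMap Λ C r) = 0 := by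
    intro r
    have := hlam (algebraMap Λ C r) 0 (by
      rw [AlgHom.commutes, AlgHom.commutes, sub_self, zero_mul])
    rw [this, map_zero]
  let δ0 : C →ₐ[Λ] DualNumber k :=
    { toFun := fun c => (C.res c, lam c)
      map_one' := TrivSqZeroExt.ext (map_one _) hlam_one
      map_mul' := fun c c' => TrivSqZeroExt.ext (map_mul _ _ _) (by
        change lam (c * c') = C.res c • lam c' + MulOpposite.op (C.res c') • lam c
        rw [hlam_mul, smul_eq_mul, MulOpposite.smul_eq_mul_unop, MulOpposite.unop_op, mul_comm (lam c)])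
      map_zero' := TrivSqZeroExt.ext (map_zero _) hlam_zero
      map_add' := fun c c' => TrivSqZeroExt.ext (map_add _ _ _) (hlam_add c c')
      commutes' := fun r => TrivSqZeroExt.ext (by
          change C.res (algebraMap Λ C r) = (algebraMap Λ (TrivSqZeroExt k k) r).fst
          rw [AlgHom.commutes, TrivSqZeroExt.algebraMap_eq_inl', TrivSqZeroExt.fst_inl]) (by
          change lam (algebraMap Λ C r) = (algebraMap Λ (TrivSqZeroExt k k) r).snd
          rw [hlam_alg, TrivSqZeroExt.algebraMap_eq_inl', TrivSqZeroExt.snd_inl]) }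
  let δ : C ⟶ dual Λ k := ⟨δ0, AlgHom.ext fun c => rfl⟩
  have hδ : ∀ c, δ c = (C.res c, lam c) := fun c => rfl
  refine ⟨δ, ⟨?_, ?_, ?_⟩, ?_⟩
  · rw [eq_toBase (p ≫ toBase B), eq_toBase (δ ≫ toBase (dual Λ k))]
  · intro c c' h1 h2
    have hl : lam c = lam c' := by
      have := congrArg TrivSqZeroExt.snd h2
      exact this
    obtain ⟨b, hb⟩ := hex c
    obtain ⟨b', hb'⟩ := hex c'
    rw [hlam c b hb, hlam c' b' hb'] at hl
    have := hres_s b b' hl
    rw [← hb, ← hb', h1] at this
    exact sub_left_injective this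
  · intro b₀ x hx
    obtain ⟨m, hm'⟩ := C.res_surjective x.snd
    have hx' : B.res b₀ = x.fst := hx
    refine ⟨Δ b₀ + m * s, ?_, ?_⟩
    · rw [map_add, map_mul, hps, mul_zero, add_zero, hpΔ]
    · rw [hδ]
      have hsm : C.res s = 0 := (mem_maximalIdeal_iff C s).1 (ker_le_maximalIdeal p hsker)
      have h1 : C.res (Δ b₀ + m * s) = x.fst := by
        rw [map_add, map_mul, hsm, mul_zero, add_zero, hresΔ, hx']
      have h2 : lam (Δ b₀ + m * s) = x.snd := by
        rw [← hm']
        apply hlam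
        rw [map_add, map_mul, hps, mul_zero, add_zero, hpΔ]
        ring
      exact TrivSqZeroExt.ext h1 h2
  · apply hom_ext
    apply AlgHom.ext
    intro b
    change δ (Δ b) = baseToDual (B.res b)
    rw [hδ, baseToDual_apply]
    have h2 : lam (Δ b) = 0 := by
      have := hlam (Δ b) 0 (by rw [hpΔ, sub_self, zero_mul])
      rw [this, map_zero]
    exact TrivSqZeroExt.ext (hresΔ b) h2

end Groth.Agent.H63

namespace Groth.Agent.H63

open ArtFun ArtFun.Art

variable {Λ : Type u} {k : Type u} [CommRing Λ] [Field k] [Algebra Λ k]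

/-- For a small extension `μ : B → A`: `B ×_A B ≅ B ×_k k[ε]`, in pinned form. -/
theorem exists_smallData [Module.Finite Λ k] {B A : Art Λ k} (μ : B ⟶ A) (hμ : IsSmallExt μ) :
    ∃ (C : Art Λ k) (π₁ π₂ : C ⟶ B) (δ : C ⟶ dual Λ k) (Δ : B ⟶ C),
      IsFibreProd π₁ π₂ μ μ ∧ IsFibreProd π₁ δ (toBase B) (toBase (dual Λ k)) ∧
      Δ ≫ π₁ = 𝟙 B ∧ Δ ≫ π₂ = 𝟙 B ∧ Δ ≫ δ = toBase B ≫ baseToDual := by
  obtain ⟨C, π₁, π₂, h⟩ := exists_isFibreProd_of_surjective μ μ hμ.1
  obtain ⟨Δ, hΔ₁, hΔ₂⟩ := IsFibreProd.exists_lift h (𝟙 B) (𝟙 B) rfl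
  obtain ⟨δ, hδ, hΔδ⟩ := exists_delta_of_section π₁ (IsFibreProd.fst_isSmallExt h hμ) Δ hΔ₁
  exact ⟨C, π₁, π₂, δ, Δ, h, hδ, hΔ₁, hΔ₂, hΔδ⟩

end Groth.Agent.H63
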