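import Mathlib.Algebra.Module.SpanRankOperations
import Mathlib.RingTheory.LocalRing.RingHom.Basic
import Mathlib.RingTheory.Ideal.Cotangent

set_option autoImplicit false
set_option linter.style.haveILetI false
set_option linter.unusedSectionVars false
universe u v

namespace Groth.Agent.H63

open IsLocalRing

variable {R S : Type u} [CommRing R] [CommRing S] [IsLocalRing R] [IsLocalRing S]

/-- the number of generators of the maximal ideal does not increase along a surjection -/
theorem spanFinrank_maximalIdeal_le_of_surjective (f : R →+* S) (hf : Function.Surjective f)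
    (hfg : (maximalIdeal R).FG) :
    (maximalIdeal S).spanFinrank ≤ (maximalIdeal R).spanFinrank := by
  have hmap := map_maximalIdeal_of_surjective f hf
  have hfgS : (maximalIdeal S).FG := by
    rw [← hmap]
    exact hfg.map f
  have h := Ideal.spanRank_map_le f (maximalIdeal R)
  rw [hmap, Submodule.FG.spanRank_eq_spanFinrank hfg, Submodule.FG.spanRank_eq_spanFinrank hfgS] at h
  exact_mod_cast h

/-- if the kernel is not contained in the square of the maximal ideal, the number of generators drops -/
theorem spanFinrank_maximalIdeal_lt_of_surjective (f : R →+* S) (hf : Function.Surjective f)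
    (hfg : (maximalIdeal R).FG) (hker : ¬ RingHom.ker f ≤ maximalIdeal R ^ 2) :
    (maximalIdeal S).spanFinrank + 1 ≤ (maximalIdeal R).spanFinrank := by
  classical
  obtain ⟨x, hxk, hx2⟩ := Set.not_subset.1 hker
  have hxm : x ∈ maximalIdeal R := by
    by_contra hxu
    have hu : IsUnit x := by
      by_contra h
      exact hxu ((mem_maximalIdeal x).2 h)
    have : IsUnit (f x) := hu.map f
    rw [(RingHom.mem_ker).1 hxk] at this
    exact not_isUnit_zero this
  obtain ⟨s, hcard, hspan⟩ := Submodule.FG.exists_span_finset_card_eq_spanFinrank hfg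
  have hsm : ∀ y ∈ s, y ∈ maximalIdeal R := fun y hy => by
    rw [← hspan]; exact Submodule.subset_span hy
  have hxs : x ∈ Submodule.span R (s : Set R) := by rw [hspan]; exact hxm
  obtain ⟨c, hc⟩ := Submodule.mem_span_finset'.1 hxs
  have hunit : ∃ y₀ : s, IsUnit (c y₀) := by
    by_contra hno
    push Not at hno
    apply hx2
    rw [← hc]
    apply Ideal.sum_mem
    intro a _
    rw [smul_eq_mul, pow_two]
    exact Ideal.mul_mem_mul ((mem_maximalIdeal _).2 (hno a)) (hsm a.1 a.2)
  obtain ⟨y₀, hu⟩ := hunit
  let T : Finset R := s.erase y₀.1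
  have hy₀ : (y₀ : R) ∈ Ideal.span (insert x (T : Set R)) := by
    obtain ⟨u, hu'⟩ := hu
    have : (y₀ : R) = ↑u⁻¹ * (x - ∑ a ∈ (Finset.univ.erase y₀), c a * (a : R)) := by
      rw [← hc, ← Finset.add_sum_erase _ _ (Finset.mem_univ y₀)]
      simp only [smul_eq_mul, add_sub_cancel_right]
      rw [← hu', ← mul_assoc, Units.inv_mul, one_mul]
    rw [this]
    apply Ideal.mul_mem_left
    apply Ideal.sub_mem
    · exact Ideal.subset_span (Set.mem_insert _ _)
    · apply Ideal.sum_mem
      intro a ha
      apply Ideal.mul_mem_left
      apply Ideal.subset_span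
      right
      rw [Finset.mem_coe, Finset.mem_erase]
      exact ⟨fun h => (Finset.ne_of_mem_erase ha) (Subtype.ext h), a.2⟩
  have hgen : maximalIdeal R ≤ Ideal.span (insert x (T : Set R)) := by
    rw [← hspan]
    apply Submodule.span_le.2
    intro y hy
    by_cases h : y = y₀.1
    · rw [h]; exact hy₀
    · exact Ideal.subset_span (Or.inr (Finset.mem_coe.2 (Finset.mem_erase.2 ⟨h, hy⟩)))
  have hS : maximalIdeal S = Ideal.span (f '' (T : Set R)) := by
    apply le_antisymm
    · rw [← map_maximalIdeal_of_surjective f hf]
      refine (Ideal.map_mono hgen).trans ?_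
      rw [Ideal.map_span, Set.image_insert_eq, (RingHom.mem_ker).1 hxk]
      apply Ideal.span_le.2
      rintro z (rfl | hz)
      · exact Ideal.zero_mem _
      · exact Ideal.subset_span hz
    · apply Ideal.span_le.2
      rintro _ ⟨y, hy, rfl⟩
      rw [← map_maximalIdeal_of_surjective f hf]
      exact Ideal.mem_map_of_mem f (hsm y (Finset.mem_of_mem_erase hy))
  rw [hS]
  have h1 : (Ideal.span (f '' (T : Set R))).spanFinrank ≤ (f '' (T : Set R)).ncard :=
    Submodule.spanFinrank_span_le_ncard_of_finite (T.finite_toSet.image f)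
  have h2 : (f '' (T : Set R)).ncard ≤ (T : Set R).ncard := Set.ncard_image_le T.finite_toSet
  have h3 : (T : Set R).ncard = T.card := Set.ncard_coe_finset T
  have h4 : T.card + 1 = s.card := Finset.card_erase_add_one y₀.2
  omega

end Groth.Agent.H63
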