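import Groth.Agent.H63.ArtMinimal
import Groth.Agent.H63.ArtSmall
import Groth.Agent.H63.SpanFinrankLocal
import Groth.Agent.H61.CRingQuot
import Groth.Agent.H61.HomSetQuot

set_option autoImplicit false
set_option linter.style.haveILetI false
set_option linter.unusedSectionVars false
universe u v
open CategoryTheory

namespace Groth.Agent.H63

open ArtFun ArtFun.Art Groth.Agent.H61

variable {Λ : Type u} {k : Type u} [CommRing Λ] [Field k] [Algebra Λ k]

theorem scale_apply (c : k) (x : dual Λ k) :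
    (scale (Λ := Λ) (k := k) c) x = (TrivSqZeroExt.fst (R := k) (M := k) x, c * TrivSqZeroExt.snd (R := k) (M := k) x) := rfl

/-- Cutting a versal family by an element on which a tangent vector with trivial image does not vanish
keeps it versal. -/
theorem isVersal_cut [Module.Finite Λ k] {F : Art Λ k ⥤ Type v} (h2 : Heps F)
    (S : CRing Λ k) (ξ : Family S.carrier S.res F) (hξ : IsVersal ξ)
    (δ₀ ζ : HomSet S.carrier S.res (dual Λ k)) (hδζ : ξ.app _ δ₀ = ξ.app _ ζ)
    (hζ : ∀ r, TrivSqZeroExt.snd (R := k) (M := k) (ζ.1 r) = 0)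
    (w : S.carrier) (hw0 : S.res w = 0) (hw : TrivSqZeroExt.snd (R := k) (M := k) (δ₀.1 w) ≠ 0)
    (S' : CRing Λ k) (π : S.carrier →ₐ[Λ] S'.carrier) (hπ : S'.res.comp π = S.res)
    (hπs : Function.Surjective π) (hker : RingHom.ker π = Ideal.span {w}) :
    IsVersal (ξ.along π hπ) := by
  apply isVersal_of_smallExt
  intro B A μ hμ φ' y hy
  set φ : HomSet S.carrier S.res A := homSetComp π hπ φ' with hφ
  have hπw : π w = 0 := by
    have : w ∈ RingHom.ker π := by rw [hker]; exact Ideal.subset_span rfl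
    exact (RingHom.mem_ker).1 this
  obtain ⟨ψ, hψ, hψy⟩ := hξ μ hμ.1 φ y hy
  obtain ⟨C, π₁, π₂, δ, Δ, hC₁, hC₂, hΔ₁, hΔ₂, hΔδ⟩ := exists_smallData μ hμ
  have hμψ : ∀ r, μ (ψ.1 r) = φ'.1 (π r) := fun r =>
    congrArg (fun t : HomSet S.carrier S.res A => t.1 r) hψ
  have hμw : μ (ψ.1 w) = μ 0 := by rw [hμψ, hπw, map_zero, map_zero]
  obtain ⟨c₀, hc₁, hc₂⟩ := hC₁.surj (ψ.1 w) 0 hμw
  set a := TrivSqZeroExt.snd (R := k) (M := k) (δ₀.1 w) with ha
  set a₀ := TrivSqZeroExt.snd (R := k) (M := k) (δ c₀) with ha₀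
  let τ : HomSet S.carrier S.res (dual Λ k) := HomSet.map (scale (a₀ / a)) δ₀
  have hfst : ∀ (θ : HomSet S.carrier S.res (dual Λ k)) (r : S.carrier),
      TrivSqZeroExt.fst (R := k) (M := k) (θ.1 r) = S.res r := fun θ r => AlgHom.congr_fun θ.2 r
  have hτw : τ.1 w = δ c₀ := by
    change (scale (a₀ / a)) (δ₀.1 w) = δ c₀
    rw [scale_apply]
    apply TrivSqZeroExt.ext
    · change TrivSqZeroExt.fst (R := k) (M := k) (δ₀.1 w) = TrivSqZeroExt.fst (R := k) (M := k) (δ c₀)
      rw [hfst, hw0]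
      have h1 : TrivSqZeroExt.fst (R := k) (M := k) (δ c₀) = C.res c₀ := res_app δ c₀
      rw [h1, ← res_app π₁ c₀, hc₁]
      have h2 : B.res (ψ.1 w) = S.res w := AlgHom.congr_fun ψ.2 w
      rw [h2, hw0]
    · change a₀ / a * a = a₀
      exact div_mul_cancel₀ a₀ hw
  -- `ζ` is fixed by scaling
  have hscaleζ : HomSet.map (scale (a₀ / a)) ζ = ζ := by
    apply Subtype.ext
    apply AlgHom.ext
    intro r
    change (scale (a₀ / a)) (ζ.1 r) = ζ.1 r
    rw [scale_apply]
    apply TrivSqZeroExt.ext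
    · rfl
    · change a₀ / a * TrivSqZeroExt.snd (R := k) (M := k) (ζ.1 r) = TrivSqZeroExt.snd (R := k) (M := k) (ζ.1 r)
      rw [hζ, mul_zero]
  have hξτ : ξ.app _ τ = ξ.app _ ζ := by
    change ξ.app _ (HomSet.map (scale (a₀ / a)) δ₀) = _
    rw [ξ.natural, hδζ, ← ξ.natural, hscaleζ]
  obtain ⟨χ, hχ₁, hχ₂⟩ := IsFibreProd.exists_lift_homSet hC₂ ψ τ
    ((homSet_base_eq _).trans (homSet_base_eq _).symm)
  let χ₀ : HomSet S.carrier S.res C := HomSet.map Δ ψ
  have hχ₀₁ : HomSet.map π₁ χ₀ = ψ := by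
    change HomSet.map π₁ (HomSet.map Δ ψ) = ψ
    rw [← homSet_map_comp, hΔ₁]
    rfl
  have hχ₀₂ : HomSet.map π₂ χ₀ = ψ := by
    change HomSet.map π₂ (HomSet.map Δ ψ) = ψ
    rw [← homSet_map_comp, hΔ₂]
    rfl
  have hχ₀δ : HomSet.map δ χ₀ = ζ := by
    change HomSet.map δ (HomSet.map Δ ψ) = ζ
    rw [← homSet_map_comp, hΔδ]
    apply Subtype.ext
    apply AlgHom.ext
    intro r
    change baseToDual (B.res (ψ.1 r)) = ζ.1 r
    rw [baseToDual_apply]
    have h2 : B.res (ψ.1 r) = S.res r := AlgHom.congr_fun ψ.2 r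
    rw [h2]
    apply TrivSqZeroExt.ext
    · rw [TrivSqZeroExt.fst_inl, hfst]
    · rw [TrivSqZeroExt.snd_inl, hζ]
  have hξχ : ξ.app C χ = ξ.app C χ₀ := by
    apply (cmp_injective_iff F hC₂).1 (h2 _ _ hC₂).1
    · rw [← ξ.natural, ← ξ.natural, hχ₁, hχ₀₁]
    · rw [← ξ.natural, ← ξ.natural, hχ₂, hχ₀δ, hξτ]
  let ψ' : HomSet S.carrier S.res B := HomSet.map π₂ χ
  have hχw : χ.1 w = c₀ := by
    apply hC₂.inj
    · have := congrArg (fun t : HomSet S.carrier S.res B => t.1 w) hχ₁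
      exact this.trans hc₁.symm
    · have := congrArg (fun t : HomSet S.carrier S.res (dual Λ k) => t.1 w) hχ₂
      exact this.trans hτw
  have hψ'w : ψ'.1 w = 0 := by
    change π₂ (χ.1 w) = 0
    rw [hχw, hc₂]
  have hμψ' : HomSet.map μ ψ' = φ := by
    change HomSet.map μ (HomSet.map π₂ χ) = φ
    rw [← homSet_map_comp, ← hC₁.w, homSet_map_comp, hχ₁, hψ]
  have hξψ' : ξ.app B ψ' = y := by
    change ξ.app B (HomSet.map π₂ χ) = y
    rw [ξ.natural, hξχ, ← ξ.natural, hχ₀₂, hψy]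
  have hkerle : RingHom.ker π ≤ RingHom.ker ψ'.1 := by
    rw [hker, Ideal.span_le]
    intro x hx
    rw [Set.mem_singleton_iff.1 hx]
    exact (RingHom.mem_ker).2 hψ'w
  obtain ⟨ψ'', hψ''⟩ := exists_homSet_of_ker_le π hπ hπs ψ' hkerle
  refine ⟨ψ'', ?_, ?_⟩
  · apply homSetComp_injective π hπ hπs
    rw [homSetComp_map, hψ'', hμψ']
  · change ξ.app B (homSetComp π hπ ψ'') = y
    rw [hψ'', hξψ']

end Groth.Agent.H63

namespace Groth.Agent.H63

open ArtFun ArtFun.Art Groth.Agent.H61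

variable {Λ : Type u} {k : Type u} [CommRing Λ] [Field k] [Algebra Λ k]

/-- A tangent vector kills the square of the maximal ideal. -/
theorem CR.tangent_sq_eq_zero (S : CRing Λ k) (δ : HomSet S.carrier S.res (dual Λ k)) (x : S.carrier)
    (hx : x ∈ IsLocalRing.maximalIdeal S.carrier ^ 2) : δ.1 x = 0 := by
  have hm : Ideal.map δ.1 (IsLocalRing.maximalIdeal S.carrier) ≤ IsLocalRing.maximalIdeal (dual Λ k) := by
    rw [Ideal.map_le_iff_le_comap]
    intro a ha
    rw [Ideal.mem_comap, Art.mem_maximalIdeal_iff]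
    rw [CR.mem_maximalIdeal_iff] at ha
    have : (dual Λ k).res (δ.1 a) = S.res a := AlgHom.congr_fun δ.2 a
    rw [this, ha]
  have h1 : δ.1 x ∈ Ideal.map δ.1 (IsLocalRing.maximalIdeal S.carrier ^ 2) := Ideal.mem_map_of_mem _ hx
  rw [Ideal.map_pow] at h1
  have h2 := Ideal.pow_right_mono hm 2 h1
  have h3 : IsLocalRing.maximalIdeal (dual Λ k) ^ 2 = ⊥ := CR.sq_maximalIdeal_dual
  rw [h3] at h2
  exact h2

/-- If `k` has no nonzero `Λ`-derivations, a functor with a versal family has a hull. -/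
theorem hasHull_of_hasVersal [IsNoetherianRing Λ] [Module.Finite Λ k]
    (hk : Subsingleton (Derivation Λ k k))
    {F : Art Λ k ⥤ Type v} (h0 : H0 F) (h2 : Heps F) (hv : HasVersal F) : HasHull F := by
  classical
  suffices H : ∀ n : ℕ, ∀ V : VersalPair F,
      (IsLocalRing.maximalIdeal V.ring.carrier).spanFinrank = n → HasHull F by
    obtain ⟨V⟩ := hv
    exact H _ V rfl
  intro n
  induction n using Nat.strong_induction_on with
  | _ n ih =>
  intro V hn
  set R := V.ring with hR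
  set ξ := V.family with hξdef
  have hξ : IsVersal ξ := V.versal
  by_cases hinj : Function.Injective (ξ.app (dual Λ k))
  · exact ⟨⟨R, ξ, hξ, hinj, IsVersal.app_surjective h0 ξ hξ _⟩⟩
  · rw [Function.not_injective_iff] at hinj
    obtain ⟨φ₁, φ₂, h, hne⟩ := hinj
    obtain ⟨δ, ζ, hδζ, hζ, hδ⟩ := exists_diff_of_app_eq h2 ξ φ₁ φ₂ h
    have hex : ∃ r₀, TrivSqZeroExt.snd (R := k) (M := k) (φ₁.1 r₀) ≠
        TrivSqZeroExt.snd (R := k) (M := k) (φ₂.1 r₀) := by
      by_contra hall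
      push Not at hall
      apply hne
      apply Subtype.ext
      apply AlgHom.ext
      intro r
      apply TrivSqZeroExt.ext
      · exact (AlgHom.congr_fun φ₁.2 r).trans (AlgHom.congr_fun φ₂.2 r).symm
      · exact hall r
    obtain ⟨r₀, hr₀⟩ := hex
    letI : Algebra R.carrier k := R.res.toRingHom.toAlgebra
    haveI : IsScalarTower Λ R.carrier k := IsScalarTower.of_algebraMap_eq fun r => (R.res.commutes r).symm
    have hδ1 : ∀ s, TrivSqZeroExt.fst (R := k) (M := k) (δ.1 s) = algebraMap R.carrier k s :=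
      fun s => AlgHom.congr_fun δ.2 s
    let D : Derivation Λ R.carrier k := homToDeriv δ.1 hδ1
    have hD : ∀ r, D r = TrivSqZeroExt.snd (R := k) (M := k) (δ.1 r) := fun r => rfl
    obtain ⟨w, hw0, hw⟩ := exists_mem_ker_derivation_ne_zero hk R.res_surjective D r₀
      (by rw [hD, hδ]; exact sub_ne_zero.2 hr₀)
    have hw0' : R.res w = 0 := hw0
    have hwm : w ∈ IsLocalRing.maximalIdeal R.carrier := (CR.mem_maximalIdeal_iff R w).2 hw0'
    haveI : IsAdicComplete (IsLocalRing.maximalIdeal R.carrier) R.carrier := R.isAdicComplete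
    obtain ⟨S', π, hπ, hπs, hker⟩ := exists_cring_quot (Λ := Λ) (k := k) R.res_surjective (Ideal.span {w})
      ((Ideal.span_singleton_le_iff_mem _).2 hwm)
    have hcut : IsVersal (ξ.along π hπ) :=
      isVersal_cut h2 R ξ hξ δ ζ hδζ hζ w hw0' (by rw [← hD]; exact hw) S' π hπ hπs hker
    have hlt : (IsLocalRing.maximalIdeal S'.carrier).spanFinrank + 1 ≤
        (IsLocalRing.maximalIdeal R.carrier).spanFinrank := by
      apply spanFinrank_maximalIdeal_lt_of_surjective (π : R.carrier →+* S'.carrier) hπs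
        ((isNoetherianRing_iff_ideal_fg R.carrier).1 inferInstance _)
      intro hle
      have hwk : w ∈ RingHom.ker (π : R.carrier →+* S'.carrier) := by
        change w ∈ RingHom.ker π
        rw [hker]
        exact Ideal.subset_span rfl
      have := CR.tangent_sq_eq_zero R δ w (hle hwk)
      apply hw
      rw [hD, this]
      rfl
    have hlt' : (IsLocalRing.maximalIdeal S'.carrier).spanFinrank < n := by
      rw [← hn]
      exact hlt
    exact ih _ hlt' ⟨S', ξ.along π hπ, hcut⟩ rfl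

end Groth.Agent.H63
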