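import Groth.Agent.H63.ArtCut

set_option autoImplicit false
set_option linter.style.haveILetI false
set_option linter.unusedSectionVars false
universe u v
open CategoryTheory

namespace Groth.Agent.H63

open ArtFun ArtFun.Art Groth.Agent.H61

variable {Λ : Type u} {k : Type u} [CommRing Λ] [Field k] [Algebra Λ k]

/-- Under the injectivity condition on the derivations of `k`, a nontrivial tangent vector with trivial image
is nonzero somewhere on the maximal ideal. -/
theorem exists_mem_maximalIdeal_snd_ne_zero {F : Art Λ k ⥤ Type v}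
    (hc : ∀ x₀ : F.obj (base Λ k), Function.Injective (fun σ : base Λ k ⟶ dual Λ k => F.map σ x₀))
    (R : CRing Λ k) (ξ : Family R.carrier R.res F)
    (δ ζ : HomSet R.carrier R.res (dual Λ k)) (hδζ : ξ.app _ δ = ξ.app _ ζ)
    (hζ : ∀ r, TrivSqZeroExt.snd (R := k) (M := k) (ζ.1 r) = 0)
    (r₀ : R.carrier) (hr₀ : TrivSqZeroExt.snd (R := k) (M := k) (δ.1 r₀) ≠ 0) :
    ∃ w : R.carrier, R.res w = 0 ∧ TrivSqZeroExt.snd (R := k) (M := k) (δ.1 w) ≠ 0 := by
  by_contra hcon
  push Not at hcon
  have hfst : ∀ (θ : HomSet R.carrier R.res (dual Λ k)) (r : R.carrier),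
      TrivSqZeroExt.fst (R := k) (M := k) (θ.1 r) = R.res r := fun θ r => AlgHom.congr_fun θ.2 r
  have hkill : RingHom.ker R.res ≤ RingHom.ker δ.1 := by
    intro x hx
    rw [RingHom.mem_ker] at hx ⊢
    apply TrivSqZeroExt.ext
    · rw [hfst, hx]; rfl
    · rw [hcon x hx]; rfl
  obtain ⟨σ₀, hσ₀⟩ := exists_algHom_factor R.res R.res_surjective δ.1 hkill
  have hσ₀' : ∀ r, σ₀ (R.res r) = δ.1 r := fun r => AlgHom.congr_fun hσ₀ r
  let σ : base Λ k ⟶ dual Λ k := ⟨σ₀, by
    apply AlgHom.ext
    intro c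
    obtain ⟨r, rfl⟩ := R.res_surjective c
    change (dual Λ k).res (σ₀ (R.res r)) = R.res r
    rw [hσ₀']
    exact hfst δ r⟩
  have hσδ : HomSet.map σ (homSetBase R.carrier R.res) = δ := by
    apply Subtype.ext
    apply AlgHom.ext
    intro r
    exact hσ₀' r
  have hζ' : HomSet.map baseToDual (homSetBase R.carrier R.res) = ζ := by
    apply Subtype.ext
    apply AlgHom.ext
    intro r
    change baseToDual (R.res r) = ζ.1 r
    rw [baseToDual_apply]
    apply TrivSqZeroExt.ext
    · rw [TrivSqZeroExt.fst_inl, hfst]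
    · rw [TrivSqZeroExt.snd_inl, hζ]
  have h1 : F.map σ (ξ.app _ (homSetBase R.carrier R.res)) =
      F.map baseToDual (ξ.app _ (homSetBase R.carrier R.res)) := by
    rw [← ξ.natural, ← ξ.natural, hσδ, hζ', hδζ]
  have h2 : σ = baseToDual := hc _ h1
  apply hr₀
  rw [← hσδ, h2, hζ']
  exact hζ r₀

/-- A functor with a versal family has a hull, provided the derivations of `k` act freely on `F(k[ε])`. -/
theorem hasHull_of_hasVersal_of_injective [IsNoetherianRing Λ] [Module.Finite Λ k]
    {F : Art Λ k ⥤ Type v}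
    (hc : ∀ x₀ : F.obj (base Λ k), Function.Injective (fun σ : base Λ k ⟶ dual Λ k => F.map σ x₀))
    (h0 : H0 F) (h2 : Heps F) (hv : HasVersal F) : HasHull F := by
  classical
  suffices H : ∀ n : ℕ, ∀ V : VersalPair F,
      (IsLocalRing.maximalIdeal V.ring.carrier).spanFinrank = n → HasHull F by
    obtain ⟨V⟩ := hv
    exact H _ V rfl
  intro n
  induction n using Nat.strong_induction_on with
  | _ n ih =>
  intro V hn
  set R := V.ring with hR
  set ξ := V.family with hξdef
  have hξ : IsVersal ξ := V.versal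
  by_cases hinj : Function.Injective (ξ.app (dual Λ k))
  · exact ⟨⟨R, ξ, hξ, hinj, IsVersal.app_surjective h0 ξ hξ _⟩⟩
  · rw [Function.not_injective_iff] at hinj
    obtain ⟨φ₁, φ₂, h, hne⟩ := hinj
    obtain ⟨δ, ζ, hδζ, hζ, hδ⟩ := exists_diff_of_app_eq h2 ξ φ₁ φ₂ h
    have hex : ∃ r₀, TrivSqZeroExt.snd (R := k) (M := k) (φ₁.1 r₀) ≠
        TrivSqZeroExt.snd (R := k) (M := k) (φ₂.1 r₀) := by
      by_contra hall
      push Not at hall
      apply hne
      apply Subtype.ext
      apply AlgHom.ext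
      intro r
      apply TrivSqZeroExt.ext
      · exact (AlgHom.congr_fun φ₁.2 r).trans (AlgHom.congr_fun φ₂.2 r).symm
      · exact hall r
    obtain ⟨r₀, hr₀⟩ := hex
    obtain ⟨w, hw0, hw⟩ := exists_mem_maximalIdeal_snd_ne_zero hc R ξ δ ζ hδζ hζ r₀
      (by rw [hδ]; exact sub_ne_zero.2 hr₀)
    have hwm : w ∈ IsLocalRing.maximalIdeal R.carrier := (CR.mem_maximalIdeal_iff R w).2 hw0
    haveI : IsAdicComplete (IsLocalRing.maximalIdeal R.carrier) R.carrier := R.isAdicComplete
    obtain ⟨S', π, hπ, hπs, hker⟩ := exists_cring_quot (Λ := Λ) (k := k) R.res_surjective (Ideal.span {w})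
      ((Ideal.span_singleton_le_iff_mem _).2 hwm)
    have hcut : IsVersal (ξ.along π hπ) :=
      isVersal_cut h2 R ξ hξ δ ζ hδζ hζ w hw0 hw S' π hπ hπs hker
    have hlt : (IsLocalRing.maximalIdeal S'.carrier).spanFinrank + 1 ≤
        (IsLocalRing.maximalIdeal R.carrier).spanFinrank := by
      apply spanFinrank_maximalIdeal_lt_of_surjective (π : R.carrier →+* S'.carrier) hπs
        ((isNoetherianRing_iff_ideal_fg R.carrier).1 inferInstance _)
      intro hle
      have hwk : w ∈ RingHom.ker (π : R.carrier →+* S'.carrier) := by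
        change w ∈ RingHom.ker π
        rw [hker]
        exact Ideal.subset_span rfl
      have := CR.tangent_sq_eq_zero R δ w (hle hwk)
      apply hw
      rw [this]
      rfl
    have hlt' : (IsLocalRing.maximalIdeal S'.carrier).spanFinrank < n := by
      rw [← hn]
      exact hlt
    exact ih _ hlt' ⟨S', ξ.along π hπ, hcut⟩ rfl

end Groth.Agent.H63
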