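import Groth.Agent.H63.ArtSmall
import Groth.Agent.H63.ArtFormal

set_option autoImplicit false
set_option linter.style.haveILetI false
universe u v
open CategoryTheory

namespace Groth.Agent.H63

open ArtFun ArtFun.Art

variable {Λ : Type u} {k : Type u} [CommRing Λ] [Field k] [Algebra Λ k]

/-- Condition (RS) as a predicate. -/
def RS (F : Art Λ k ⥤ Type v) : Prop :=
  ∀ ⦃B A A' A'' : Art Λ k⦄ (p' : B ⟶ A') (p'' : B ⟶ A'') (f' : A' ⟶ A) (f'' : A'' ⟶ A)
    (h : IsFibreProd p' p'' f' f''), Function.Surjective f'' → Function.Bijective (cmp F h)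

theorem toBase_surjective (A : Art Λ k) : Function.Surjective (toBase A) := A.res_surjective

theorem map_injective_of_isIso (F : Art Λ k ⥤ Type v) {A B : Art Λ k} (e : B ⟶ A) [IsIso e] :
    Function.Injective (F.map e) := by
  intro x x' h
  have := congrArg (F.map (inv e)) h
  rwa [← map_comp_apply, ← map_comp_apply, IsIso.hom_inv_id, map_id_apply, map_id_apply] at this

/-- A smooth morphism of deformation functors, injective on tangent spaces, is injective. -/
theorem app_injective_of_tangent_injective [Module.Finite Λ k] {F G : Art Λ k ⥤ Type v}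
    (hF0 : H0 F) (hF : RS F) (hG : RS G)
    (φ : F ⟶ G) (hd : Function.Injective (φ.app (dual Λ k))) (A : Art Λ k) :
    Function.Injective (φ.app A) := by
  haveI := hF0.2
  have key := surjective_induction (Λ := Λ) (k := k)
    (fun A B _ => Function.Injective (φ.app A) → Function.Injective (φ.app B)) ?_ ?_ ?_
    (toBase A) (toBase_surjective A)
  · exact key (fun x y _ => Subsingleton.elim x y)
  · intro A B e he hA x x' hxx'
    apply map_injective_of_isIso F e
    apply hA
    rw [NatTrans.naturality_apply φ e x, NatTrans.naturality_apply φ e x', hxx']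
  · intro A B μ hμ hA x x' hxx'
    obtain ⟨C, π₁, π₂, δ, Δ, h₁, h₂, hΔ₁, hΔ₂, hΔδ⟩ := exists_smallData μ hμ
    have hx : F.map μ x = F.map μ x' := by
      apply hA
      rw [NatTrans.naturality_apply φ μ x, NatTrans.naturality_apply φ μ x', hxx']
    obtain ⟨z, hz₁, hz₂⟩ := (cmp_surjective_iff F h₁).1 (hF _ _ _ _ h₁ hμ.1).2 x x' hx
    let z₀ := F.map Δ x
    have hz₀₁ : F.map π₁ z₀ = x := by
      change F.map π₁ (F.map Δ x) = x
      rw [← map_comp_apply, hΔ₁, map_id_apply]
    have hz₀₂ : F.map π₂ z₀ = x := by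
      change F.map π₂ (F.map Δ x) = x
      rw [← map_comp_apply, hΔ₂, map_id_apply]
    -- φ z = φ z₀ by RS for G
    have hφz : φ.app C z = φ.app C z₀ := by
      apply (cmp_injective_iff G h₁).1 (hG _ _ _ _ h₁ hμ.1).1
      · rw [← NatTrans.naturality_apply φ π₁ z, ← NatTrans.naturality_apply φ π₁ z₀, hz₁, hz₀₁]
      · rw [← NatTrans.naturality_apply φ π₂ z, ← NatTrans.naturality_apply φ π₂ z₀, hz₂, hz₀₂, hxx']
    have hδ : F.map δ z = F.map δ z₀ := by
      apply hd
      rw [NatTrans.naturality_apply φ δ z, NatTrans.naturality_apply φ δ z₀, hφz]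
    have hzz₀ : z = z₀ := by
      apply (cmp_injective_iff F h₂).1 (hF _ _ _ _ h₂ (toBase_surjective _)).1
      · rw [hz₁, hz₀₁]
      · exact hδ
    rw [← hz₂, hzz₀, hz₀₂]
  · intro A B C p q hp hq hA
    exact hp (hq hA)

end Groth.Agent.H63

namespace Groth.Agent.H63

open ArtFun ArtFun.Art

variable {Λ : Type u} {k : Type u} [CommRing Λ] [Field k] [Algebra Λ k]

/-- criterion for smoothness of a morphism of deformation functors -/
theorem isSmooth_of_tangent_surjective_of_lifts [Module.Finite Λ k] {F G : Art Λ k ⥤ Type v}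
    (hF0 : H0 F) (hF : RS F) (hG : RS G) (f : F ⟶ G)
    (hd : Function.Surjective (f.app (dual Λ k)))
    (hl : ∀ ⦃A' A : Art Λ k⦄ (μ : A' ⟶ A), IsSmallExt μ → ∀ x : F.obj A,
          (∃ y' : G.obj A', G.map μ y' = f.app A x) → ∃ x' : F.obj A', F.map μ x' = x) :
    IsSmooth f := by
  haveI := hF0.2
  apply isSmooth_of_smallExt
  intro B A μ hμ
  rw [relCmp_surjective_iff]
  intro x y hxy
  obtain ⟨x', hx'⟩ := hl μ hμ x ⟨y, hxy.symm⟩
  obtain ⟨C, π₁, π₂, δ, Δ, h₁, h₂, hΔ₁, hΔ₂, hΔδ⟩ := exists_smallData μ hμ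
  have hcompat : G.map μ (f.app B x') = G.map μ y := by
    rw [← NatTrans.naturality_apply f μ x', hx', hxy]
  obtain ⟨w, hw₁, hw₂⟩ := (cmp_surjective_iff G h₁).1 (hG _ _ _ _ h₁ hμ.1).2 (f.app B x') y hcompat
  obtain ⟨u, hu⟩ := hd (G.map δ w)
  obtain ⟨z', hz'₁, hz'₂⟩ := (cmp_surjective_iff F h₂).1 (hF _ _ _ _ h₂ (toBase_surjective _)).2 x' u
    (Subsingleton.elim _ _)
  have hfz' : f.app C z' = w := by
    apply (cmp_injective_iff G h₂).1 (hG _ _ _ _ h₂ (toBase_surjective _)).1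
    · rw [← NatTrans.naturality_apply f π₁ z', hz'₁, hw₁]
    · rw [← NatTrans.naturality_apply f δ z', hz'₂, hu]
  refine ⟨F.map π₂ z', ?_, ?_⟩
  · rw [← map_comp_apply, ← h₁.w, map_comp_apply, hz'₁, hx']
  · rw [NatTrans.naturality_apply f π₂ z', hfz', hw₂]

theorem isSmooth_iff_tangent_surjective_and_lifts [Module.Finite Λ k] {F G : Art Λ k ⥤ Type v}
    (hF0 : H0 F) (hF : RS F) (hG0 : H0 G) (hG : RS G) (f : F ⟶ G) :
    IsSmooth f ↔
      (Function.Surjective (TangentSpace.map f) ∧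
        ∀ ⦃A' A : Art Λ k⦄ (μ : A' ⟶ A), IsSmallExt μ → ∀ x : F.obj A,
          (∃ y' : G.obj A', G.map μ y' = f.app A x) → ∃ x' : F.obj A', F.map μ x' = x) := by
  haveI := hG0.2
  constructor
  · intro hs
    refine ⟨?_, ?_⟩
    · apply app_surjective_of_isSmooth f hs
      intro y
      obtain ⟨x⟩ := hF0.1
      exact ⟨x, Subsingleton.elim _ _⟩
    · intro A' A μ hμ x ⟨y', hy'⟩
      obtain ⟨z, hz, -⟩ := (relCmp_surjective_iff f μ).1 (hs μ hμ.1) x y' hy'.symm
      exact ⟨z, hz⟩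
  · rintro ⟨hd, hl⟩
    exact isSmooth_of_tangent_surjective_of_lifts hF0 hF hG f hd hl

end Groth.Agent.H63
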