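import Groth.Agent.H63.ArtHull
import Groth.Agent.H63.ArtPaste

set_option autoImplicit false
set_option linter.style.haveILetI false
universe u v
open CategoryTheory

namespace Groth.Agent.H63

open ArtFun ArtFun.Art

variable {Λ : Type u} {k : Type u} [CommRing Λ] [Field k] [Algebra Λ k]

/-- If `k` has no nonzero `Λ`-derivations, a nonzero `Λ`-derivation `S → k` is nonzero on the augmentation ideal. -/
theorem exists_mem_ker_derivation_ne_zero (hk : Subsingleton (Derivation Λ k k))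
    {S : Type u} [CommRing S] [Algebra Λ S] [Algebra S k] [IsScalarTower Λ S k]
    (hres : Function.Surjective (algebraMap S k)) (D : Derivation Λ S k) (r₀ : S) (hr₀ : D r₀ ≠ 0) :
    ∃ w : S, algebraMap S k w = 0 ∧ D w ≠ 0 := by
  classical
  by_contra hcon
  push_neg at hcon
  let s : k → S := Function.surjInv hres
  have hs : ∀ c, algebraMap S k (s c) = c := Function.surjInv_eq hres
  have hwd : ∀ x y : S, algebraMap S k x = algebraMap S k y → D x = D y := by
    intro x y hxy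
    have := hcon (x - y) (by rw [map_sub, hxy, sub_self])
    rw [map_sub] at this
    exact sub_eq_zero.1 this
  have hDs : ∀ x : S, D (s (algebraMap S k x)) = D x := fun x => hwd _ _ (hs _)
  let D' : Derivation Λ k k :=
    { toFun := fun c => D (s c)
      map_add' := by
        intro a b
        obtain ⟨x, rfl⟩ := hres a
        obtain ⟨y, rfl⟩ := hres b
        rw [← map_add, hDs, hDs, hDs, map_add]
      map_smul' := by
        intro c a
        obtain ⟨x, rfl⟩ := hres a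
        have : c • algebraMap S k x = algebraMap S k (c • x) := by
          rw [Algebra.smul_def, Algebra.smul_def, map_mul, ← IsScalarTower.algebraMap_apply]
        rw [this, hDs, hDs, D.map_smul, RingHom.id_apply]
      map_one_eq_zero' := by
        change D (s 1) = 0
        have := hDs 1
        rw [map_one] at this
        rw [this, D.map_one_eq_zero]
      leibniz' := by
        intro a b
        obtain ⟨x, rfl⟩ := hres a
        obtain ⟨y, rfl⟩ := hres b
        change D (s (algebraMap S k x * algebraMap S k y)) =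
          algebraMap S k x • D (s (algebraMap S k y)) + algebraMap S k y • D (s (algebraMap S k x))
        rw [← map_mul, hDs, hDs, hDs, D.leibniz, Algebra.smul_def, Algebra.smul_def, smul_eq_mul, smul_eq_mul] }
  have hD' : D' = 0 := Subsingleton.elim _ _
  have : D r₀ = 0 := by
    have h1 : D' (algebraMap S k r₀) = D r₀ := hDs r₀
    rw [← h1, hD']
    rfl
  exact hr₀ this

theorem dualNumber_mul_of_fst_eq_zero (x y : TrivSqZeroExt k k) (hy : y.fst = 0) :
    x * y = TrivSqZeroExt.inr (x.fst * y.snd) := by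
  apply TrivSqZeroExt.ext
  · rw [TrivSqZeroExt.fst_mul, hy, mul_zero, TrivSqZeroExt.fst_inr]
  · rw [TrivSqZeroExt.snd_mul, hy, TrivSqZeroExt.snd_inr]
    simp

theorem dualNumber_inr_eq_zero (c : k) (h : (TrivSqZeroExt.inr c : TrivSqZeroExt k k) = 0) : c = 0 := by
  have := congrArg (TrivSqZeroExt.snd (R := k) (M := k)) h
  rwa [TrivSqZeroExt.snd_inr, TrivSqZeroExt.snd_zero] at this

theorem dualNumber_add_inr (x t : TrivSqZeroExt k k) (h : x.fst = t.fst) :
    x + TrivSqZeroExt.inr (t.snd - x.snd) = t := by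
  apply TrivSqZeroExt.ext
  · rw [TrivSqZeroExt.fst_add, TrivSqZeroExt.fst_inr, add_zero, h]
  · rw [TrivSqZeroExt.snd_add, TrivSqZeroExt.snd_inr]
    ring

/-- An object with square-zero maximal ideal splits off a copy of the dual numbers along any map to the dual
numbers which is nonzero on a given vector. -/
theorem isFibreProd_of_sqZero {E E' : Art Λ k} (hE : IsLocalRing.maximalIdeal E ^ 2 = ⊥)
    (τ : E ⟶ dual Λ k) (v : E) (hv : v ∈ IsLocalRing.maximalIdeal E)
    (hτv : TrivSqZeroExt.snd (R := k) (M := k) (τ v) ≠ 0)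
    (π : E ⟶ E') (hπ : Function.Surjective π) (hker : RingHom.ker π.toAlgHom = Ideal.span {v}) :
    IsFibreProd π τ (toBase E') (toBase (dual Λ k)) := by
  have hmm : ∀ x y : E, x ∈ IsLocalRing.maximalIdeal E → y ∈ IsLocalRing.maximalIdeal E → x * y = 0 := by
    intro x y hx hy
    have : x * y ∈ IsLocalRing.maximalIdeal E ^ 2 := by rw [sq]; exact Ideal.mul_mem_mul hx hy
    rwa [hE, Ideal.mem_bot] at this
  have hfst : ∀ e : E, TrivSqZeroExt.fst (R := k) (M := k) (τ e) = E.res e := fun e => res_app τ e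
  have hv0 : TrivSqZeroExt.fst (R := k) (M := k) (τ v) = 0 := by
    rw [hfst]; exact (mem_maximalIdeal_iff E v).1 hv
  have hτav : ∀ a : E, τ (a * v) = TrivSqZeroExt.inr (E.res a * TrivSqZeroExt.snd (R := k) (M := k) (τ v)) := by
    intro a
    rw [map_mul]
    have := dualNumber_mul_of_fst_eq_zero (τ a) (τ v) hv0
    rw [hfst] at this
    exact this
  have hπv : π v = 0 := by
    have : v ∈ RingHom.ker π.toAlgHom := by rw [hker]; exact Ideal.subset_span rfl
    exact this
  refine ⟨?_, ?_, ?_⟩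
  · rw [eq_toBase (π ≫ toBase E'), eq_toBase (τ ≫ toBase (dual Λ k))]
  · intro e e' h1 h2
    have hd : e - e' ∈ RingHom.ker π.toAlgHom := by
      rw [RingHom.mem_ker, map_sub]; exact sub_eq_zero.2 h1
    rw [hker] at hd
    obtain ⟨a, ha⟩ := Ideal.mem_span_singleton'.1 hd
    have h3 : τ (a * v) = 0 := by rw [ha, map_sub]; exact sub_eq_zero.2 h2
    rw [hτav] at h3
    have h4 : E.res a * TrivSqZeroExt.snd (R := k) (M := k) (τ v) = 0 := dualNumber_inr_eq_zero _ h3
    have h5 : E.res a = 0 := (mul_eq_zero.1 h4).resolve_right hτv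
    have h6 : a * v = 0 := hmm a v ((mem_maximalIdeal_iff E a).2 h5) hv
    rw [h6] at ha
    exact (sub_eq_zero.1 ha.symm)
  · intro e' t het
    obtain ⟨e, rfl⟩ := hπ e'
    have hres : E.res e = TrivSqZeroExt.fst (R := k) (M := k) t := by
      have h1 : E'.res (π e) = (dual Λ k).res t := het
      rw [res_app] at h1
      exact h1
    obtain ⟨a, ha⟩ := E.res_surjective
      ((TrivSqZeroExt.snd (R := k) (M := k) t - TrivSqZeroExt.snd (R := k) (M := k) (τ e)) /
        TrivSqZeroExt.snd (R := k) (M := k) (τ v))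
    refine ⟨e + a * v, ?_, ?_⟩
    · rw [map_add, map_mul, hπv, mul_zero, add_zero]
    · rw [map_add, hτav, ha, div_mul_cancel₀ _ hτv]
      exact dualNumber_add_inr _ _ ((hfst e).trans hres)

theorem pow_maximalIdeal_trunc (R : CRing Λ k) (n : ℕ) :
    IsLocalRing.maximalIdeal (R.trunc n) ^ (n + 1) = ⊥ := by
  rw [← le_bot_iff]
  calc IsLocalRing.maximalIdeal (R.carrier ⧸ CRing.mpow R n) ^ (n + 1)
      ≤ ((IsLocalRing.maximalIdeal R.carrier).map (Ideal.Quotient.mk (CRing.mpow R n))) ^ (n + 1) :=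
        Ideal.pow_right_mono (CRing.maximalIdeal_quot_le R n) _
    _ = (CRing.mpow R n).map (Ideal.Quotient.mk (CRing.mpow R n)) := by rw [← Ideal.map_pow]
    _ = ⊥ := Ideal.map_quotient_self _
    _ ≤ ⊥ := le_rfl

/-- every formal element is induced from a versal family, with prescribed first-order part -/
theorem exists_along_of_isVersal_one {F : Art Λ k ⥤ Type v}
    (R : CRing Λ k) (ξ : Family R.carrier R.res F) (hξ : IsVersal ξ)
    (S : CRing Λ k) (η : FormalElt F S) (ψ₁ : HomSet R.carrier R.res (S.trunc 1))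
    (hψ₁ : ξ.app _ ψ₁ = η.elt 1) :
    ∃ (g : R.carrier →ₐ[Λ] S.carrier) (hg : S.res.comp g = R.res), (ξ.along g hg).toFormalElt = η ∧
      (⟨(S.truncHom 1).1.comp g, by rw [← AlgHom.comp_assoc, (S.truncHom 1).2, hg]⟩ :
        HomSet R.carrier R.res (S.trunc 1)) = ψ₁ := by
  classical
  let X : ℕ → Type u := fun n => {ψ : HomSet R.carrier R.res (S.trunc n) // ξ.app _ ψ = η.elt n}
  have hstep : ∀ n (x : X n), ∃ y : X (n + 1), HomSet.map (S.truncMap n) y.1 = x.1 := by
    intro n x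
    obtain ⟨ψ, h1, h2⟩ := hξ (S.truncMap n) (truncMap_surjective S n) x.1 (η.elt (n + 1))
      (by rw [η.compat, x.2])
    exact ⟨⟨ψ, h2⟩, h1⟩
  let v : ∀ n, X (n + 1) := fun n =>
    Nat.rec (motive := fun n => X (n + 1)) ⟨ψ₁, hψ₁⟩ (fun n x => (hstep (n + 1) x).choose) n
  have hv : ∀ n, HomSet.map (S.truncMap (n + 1)) (v (n + 1)).1 = (v n).1 :=
    fun n => (hstep (n + 1) (v n)).choose_spec
  let ψ : ∀ n, HomSet R.carrier R.res (S.trunc n) := fun n =>
    Nat.casesOn (motive := fun n => HomSet R.carrier R.res (S.trunc n)) n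
      (HomSet.map (S.truncMap 0) ψ₁) (fun n => (v n).1)
  have hψ : ∀ n, HomSet.map (S.truncMap n) (ψ (n + 1)) = ψ n := by
    intro n
    cases n with
    | zero => rfl
    | succ n => exact hv n
  have hψξ : ∀ n, ξ.app _ (ψ n) = η.elt n := by
    intro n
    cases n with
    | zero =>
      change ξ.app _ (HomSet.map (S.truncMap 0) ψ₁) = η.elt 0
      rw [ξ.natural, hψ₁, η.compat]
    | succ n => exact (v n).2
  obtain ⟨g, hg, hgψ⟩ := exists_lift_of_compat S ψ hψ
  refine ⟨g, hg, ?_, hgψ 1⟩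
  apply FormalElt.ext'
  intro n
  change ξ.app _ _ = η.elt n
  rw [← hψξ n]
  congr 1
  exact hgψ n

/-- `(a, b₁, b₂) ↦ a + (b₁ - b₂) ε`. -/
def minus : dual2 Λ k ⟶ dual Λ k :=
  ⟨tszeMap (LinearMap.fst k k k - LinearMap.snd k k k), AlgHom.ext fun _ => rfl⟩

/-- Under `H_ε`, two tangent vectors of `h_R` with the same image in `F` have difference mapping to the zero tangent
vector. -/
theorem exists_diff_of_app_eq {F : Art Λ k ⥤ Type v} (h2 : Heps F)
    {R : Type u} [CommRing R] [Algebra Λ R] {resR : R →ₐ[Λ] k} (ξ : Family R resR F)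
    (φ₁ φ₂ : HomSet R resR (dual Λ k)) (h : ξ.app _ φ₁ = ξ.app _ φ₂) :
    ∃ δ ζ : HomSet R resR (dual Λ k), ξ.app _ δ = ξ.app _ ζ ∧
      (∀ r, TrivSqZeroExt.snd (R := k) (M := k) (ζ.1 r) = 0) ∧
      (∀ r, TrivSqZeroExt.snd (R := k) (M := k) (δ.1 r) =
        TrivSqZeroExt.snd (R := k) (M := k) (φ₁.1 r) - TrivSqZeroExt.snd (R := k) (M := k) (φ₂.1 r)) := by
  have hfp := isFibreProd_dual2 (Λ := Λ) (k := k)
  obtain ⟨ψ₁₂, h1, h2'⟩ := IsFibreProd.exists_lift_homSet hfp φ₁ φ₂
    ((homSet_base_eq _).trans (homSet_base_eq _).symm)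
  obtain ⟨ψ₂₂, h3, h4⟩ := IsFibreProd.exists_lift_homSet hfp φ₂ φ₂ rfl
  have heq : ξ.app _ ψ₁₂ = ξ.app _ ψ₂₂ := by
    apply (cmp_injective_iff F hfp).1 (h2 _ _ hfp).1
    · rw [← ξ.natural, ← ξ.natural, h1, h3, h]
    · rw [← ξ.natural, ← ξ.natural, h2', h4]
  refine ⟨HomSet.map minus ψ₁₂, HomSet.map minus ψ₂₂, ?_, ?_, ?_⟩
  · rw [ξ.natural, ξ.natural, heq]
  · intro r
    have e1 : pr₁ (ψ₂₂.1 r) = φ₂.1 r := congrArg (fun t : HomSet R resR (dual Λ k) => t.1 r) h3
    have e2 : pr₂ (ψ₂₂.1 r) = φ₂.1 r := congrArg (fun t : HomSet R resR (dual Λ k) => t.1 r) h4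
    have f1 : (ψ₂₂.1 r).snd.1 = TrivSqZeroExt.snd (R := k) (M := k) (φ₂.1 r) :=
      congrArg (TrivSqZeroExt.snd (R := k) (M := k)) e1
    have f2 : (ψ₂₂.1 r).snd.2 = TrivSqZeroExt.snd (R := k) (M := k) (φ₂.1 r) := by
      have := congrArg (TrivSqZeroExt.snd (R := k) (M := k)) e2
      exact this
    change (ψ₂₂.1 r).snd.1 - (ψ₂₂.1 r).snd.2 = 0
    rw [f1, f2, sub_self]
  · intro r
    have e1 : pr₁ (ψ₁₂.1 r) = φ₁.1 r := congrArg (fun t : HomSet R resR (dual Λ k) => t.1 r) h1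
    have e2 : pr₂ (ψ₁₂.1 r) = φ₂.1 r := congrArg (fun t : HomSet R resR (dual Λ k) => t.1 r) h2'
    have f1 : (ψ₁₂.1 r).snd.1 = TrivSqZeroExt.snd (R := k) (M := k) (φ₁.1 r) :=
      congrArg (TrivSqZeroExt.snd (R := k) (M := k)) e1
    have f2 : (ψ₁₂.1 r).snd.2 = TrivSqZeroExt.snd (R := k) (M := k) (φ₂.1 r) := by
      have := congrArg (TrivSqZeroExt.snd (R := k) (M := k)) e2
      exact this
    change (ψ₁₂.1 r).snd.1 - (ψ₁₂.1 r).snd.2 = _
    rw [f1, f2]

/-- A minimal versal family is a hull when `k` has no nonzero `Λ`-derivations. -/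
theorem isMiniversal_of_isMinimalVersal
    (hk : Subsingleton (Derivation Λ k k))
    {F : Art Λ k ⥤ Type v} (h0 : H0 F) (h2 : Heps F)
    {R : CRing Λ k} (ξ : Family R.carrier R.res F) (hξ : ξ.IsMinimalVersal) :
    IsMiniversal ξ := by
  refine ⟨hξ.1, ?_, IsVersal.app_surjective h0 ξ hξ.1 _⟩
  intro φ₁ φ₂ h
  by_contra hne
  obtain ⟨δ, ζ, hδζ, hζ, hδ⟩ := exists_diff_of_app_eq h2 ξ φ₁ φ₂ h
  have hex : ∃ r₀, TrivSqZeroExt.snd (R := k) (M := k) (φ₁.1 r₀) ≠ TrivSqZeroExt.snd (R := k) (M := k) (φ₂.1 r₀) := by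
    by_contra hall
    push_neg at hall
    apply hne
    apply Subtype.ext
    apply AlgHom.ext
    intro r
    apply TrivSqZeroExt.ext
    · exact (AlgHom.congr_fun φ₁.2 r).trans (AlgHom.congr_fun φ₂.2 r).symm
    · exact hall r
  obtain ⟨r₀, hr₀⟩ := hex
  letI : Algebra R.carrier k := R.res.toRingHom.toAlgebra
  haveI : IsScalarTower Λ R.carrier k := IsScalarTower.of_algebraMap_eq fun r => (R.res.commutes r).symm
  have hδ1 : ∀ s, TrivSqZeroExt.fst (R := k) (M := k) (δ.1 s) = algebraMap R.carrier k s :=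
    fun s => AlgHom.congr_fun δ.2 s
  let D : Derivation Λ R.carrier k := homToDeriv δ.1 hδ1
  have hD : ∀ r, D r = TrivSqZeroExt.snd (R := k) (M := k) (δ.1 r) := fun r => rfl
  obtain ⟨w, hw0, hw⟩ := exists_mem_ker_derivation_ne_zero hk R.res_surjective D r₀
    (by rw [hD, hδ]; exact sub_ne_zero.2 hr₀)
  obtain ⟨δ', hδ'⟩ := CR.exists_factor_trunc R 1 (dual Λ k) CR.sq_maximalIdeal_dual δ
  let v : R.trunc 1 := (R.truncHom 1).1 w
  have hδ'v : δ' v = δ.1 w := congrArg (fun t : HomSet R.carrier R.res (dual Λ k) => t.1 w) hδ'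
  have hvm : v ∈ IsLocalRing.maximalIdeal (R.trunc 1) := by
    rw [mem_maximalIdeal_iff]
    exact hw0
  obtain ⟨E', π, hπ, hker⟩ := exists_quot (R.trunc 1) (Ideal.span {v})
    ((Ideal.span_singleton_le_iff_mem _).2 hvm)
  have hfp := isFibreProd_of_sqZero (pow_maximalIdeal_trunc R 1) δ' v hvm
    (by rw [hδ'v]; exact hw) π hπ hker
  obtain ⟨h₁, hh₁π, hh₁δ⟩ := IsFibreProd.exists_lift_homSet hfp (HomSet.map π (R.truncHom 1)) ζ
    ((homSet_base_eq _).trans (homSet_base_eq _).symm)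
  have hξh₁ : ξ.app _ h₁ = ξ.app _ (R.truncHom 1) := by
    apply (cmp_injective_iff F hfp).1 (h2 _ _ hfp).1
    · rw [← ξ.natural, ← ξ.natural, hh₁π]
    · rw [← ξ.natural, ← ξ.natural, hh₁δ, hδ', hδζ]
  obtain ⟨g, hg, hgξ, hg1⟩ := exists_along_of_isVersal_one R ξ hξ.1 R ξ.toFormalElt h₁ hξh₁
  have hgs : Function.Surjective g := hξ.2 R ξ.toFormalElt g hg
    (by rw [← CR.toFormalElt_along]; exact hgξ)
  obtain ⟨r, hr⟩ := hgs w
  have h4 : h₁.1 r = v := by
    have := congrArg (fun t : HomSet R.carrier R.res (R.trunc 1) => t.1 r) hg1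
    rw [← this]
    change (R.truncHom 1).1 (g r) = (R.truncHom 1).1 w
    rw [hr]
  have h5 : δ' (h₁.1 r) = ζ.1 r := congrArg (fun t : HomSet R.carrier R.res (dual Λ k) => t.1 r) hh₁δ
  rw [h4, hδ'v] at h5
  apply hw
  rw [hD, h5, hζ]

end Groth.Agent.H63
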