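import Groth.Agent.H63.ArtBasic
import Mathlib.RingTheory.Etale.Field
import Mathlib.RingTheory.Smooth.Basic
import Mathlib.RingTheory.IntegralClosure.IsIntegralClosure.Basic

set_option autoImplicit false
set_option linter.style.haveILetI false
universe u v
open CategoryTheory

namespace Groth.Agent.H63

open ArtFun ArtFun.Art

variable {Λ : Type u} {k : Type u} [CommRing Λ] [Field k] [Algebra Λ k]

/-- When `k` is separable over the image of `Λ`, an object killed by the kernel of `Λ → k` has a coefficient field. -/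
theorem exists_section_of_isSeparable [Algebra.IsSeparable (↥(algebraMap Λ k).range) k]
    (E : Art Λ k) (hE : ∀ r : Λ, algebraMap Λ k r = 0 → algebraMap Λ E r = 0) :
    Nonempty (Art.base Λ k ⟶ E) := by
  let k₀ := (algebraMap Λ k).range
  haveI hint : Algebra.IsIntegral k₀ k := ⟨fun c => Algebra.IsSeparable.isIntegral k₀ c⟩
  have hfld : IsField k₀ :=
    isField_of_isIntegral_of_isField (R := k₀) (S := k) Subtype.val_injective (Field.toIsField k)
  letI : Field k₀ := hfld.toField
  haveI : Algebra.FormallySmooth k₀ k := by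
    haveI : Algebra.FormallyEtale k₀ k := Algebra.FormallyEtale.of_isSeparable k₀ k
    infer_instance
  let ρ : Λ →+* k₀ := (algebraMap Λ k).rangeRestrict
  have hρ : Function.Surjective ρ := (algebraMap Λ k).rangeRestrict_surjective
  have hker : RingHom.ker ρ ≤ RingHom.ker (algebraMap Λ E) := by
    intro r hr
    rw [RingHom.mem_ker] at hr ⊢
    apply hE
    have := congrArg Subtype.val hr
    exact this
  let ι : k₀ →+* E := RingHom.liftOfSurjective ρ hρ ⟨algebraMap Λ E, hker⟩
  have hι : ∀ r : Λ, ι (ρ r) = algebraMap Λ E r := fun r =>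
    RingHom.liftOfRightInverse_comp_apply ρ _ (Function.rightInverse_surjInv hρ) ⟨algebraMap Λ E, hker⟩ r
  letI : Algebra k₀ E := ι.toAlgebra
  have halg : ∀ x : k₀, algebraMap k₀ E x = ι x := fun x => rfl
  let res₀ : E →ₐ[k₀] k :=
    { (E.res : E →+* k) with
      commutes' := by
        intro x
        obtain ⟨r, rfl⟩ := hρ x
        change E.res (ι (ρ r)) = algebraMap k₀ k (ρ r)
        rw [hι, AlgHom.commutes]
        rfl }
  have hres₀ : ∀ e, res₀ e = E.res e := fun e => rfl
  have hnil : IsNilpotent (RingHom.ker (res₀ : E →+* k)) := by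
    obtain ⟨n, hn⟩ := maximalIdeal_nilpotent E
    refine ⟨n, ?_⟩
    rw [Ideal.zero_eq_bot, eq_bot_iff, ← hn]
    apply Ideal.pow_right_mono
    intro x hx
    rw [mem_maximalIdeal_iff]
    exact hx
  let s : k →ₐ[k₀] E := Algebra.FormallySmooth.liftOfSurjective (AlgHom.id k₀ k) res₀ E.res_surjective hnil
  have hs : ∀ c, E.res (s c) = c := fun c =>
    AlgHom.congr_fun (Algebra.FormallySmooth.comp_liftOfSurjective (AlgHom.id k₀ k) res₀ E.res_surjective hnil) c
  let σ : k →ₐ[Λ] E :=
    { (s : k →+* E) with
      commutes' := by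
        intro r
        have h1 : algebraMap Λ k r = algebraMap k₀ k (ρ r) := rfl
        change s (algebraMap Λ k r) = algebraMap Λ E r
        rw [h1, s.commutes, halg, hι] }
  exact ⟨⟨σ, AlgHom.ext fun c => hs c⟩⟩

end Groth.Agent.H63
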