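import Groth.Agent.H63.ArtSmall
import Mathlib.LinearAlgebra.Basis.VectorSpace

set_option autoImplicit false
set_option linter.style.haveILetI false
universe u v
open CategoryTheory

namespace Groth.Agent.H63

open ArtFun ArtFun.Art

variable {Λ : Type u} {k : Type u} [CommRing Λ] [Field k] [Algebra Λ k]

/-- (C'): on an object with square-zero maximal ideal and a section, every nonzero vector of the maximal ideal
is detected by a map to the dual numbers trivial on the section. -/
theorem exists_tau_of_section {E : Art Λ k} (σ : Art.base Λ k ⟶ E) (hE : IsLocalRing.maximalIdeal E ^ 2 = ⊥)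
    (v : E) (hv : v ∈ IsLocalRing.maximalIdeal E) (hv0 : v ≠ 0) :
    ∃ τ : E ⟶ dual Λ k, σ ≫ τ = baseToDual ∧ τ v = TrivSqZeroExt.inr 1 := by
  let s : k →ₐ[Λ] E := σ.toAlgHom
  letI : Algebra k E := s.toRingHom.toAlgebra
  have halg : ∀ a : k, algebraMap k E a = s a := fun a => rfl
  have hsmul : ∀ (a : k) (e : E), a • e = s a * e := fun a e => by rw [Algebra.smul_def, halg]
  have hresσ : ∀ a : k, E.res (s a) = a := fun a => res_app σ a
  obtain ⟨g, hg⟩ := LinearMap.exists_leftInverse_of_injective (LinearMap.toSpanSingleton k E v)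
    (LinearMap.ker_toSpanSingleton k hv0)
  have hgv : g v = 1 := by
    have := LinearMap.congr_fun hg 1
    simpa using this
  have hmm : ∀ x y : E, x ∈ IsLocalRing.maximalIdeal E → y ∈ IsLocalRing.maximalIdeal E → x * y = 0 := by
    intro x y hx hy
    have : x * y ∈ IsLocalRing.maximalIdeal E ^ 2 := by rw [sq]; exact Ideal.mul_mem_mul hx hy
    rwa [hE, Ideal.mem_bot] at this
  have hw : ∀ e : E, e - s (E.res e) ∈ IsLocalRing.maximalIdeal E := by
    intro e
    rw [mem_maximalIdeal_iff, map_sub, hresσ, sub_self]
  let lam : E → k := fun e => g (e - s (E.res e))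
  have hlam_mul : ∀ e e', lam (e * e') = E.res e * lam e' + E.res e' * lam e := by
    intro e e'
    have h0 := hmm _ _ (hw e) (hw e')
    have : e * e' - s (E.res (e * e')) =
        E.res e • (e' - s (E.res e')) + E.res e' • (e - s (E.res e)) := by
      rw [hsmul, hsmul, map_mul, map_mul]
      have : (e - s (E.res e)) * (e' - s (E.res e')) = 0 := h0
      linear_combination this
    change g _ = _
    rw [this, map_add, map_smul, map_smul, smul_eq_mul, smul_eq_mul]
  let τ0 : E →ₐ[Λ] DualNumber k :=
    { toFun := fun e => (E.res e, lam e)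
      map_one' := TrivSqZeroExt.ext (map_one _) (by
        change g (1 - s (E.res 1)) = 0
        rw [map_one, map_one, sub_self, map_zero])
      map_mul' := fun c c' => TrivSqZeroExt.ext (map_mul _ _ _) (by
        change lam (c * c') = E.res c • lam c' + MulOpposite.op (E.res c') • lam c
        rw [hlam_mul, smul_eq_mul, MulOpposite.smul_eq_mul_unop, MulOpposite.unop_op, mul_comm (lam c)])
      map_zero' := TrivSqZeroExt.ext (map_zero _) (by
        change g (0 - s (E.res 0)) = 0
        rw [map_zero, map_zero, sub_self, map_zero])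
      map_add' := fun c c' => TrivSqZeroExt.ext (map_add _ _ _) (by
        change g (c + c' - s (E.res (c + c'))) = g (c - s (E.res c)) + g (c' - s (E.res c'))
        rw [← map_add, map_add E.res, map_add]
        congr 1
        ring)
      commutes' := fun r => TrivSqZeroExt.ext (by
          change E.res (algebraMap Λ E r) = (algebraMap Λ (TrivSqZeroExt k k) r).fst
          rw [AlgHom.commutes, TrivSqZeroExt.algebraMap_eq_inl', TrivSqZeroExt.fst_inl]) (by
          change g (algebraMap Λ E r - s (E.res (algebraMap Λ E r))) = (algebraMap Λ (TrivSqZeroExt k k) r).snd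
          have h1 : s (algebraMap Λ k r) = algebraMap Λ E r := s.commutes r
          rw [AlgHom.commutes, h1, sub_self, map_zero, TrivSqZeroExt.algebraMap_eq_inl', TrivSqZeroExt.snd_inl]) }
  let τ : E ⟶ dual Λ k := ⟨τ0, AlgHom.ext fun c => rfl⟩
  have hτ : ∀ e, τ e = (E.res e, g (e - s (E.res e))) := fun e => rfl
  refine ⟨τ, ?_, ?_⟩
  · apply hom_ext
    apply AlgHom.ext
    intro a
    change τ (s a) = baseToDual a
    rw [hτ, baseToDual_apply, hresσ, sub_self, map_zero]
    rfl
  · rw [hτ]
    have : E.res v = 0 := (mem_maximalIdeal_iff E v).1 hv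
    rw [this, map_zero, sub_zero, hgv]
    rfl

/-- (C): a small extension of an object with square-zero maximal ideal and a section is a fibre product
with the dual numbers. -/
theorem exists_tau_isFibreProd {E E' : Art Λ k} (σ : Art.base Λ k ⟶ E) (hE : IsLocalRing.maximalIdeal E ^ 2 = ⊥)
    (q : E ⟶ E') (hq : Function.Surjective q) (v : E) (hv0 : v ≠ 0)
    (hker : RingHom.ker q.toAlgHom = Ideal.span {v}) :
    ∃ τ : E ⟶ dual Λ k, IsFibreProd q τ (toBase E') (toBase (dual Λ k)) := by
  let s : k →ₐ[Λ] E := σ.toAlgHom
  have hvk : v ∈ RingHom.ker q.toAlgHom := by rw [hker]; exact Ideal.subset_span rfl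
  have hv : v ∈ IsLocalRing.maximalIdeal E := ker_le_maximalIdeal q hvk
  obtain ⟨τ, hστ, hτv⟩ := exists_tau_of_section σ hE v hv hv0
  have hmm : ∀ x y : E, x ∈ IsLocalRing.maximalIdeal E → y ∈ IsLocalRing.maximalIdeal E → x * y = 0 := by
    intro x y hx hy
    have : x * y ∈ IsLocalRing.maximalIdeal E ^ 2 := by rw [sq]; exact Ideal.mul_mem_mul hx hy
    rwa [hE, Ideal.mem_bot] at this
  have hτσ : ∀ a : k, τ (s a) = TrivSqZeroExt.inl a := fun a => by
    have := congrArg (fun t : Art.base Λ k ⟶ dual Λ k => t a) hστ
    exact this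
  have hresσ : ∀ a : k, E.res (s a) = a := fun a => res_app σ a
  have hcv : ∀ c : E, c * v = s (E.res c) * v := by
    intro c
    have h1 : c - s (E.res c) ∈ IsLocalRing.maximalIdeal E := by
      rw [mem_maximalIdeal_iff, map_sub, hresσ, sub_self]
    have := hmm _ _ h1 hv
    rwa [sub_mul, sub_eq_zero] at this
  have hτcv : ∀ a : k, τ (s a * v) = TrivSqZeroExt.inr a := by
    intro a
    rw [map_mul, hτσ, hτv]
    exact TrivSqZeroExt.inl_mul_inr a (1 : k) |>.trans (by rw [smul_eq_mul, mul_one])
  refine ⟨τ, ?_, ?_, ?_⟩
  · rw [eq_toBase (q ≫ toBase E'), eq_toBase (τ ≫ toBase (dual Λ k))]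
  · intro e e' h1 h2
    have hd : e - e' ∈ RingHom.ker q.toAlgHom := by
      rw [RingHom.mem_ker, map_sub]; exact sub_eq_zero.2 h1
    rw [hker] at hd
    obtain ⟨c, hc⟩ := Ideal.mem_span_singleton'.1 hd
    rw [hcv] at hc
    have h3 : τ (e - e') = 0 := by rw [map_sub]; exact sub_eq_zero.2 h2
    rw [← hc, hτcv] at h3
    have h4 : E.res c = 0 := by
      have key : ∀ a : k, (TrivSqZeroExt.inr a : DualNumber k) = 0 → a = 0 := by
        intro a ha
        have := congrArg TrivSqZeroExt.snd ha
        rwa [TrivSqZeroExt.snd_inr, TrivSqZeroExt.snd_zero] at this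
      exact key _ h3
    rw [h4, map_zero, zero_mul] at hc
    exact sub_eq_zero.1 hc.symm
  · intro e' x hx
    obtain ⟨e₀, rfl⟩ := hq e'
    have hx' : E.res e₀ = x.fst := by
      have : E'.res (q e₀) = x.fst := hx
      rwa [res_app] at this
    have hfst : (τ e₀).fst = x.fst := by
      have : (dual Λ k).res (τ e₀) = E.res e₀ := res_app τ e₀
      rw [← hx']
      exact this
    refine ⟨e₀ + s (x.snd - (τ e₀).snd) * v, ?_, ?_⟩
    · rw [map_add, map_mul]
      have : q v = 0 := RingHom.mem_ker.1 hvk
      rw [this, mul_zero, add_zero]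
    · rw [map_add, hτcv]
      have key : ∀ (t x : DualNumber k), t.fst = x.fst → t + TrivSqZeroExt.inr (x.snd - t.snd) = x := by
        intro t x h
        apply TrivSqZeroExt.ext
        · rw [TrivSqZeroExt.fst_add, TrivSqZeroExt.fst_inr, add_zero, h]
        · rw [TrivSqZeroExt.snd_add, TrivSqZeroExt.snd_inr]
          ring
      exact key _ _ hfst

end Groth.Agent.H63

namespace Groth.Agent.H63

open ArtFun ArtFun.Art

variable {Λ : Type u} {k : Type u} [CommRing Λ] [Field k] [Algebra Λ k]

theorem toBase_surjective' (A : Art Λ k) : Function.Surjective (toBase A) := A.res_surjective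

theorem map_injective_of_isIso' (F : Art Λ k ⥤ Type v) {A B : Art Λ k} (e : B ⟶ A) [IsIso e] :
    Function.Injective (F.map e) := by
  intro x x' h
  have := congrArg (F.map (inv e)) h
  rwa [← map_comp_apply, ← map_comp_apply, IsIso.hom_inv_id, map_id_apply, map_id_apply] at this

theorem sq_maximalIdeal_eq_bot_of_surjective {E E' : Art Λ k} (q : E ⟶ E') (hq : Function.Surjective q)
    (hE : IsLocalRing.maximalIdeal E ^ 2 = ⊥) : IsLocalRing.maximalIdeal E' ^ 2 = ⊥ := by
  rw [eq_bot_iff, sq, Ideal.mul_le]
  intro x hx y hy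
  obtain ⟨a, ha, rfl⟩ := exists_mem_maximalIdeal_of_surjective q hq x hx
  obtain ⟨b, hb, rfl⟩ := exists_mem_maximalIdeal_of_surjective q hq y hy
  have : a * b ∈ IsLocalRing.maximalIdeal E ^ 2 := by rw [sq]; exact Ideal.mul_mem_mul ha hb
  rw [hE, Ideal.mem_bot] at this
  rw [← map_mul, this, map_zero]
  exact Ideal.zero_mem _

/-- `Heps` extends to products with square-zero objects having a section. -/
theorem cmp_bijective_sqZero [Module.Finite Λ k] {F : Art Λ k ⥤ Type v} (hF : Heps F)
    {E : Art Λ k} (σ : Art.base Λ k ⟶ E) (hE : IsLocalRing.maximalIdeal E ^ 2 = ⊥)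
    ⦃B A : Art Λ k⦄ (p' : B ⟶ A) (p'' : B ⟶ E)
    (h : IsFibreProd p' p'' (toBase A) (toBase E)) :
    Function.Bijective (cmp F h) := by
  have key : ∀ J : Ideal E, J ≤ IsLocalRing.maximalIdeal E → ∀ (E' : Art Λ k) (q : E ⟶ E'),
      Function.Surjective q → RingHom.ker q.toAlgHom = J →
      ∀ (B A : Art Λ k) (p' : B ⟶ A) (p'' : B ⟶ E') (h : IsFibreProd p' p'' (toBase A) (toBase E')),
        Function.Bijective (cmp F h) := by
    intro J
    induction J using WellFoundedGT.induction with
    | ind J ih =>
      intro hJ E' q hq hqJ B A p' p'' h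
      by_cases hJm : J = IsLocalRing.maximalIdeal E
      · haveI : IsIso (toBase E') := by
          apply isIso_of_bijective
          refine ⟨?_, toBase_surjective' E'⟩
          rw [injective_iff_map_eq_zero]
          intro e' he'
          obtain ⟨e, rfl⟩ := hq e'
          have h1 : E'.res (q e) = 0 := he'
          rw [res_app] at h1
          have h2 : e ∈ RingHom.ker q.toAlgHom := by
            rw [hqJ, hJm]; exact (mem_maximalIdeal_iff E e).2 h1
          exact RingHom.mem_ker.1 h2
        exact cmp_bijective_of_isIso F h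
      · obtain ⟨v, hvm, hvJ⟩ := SetLike.not_le_iff_exists.1 (fun hle => hJm (le_antisymm hJ hle))
        have hJ'm : J ⊔ Ideal.span {v} ≤ IsLocalRing.maximalIdeal E :=
          sup_le hJ (by rw [Ideal.span_le, Set.singleton_subset_iff]; exact hvm)
        have hlt : J < J ⊔ Ideal.span {v} := by
          refine lt_of_le_of_ne le_sup_left fun h => hvJ ?_
          rw [h]
          exact Ideal.mem_sup_right (Ideal.subset_span rfl)
        obtain ⟨E'', q'', hq'', hq''K⟩ := exists_quot E _ hJ'm
        obtain ⟨r, hr⟩ := exists_factor q hq q'' (by rw [hqJ, hq''K]; exact le_sup_left)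
        have hrsurj : Function.Surjective r := by
          intro x
          obtain ⟨e, rfl⟩ := hq'' x
          exact ⟨q e, by rw [← hr]; rfl⟩
        have hqv0 : q v ≠ 0 := by
          intro h0
          apply hvJ
          rw [← hqJ]
          exact RingHom.mem_ker.2 h0
        have hkr : RingHom.ker r.toAlgHom = Ideal.span {q v} := by
          apply le_antisymm
          · intro x hx
            obtain ⟨e, rfl⟩ := hq x
            have he : e ∈ RingHom.ker q''.toAlgHom := by
              rw [RingHom.mem_ker] at hx ⊢
              rw [← hr]; exact hx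
            rw [hq''K, Submodule.mem_sup] at he
            obtain ⟨a, ha, z, hz, rfl⟩ := he
            obtain ⟨c, rfl⟩ := Ideal.mem_span_singleton'.1 hz
            have ha' : q a = 0 := by
              rw [← hqJ] at ha; exact RingHom.mem_ker.1 ha
            rw [map_add, ha', zero_add, map_mul]
            exact Ideal.mul_mem_left _ _ (Ideal.subset_span rfl)
          · rw [Ideal.span_le, Set.singleton_subset_iff]
            have hb : v ∈ RingHom.ker q''.toAlgHom := by
              rw [hq''K]
              exact Ideal.mem_sup_right (Ideal.subset_span rfl)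
            rw [RingHom.mem_ker] at hb
            change _ ∈ RingHom.ker r.toAlgHom
            rw [RingHom.mem_ker]
            rw [← hr] at hb
            exact hb
        obtain ⟨τ, hτ⟩ := exists_tau_isFibreProd (σ ≫ q) (sq_maximalIdeal_eq_bot_of_surjective q hq hE)
          r hrsurj (q v) hqv0 hkr
        obtain ⟨B'', s', s'', h''⟩ := exists_isFibreProd_of_surjective (toBase A) (toBase E'')
          (toBase_surjective' E'')
        have ih'' := ih _ hlt hJ'm E'' q'' hq'' hq''K B'' A s' s'' h''
        obtain ⟨l, hl', hl''⟩ := IsFibreProd.exists_lift h'' p' (p'' ≫ r)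
          ((eq_toBase _).trans (eq_toBase _).symm)
        have hB : IsFibreProd l (p'' ≫ τ) (toBase B'') (toBase (dual Λ k)) := by
          refine ⟨(eq_toBase _).trans (eq_toBase _).symm, ?_, ?_⟩
          · intro b b' e₁ e₂
            have e₃ : p' b = p' b' := by
              rw [← hl']
              change s' (l b) = s' (l b')
              rw [e₁]
            apply h.inj _ _ e₃
            apply hτ.inj
            · have : ∀ b, r (p'' b) = s'' (l b) := fun b => (congrArg (fun t : B ⟶ E'' => t b) hl'').symm
              rw [this, this, e₁]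
            · exact e₂
          · intro b'' x hx
            have hx' : E''.res (s'' b'') = (dual Λ k).res x := by
              have : B''.res b'' = (dual Λ k).res x := hx
              rw [res_app]
              exact this
            obtain ⟨e', he'₁, he'₂⟩ := hτ.surj (s'' b'') x hx'
            have hres : A.res (s' b'') = E'.res e' := by
              rw [res_app, ← res_app r, he'₁, res_app]
            obtain ⟨b, hb₁, hb₂⟩ := h.surj (s' b'') e' hres
            refine ⟨b, ?_, ?_⟩
            · apply h''.inj
              · have : s' (l b) = p' b := congrArg (fun t : B ⟶ A => t b) hl'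
                rw [this, hb₁]
              · have : s'' (l b) = r (p'' b) := congrArg (fun t : B ⟶ E'' => t b) hl''
                rw [this, hb₂, he'₁]
            · change τ (p'' b) = x
              rw [hb₂, he'₂]
        have hcB := hF _ _ hB
        have hcτ := hF _ _ hτ
        constructor
        · rw [cmp_injective_iff]
          intro z w e₁ e₂
          apply (cmp_injective_iff F hB).1 hcB.1
          · apply (cmp_injective_iff F h'').1 ih''.1
            · rw [← map_comp_apply, ← map_comp_apply, hl', e₁]
            · rw [← map_comp_apply, ← map_comp_apply, hl'', map_comp_apply, map_comp_apply, e₂]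
          · rw [map_comp_apply, map_comp_apply, e₂]
        · rw [cmp_surjective_iff]
          intro x y hxy
          have hc1 : F.map (toBase A) x = F.map (toBase E'') (F.map r y) := by
            rw [← map_comp_apply, eq_toBase (r ≫ toBase E''), hxy]
          obtain ⟨z'', hz''₁, hz''₂⟩ := (cmp_surjective_iff F h'').1 ih''.2 x (F.map r y) hc1
          have hc2 : F.map (toBase B'') z'' = F.map (toBase (dual Λ k)) (F.map τ y) := by
            rw [← map_comp_apply, eq_toBase (τ ≫ toBase (dual Λ k)), ← hxy, ← hz''₁, ← map_comp_apply,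
              eq_toBase (s' ≫ toBase A)]
          obtain ⟨z, hz₁, hz₂⟩ := (cmp_surjective_iff F hB).1 hcB.2 z'' (F.map τ y) hc2
          refine ⟨z, ?_, ?_⟩
          · rw [← hl', map_comp_apply, hz₁, hz''₁]
          · apply (cmp_injective_iff F hτ).1 hcτ.1
            · rw [← map_comp_apply, ← hl'', map_comp_apply, hz₁, hz''₂]
            · rw [← map_comp_apply, hz₂]
  obtain ⟨E', q, hq, hqK⟩ := exists_quot E ⊥ bot_le
  haveI : IsIso q := by
    apply isIso_of_bijective
    refine ⟨?_, hq⟩
    rw [injective_iff_map_eq_zero]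
    intro x hx
    have : x ∈ RingHom.ker q.toAlgHom := RingHom.mem_ker.2 hx
    rwa [hqK, Ideal.mem_bot] at this
  -- transport the square along the isomorphism `q`
  have h' : IsFibreProd p' (p'' ≫ q) (toBase A) (toBase E') := by
    refine ⟨(eq_toBase _).trans (eq_toBase _).symm, ?_, ?_⟩
    · intro b b' e₁ e₂
      apply h.inj _ _ e₁
      exact (bijective_of_isIso q).1 e₂
    · intro a e' he'
      obtain ⟨e, rfl⟩ := hq e'
      have : A.res a = E.res e := by
        have h1 : A.res a = E'.res (q e) := he'
        rw [h1, res_app]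
      obtain ⟨b, hb₁, hb₂⟩ := h.surj a e this
      exact ⟨b, hb₁, by change q (p'' b) = q e; rw [hb₂]⟩
  have hbij := key ⊥ bot_le E' q hq hqK B A p' (p'' ≫ q) h'
  constructor
  · rw [cmp_injective_iff]
    intro z w e₁ e₂
    apply (cmp_injective_iff F h').1 hbij.1 z w e₁
    rw [map_comp_apply, map_comp_apply, e₂]
  · rw [cmp_surjective_iff]
    intro x y hxy
    have hc : F.map (toBase A) x = F.map (toBase E') (F.map q y) := by
      rw [← map_comp_apply, eq_toBase (q ≫ toBase E'), hxy]
    obtain ⟨z, hz₁, hz₂⟩ := (cmp_surjective_iff F h').1 hbij.2 x (F.map q y) hc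
    refine ⟨z, hz₁, ?_⟩
    apply map_injective_of_isIso' F q
    rw [← map_comp_apply, hz₂]

end Groth.Agent.H63
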