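import Groth.Agent.H63.ArtEssential
import Groth.Agent.H63.ArtSqZero
import Groth.Agent.H63.ArtMinimal
import Groth.Agent.H63.ArtSepSection
import Groth.Agent.H63.ArtFinite

set_option autoImplicit false
set_option linter.style.haveILetI false
universe u v
open CategoryTheory

namespace Groth.Agent.H63

open ArtFun ArtFun.Art

variable {Λ : Type u} {k : Type u} [CommRing Λ] [Field k] [Algebra Λ k]

/-- A morphism which is epimorphic with respect to maps to the dual numbers is surjective. -/
theorem Art.surjective_of_dual_injective {A B : Art Λ k} (f : B ⟶ A)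
    (hinj : ∀ τ₁ τ₂ : A ⟶ dual Λ k, f ≫ τ₁ = f ≫ τ₂ → τ₁ = τ₂) : Function.Surjective f := by
  letI : Algebra A k := A.res.toRingHom.toAlgebra
  haveI : IsScalarTower Λ A k := IsScalarTower.of_algebraMap_eq fun r => (A.res.commutes r).symm
  apply surjective_of_cotangent f
  by_contra hne
  have hle : Ideal.map f.toAlgHom (IsLocalRing.maximalIdeal B) ⊔ IsLocalRing.maximalIdeal A ^ 2 ≤
      IsLocalRing.maximalIdeal A :=
    sup_le (map_maximalIdeal_le f) (Ideal.pow_le_self two_ne_zero)
  have hlt := lt_of_le_of_ne hle hne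
  obtain ⟨v, hv, hvJ⟩ := SetLike.exists_of_lt hlt
  have hmem : ∀ x : A, x ∈ IsLocalRing.maximalIdeal A ↔ algebraMap A k x = 0 :=
    fun x => mem_maximalIdeal_iff A x
  obtain ⟨D, hD0, hDv⟩ := exists_derivation_of_not_mem (Λ := Λ) (k := k) (S := A) (R := B) f.toAlgHom
    (fun a => by
      obtain ⟨b, hb⟩ := B.res_surjective a
      refine ⟨b, ?_⟩
      change A.res (f b) = a
      rw [res_app, hb])
    (Ideal.map f.toAlgHom (IsLocalRing.maximalIdeal B) ⊔ IsLocalRing.maximalIdeal A ^ 2)
    (fun x y hx hy => by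
      apply Ideal.mem_sup_right
      rw [sq]
      exact Ideal.mul_mem_mul ((hmem x).2 hx) ((hmem y).2 hy))
    (fun b hb => by
      apply Ideal.mem_sup_left
      apply Ideal.mem_map_of_mem
      rw [mem_maximalIdeal_iff]
      have : A.res (f b) = 0 := hb
      rwa [res_app] at this)
    v ((hmem v).1 hv) hvJ
  let τ₁ : A ⟶ dual Λ k := ⟨derivToDual D, AlgHom.ext fun _ => rfl⟩
  let τ₂ : A ⟶ dual Λ k := ⟨derivToDual (0 : Derivation Λ A k), AlgHom.ext fun _ => rfl⟩
  have h12 : τ₁ = τ₂ := by
    apply hinj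
    apply hom_ext
    apply AlgHom.ext
    intro b
    change derivToDual D (f b) = derivToDual (0 : Derivation Λ A k) (f b)
    rw [derivToDual_apply, derivToDual_apply]
    have : D (f b) = 0 := hD0 b
    rw [this]
    rfl
  have := congrArg (fun t : A ⟶ dual Λ k => TrivSqZeroExt.snd (R := k) (M := k) (t v)) h12
  change D v = (0 : Derivation Λ A k) v at this
  rw [hDv] at this
  exact one_ne_zero this

/-- Maps to the dual numbers kill the relative cotangent kernel. -/
theorem cotKer_le_ker (A : Art Λ k) (τ : A ⟶ dual Λ k) : cotKer A ≤ RingHom.ker τ.toAlgHom := by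
  apply sup_le
  · rw [Ideal.map_le_iff_le_comap]
    intro r hr
    rw [Ideal.mem_comap, RingHom.mem_ker, AlgHom.commutes]
    have hr' : algebraMap Λ k r = 0 := hr
    change algebraMap Λ (TrivSqZeroExt k k) r = 0
    rw [TrivSqZeroExt.algebraMap_eq_inl', hr', TrivSqZeroExt.inl_zero]
  · rw [sq, Ideal.mul_le]
    intro x hx y hy
    rw [RingHom.mem_ker, map_mul]
    have h1 : τ x ∈ IsLocalRing.maximalIdeal (dual Λ k) := map_mem_maximalIdeal τ hx
    have h2 : τ y ∈ IsLocalRing.maximalIdeal (dual Λ k) := map_mem_maximalIdeal τ hy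
    have h3 : τ x * τ y ∈ IsLocalRing.maximalIdeal (dual Λ k) ^ (1 + 1) := by
      rw [pow_succ, pow_one]; exact Ideal.mul_mem_mul h1 h2
    rw [CR.sq_maximalIdeal_dual] at h3
    exact h3

/-- The tangent criterion: `f` is an essential surjection iff composition with `f` is bijective on maps to `k[ε]`. -/
theorem isEssential_iff_dual_bijective [Module.Finite Λ k] {A B : Art Λ k} (f : B ⟶ A) :
    IsEssential f ↔ Function.Bijective (fun τ : A ⟶ dual Λ k => f ≫ τ) := by
  constructor
  · rintro ⟨hf, hess⟩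
    refine ⟨fun τ₁ τ₂ h => eq_of_comp_eq f hf τ₁ τ₂ h, ?_⟩
    intro τ
    suffices h : RingHom.ker f.toAlgHom ≤ RingHom.ker τ.toAlgHom by
      obtain ⟨g, hg⟩ := exists_factor f hf τ h
      exact ⟨g, hg⟩
    intro t ht
    by_contra htτ
    have htm : t ∈ IsLocalRing.maximalIdeal B := ker_le_maximalIdeal f ht
    have hft : f t = 0 := ht
    have hfst : ∀ b : B, TrivSqZeroExt.fst (R := k) (M := k) (τ b) = B.res b := fun b => res_app τ b
    have ht0 : TrivSqZeroExt.fst (R := k) (M := k) (τ t) = 0 := by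
      rw [hfst]; exact (mem_maximalIdeal_iff B t).1 htm
    have hsnd : TrivSqZeroExt.snd (R := k) (M := k) (τ t) ≠ 0 := by
      intro h0
      apply htτ
      rw [RingHom.mem_ker]
      exact TrivSqZeroExt.ext ht0 h0
    have hτst : ∀ s : B, τ (s * t) = TrivSqZeroExt.inr (B.res s * TrivSqZeroExt.snd (R := k) (M := k) (τ t)) := by
      intro s
      rw [map_mul]
      have := dualNumber_mul_of_fst_eq_zero (τ s) (τ t) ht0
      rw [hfst] at this
      exact this
    -- for each `b` there is `b'` with the same image under `f` and `τ b' = (res b, 0)`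
    have hadj : ∀ b : B, ∃ b' : B, f b' = f b ∧ τ b' = baseToDual (B.res b) := by
      intro b
      obtain ⟨s, hs⟩ := B.res_surjective
        (- TrivSqZeroExt.snd (R := k) (M := k) (τ b) / TrivSqZeroExt.snd (R := k) (M := k) (τ t))
      refine ⟨b + s * t, ?_, ?_⟩
      · rw [map_add, map_mul, hft, mul_zero, add_zero]
      · rw [map_add, hτst, hs, div_mul_cancel₀ _ hsnd, baseToDual_apply]
        have key : ∀ x : TrivSqZeroExt k k, x + TrivSqZeroExt.inr (- x.snd) = TrivSqZeroExt.inl x.fst := by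
          intro x
          apply TrivSqZeroExt.ext
          · rw [TrivSqZeroExt.fst_add, TrivSqZeroExt.fst_inr, add_zero, TrivSqZeroExt.fst_inl]
          · rw [TrivSqZeroExt.snd_add, TrivSqZeroExt.snd_inr, TrivSqZeroExt.snd_inl, add_neg_cancel]
        have := key (τ b)
        rw [hfst] at this
        exact this
    have hτsurj : Function.Surjective τ := by
      intro x
      obtain ⟨b, hb⟩ := B.res_surjective (TrivSqZeroExt.fst (R := k) (M := k) x)
      obtain ⟨b', -, hb'⟩ := hadj b
      obtain ⟨s, hs⟩ := B.res_surjective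
        (TrivSqZeroExt.snd (R := k) (M := k) x / TrivSqZeroExt.snd (R := k) (M := k) (τ t))
      refine ⟨b' + s * t, ?_⟩
      rw [map_add, hτst, hs, div_mul_cancel₀ _ hsnd, hb', baseToDual_apply, hb]
      exact TrivSqZeroExt.inl_fst_add_inr_snd_eq x
    obtain ⟨C, p₁, p₂, hfp⟩ := exists_isFibreProd_of_surjective (baseToDual (Λ := Λ) (k := k)) τ hτsurj
    have hp₂ : ¬ Function.Surjective p₂ := by
      intro hs
      obtain ⟨c, hc⟩ := hs t
      have h1 := hfp.w_apply c
      rw [hc, baseToDual_apply] at h1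
      have h2 := congrArg (TrivSqZeroExt.snd (R := k) (M := k)) h1
      rw [TrivSqZeroExt.snd_inl] at h2
      exact hsnd h2.symm
    apply hp₂
    apply hess C p₂
    intro a
    obtain ⟨b, rfl⟩ := hf a
    obtain ⟨b', hb'1, hb'2⟩ := hadj b
    obtain ⟨c, -, hc⟩ := hfp.surj (B.res b) b' hb'2.symm
    refine ⟨c, ?_⟩
    change f (p₂ c) = f b
    rw [hc, hb'1]
  · intro hbij
    have hf : Function.Surjective f := Art.surjective_of_dual_injective f (fun τ₁ τ₂ h => hbij.1 h)
    refine ⟨hf, ?_⟩
    intro C g hgf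
    apply Art.surjective_of_dual_injective g
    intro τ₁ τ₂ h
    obtain ⟨τ₁', rfl⟩ := hbij.2 τ₁
    obtain ⟨τ₂', rfl⟩ := hbij.2 τ₂
    have : τ₁' = τ₂' := by
      apply eq_of_comp_eq (g ≫ f) hgf
      rw [Category.assoc, Category.assoc]
      exact h
    rw [this]

/-- When `k` is separable over the image of `Λ`, vectors outside the relative cotangent kernel are detected by maps to
the dual numbers. -/
theorem exists_dual_of_not_mem_cotKer [Algebra.IsSeparable (↥(algebraMap Λ k).range) k]
    (A : Art Λ k) (b : A) (hb : b ∈ IsLocalRing.maximalIdeal A) (hb' : b ∉ cotKer A) :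
    ∃ τ : A ⟶ dual Λ k, τ b = TrivSqZeroExt.inr 1 := by
  obtain ⟨E, q, hq, hqK⟩ := exists_quot A (cotKer A) (cotKer_le A)
  have hE0 : ∀ r : Λ, algebraMap Λ k r = 0 → algebraMap Λ E r = 0 := by
    intro r hr
    have h1 : algebraMap Λ A r ∈ RingHom.ker q.toAlgHom := by
      rw [hqK]
      apply Ideal.mem_sup_left
      exact Ideal.mem_map_of_mem _ hr
    have h2 : q (algebraMap Λ A r) = 0 := h1
    rw [← h2]
    exact (q.toAlgHom.commutes r).symm
  obtain ⟨σ⟩ := exists_section_of_isSeparable E hE0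
  have hE2 : IsLocalRing.maximalIdeal E ^ 2 = ⊥ := by
    rw [eq_bot_iff, sq, Ideal.mul_le]
    intro x hx y hy
    obtain ⟨a, ha, rfl⟩ := exists_mem_maximalIdeal_of_surjective q hq x hx
    obtain ⟨c, hc, rfl⟩ := exists_mem_maximalIdeal_of_surjective q hq y hy
    have h1 : a * c ∈ RingHom.ker q.toAlgHom := by
      rw [hqK]
      apply Ideal.mem_sup_right
      rw [sq]
      exact Ideal.mul_mem_mul ha hc
    rw [Ideal.mem_bot, ← map_mul]
    exact h1
  have hv0 : q b ≠ 0 := by
    intro h0
    apply hb'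
    rw [← hqK]
    exact h0
  obtain ⟨τ, -, hτ⟩ := exists_tau_of_section σ hE2 (q b) (map_mem_maximalIdeal q hb) hv0
  exact ⟨q ≫ τ, hτ⟩

/-- the separable cotangent criterion for essential surjections -/
theorem isEssential_iff_cotangent [Module.Finite Λ k] [Algebra.IsSeparable (↥(algebraMap Λ k).range) k]
    {A B : Art Λ k} (f : B ⟶ A) :
    IsEssential f ↔
      (Ideal.map (algebraMap Λ A) (RingHom.ker (algebraMap Λ k)) ⊔ Ideal.map f.toAlgHom (IsLocalRing.maximalIdeal B) ⊔
          IsLocalRing.maximalIdeal A ^ 2 = IsLocalRing.maximalIdeal A ∧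
        ∀ b ∈ IsLocalRing.maximalIdeal B, f b ∈ cotKer A → b ∈ cotKer B) := by
  constructor
  · intro hess
    have hbij := (isEssential_iff_dual_bijective f).1 hess
    refine ⟨((surjective_tfae f).out 0 2).1 hess.1, ?_⟩
    intro b hb hfb
    by_contra hb'
    obtain ⟨τ, hτ⟩ := exists_dual_of_not_mem_cotKer B b hb hb'
    obtain ⟨τ', rfl⟩ := hbij.2 τ
    have h1 : τ' (f b) = 0 := cotKer_le_ker A τ' hfb
    have h2 : τ' (f b) = TrivSqZeroExt.inr 1 := hτ
    rw [h1] at h2
    have key : (0 : TrivSqZeroExt k k) ≠ TrivSqZeroExt.inr 1 := by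
      intro h
      have h3 := congrArg (TrivSqZeroExt.snd (R := k) (M := k)) h
      rw [TrivSqZeroExt.snd_zero, TrivSqZeroExt.snd_inr] at h3
      exact zero_ne_one h3
    exact key h2
  · rintro ⟨h1, h2⟩
    have hf : Function.Surjective f := ((surjective_tfae f).out 2 0).1 h1
    rw [isEssential_iff_dual_bijective]
    refine ⟨fun τ₁ τ₂ h => eq_of_comp_eq f hf τ₁ τ₂ h, ?_⟩
    intro τ
    have h : RingHom.ker f.toAlgHom ≤ RingHom.ker τ.toAlgHom := by
      intro t ht
      have htm : t ∈ IsLocalRing.maximalIdeal B := ker_le_maximalIdeal f ht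
      have hft : f t = 0 := ht
      apply cotKer_le_ker B τ
      apply h2 t htm
      rw [hft]
      exact Ideal.zero_mem _
    obtain ⟨g, hg⟩ := exists_factor f hf τ h
    exact ⟨g, hg⟩

end Groth.Agent.H63
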