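import Mathlib.RingTheory.Derivation.Basic
import Mathlib.RingTheory.Ideal.Quotient.Operations
import Mathlib.LinearAlgebra.Basis.VectorSpace
import Mathlib.LinearAlgebra.Span.Basic
import Mathlib.Tactic.LinearCombination
import Mathlib.Tactic.Ring

set_option autoImplicit false
set_option linter.style.haveILetI false
universe u v

namespace Groth.Agent.H63

/-- Building a derivation to the residue field detecting a vector outside an ideal `J` containing the
square of the augmentation ideal, and vanishing on a subalgebra surjecting onto the residue field whose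
augmentation ideal lies in `J`. -/
theorem exists_derivation_of_not_mem
    {Λ k S R : Type*} [CommRing Λ] [Field k] [CommRing S] [CommRing R]
    [Algebra Λ k] [Algebra Λ S] [Algebra Λ R] [Algebra S k] [IsScalarTower Λ S k]
    (f : R →ₐ[Λ] S) (hsurj : Function.Surjective fun r => algebraMap S k (f r))
    (J : Ideal S)
    (hsq : ∀ x y, algebraMap S k x = 0 → algebraMap S k y = 0 → x * y ∈ J)
    (hfJ : ∀ r, algebraMap S k (f r) = 0 → f r ∈ J)
    (v : S) (hv : algebraMap S k v = 0) (hvJ : v ∉ J) :
    ∃ D : Derivation Λ S k, (∀ r, D (f r) = 0) ∧ D v = 1 := by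
  let E := S ⧸ J
  let q : S →ₐ[Λ] E := Ideal.Quotient.mkₐ Λ J
  let ρ : S →ₐ[Λ] k := IsScalarTower.toAlgHom Λ S k
  let π : R →ₐ[Λ] k := ρ.comp f
  have hπ : Function.Surjective π := hsurj
  let ψ : R →ₐ[Λ] E := q.comp f
  have hker : RingHom.ker π.toRingHom ≤ RingHom.ker ψ.toRingHom := by
    intro r hr
    rw [RingHom.mem_ker] at hr ⊢
    change q (f r) = 0
    exact Ideal.Quotient.eq_zero_iff_mem.2 (hfJ r hr)
  let σ : k →ₐ[Λ] E := AlgHom.liftOfSurjective π hπ ψ hker
  have hσ : ∀ r, σ (algebraMap S k (f r)) = q (f r) :=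
    fun r => AlgHom.liftOfSurjective_apply π hπ ψ hker r
  letI : Algebra k E := σ.toRingHom.toAlgebra
  have hsmul : ∀ (a : k) (e : E), a • e = σ a * e := fun a e => by rw [Algebra.smul_def]; rfl
  have hqv : q v ≠ 0 := fun h => hvJ (Ideal.Quotient.eq_zero_iff_mem.1 h)
  obtain ⟨g, hg⟩ := LinearMap.exists_leftInverse_of_injective (LinearMap.toSpanSingleton k E (q v))
    (LinearMap.ker_toSpanSingleton k hqv)
  have hgv : g (q v) = 1 := by
    have := LinearMap.congr_fun hg 1
    simpa using this
  let X : S → E := fun s => q s - σ (algebraMap S k s)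
  have hXdef : ∀ s, X s = q s - σ (algebraMap S k s) := fun s => rfl
  have hX0 : ∀ s t, X s * X t = 0 := by
    intro s t
    obtain ⟨r, hr⟩ := hsurj (algebraMap S k s)
    obtain ⟨r', hr'⟩ := hsurj (algebraMap S k t)
    simp only at hr hr'
    rw [hXdef, hXdef, ← hr, ← hr', hσ, hσ, ← map_sub, ← map_sub, ← map_mul]
    apply Ideal.Quotient.eq_zero_iff_mem.2
    apply hsq
    · rw [map_sub, hr, sub_self]
    · rw [map_sub, hr', sub_self]
  have hXmul : ∀ s t, X (s * t) = algebraMap S k s • X t + algebraMap S k t • X s := by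
    intro s t
    have h0 := hX0 s t
    rw [hXdef, hXdef] at h0
    rw [hsmul, hsmul, hXdef, hXdef, hXdef, map_mul, map_mul, map_mul]
    linear_combination h0
  have hXadd : ∀ s t, X (s + t) = X s + X t := by
    intro s t
    rw [hXdef, hXdef, hXdef, map_add, map_add, map_add]
    ring
  have hXsmul : ∀ (c : Λ) (s : S), X (c • s) = algebraMap Λ k c • X s := by
    intro c s
    rw [hsmul, hXdef, hXdef, Algebra.smul_def, map_mul, map_mul, map_mul]
    have h1 : σ (algebraMap Λ k c) = algebraMap Λ E c := σ.commutes c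
    have h2 : q (algebraMap Λ S c) = algebraMap Λ E c := q.commutes c
    have h3 : algebraMap S k (algebraMap Λ S c) = algebraMap Λ k c :=
      (IsScalarTower.algebraMap_apply Λ S k c).symm
    rw [h1, h2, h3, h1]
    ring
  let D : Derivation Λ S k :=
    { toFun := fun s => g (X s)
      map_add' := fun s t => by rw [hXadd, map_add]
      map_smul' := fun c s => by
        rw [hXsmul, map_smul, RingHom.id_apply, algebraMap_smul]
      map_one_eq_zero' := by
        change g (X 1) = 0
        rw [hXdef, map_one, map_one, map_one, sub_self, map_zero]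
      leibniz' := fun s t => by
        change g (X (s * t)) = s • g (X t) + t • g (X s)
        rw [hXmul, map_add, map_smul, map_smul, algebraMap_smul, algebraMap_smul] }
  have hD : ∀ s, D s = g (X s) := fun s => rfl
  refine ⟨D, ?_, ?_⟩
  · intro r
    rw [hD, hXdef, hσ, sub_self, map_zero]
  · rw [hD, hXdef, hv, map_zero, sub_zero, hgv]

/-- Variant with an abstract quotient `q : S → E` carrying a section `σ` of the residue map. -/
theorem exists_derivation_of_section
    {Λ k S E : Type*} [CommRing Λ] [Field k] [CommRing S] [CommRing E]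
    [Algebra Λ k] [Algebra Λ S] [Algebra Λ E] [Algebra S k] [IsScalarTower Λ S k]
    (q : S →ₐ[Λ] E) (σ : k →ₐ[Λ] E)
    (hσ : ∀ c : k, ∃ s : S, algebraMap S k s = c ∧ q s = σ c)
    (hsq : ∀ x y, algebraMap S k x = 0 → algebraMap S k y = 0 → q (x * y) = 0)
    (v : S) (hv : algebraMap S k v = 0) (hqv : q v ≠ 0) :
    ∃ D : Derivation Λ S k, (∀ s c, q s = σ c → algebraMap S k s = c → D s = 0) ∧ D v = 1 := by
  letI : Algebra k E := σ.toRingHom.toAlgebra
  have hsmul : ∀ (a : k) (e : E), a • e = σ a * e := fun a e => by rw [Algebra.smul_def]; rfl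
  obtain ⟨g, hg⟩ := LinearMap.exists_leftInverse_of_injective (LinearMap.toSpanSingleton k E (q v))
    (LinearMap.ker_toSpanSingleton k hqv)
  have hgv : g (q v) = 1 := by
    have := LinearMap.congr_fun hg 1
    simpa using this
  let X : S → E := fun s => q s - σ (algebraMap S k s)
  have hXdef : ∀ s, X s = q s - σ (algebraMap S k s) := fun s => rfl
  have hX0 : ∀ s t, X s * X t = 0 := by
    intro s t
    obtain ⟨r, hr, hr2⟩ := hσ (algebraMap S k s)
    obtain ⟨r', hr', hr2'⟩ := hσ (algebraMap S k t)
    rw [hXdef, hXdef, ← hr2, ← hr2', ← map_sub, ← map_sub, ← map_mul]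
    apply hsq
    · rw [map_sub, hr, sub_self]
    · rw [map_sub, hr', sub_self]
  have hXmul : ∀ s t, X (s * t) = algebraMap S k s • X t + algebraMap S k t • X s := by
    intro s t
    have h0 := hX0 s t
    rw [hXdef, hXdef] at h0
    rw [hsmul, hsmul, hXdef, hXdef, hXdef, map_mul, map_mul, map_mul]
    linear_combination h0
  have hXadd : ∀ s t, X (s + t) = X s + X t := by
    intro s t
    rw [hXdef, hXdef, hXdef, map_add, map_add, map_add]
    ring
  have hXsmul : ∀ (c : Λ) (s : S), X (c • s) = algebraMap Λ k c • X s := by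
    intro c s
    rw [hsmul, hXdef, hXdef, Algebra.smul_def, map_mul, map_mul, map_mul]
    have h1 : σ (algebraMap Λ k c) = algebraMap Λ E c := σ.commutes c
    have h2 : q (algebraMap Λ S c) = algebraMap Λ E c := q.commutes c
    have h3 : algebraMap S k (algebraMap Λ S c) = algebraMap Λ k c :=
      (IsScalarTower.algebraMap_apply Λ S k c).symm
    rw [h1, h2, h3, h1]
    ring
  let D : Derivation Λ S k :=
    { toFun := fun s => g (X s)
      map_add' := fun s t => by rw [hXadd, map_add]
      map_smul' := fun c s => by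
        rw [hXsmul, map_smul, RingHom.id_apply, algebraMap_smul]
      map_one_eq_zero' := by
        change g (X 1) = 0
        rw [hXdef, map_one, map_one, map_one, sub_self, map_zero]
      leibniz' := fun s t => by
        change g (X (s * t)) = s • g (X t) + t • g (X s)
        rw [hXmul, map_add, map_smul, map_smul, algebraMap_smul, algebraMap_smul] }
  have hD : ∀ s, D s = g (X s) := fun s => rfl
  refine ⟨D, ?_, ?_⟩
  · intro s c hs hc
    rw [hD, hXdef, hc, hs, sub_self, map_zero]
  · rw [hD, hXdef, hv, map_zero, sub_zero, hgv]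

end Groth.Agent.H63
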