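import Groth.Agent.H63.ArtSurj
import Groth.Agent.H63.DerSection
import Mathlib.RingTheory.Kaehler.Basic
import Mathlib.RingTheory.TensorProduct.Basic

set_option autoImplicit false
set_option linter.style.haveILetI false
universe u v
open CategoryTheory
open scoped TensorProduct

namespace Groth.Agent.H63

open ArtFun ArtFun.Art

/-- A derivation to the residue field which is nonzero somewhere shows `k ⊗ Ω` is nonzero. -/
theorem not_subsingleton_of_derivation {B A k : Type*} [CommRing B] [CommRing A] [Field k]
    [Algebra B A] [Algebra A k] [Algebra B k] [IsScalarTower B A k]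
    (D : Derivation B A k) (v : A) (hv : D v ≠ 0) : ¬ Subsingleton (k ⊗[A] Ω[A⁄B]) := by
  intro hsub
  let l : Ω[A⁄B] →ₗ[A] k := D.liftKaehlerDifferential
  let L : k ⊗[A] Ω[A⁄B] →ₗ[k] k := l.liftBaseChange k
  have h1 : L ((1 : k) ⊗ₜ[A] KaehlerDifferential.D B A v) = D v := by
    rw [LinearMap.liftBaseChange_tmul, one_smul]
    exact Derivation.liftKaehlerDifferential_comp_D D v
  have h2 : ((1 : k) ⊗ₜ[A] KaehlerDifferential.D B A v) = 0 := Subsingleton.elim _ _
  rw [h2, map_zero] at h1
  exact hv h1.symm

variable {Λ : Type u} {k : Type u} [CommRing Λ] [Field k] [Algebra Λ k]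

theorem surjective_iff_kaehler_subsingleton {A B : Art Λ k} (f : B ⟶ A) :
    letI : Algebra B A := f.toAlgHom.toRingHom.toAlgebra
    letI : Algebra A k := A.res.toRingHom.toAlgebra
    Function.Surjective f ↔ Subsingleton (k ⊗[A] Ω[A⁄B]) := by
  letI : Algebra B A := f.toAlgHom.toRingHom.toAlgebra
  letI : Algebra A k := A.res.toRingHom.toAlgebra
  letI : Algebra B k := B.res.toRingHom.toAlgebra
  haveI : IsScalarTower B A k := IsScalarTower.of_algebraMap_eq fun b => (res_app f b).symm
  constructor
  · intro hf
    haveI : Subsingleton Ω[A⁄B] := KaehlerDifferential.subsingleton_of_surjective B A hf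
    infer_instance
  · intro hsub
    apply surjective_of_cotangent f
    by_contra hne
    have hle : Ideal.map f.toAlgHom (IsLocalRing.maximalIdeal B) ⊔ IsLocalRing.maximalIdeal A ^ 2 ≤
        IsLocalRing.maximalIdeal A :=
      sup_le (map_maximalIdeal_le f) (Ideal.pow_le_self two_ne_zero)
    have hlt := lt_of_le_of_ne hle hne
    obtain ⟨v, hv, hvJ⟩ := SetLike.exists_of_lt hlt
    have hmem : ∀ x : A, x ∈ IsLocalRing.maximalIdeal A ↔ algebraMap A k x = 0 :=
      fun x => mem_maximalIdeal_iff A x
    obtain ⟨D, -, hDv⟩ := exists_derivation_of_not_mem (Λ := B) (k := k) (S := A) (R := B) (Algebra.ofId B A)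
      (fun a => by
        obtain ⟨b, hb⟩ := B.res_surjective a
        refine ⟨b, ?_⟩
        change A.res (f b) = a
        rw [res_app, hb])
      (Ideal.map f.toAlgHom (IsLocalRing.maximalIdeal B) ⊔ IsLocalRing.maximalIdeal A ^ 2)
      (fun x y hx hy => by
        apply Ideal.mem_sup_right
        rw [sq]
        exact Ideal.mul_mem_mul ((hmem x).2 hx) ((hmem y).2 hy))
      (fun b hb => by
        apply Ideal.mem_sup_left
        apply Ideal.mem_map_of_mem
        rw [mem_maximalIdeal_iff]
        have : A.res (f b) = 0 := hb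
        rwa [res_app] at this)
      v ((hmem v).1 hv) hvJ
    exact not_subsingleton_of_derivation D v (by rw [hDv]; exact one_ne_zero) hsub

end Groth.Agent.H63
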