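import Groth.Agent.H63.ArtEssDer
import Groth.Agent.H63.KaehlerRes
import Mathlib.RingTheory.Kaehler.Basic
import Mathlib.LinearAlgebra.Dual.Lemmas
import Mathlib.LinearAlgebra.FiniteDimensional.Lemmas
import Mathlib.RingTheory.TensorProduct.Finite

set_option autoImplicit false
set_option linter.style.haveILetI false
universe u v
open CategoryTheory
open scoped TensorProduct

namespace Groth.Agent.H63

open ArtFun ArtFun.Art

variable {Λ : Type u} {k : Type u} [CommRing Λ] [Field k] [Algebra Λ k]

/-- the `A`-algebra structure on `k` through the augmentation -/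
@[reducible] def resAlg (A : Art Λ k) : Algebra A k := A.res.toRingHom.toAlgebra

attribute [local instance] resAlg

theorem resTower (A : Art Λ k) : IsScalarTower Λ A k :=
  IsScalarTower.of_algebraMap_eq fun r => (A.res.commutes r).symm

attribute [local instance] resTower

/-- maps to the dual numbers are derivations -/
def dualEquivDer (A : Art Λ k) : (A ⟶ dual Λ k) ≃ Derivation Λ A k where
  toFun τ := homToDeriv τ.toAlgHom (fun a => res_app τ a)
  invFun D := ⟨derivToDual D, AlgHom.ext fun _ => rfl⟩
  left_inv τ := by
    apply hom_ext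
    exact derivToDual_homToDeriv τ.toAlgHom (fun a => res_app τ a)
  right_inv D := by
    ext a
    rfl

/-- restriction of derivations along a morphism -/
def derRestrict {A B : Art Λ k} (f : B ⟶ A) : Derivation Λ A k →ₗ[k] Derivation Λ B k where
  toFun D :=
    { toLinearMap := D.toLinearMap.comp f.toAlgHom.toLinearMap
      map_one_eq_zero' := by
        change D (f 1) = 0
        rw [map_one, D.map_one_eq_zero]
      leibniz' := fun x y => by
        change D (f (x * y)) = x • D (f y) + y • D (f x)
        rw [map_mul, D.leibniz, Algebra.smul_def, Algebra.smul_def, Algebra.smul_def, Algebra.smul_def]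
        change A.res (f x) * _ + A.res (f y) * _ = B.res x * _ + B.res y * _
        rw [res_app, res_app] }
  map_add' _ _ := rfl
  map_smul' _ _ := rfl

theorem derRestrict_apply {A B : Art Λ k} (f : B ⟶ A) (D : Derivation Λ A k) (b : B) :
    derRestrict f D b = D (f b) := rfl

theorem dualEquivDer_comp {A B : Art Λ k} (f : B ⟶ A) (τ : A ⟶ dual Λ k) :
    dualEquivDer B (f ≫ τ) = derRestrict f (dualEquivDer A τ) := by
  ext b
  rfl

theorem dual_bijective_iff_derRestrict {A B : Art Λ k} (f : B ⟶ A) :
    Function.Bijective (fun τ : A ⟶ dual Λ k => f ≫ τ) ↔ Function.Bijective (derRestrict f) := by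
  have h : ∀ τ, dualEquivDer B (f ≫ τ) = derRestrict f (dualEquivDer A τ) := dualEquivDer_comp f
  have h' : (fun τ : A ⟶ dual Λ k => f ≫ τ) = (dualEquivDer B).symm ∘ derRestrict f ∘ dualEquivDer A := by
    funext τ
    apply (dualEquivDer B).injective
    simp only [Function.comp_apply, Equiv.apply_symm_apply]
    exact h τ
  rw [h']
  constructor
  · intro hb
    have h1 := (dualEquivDer B).bijective.comp hb
    have h2 : ⇑(dualEquivDer B) ∘ (⇑(dualEquivDer B).symm ∘ ⇑(derRestrict f) ∘ ⇑(dualEquivDer A)) =
        ⇑(derRestrict f) ∘ ⇑(dualEquivDer A) := by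
      funext τ
      simp only [Function.comp_apply, Equiv.apply_symm_apply]
    rw [h2] at h1
    have h3 := h1.comp (dualEquivDer A).symm.bijective
    have h4 : (⇑(derRestrict f) ∘ ⇑(dualEquivDer A)) ∘ ⇑(dualEquivDer A).symm = ⇑(derRestrict f) := by
      funext D
      simp only [Function.comp_apply, Equiv.apply_symm_apply]
    rw [h4] at h3
    exact h3
  · intro hb
    exact (dualEquivDer B).symm.bijective.comp (hb.comp (dualEquivDer A).bijective)

/-- derivations to `k` as linear maps out of `Ω`, `k`-linearly -/
noncomputable def derEquivLin (A : Art Λ k) :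
    Derivation Λ A k ≃ₗ[k] (Ω[A⁄Λ] →ₗ[A] k) where
  toFun D := D.liftKaehlerDifferential
  map_add' D₁ D₂ := by
    apply Derivation.liftKaehlerDifferential_unique
    ext a
    simp
  map_smul' c D := by
    apply Derivation.liftKaehlerDifferential_unique
    ext a
    simp
  invFun l := l.compDer (KaehlerDifferential.D Λ A)
  left_inv D := Derivation.liftKaehlerDifferential_comp D
  right_inv l := by
    apply Derivation.liftKaehlerDifferential_unique
    exact Derivation.liftKaehlerDifferential_comp _

/-- derivations to `k` are dual to `k ⊗ Ω` -/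
noncomputable def derEquivDual (A : Art Λ k) :
    Derivation Λ A k ≃ₗ[k] (k ⊗[A] Ω[A⁄Λ] →ₗ[k] k) :=
  (derEquivLin A).trans (LinearMap.liftBaseChangeEquiv k)

theorem finite_tensor_kaehler [Module.Finite Λ k] (A : Art Λ k) : Module.Finite k (k ⊗[A] Ω[A⁄Λ]) := by
  haveI : Module.Finite Λ A := by
    haveI := isNoetherian_obj A
    infer_instance
  haveI : Algebra.FiniteType Λ A := inferInstance
  haveI : Module.Finite A Ω[A⁄Λ] := inferInstance
  infer_instance

theorem finite_der [Module.Finite Λ k] (A : Art Λ k) : Module.Finite k (Derivation Λ A k) := by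
  haveI := finite_tensor_kaehler A
  exact Module.Finite.equiv (derEquivDual A).symm

theorem finrank_der [Module.Finite Λ k] (A : Art Λ k) :
    Module.finrank k (Derivation Λ A k) = Module.finrank k (k ⊗[A] Ω[A⁄Λ]) := by
  haveI := finite_tensor_kaehler A
  rw [(derEquivDual A).finrank_eq]
  exact Subspace.dual_finrank_eq

/-- (a) ⇔ (c): essential surjections through Kähler differentials -/
theorem isEssential_iff_kaehler [Module.Finite Λ k] {A B : Art Λ k} (f : B ⟶ A) :
    letI : Algebra B A := f.toAlgHom.toRingHom.toAlgebra
    letI : Algebra A k := A.res.toRingHom.toAlgebra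
    letI : Algebra B k := B.res.toRingHom.toAlgebra
    IsEssential f ↔
      (Subsingleton (k ⊗[A] Ω[A⁄B]) ∧
        Module.finrank k (k ⊗[B] Ω[B⁄Λ]) = Module.finrank k (k ⊗[A] Ω[A⁄Λ])) := by
  haveI := finite_der A
  haveI := finite_der B
  rw [isEssential_iff_dual_bijective, dual_bijective_iff_derRestrict, ← finrank_der A, ← finrank_der B]
  have hsub := surjective_iff_kaehler_subsingleton f
  constructor
  · intro hbij
    have hf : Function.Surjective f := by
      have h1 := (dual_bijective_iff_derRestrict f).2 hbij
      exact ((isEssential_iff_dual_bijective f).2 h1).1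
    refine ⟨hsub.1 hf, ?_⟩
    exact (LinearEquiv.ofBijective (derRestrict f) hbij).finrank_eq.symm
  · rintro ⟨h1, h2⟩
    have hf : Function.Surjective f := hsub.2 h1
    have hinj : Function.Injective (derRestrict f) := by
      intro D₁ D₂ h
      ext a
      obtain ⟨b, rfl⟩ := hf a
      have := congrArg (fun D : Derivation Λ B k => D b) h
      exact this
    exact ⟨hinj, (LinearMap.injective_iff_surjective_of_finrank_eq_finrank h2.symm).1 hinj⟩

end Groth.Agent.H63
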