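import Groth.Agent.H63.ArtFinite
import Mathlib.RingTheory.Henselian
import Mathlib.RingTheory.AdicCompletion.Noetherian
import Mathlib.FieldTheory.Separable
import Mathlib.Algebra.Polynomial.Lifts
import Mathlib.Algebra.Polynomial.Identities

set_option autoImplicit false
set_option linter.style.haveILetI false
universe u v
open CategoryTheory Polynomial

namespace Groth.Agent.H63

open ArtFun ArtFun.Art

variable {Λ : Type u} {k : Type u} [CommRing Λ] [Field k] [Algebra Λ k]

/-- Hensel's lemma in an object: simple roots in the residue field lift. -/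
theorem exists_root_res (A : Art Λ k) (Q : A[X]) (hQ : Q.Monic) (c : k)
    (h0 : Q.eval₂ (A.res : A →+* k) c = 0) (h1 : Q.derivative.eval₂ (A.res : A →+* k) c ≠ 0) :
    ∃ α : A, Q.IsRoot α ∧ A.res α = c := by
  haveI : HenselianLocalRing A :=
    { is_henselian := fun f hf a₀ h₁ h₂ =>
        HenselianRing.is_henselian (I := IsLocalRing.maximalIdeal A) f hf a₀ h₁ (h₂.map _) }
  have H := ((HenselianLocalRing.TFAE A).out 0 2).1 this
  exact H (A.res : A →+* k) A.res_surjective Q hQ c h0 h1

/-- Uniqueness of lifts of simple roots. -/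
theorem root_unique (A : Art Λ k) (Q : A[X]) (α β : A) (hα : Q.IsRoot α) (hβ : Q.IsRoot β)
    (h : A.res α = A.res β) (hu : A.res (Q.derivative.eval α) ≠ 0) : α = β := by
  obtain ⟨K, hK⟩ := Q.binomExpansion α (β - α)
  have e : α + (β - α) = β := by ring
  rw [e, hβ.eq_zero, hα.eq_zero, zero_add] at hK
  have h2 : (β - α) * (Q.derivative.eval α + K * (β - α)) = 0 := by
    rw [hK]; ring
  have hunit : IsUnit (Q.derivative.eval α + K * (β - α)) := by
    by_contra hnu
    have hm : Q.derivative.eval α + K * (β - α) ∈ IsLocalRing.maximalIdeal A :=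
      (IsLocalRing.mem_maximalIdeal _).2 hnu
    rw [mem_maximalIdeal_iff, map_add, map_mul, map_sub, h, sub_self, mul_zero, add_zero] at hm
    exact hu hm
  have h3 : β - α = 0 := hunit.mul_left_eq_zero.1 h2
  exact (sub_eq_zero.1 h3).symm

/-- When `k` is separable over the image of `Λ`, the residue map of a pullback of objects is surjective. -/
theorem pullback_res_surjective [Algebra.IsSeparable (↥(algebraMap Λ k).range) k]
    {A A₁ A₂ : Art Λ k} (f₁ : A₁ ⟶ A) (f₂ : A₂ ⟶ A) :
    Function.Surjective (A₁.res.comp (AlgHom.pullbackFst f₁.toAlgHom f₂.toAlgHom)) := by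
  intro c
  let k₀ := (algebraMap Λ k).range
  have hsep : (minpoly k₀ c).Separable := Algebra.IsSeparable.isSeparable k₀ c
  have hint : IsIntegral k₀ c := Algebra.IsSeparable.isIntegral k₀ c
  let ρ : Λ →+* k₀ := (algebraMap Λ k).rangeRestrict
  have hρ : Function.Surjective ρ := (algebraMap Λ k).rangeRestrict_surjective
  obtain ⟨P, hP1, -, hPm⟩ := lifts_and_natDegree_eq_and_monic
    (mem_lifts_of_surjective hρ (minpoly k₀ c)) (minpoly.monic hint)
  have hcomp : (algebraMap k₀ k).comp ρ = algebraMap Λ k := RingHom.ext fun _ => rfl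
  have hPk : P.map (algebraMap Λ k) = (minpoly k₀ c).map (algebraMap k₀ k) := by
    rw [← hP1, Polynomial.map_map, hcomp]
  have hk0 : (P.map (algebraMap Λ k)).eval c = 0 := by
    rw [hPk, eval_map, ← aeval_def, minpoly.aeval]
  have hk1 : (P.map (algebraMap Λ k)).derivative.eval c ≠ 0 := by
    rw [hPk, derivative_map, eval_map, ← aeval_def]
    exact hsep.aeval_derivative_ne_zero (minpoly.aeval k₀ c)
  -- roots in each object
  have hroot : ∀ B : Art Λ k, ∃ α : B, (P.map (algebraMap Λ B)).IsRoot α ∧ B.res α = c := by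
    intro B
    have hc : (B.res : B →+* k).comp (algebraMap Λ B) = algebraMap Λ k := B.res.comp_algebraMap
    apply exists_root_res B _ (hPm.map _) c
    · rw [← eval_map, Polynomial.map_map, hc]; exact hk0
    · rw [← eval_map, ← derivative_map, Polynomial.map_map, hc]; exact hk1
  obtain ⟨α₁, hα₁, hc₁⟩ := hroot A₁
  obtain ⟨α₂, hα₂, hc₂⟩ := hroot A₂
  have hmap : ∀ (B : Art Λ k) (f : B ⟶ A) (α : B), (P.map (algebraMap Λ B)).IsRoot α →
      (P.map (algebraMap Λ A)).IsRoot (f α) := by
    intro B f α hα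
    have hc : (f.toAlgHom : B →+* A).comp (algebraMap Λ B) = algebraMap Λ A := f.toAlgHom.comp_algebraMap
    rw [IsRoot.def, ← hc, ← Polynomial.map_map, eval_map]
    have := eval₂_at_apply (p := P.map (algebraMap Λ B)) (f.toAlgHom : B →+* A) α
    rw [hα.eq_zero, map_zero] at this
    exact this
  have heq : f₁ α₁ = f₂ α₂ := by
    apply root_unique A (P.map (algebraMap Λ A)) _ _ (hmap A₁ f₁ α₁ hα₁) (hmap A₂ f₂ α₂ hα₂)
    · rw [res_app, res_app, hc₁, hc₂]
    · have hc : (A.res : A →+* k).comp (algebraMap Λ A) = algebraMap Λ k := A.res.comp_algebraMap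
      have h1 := eval₂_at_apply (p := (P.map (algebraMap Λ A)).derivative) (A.res : A →+* k) (f₁ α₁)
      have h2 : A.res ((P.map (algebraMap Λ A)).derivative.eval (f₁ α₁)) =
          (P.map (algebraMap Λ A)).derivative.eval₂ (A.res : A →+* k) (A.res (f₁ α₁)) := h1.symm
      rw [h2, res_app, hc₁, ← eval_map, ← derivative_map, Polynomial.map_map, hc]
      exact hk1
  exact ⟨⟨(α₁, α₂), heq⟩, hc₁⟩

end Groth.Agent.H63
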