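import Groth.Agent.H63.ArtSmall
import Groth.Agent.H63.ArtPaste

set_option autoImplicit false
set_option linter.style.haveILetI false
set_option linter.unusedSectionVars false
universe u v
open CategoryTheory

namespace Groth.Agent.H63

open ArtFun ArtFun.Art

variable {Λ : Type u} {k : Type u} [CommRing Λ] [Field k] [Algebra Λ k]

/-- Under `H̄` and `H_ε`, two elements of `F(B)` with the same image along a small extension `p : B → A` and
whose "difference" tangent vector is forced to be trivial are equal.  Abstract form: `c, c₀ ∈ F(B ×_A B)`. -/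
theorem eq_of_small_of_tangent [Module.Finite Λ k] {F : Art Λ k ⥤ Type v} (h1 : Hbar F) (h2 : Heps F)
    {B A : Art Λ k} (p : B ⟶ A) (hp : IsSmallExt p) (z w : F.obj B) (hzw : F.map p z = F.map p w)
    (htriv : ∀ {C : Art Λ k} (π₁ π₂ : C ⟶ B) (δ : C ⟶ dual Λ k) (Δ : B ⟶ C) (c : F.obj C),
      IsFibreProd π₁ π₂ p p → Δ ≫ π₁ = 𝟙 B → Δ ≫ π₂ = 𝟙 B → F.map π₁ c = z → F.map π₂ c = w →
      F.map δ c = F.map δ (F.map Δ z)) : z = w := by
  obtain ⟨C, π₁, π₂, δ, Δ, hC₁, hC₂, hΔ₁, hΔ₂, hΔδ⟩ := exists_smallData p hp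
  obtain ⟨c, hc₁, hc₂⟩ := (cmp_surjective_iff F hC₁).1 (h1 _ _ _ _ hC₁ hp) z w hzw
  have hc₀₁ : F.map π₁ (F.map Δ z) = z := by
    rw [← map_comp_apply, hΔ₁, map_id_apply]
  have hc₀₂ : F.map π₂ (F.map Δ z) = z := by
    rw [← map_comp_apply, hΔ₂, map_id_apply]
  have hcc₀ : c = F.map Δ z := by
    apply (cmp_injective_iff F hC₂).1 (h2 _ _ hC₂).1
    · rw [hc₁, hc₀₁]
    · exact htriv π₁ π₂ δ Δ c hC₁ hΔ₁ hΔ₂ hc₁ hc₂
  rw [← hc₂, hcc₀, hc₀₂]

/-- A functor with `H0`, `H̄`, `H_ε` and trivial tangent space is the one-point functor (uniqueness part). -/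
theorem subsingleton_of_tangent_subsingleton [Module.Finite Λ k] {F : Art Λ k ⥤ Type v}
    (h0 : H0 F) (h1 : Hbar F) (h2 : Heps F) (ht : Subsingleton (F.obj (dual Λ k))) (A : Art Λ k) :
    Subsingleton (F.obj A) := by
  have key := surjective_induction (Λ := Λ) (k := k)
    (fun A B _ => Subsingleton (F.obj A) → Subsingleton (F.obj B)) ?_ ?_ ?_
    (toBase A) A.res_surjective
  · exact key h0.2
  · intro A B e he hA
    haveI := he
    refine ⟨fun x y => ?_⟩
    have h := hA.elim (F.map e x) (F.map e y)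
    have := congrArg (F.map (inv e)) h
    rwa [← map_comp_apply, ← map_comp_apply, IsIso.hom_inv_id, map_id_apply, map_id_apply] at this
  · intro A B p hp hA
    refine ⟨fun z w => ?_⟩
    apply eq_of_small_of_tangent h1 h2 p hp z w (hA.elim _ _)
    intro C π₁ π₂ δ Δ c _ _ _ _ _
    exact ht.elim _ _
  · intro A B C p q hp hq hA
    exact hp (hq hA)

/-- Injectivity of the comparison map for a small extension, from `H̄`, `H_ε` and the injective half of `H`. -/
theorem cmp_injective_of_hsq [Module.Finite Λ k] {F : Art Λ k ⥤ Type v} (h1 : Hbar F) (h2 : Heps F)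
    (h4 : ∀ ⦃B A A' : Art Λ k⦄ (p₁ p₂ : B ⟶ A') (f : A' ⟶ A) (h : IsFibreProd p₁ p₂ f f),
      IsSmallExt f → Function.Injective (cmp F h))
    ⦃B A A' A'' : Art Λ k⦄ (p' : B ⟶ A') (p'' : B ⟶ A'') (f' : A' ⟶ A) (f'' : A'' ⟶ A)
    (h : IsFibreProd p' p'' f' f'') (hf'' : IsSmallExt f'') : Function.Injective (cmp F h) := by
  rw [cmp_injective_iff]
  intro z w e₁ e₂
  have hp' : IsSmallExt p' := IsFibreProd.fst_isSmallExt h hf''
  obtain ⟨C'', ρ₁, ρ₂, δ'', Δ'', hD₁, hD₂, -, -, -⟩ := exists_smallData f'' hf''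
  apply eq_of_small_of_tangent h1 h2 p' hp' z w e₁
  intro C π₁ π₂ δ Δ c hC₁ hΔ₁ hΔ₂ hc₁ hc₂
  -- the map `C → C''`
  obtain ⟨g, hg₁, hg₂⟩ := IsFibreProd.exists_lift hD₁ (π₁ ≫ p'') (π₂ ≫ p'') (by
    rw [Category.assoc, Category.assoc, ← h.w, ← Category.assoc, ← Category.assoc, hC₁.w])
  have hg₁' : ∀ x, ρ₁ (g x) = p'' (π₁ x) := fun x => congrArg (fun t : C ⟶ A'' => t x) hg₁
  have hg₂' : ∀ x, ρ₂ (g x) = p'' (π₂ x) := fun x => congrArg (fun t : C ⟶ A'' => t x) hg₂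
  -- `C = B ×_k k[ε]` via `(π₁, g ≫ δ'')`
  have hfp : IsFibreProd π₁ (g ≫ δ'') (toBase B) (toBase (dual Λ k)) := by
    refine ⟨?_, ?_, ?_⟩
    · rw [eq_toBase (π₁ ≫ toBase B), eq_toBase ((g ≫ δ'') ≫ toBase (dual Λ k))]
    · intro x x' hx hδ
      have hgx : g x = g x' := by
        apply hD₂.inj
        · rw [hg₁', hg₁', hx]
        · exact hδ
      have h2x : π₂ x = π₂ x' := by
        apply h.inj
        · rw [← hC₁.w_apply, ← hC₁.w_apply, hx]
        · rw [← hg₂', ← hg₂', hgx]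
      exact hC₁.inj _ _ hx h2x
    · intro b x hbx
      obtain ⟨c'', hc''₁, hc''₂⟩ := hD₂.surj (p'' b) x (by
        have : (toBase A'') (p'' b) = (toBase B) b := res_app p'' b
        rw [this]; exact hbx)
      have hf : f' (p' b) = f'' (ρ₂ c'') := by
        rw [h.w_apply, ← hc''₁, hD₁.w_apply]
      obtain ⟨b', hb'₁, hb'₂⟩ := h.surj (p' b) (ρ₂ c'') hf
      obtain ⟨x₀, hx₀₁, hx₀₂⟩ := hC₁.surj b b' hb'₁.symm
      refine ⟨x₀, hx₀₁, ?_⟩
      have : g x₀ = c'' := by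
        apply hD₁.inj
        · rw [hg₁', hx₀₁, hc''₁]
        · rw [hg₂', hx₀₂, hb'₂]
      change δ'' (g x₀) = x
      rw [this, hc''₂]
  -- compare `c` with the diagonal element
  have hgc : F.map g c = F.map g (F.map Δ z) := by
    apply (cmp_injective_iff F hD₁).1 (h4 _ _ _ hD₁ hf'')
    · rw [← map_comp_apply, ← map_comp_apply, hg₁, map_comp_apply, map_comp_apply, hc₁, ← map_comp_apply F Δ π₁,
        hΔ₁, map_id_apply]
    · rw [← map_comp_apply, ← map_comp_apply, hg₂, map_comp_apply, map_comp_apply, hc₂, ← map_comp_apply F Δ π₂,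
        hΔ₂, map_id_apply, e₂]
  have hcc₀ : c = F.map Δ z := by
    apply (cmp_injective_iff F hfp).1 (h2 _ _ hfp).1
    · rw [hc₁, ← map_comp_apply, hΔ₁, map_id_apply]
    · rw [map_comp_apply, map_comp_apply, hgc]
  rw [hcc₀]

end Groth.Agent.H63
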