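import Groth.Agent.H63.ArtPaste

set_option autoImplicit false
set_option linter.style.haveILetI false
universe u v
open CategoryTheory

namespace Groth.Agent.H63

open ArtFun ArtFun.Art

variable {Λ : Type u} {k : Type u} [CommRing Λ] [Field k] [Algebra Λ k]

/-- Under `H0` and `Heps` every pair of tangent vectors comes from `F(k[ε₁, ε₂])`. -/
theorem exists_dual2_of_pair {F : Art Λ k ⥤ Type v} (h0 : H0 F) (h2 : Heps F) (x y : F.obj (dual Λ k)) :
    ∃ z : F.obj (dual2 Λ k), F.map pr₁ z = x ∧ F.map pr₂ z = y := by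
  haveI := h0.2
  have hs := (h2 pr₁ pr₂ (isFibreProd_dual2 (Λ := Λ) (k := k))).2
  rw [cmp_surjective_iff] at hs
  exact hs x y (Subsingleton.elim _ _)

theorem tangent_add_eq {F : Art Λ k ⥤ Type v} [T : TangentStr F] (z : F.obj (dual2 Λ k)) :
    (TangentSpace.mk (F.map pr₁ z) : TangentSpace F) + TangentSpace.mk (F.map pr₂ z) =
      TangentSpace.mk (F.map plus z) := T.add_eq z

theorem tangent_smul_eq {F : Art Λ k ⥤ Type v} [T : TangentStr F] (c : k) (x : TangentSpace F) :
    c • x = TangentSpace.mk (F.map (scale c) x.val) := T.smul_eq c x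

/-- The differential of a morphism of functors is linear. -/
theorem exists_linearMap_tangentMap {F G : Art Λ k ⥤ Type v} [TangentStr F] [TangentStr G]
    (hF0 : H0 F) (hF2 : Heps F) (φ : F ⟶ G) :
    ∃ f : TangentSpace F →ₗ[k] TangentSpace G, ⇑f = TangentSpace.map φ := by
  refine ⟨{ toFun := TangentSpace.map φ, map_add' := ?_, map_smul' := ?_ }, rfl⟩
  · intro x y
    obtain ⟨z, rfl, rfl⟩ := exists_dual2_of_pair hF0 hF2 x y
    have h1 := tangent_add_eq (F := F) z
    have h2 := tangent_add_eq (F := G) (φ.app _ z)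
    have e1 : TangentSpace.map φ (TangentSpace.mk (F.map pr₁ z)) = TangentSpace.mk (G.map pr₁ (φ.app _ z)) :=
      NatTrans.naturality_apply φ pr₁ z
    have e2 : TangentSpace.map φ (TangentSpace.mk (F.map pr₂ z)) = TangentSpace.mk (G.map pr₂ (φ.app _ z)) :=
      NatTrans.naturality_apply φ pr₂ z
    have e3 : TangentSpace.map φ (TangentSpace.mk (F.map plus z)) = TangentSpace.mk (G.map plus (φ.app _ z)) :=
      NatTrans.naturality_apply φ plus z
    change TangentSpace.map φ (TangentSpace.mk (F.map pr₁ z) + TangentSpace.mk (F.map pr₂ z)) =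
      TangentSpace.map φ (TangentSpace.mk (F.map pr₁ z)) + TangentSpace.map φ (TangentSpace.mk (F.map pr₂ z))
    rw [h1, e1, e2, e3, h2]
  · intro c x
    rw [RingHom.id_apply, tangent_smul_eq, tangent_smul_eq]
    exact NatTrans.naturality_apply φ (scale c) x.val

end Groth.Agent.H63
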