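import Groth.Agent.H63.CRingHom
import Groth.Agent.H63.ArtVersal
import Groth.Agent.H63.ArtTangent
import Groth.Agent.H63.ArtDefFun
import Groth.Agent.S12715

set_option autoImplicit false
set_option linter.style.haveILetI false
universe u v
open CategoryTheory

namespace Groth.Agent.H63

open ArtFun ArtFun.Art

variable {Λ : Type u} {k : Type u} [CommRing Λ] [Field k] [Algebra Λ k]

theorem IsFibreProd.homSet_ext {A A₁ A₂ B : Art Λ k} {p₁ : B ⟶ A₁} {p₂ : B ⟶ A₂} {f₁ : A₁ ⟶ A} {f₂ : A₂ ⟶ A}
    (h : IsFibreProd p₁ p₂ f₁ f₂) {R : Type u} [CommRing R] [Algebra Λ R]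
    {resR : R →ₐ[Λ] k} (l l' : HomSet R resR B)
    (h₁ : HomSet.map p₁ l = HomSet.map p₁ l') (h₂ : HomSet.map p₂ l = HomSet.map p₂ l') : l = l' := by
  apply Subtype.ext
  apply AlgHom.ext
  intro c
  exact h.inj _ _ (congrArg (fun t : HomSet R resR A₁ => t.1 c) h₁) (congrArg (fun t : HomSet R resR A₂ => t.1 c) h₂)

/-- A functor with a hull satisfies `H_ε`. -/
theorem heps_of_isMiniversal {R : Type u} [CommRing R] [Algebra Λ R] {resR : R →ₐ[Λ] k}
    {F : Art Λ k ⥤ Type v} (h0 : H0 F) (ξ : Family R resR F) (hξ : IsMiniversal ξ) : Heps F := by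
  intro B A' p' p'' h
  refine ⟨?_, IsVersal.s1 h0 ξ hξ.1 p' p'' _ _ h (toBase_surjective _)⟩
  rw [cmp_injective_iff]
  intro x y h1 h2
  obtain ⟨ψx, rfl⟩ := IsVersal.app_surjective h0 ξ hξ.1 B x
  have hp' : Function.Surjective p' := IsFibreProd.fst_surjective h (toBase_surjective _)
  obtain ⟨ψy, hψy1, rfl⟩ := hξ.1 p' hp' (HomSet.map p' ψx) y (by rw [ξ.natural]; exact h1.symm)
  have h3 : HomSet.map p'' ψx = HomSet.map p'' ψy := by
    apply hξ.2.1
    rw [ξ.natural, ξ.natural]
    exact h2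
  have : ψx = ψy := IsFibreProd.homSet_ext h _ _ hψy1.symm h3
  rw [this]

/-- An algebra map to the dual numbers lifting the augmentation gives a derivation. -/
def homToDeriv {S : Type u} [CommRing S] [Algebra Λ S] [Algebra S k] [IsScalarTower Λ S k]
    (φ : S →ₐ[Λ] DualNumber k) (hφ : ∀ s, TrivSqZeroExt.fst (φ s) = algebraMap S k s) : Derivation Λ S k where
  toFun s := TrivSqZeroExt.snd (φ s)
  map_add' s t := by rw [map_add, TrivSqZeroExt.snd_add]
  map_smul' c s := by rw [map_smul, TrivSqZeroExt.snd_smul, RingHom.id_apply]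
  map_one_eq_zero' := by
    change TrivSqZeroExt.snd (φ 1) = 0
    rw [map_one, TrivSqZeroExt.snd_one]
  leibniz' s t := by
    change TrivSqZeroExt.snd (φ (s * t)) = s • TrivSqZeroExt.snd (φ t) + t • TrivSqZeroExt.snd (φ s)
    rw [map_mul, TrivSqZeroExt.snd_mul, hφ, hφ, Algebra.smul_def s, Algebra.smul_def t, smul_eq_mul,
      MulOpposite.smul_eq_mul_unop, MulOpposite.unop_op, mul_comm (TrivSqZeroExt.snd (φ s))]

theorem derivToDual_homToDeriv {S : Type u} [CommRing S] [Algebra Λ S] [Algebra S k] [IsScalarTower Λ S k]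
    (φ : S →ₐ[Λ] DualNumber k) (hφ : ∀ s, TrivSqZeroExt.fst (φ s) = algebraMap S k s) :
    derivToDual (homToDeriv φ hφ) = φ := by
  apply AlgHom.ext
  intro s
  apply TrivSqZeroExt.ext
  · exact (hφ s).symm
  · rfl

/-- A functor with a hull has finite-dimensional tangent space. -/
theorem hfin_of_isMiniversal [IsNoetherianRing Λ] [Module.Finite Λ k] {F : Art Λ k ⥤ Type v} [TangentStr F]
    (R : CRing Λ k) (ξ : Family R.carrier R.res F) (hξ : Function.Surjective (ξ.app (dual Λ k))) : Hfin F := by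
  letI : Algebra R.carrier k := R.res.toRingHom.toAlgebra
  haveI : IsScalarTower Λ R.carrier k := IsScalarTower.of_algebraMap_eq fun r => (R.res.commutes r).symm
  haveI := R.isAdicComplete
  have hfin : Module.Finite k (Derivation Λ R.carrier k) :=
    Groth.Agent.S12715.result R.carrier R.res_surjective
  let Φ : Derivation Λ R.carrier k → HomSet R.carrier R.res (dual Λ k) :=
    fun D => ⟨derivToDual D, AlgHom.ext fun _ => rfl⟩
  have hΦ : ∀ D r, (Φ D).1 r = (algebraMap R.carrier k r, D r) := fun D r => rfl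
  let L : Derivation Λ R.carrier k →ₗ[k] TangentSpace F :=
    { toFun := fun D => TangentSpace.mk (ξ.app (dual Λ k) (Φ D))
      map_add' := by
        intro D₁ D₂
        obtain ⟨ψ, hψ₁, hψ₂⟩ := IsFibreProd.exists_lift_homSet (isFibreProd_dual2 (Λ := Λ) (k := k))
          (Φ D₁) (Φ D₂) ((homSet_base_eq _).trans (homSet_base_eq _).symm)
        have h := tangent_add_eq (F := F) (ξ.app _ ψ)
        rw [← ξ.natural, ← ξ.natural, ← ξ.natural, hψ₁, hψ₂] at h
        rw [h]
        congr 2
        apply Subtype.ext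
        apply AlgHom.ext
        intro r
        have e1 : pr₁ (ψ.1 r) = (Φ D₁).1 r := congrArg (fun t : HomSet R.carrier R.res (dual Λ k) => t.1 r) hψ₁
        have e2 : pr₂ (ψ.1 r) = (Φ D₂).1 r := congrArg (fun t : HomSet R.carrier R.res (dual Λ k) => t.1 r) hψ₂
        change (Φ (D₁ + D₂)).1 r = plus (ψ.1 r)
        symm
        rw [hΦ] at e1 e2 ⊢
        apply TrivSqZeroExt.ext
        · have f0 := congrArg TrivSqZeroExt.fst e1
          exact f0
        · have f1 := congrArg TrivSqZeroExt.snd e1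
          have f2 := congrArg TrivSqZeroExt.snd e2
          change (ψ.1 r).snd.1 + (ψ.1 r).snd.2 = D₁ r + D₂ r
          exact congrArg₂ (· + ·) f1 f2
      map_smul' := by
        intro c D
        rw [RingHom.id_apply, tangent_smul_eq]
        change TangentSpace.mk _ = TangentSpace.mk (F.map (scale c) (ξ.app _ (Φ D)))
        rw [← ξ.natural]
        rfl }
  have hL : Function.Surjective L := by
    intro x
    obtain ⟨φ, hφ⟩ := hξ x
    have hφ1 : ∀ s, TrivSqZeroExt.fst (φ.1 s) = algebraMap R.carrier k s :=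
      fun s => AlgHom.congr_fun φ.2 s
    refine ⟨homToDeriv φ.1 hφ1, ?_⟩
    change ξ.app _ (Φ (homToDeriv φ.1 hφ1)) = x
    rw [← hφ]
    congr 1
    exact Subtype.ext (derivToDual_homToDeriv φ.1 hφ1)
  exact Module.Finite.of_surjective L hL

end Groth.Agent.H63
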