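import Groth.Agent.H63.PSSmooth

/-!
# Changing the base of functors of Artin rings from `Λ` to a coefficient ring `R`

For `R : CRing Λ k` the field `k` is an `R`-algebra through the augmentation, and `R` is complete
local Noetherian with `R → k` surjective.  A coefficient ring `S` under `R` is a coefficient ring over
the base `R`; versality of `h_S → h_R` (over `Λ`) is smoothness of `h_S` over the base `R`.
-/

set_option autoImplicit false
set_option linter.style.haveILetI false
set_option linter.unusedSectionVars false
universe u v
open CategoryTheory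

namespace Groth.Agent.H63
open ArtFun ArtFun.Art

variable {Λ : Type u} {k : Type u} [CommRing Λ] [Field k] [Algebra Λ k]

/-- `k` as an algebra over a coefficient ring, through the augmentation. -/
@[reducible] noncomputable def CR.resAlgebra (R : CRing Λ k) : Algebra R.carrier k :=
  R.res.toRingHom.toAlgebra

section overBase

variable (R S : CRing Λ k) [Algebra R.carrier S.carrier] [IsScalarTower Λ R.carrier S.carrier]
  (hRS : S.res.comp (IsScalarTower.toAlgHom Λ R.carrier S.carrier) = R.res)

/-- A coefficient ring under `R` as a coefficient ring over the base `R`. -/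
noncomputable def CR.over : @CRing R.carrier k _ _ (CR.resAlgebra R) :=
  letI := CR.resAlgebra R
  { carrier := S.carrier
    res :=
      { toRingHom := S.res.toRingHom
        commutes' := fun r => by
          have := congrArg (fun t : R.carrier →ₐ[Λ] k => t r) hRS
          exact this }
    res_surjective := S.res_surjective
    isAdicComplete := S.isAdicComplete }

/-- Restriction of an object over the base `R` to the base `Λ`. -/
noncomputable def restrictArt (B' : @Art R.carrier k _ _ (CR.resAlgebra R)) : Art Λ k :=
  letI := CR.resAlgebra R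
  letI : Algebra Λ B'.carrier := Algebra.compHom B'.carrier (algebraMap Λ R.carrier)
  { carrier := B'.carrier
    res :=
      { toRingHom := B'.res.toRingHom
        commutes' := fun c => by
          change B'.res (algebraMap R.carrier B'.carrier (algebraMap Λ R.carrier c)) = _
          rw [AlgHom.commutes]
          exact R.res.commutes c }
    res_surjective := B'.res_surjective }

/-- An object over `Λ` with a point of `h_R` is an object over the base `R`. -/
noncomputable def extendArt (B : Art Λ k) (y : HomSet R.carrier R.res B) :
    @Art R.carrier k _ _ (CR.resAlgebra R) :=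
  letI := CR.resAlgebra R
  letI : Algebra R.carrier B.carrier := y.1.toRingHom.toAlgebra
  { carrier := B.carrier
    res :=
      { toRingHom := B.res.toRingHom
        commutes' := fun r => by
          have := congrArg (fun t : R.carrier →ₐ[Λ] k => t r) y.2
          exact this }
    res_surjective := B.res_surjective }

/-- Versality of `h_S → h_R` gives smoothness of `h_S` over the base `R`. -/
theorem smooth_over_of_versal
    (hv : IsVersal ((Family.self R.carrier R.res).along
        (IsScalarTower.toAlgHom Λ R.carrier S.carrier) hRS)) :
    letI := CR.resAlgebra R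
    IsSmoothFunctor (hR (CR.over R S hRS).carrier (CR.over R S hRS).res) := by
  letI := CR.resAlgebra R
  intro B' A' μ' hμ' φ'
  -- restrict everything to Λ
  let B : Art Λ k := restrictArt R B'
  let A : Art Λ k := restrictArt R A'
  let μ : B ⟶ A :=
    ⟨{ toRingHom := μ'.toAlgHom.toRingHom
       commutes' := fun c => μ'.toAlgHom.commutes (algebraMap Λ R.carrier c) },
      AlgHom.ext fun b => congrArg (fun t : B'.carrier →ₐ[R.carrier] k => t b) μ'.res_comp⟩
  have hμ : Function.Surjective μ := hμ'
  let φ : HomSet S.carrier S.res A :=
    ⟨{ toRingHom := φ'.1.toRingHom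
       commutes' := fun c => by
        change φ'.1 (algebraMap Λ S.carrier c) = algebraMap R.carrier A'.carrier (algebraMap Λ R.carrier c)
        rw [IsScalarTower.algebraMap_apply Λ R.carrier S.carrier]
        exact φ'.1.commutes (algebraMap Λ R.carrier c) },
      AlgHom.ext fun s => congrArg (fun t : S.carrier →ₐ[R.carrier] k => t s) φ'.2⟩
  let y : HomSet R.carrier R.res B :=
    ⟨{ toRingHom := algebraMap R.carrier B'.carrier
       commutes' := fun c => rfl },
      AlgHom.ext fun r => B'.res.commutes r⟩
  have hy : (hR R.carrier R.res).map μ y =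
      ((Family.self R.carrier R.res).along (IsScalarTower.toAlgHom Λ R.carrier S.carrier) hRS).app A φ := by
    apply Subtype.ext
    apply AlgHom.ext
    intro r
    change μ'.toAlgHom (algebraMap R.carrier B'.carrier r) = φ'.1 (algebraMap R.carrier S.carrier r)
    rw [AlgHom.commutes]
    exact (φ'.1.commutes r).symm
  obtain ⟨ψ, hψ1, hψ2⟩ := hv μ hμ φ y hy
  have hψ2' : ∀ r : R.carrier, ψ.1 (algebraMap R.carrier S.carrier r) = algebraMap R.carrier B'.carrier r := by
    intro r
    exact congrArg (fun t : HomSet R.carrier R.res B => t.1 r) hψ2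
  let ψ' : HomSet (CR.over R S hRS).carrier (CR.over R S hRS).res B' :=
    ⟨{ toRingHom := ψ.1.toRingHom
       commutes' := hψ2' },
      AlgHom.ext fun s => congrArg (fun t : S.carrier →ₐ[Λ] k => t s) ψ.2⟩
  refine ⟨ψ', ?_⟩
  apply Subtype.ext
  apply AlgHom.ext
  intro s
  exact congrArg (fun t : HomSet S.carrier S.res A => t.1 s) hψ1

/-- Smoothness of `h_S` over the base `R` gives versality of `h_S → h_R`. -/
theorem versal_of_smooth_over
    (hsm : letI := CR.resAlgebra R
      IsSmoothFunctor (hR (CR.over R S hRS).carrier (CR.over R S hRS).res)) :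
    IsVersal ((Family.self R.carrier R.res).along
        (IsScalarTower.toAlgHom Λ R.carrier S.carrier) hRS) := by
  letI := CR.resAlgebra R
  intro B A μ hμ φ y hy
  have hy' : ∀ r : R.carrier, μ (y.1 r) = φ.1 (algebraMap R.carrier S.carrier r) := by
    intro r
    exact congrArg (fun t : HomSet R.carrier R.res A => t.1 r) hy
  let B' := extendArt R B y
  let A' := extendArt R A (HomSet.map μ y)
  let μ' : B' ⟶ A' :=
    ⟨{ toRingHom := μ.toAlgHom.toRingHom
       commutes' := fun r => rfl },
      AlgHom.ext fun b => congrArg (fun t : B.carrier →ₐ[Λ] k => t b) μ.res_comp⟩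
  have hμ' : Function.Surjective μ' := hμ
  let φ' : HomSet (CR.over R S hRS).carrier (CR.over R S hRS).res A' :=
    ⟨{ toRingHom := φ.1.toRingHom
       commutes' := fun r => (hy' r).symm },
      AlgHom.ext fun s => congrArg (fun t : S.carrier →ₐ[Λ] k => t s) φ.2⟩
  obtain ⟨ψ', hψ'⟩ := hsm μ' hμ' φ'
  have hψ'' : ∀ s : S.carrier, μ (ψ'.1 s) = φ.1 s := by
    intro s
    exact congrArg (fun t : HomSet (CR.over R S hRS).carrier (CR.over R S hRS).res A' => t.1 s) hψ'
  let ψ : HomSet S.carrier S.res B :=
    ⟨{ toRingHom := ψ'.1.toRingHom
       commutes' := fun c => by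
        change ψ'.1 (algebraMap Λ S.carrier c) = algebraMap Λ B.carrier c
        rw [IsScalarTower.algebraMap_apply Λ R.carrier S.carrier]
        refine (ψ'.1.commutes (algebraMap Λ R.carrier c)).trans ?_
        exact y.1.commutes c },
      AlgHom.ext fun s => congrArg (fun t : S.carrier →ₐ[R.carrier] k => t s) ψ'.2⟩
  refine ⟨ψ, ?_, ?_⟩
  · apply Subtype.ext
    apply AlgHom.ext
    intro s
    exact hψ'' s
  · apply Subtype.ext
    apply AlgHom.ext
    intro r
    exact ψ'.1.commutes r

/-- `h_S → h_R` is smooth iff `S` is a power series ring over `R`. -/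
theorem isVersal_along_iff_ps :
    IsVersal ((Family.self R.carrier R.res).along
        (IsScalarTower.toAlgHom Λ R.carrier S.carrier) hRS) ↔
      ∃ n : ℕ, Nonempty (S.carrier ≃ₐ[R.carrier] MvPowerSeries (Fin n) R.carrier) := by
  letI := CR.resAlgebra R
  haveI := R.isAdicComplete
  have hk' : Function.Surjective (algebraMap R.carrier k) := R.res_surjective
  constructor
  · intro hv
    exact exists_equiv_ps_of_smooth (Λ := R.carrier) (k := k) hk' (CR.over R S hRS)
      (smooth_over_of_versal R S hRS hv)
  · rintro ⟨n, ⟨e⟩⟩
    exact versal_of_smooth_over R S hRS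
      (smooth_of_equiv_ps (Λ := R.carrier) (k := k) hk' (CR.over R S hRS) n e)

end overBase

end Groth.Agent.H63
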