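import Groth.Agent.H63.CRingSurj
import Groth.Agent.H63.DerSection
import Groth.Agent.H63.ArtFormal
import Groth.Prelude.Def_W4sfdMinVersal

set_option autoImplicit false
set_option linter.style.haveILetI false
universe u v
open CategoryTheory

namespace Groth.Agent.H63

open ArtFun ArtFun.Art

variable {Λ : Type u} {k : Type u} [CommRing Λ] [Field k] [Algebra Λ k]

/-- A `Λ`-derivation `S → k` as a `Λ`-algebra map to the dual numbers. -/
def derivToDual {S : Type u} [CommRing S] [Algebra Λ S] [Algebra S k] [IsScalarTower Λ S k]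
    (D : Derivation Λ S k) : S →ₐ[Λ] DualNumber k where
  toFun s := (algebraMap S k s, D s)
  map_one' := TrivSqZeroExt.ext (map_one _) (by
    change D 1 = 0
    exact D.map_one_eq_zero)
  map_mul' s t := TrivSqZeroExt.ext (map_mul _ _ _) (by
    change D (s * t) = algebraMap S k s • D t + MulOpposite.op (algebraMap S k t) • D s
    rw [D.leibniz, smul_eq_mul, MulOpposite.smul_eq_mul_unop, MulOpposite.unop_op, Algebra.smul_def,
      Algebra.smul_def, mul_comm (D s)])
  map_zero' := TrivSqZeroExt.ext (map_zero _) (by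
    change D 0 = 0
    exact map_zero D)
  map_add' s t := TrivSqZeroExt.ext (map_add _ _ _) (by
    change D (s + t) = D s + D t
    exact map_add D s t)
  commutes' r := TrivSqZeroExt.ext (by
      change algebraMap S k (algebraMap Λ S r) = (algebraMap Λ (TrivSqZeroExt k k) r).fst
      rw [TrivSqZeroExt.algebraMap_eq_inl', TrivSqZeroExt.fst_inl, ← IsScalarTower.algebraMap_apply]) (by
      change D (algebraMap Λ S r) = (algebraMap Λ (TrivSqZeroExt k k) r).snd
      rw [D.map_algebraMap, TrivSqZeroExt.algebraMap_eq_inl', TrivSqZeroExt.snd_inl])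

theorem derivToDual_apply {S : Type u} [CommRing S] [Algebra Λ S] [Algebra S k] [IsScalarTower Λ S k]
    (D : Derivation Λ S k) (s : S) : derivToDual D s = (algebraMap S k s, D s) := rfl

namespace CR

/-- A map out of a coefficient ring to an object with `m^(n+1) = 0` factors through the `n`-th truncation. -/
theorem exists_factor_trunc (R : CRing Λ k) (n : ℕ) (A : Art Λ k)
    (hA : IsLocalRing.maximalIdeal A ^ (n + 1) = ⊥) (φ : HomSet R.carrier R.res A) :
    ∃ φ' : R.trunc n ⟶ A, HomSet.map φ' (R.truncHom n) = φ := by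
  have hm : Ideal.map φ.1 (IsLocalRing.maximalIdeal R.carrier) ≤ IsLocalRing.maximalIdeal A := by
    rw [Ideal.map_le_iff_le_comap]
    intro a ha
    rw [Ideal.mem_comap, Art.mem_maximalIdeal_iff]
    rw [CR.mem_maximalIdeal_iff] at ha
    have : A.res (φ.1 a) = R.res a := AlgHom.congr_fun φ.2 a
    rw [this, ha]
  have hkill : ∀ a ∈ CRing.mpow R n, φ.1 a = 0 := by
    intro a ha
    have h1 : φ.1 a ∈ Ideal.map φ.1 (CRing.mpow R n) := Ideal.mem_map_of_mem _ ha
    rw [CRing.mpow, Ideal.map_pow] at h1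
    have h2 := Ideal.pow_right_mono hm (n + 1) h1
    rw [hA] at h2
    exact h2
  refine ⟨⟨Ideal.Quotient.liftₐ (CRing.mpow R n) φ.1 hkill, ?_⟩, ?_⟩
  · apply AlgHom.ext
    intro x
    obtain ⟨a, rfl⟩ := Ideal.Quotient.mk_surjective x
    exact AlgHom.congr_fun φ.2 a
  · apply Subtype.ext
    apply AlgHom.ext
    intro a
    rfl

/-- The truncation maps are epimorphic. -/
theorem hom_ext_trunc (R : CRing Λ k) (n : ℕ) {A : Art Λ k} (f g : R.trunc n ⟶ A)
    (h : HomSet.map f (R.truncHom n) = HomSet.map g (R.truncHom n)) : f = g := by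
  apply Art.hom_ext
  apply AlgHom.ext
  intro x
  obtain ⟨a, rfl⟩ := Ideal.Quotient.mk_surjective x
  have := congrArg (fun t : HomSet R.carrier R.res A => t.1 a) h
  exact this

theorem map_truncMapOfHom {R' R : CRing Λ k} (f : R'.carrier →ₐ[Λ] R.carrier) (hf : R.res.comp f = R'.res)
    (n : ℕ) :
    HomSet.map (CRing.truncMapOfHom f hf n) (R'.truncHom n) =
      ⟨(R.truncHom n).1.comp f, by rw [← AlgHom.comp_assoc, (R.truncHom n).2, hf]⟩ := by
  apply Subtype.ext
  apply AlgHom.ext
  intro a
  rfl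

/-- The formal element of a transported family is the pushforward. -/
theorem toFormalElt_along {F : Art Λ k ⥤ Type v} {R S : CRing Λ k} (ξ : Family R.carrier R.res F)
    (g : R.carrier →ₐ[Λ] S.carrier) (hg : S.res.comp g = R.res) :
    (ξ.along g hg).toFormalElt = ξ.toFormalElt.push g hg := by
  apply FormalElt.ext'
  intro n
  change ξ.app _ _ = F.map (CRing.truncMapOfHom g hg n) (ξ.app _ (R.truncHom n))
  rw [← ξ.natural, map_truncMapOfHom]

/-- `m²= 0` in the dual numbers. -/
theorem sq_maximalIdeal_dual : IsLocalRing.maximalIdeal (dual Λ k) ^ (1 + 1) = ⊥ := by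
  have key : ∀ x y : TrivSqZeroExt k k, x.fst = 0 → y.fst = 0 → x * y = 0 := by
    intro x y hx hy
    apply TrivSqZeroExt.ext
    · rw [TrivSqZeroExt.fst_mul, hx, zero_mul, TrivSqZeroExt.fst_zero]
    · rw [TrivSqZeroExt.snd_mul, hx, hy, zero_smul, TrivSqZeroExt.snd_zero]
      simp
  rw [eq_bot_iff, pow_succ, pow_one]
  intro z hz
  refine Submodule.mul_induction_on hz ?_ ?_
  · intro x hx y hy
    rw [Art.mem_maximalIdeal_iff] at hx hy
    exact key x y hx hy
  · intro x y hx hy
    exact Ideal.add_mem _ hx hy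

/-- If a pushforward of a formal element is the formal element of `ξ`, then `ξ` takes equal values on maps to `k[ε]` agreeing
after composition with `f`. -/
theorem app_eq_of_comp_eq {F : Art Λ k ⥤ Type v} {R' R : CRing Λ k} (ξ : Family R.carrier R.res F)
    (u : FormalElt F R') (f : R'.carrier →ₐ[Λ] R.carrier) (hf : R.res.comp f = R'.res)
    (hu : u.push f hf = ξ.toFormalElt) (n : ℕ) (A : Art Λ k) (hA : IsLocalRing.maximalIdeal A ^ (n + 1) = ⊥)
    (φ₁ φ₂ : HomSet R.carrier R.res A) (h : φ₁.1.comp f = φ₂.1.comp f) :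
    ξ.app A φ₁ = ξ.app A φ₂ := by
  obtain ⟨ψ₁, hψ₁⟩ := exists_factor_trunc R n A hA φ₁
  obtain ⟨ψ₂, hψ₂⟩ := exists_factor_trunc R n A hA φ₂
  have h1 : ∀ (ψ : R.trunc n ⟶ A), ξ.app A (HomSet.map ψ (R.truncHom n)) =
      F.map (CRing.truncMapOfHom f hf n ≫ ψ) (u.elt n) := by
    intro ψ
    rw [ξ.natural, Functor.map_comp_apply]
    congr 1
    have := congrArg (fun t : FormalElt F R => t.elt n) hu
    exact this.symm
  have h2 : CRing.truncMapOfHom f hf n ≫ ψ₁ = CRing.truncMapOfHom f hf n ≫ ψ₂ := by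
    apply hom_ext_trunc R' n
    apply Subtype.ext
    apply AlgHom.ext
    intro a
    have e1 : ψ₁ (Ideal.Quotient.mk _ (f a)) = φ₁.1 (f a) := by
      have := congrArg (fun t : HomSet R.carrier R.res A => t.1 (f a)) hψ₁
      exact this
    have e2 : ψ₂ (Ideal.Quotient.mk _ (f a)) = φ₂.1 (f a) := by
      have := congrArg (fun t : HomSet R.carrier R.res A => t.1 (f a)) hψ₂
      exact this
    change ψ₁ (Ideal.Quotient.mk _ (f a)) = ψ₂ (Ideal.Quotient.mk _ (f a))
    rw [e1, e2]
    exact AlgHom.congr_fun h a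
  rw [← hψ₁, ← hψ₂, h1, h1, h2]

/-- A morphism of coefficient rings which is injective on maps to `k[ε]` is surjective. -/
theorem surjective_of_dual_injective (R' R : CRing Λ k) (f : R'.carrier →ₐ[Λ] R.carrier)
    (hf : R.res.comp f = R'.res)
    (hinj : ∀ φ₁ φ₂ : HomSet R.carrier R.res (dual Λ k), φ₁.1.comp f = φ₂.1.comp f → φ₁ = φ₂) :
    Function.Surjective f := by
  letI : Algebra R.carrier k := R.res.toRingHom.toAlgebra
  haveI : IsScalarTower Λ R.carrier k := IsScalarTower.of_algebraMap_eq fun r => (R.res.commutes r).symm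
  have hmem : ∀ x : R.carrier, x ∈ IsLocalRing.maximalIdeal R.carrier ↔ algebraMap R.carrier k x = 0 :=
    fun x => CR.mem_maximalIdeal_iff R x
  have hfr : ∀ r : R'.carrier, algebraMap R.carrier k (f r) = R'.res r := fun r => by
    rw [← hf]; rfl
  apply CR.surjective_of_cotangent R' R f hf
  by_contra hne
  have hle : Ideal.map f (IsLocalRing.maximalIdeal R'.carrier) ⊔ IsLocalRing.maximalIdeal R.carrier ^ 2 ≤
      IsLocalRing.maximalIdeal R.carrier :=
    sup_le (CR.map_maximalIdeal_le R' R f hf) (Ideal.pow_le_self two_ne_zero)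
  have hlt := lt_of_le_of_ne hle hne
  obtain ⟨v, hv, hvJ⟩ := SetLike.exists_of_lt hlt
  obtain ⟨D, hD0, hDv⟩ := exists_derivation_of_not_mem f
    (fun a => by
      obtain ⟨r, hr⟩ := R'.res_surjective a
      exact ⟨r, by simp only [hfr, hr]⟩)
    (Ideal.map f (IsLocalRing.maximalIdeal R'.carrier) ⊔ IsLocalRing.maximalIdeal R.carrier ^ 2)
    (fun x y hx hy => by
      apply Ideal.mem_sup_right
      rw [sq]
      exact Ideal.mul_mem_mul ((hmem x).2 hx) ((hmem y).2 hy))
    (fun r hr => by
      apply Ideal.mem_sup_left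
      apply Ideal.mem_map_of_mem
      rw [CR.mem_maximalIdeal_iff, ← hfr]
      exact hr)
    v ((hmem v).1 hv) hvJ
  let φ₁ : HomSet R.carrier R.res (dual Λ k) := ⟨derivToDual D, AlgHom.ext fun _ => rfl⟩
  let φ₂ : HomSet R.carrier R.res (dual Λ k) := ⟨derivToDual (0 : Derivation Λ R.carrier k), AlgHom.ext fun _ => rfl⟩
  have h12 : φ₁ = φ₂ := by
    apply hinj
    apply AlgHom.ext
    intro a
    change derivToDual D (f a) = derivToDual (0 : Derivation Λ R.carrier k) (f a)
    rw [derivToDual_apply, derivToDual_apply, hD0]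
    rfl
  have := congrArg (fun t : HomSet R.carrier R.res (dual Λ k) => TrivSqZeroExt.snd (R := k) (M := k) (t.1 v)) h12
  change D v = (0 : Derivation Λ R.carrier k) v at this
  rw [hDv] at this
  exact one_ne_zero this

end CR

end Groth.Agent.H63
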