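import Groth.Agent.H63.ArtCut
import Groth.Agent.H63.CRingHom
import Groth.Agent.H63.NoethEndo
import Groth.Agent.H63.BaseChangeArt
import Groth.Agent.H61.FormalFamily

/-!
# Minimal versal families without `(S2)`
-/

set_option autoImplicit false
set_option linter.style.haveILetI false
set_option linter.unusedSectionVars false
universe u v
open CategoryTheory

namespace Groth.Agent.H63.MinVersal

open ArtFun ArtFun.Art Groth.Agent.H61 Groth.Agent.H63

variable {Λ : Type u} {k : Type u} [CommRing Λ] [Field k] [Algebra Λ k]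

/-- translation by multiples of the tangent vector `δ₀` does not change `ξ` -/
def TransInv {F : Art Λ k ⥤ Type v} {R : Type u} [CommRing R] [Algebra Λ R] {resR : R →ₐ[Λ] k}
    (ξ : Family R resR F) (δ₀ : HomSet R resR (dual Λ k)) : Prop :=
  ∀ ⦃B C : Art Λ k⦄ (π₁ : C ⟶ B) (δ : C ⟶ dual Λ k) (Δ : B ⟶ C),
    IsFibreProd π₁ δ (toBase B) (toBase (dual Λ k)) → Δ ≫ π₁ = 𝟙 B →
    Δ ≫ δ = toBase B ≫ baseToDual →
    ∀ (χ : HomSet R resR C) (c : k), HomSet.map δ χ = HomSet.map (scale c) δ₀ →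
      ξ.app C χ = ξ.app C (HomSet.map Δ (HomSet.map π₁ χ))

/-- Cutting a versal family by an element on which an invariant tangent vector does not vanish
keeps it versal. -/
theorem isVersal_cut_inv [Module.Finite Λ k] {F : Art Λ k ⥤ Type v}
    (S : CRing Λ k) (ξ : Family S.carrier S.res F) (hξ : IsVersal ξ)
    (δ₀ : HomSet S.carrier S.res (dual Λ k)) (hinv : TransInv ξ δ₀)
    (w : S.carrier) (hw0 : S.res w = 0) (hw : TrivSqZeroExt.snd (R := k) (M := k) (δ₀.1 w) ≠ 0)
    (S' : CRing Λ k) (π : S.carrier →ₐ[Λ] S'.carrier) (hπ : S'.res.comp π = S.res)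
    (hπs : Function.Surjective π) (hker : RingHom.ker π = Ideal.span {w}) :
    IsVersal (ξ.along π hπ) := by
  apply isVersal_of_smallExt
  intro B A μ hμ φ' y hy
  set φ : HomSet S.carrier S.res A := homSetComp π hπ φ' with hφ
  have hπw : π w = 0 := by
    have : w ∈ RingHom.ker π := by rw [hker]; exact Ideal.subset_span rfl
    exact (RingHom.mem_ker).1 this
  obtain ⟨ψ, hψ, hψy⟩ := hξ μ hμ.1 φ y hy
  obtain ⟨C, π₁, π₂, δ, Δ, hC₁, hC₂, hΔ₁, hΔ₂, hΔδ⟩ := exists_smallData μ hμ
  have hμψ : ∀ r, μ (ψ.1 r) = φ'.1 (π r) := fun r =>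
    congrArg (fun t : HomSet S.carrier S.res A => t.1 r) hψ
  have hμw : μ (ψ.1 w) = μ 0 := by rw [hμψ, hπw, map_zero, map_zero]
  obtain ⟨c₀, hc₁, hc₂⟩ := hC₁.surj (ψ.1 w) 0 hμw
  set a := TrivSqZeroExt.snd (R := k) (M := k) (δ₀.1 w) with ha
  set a₀ := TrivSqZeroExt.snd (R := k) (M := k) (δ c₀) with ha₀
  let τ : HomSet S.carrier S.res (dual Λ k) := HomSet.map (scale (a₀ / a)) δ₀
  have hfst : ∀ (θ : HomSet S.carrier S.res (dual Λ k)) (r : S.carrier),
      TrivSqZeroExt.fst (R := k) (M := k) (θ.1 r) = S.res r := fun θ r => AlgHom.congr_fun θ.2 r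
  have hτw : τ.1 w = δ c₀ := by
    change (scale (a₀ / a)) (δ₀.1 w) = δ c₀
    rw [scale_apply]
    apply TrivSqZeroExt.ext
    · change TrivSqZeroExt.fst (R := k) (M := k) (δ₀.1 w) = TrivSqZeroExt.fst (R := k) (M := k) (δ c₀)
      rw [hfst, hw0]
      have h1 : TrivSqZeroExt.fst (R := k) (M := k) (δ c₀) = C.res c₀ := res_app δ c₀
      rw [h1, ← res_app π₁ c₀, hc₁]
      have h2 : B.res (ψ.1 w) = S.res w := AlgHom.congr_fun ψ.2 w
      rw [h2, hw0]
    · change a₀ / a * a = a₀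
      exact div_mul_cancel₀ a₀ hw
  obtain ⟨χ, hχ₁, hχ₂⟩ := IsFibreProd.exists_lift_homSet hC₂ ψ τ
    ((homSet_base_eq _).trans (homSet_base_eq _).symm)
  let χ₀ : HomSet S.carrier S.res C := HomSet.map Δ ψ
  have hχ₀₂ : HomSet.map π₂ χ₀ = ψ := by
    change HomSet.map π₂ (HomSet.map Δ ψ) = ψ
    rw [← homSet_map_comp, hΔ₂]
    rfl
  have hξχ : ξ.app C χ = ξ.app C χ₀ := by
    have := hinv π₁ δ Δ hC₂ hΔ₁ hΔδ χ (a₀ / a) hχ₂
    rw [hχ₁] at this
    exact this
  let ψ' : HomSet S.carrier S.res B := HomSet.map π₂ χ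
  have hχw : χ.1 w = c₀ := by
    apply hC₂.inj
    · have := congrArg (fun t : HomSet S.carrier S.res B => t.1 w) hχ₁
      exact this.trans hc₁.symm
    · have := congrArg (fun t : HomSet S.carrier S.res (dual Λ k) => t.1 w) hχ₂
      exact this.trans hτw
  have hψ'w : ψ'.1 w = 0 := by
    change π₂ (χ.1 w) = 0
    rw [hχw, hc₂]
  have hμψ' : HomSet.map μ ψ' = φ := by
    change HomSet.map μ (HomSet.map π₂ χ) = φ
    rw [← homSet_map_comp, ← hC₁.w, homSet_map_comp, hχ₁, hψ]
  have hξψ' : ξ.app B ψ' = y := by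
    change ξ.app B (HomSet.map π₂ χ) = y
    rw [ξ.natural, hξχ, ← ξ.natural, hχ₀₂, hψy]
  have hkerle : RingHom.ker π ≤ RingHom.ker ψ'.1 := by
    rw [hker, Ideal.span_le]
    intro x hx
    rw [Set.mem_singleton_iff.1 hx]
    exact (RingHom.mem_ker).2 hψ'w
  obtain ⟨ψ'', hψ''⟩ := exists_homSet_of_ker_le π hπ hπs ψ' hkerle
  refine ⟨ψ'', ?_, ?_⟩
  · apply homSetComp_injective π hπ hπs
    rw [homSetComp_map, hψ'', hμψ']
  · change ξ.app B (homSetComp π hπ ψ'') = y
    rw [hψ'', hξψ']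

/-- a non-surjective endomorphism of a family produces an invariant tangent vector -/
theorem exists_transInv_of_not_surjective {F : Art Λ k ⥤ Type v} (S : CRing Λ k)
    (ξ : Family S.carrier S.res F) (e : S.carrier →ₐ[Λ] S.carrier) (he : S.res.comp e = S.res)
    (hξe : ξ.along e he = ξ) (hns : ¬ Function.Surjective e) :
    ∃ (δ₀ : HomSet S.carrier S.res (dual Λ k)) (w : S.carrier), S.res w = 0 ∧
      TrivSqZeroExt.snd (R := k) (M := k) (δ₀.1 w) ≠ 0 ∧ TransInv ξ δ₀ := by
  letI : Algebra S.carrier k := S.res.toRingHom.toAlgebra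
  haveI : IsScalarTower Λ S.carrier k := IsScalarTower.of_algebraMap_eq fun r => (S.res.commutes r).symm
  have hmem : ∀ x : S.carrier, x ∈ IsLocalRing.maximalIdeal S.carrier ↔ algebraMap S.carrier k x = 0 :=
    fun x => CR.mem_maximalIdeal_iff S x
  have hfr : ∀ r : S.carrier, algebraMap S.carrier k (e r) = S.res r := fun r => by
    rw [← he]; rfl
  have hne : ¬ (Ideal.map e (IsLocalRing.maximalIdeal S.carrier) ⊔ IsLocalRing.maximalIdeal S.carrier ^ 2 =
      IsLocalRing.maximalIdeal S.carrier) := fun h => hns (CR.surjective_of_cotangent S S e he h)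
  have hle : Ideal.map e (IsLocalRing.maximalIdeal S.carrier) ⊔ IsLocalRing.maximalIdeal S.carrier ^ 2 ≤
      IsLocalRing.maximalIdeal S.carrier :=
    sup_le (CR.map_maximalIdeal_le S S e he) (Ideal.pow_le_self two_ne_zero)
  have hlt := lt_of_le_of_ne hle hne
  obtain ⟨v, hv, hvJ⟩ := SetLike.exists_of_lt hlt
  obtain ⟨D, hD0, hDv⟩ := exists_derivation_of_not_mem e
    (fun a => by
      obtain ⟨r, hr⟩ := S.res_surjective a
      exact ⟨r, by simp only [hfr, hr]⟩)
    (Ideal.map e (IsLocalRing.maximalIdeal S.carrier) ⊔ IsLocalRing.maximalIdeal S.carrier ^ 2)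
    (fun x y hx hy => by
      apply Ideal.mem_sup_right
      rw [sq]
      exact Ideal.mul_mem_mul ((hmem x).2 hx) ((hmem y).2 hy))
    (fun r hr => by
      apply Ideal.mem_sup_left
      apply Ideal.mem_map_of_mem
      rw [CR.mem_maximalIdeal_iff, ← hfr]
      exact hr)
    v ((hmem v).1 hv) hvJ
  let δ₀ : HomSet S.carrier S.res (dual Λ k) := ⟨derivToDual D, AlgHom.ext fun _ => rfl⟩
  refine ⟨δ₀, v, (hmem v).1 hv, ?_, ?_⟩
  · change D v ≠ 0
    rw [hDv]
    exact one_ne_zero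
  · intro B C π₁ δ Δ hC₂ hΔ₁ hΔδ χ c hχδ
    have h1 : ∀ χ' : HomSet S.carrier S.res C, ξ.app C χ' = ξ.app C (homSetComp e he χ') := by
      intro χ'
      conv_lhs => rw [← hξe]
      rfl
    rw [h1 χ, h1 (HomSet.map Δ (HomSet.map π₁ χ))]
    congr 1
    apply Groth.Agent.H63.IsFibreProd.homSet_ext hC₂
    · rw [← homSetComp_map, ← homSetComp_map, ← homSet_map_comp, hΔ₁]
      rfl
    · rw [← homSetComp_map, ← homSetComp_map, hχδ, ← homSet_map_comp, hΔδ]
      apply Subtype.ext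
      apply AlgHom.ext
      intro r
      have hfst : TrivSqZeroExt.fst (R := k) (M := k) (δ₀.1 (e r)) = S.res r := by
        change algebraMap S.carrier k (e r) = S.res r
        exact hfr r
      have hsnd : TrivSqZeroExt.snd (R := k) (M := k) (δ₀.1 (e r)) = 0 := by
        change D (e r) = 0
        exact hD0 r
      have h2 : B.res ((HomSet.map π₁ χ).1 (e r)) = S.res r := by
        have h3 : B.res ((HomSet.map π₁ χ).1 (e r)) = S.res (e r) :=
          AlgHom.congr_fun (HomSet.map π₁ χ).2 (e r)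
        rw [h3]
        exact hfr r
      change (scale c) (δ₀.1 (e r)) = baseToDual (B.res ((HomSet.map π₁ χ).1 (e r)))
      rw [scale_apply, baseToDual_apply, hfst, hsnd, h2, mul_zero]
      rfl

/-- a versal family all of whose endomorphisms are surjective is minimal -/
theorem isMinimalVersal_of_endo_surjective {F : Art Λ k ⥤ Type v} (h0 : H0 F) (R : CRing Λ k)
    (ξ : Family R.carrier R.res F) (hξ : IsVersal ξ)
    (hend : ∀ (e : R.carrier →ₐ[Λ] R.carrier) (he : R.res.comp e = R.res),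
      ξ.along e he = ξ → Function.Surjective e) : ξ.IsMinimalVersal := by
  refine ⟨hξ, ?_⟩
  intro R' u f hf hu
  obtain ⟨r, hr, hru⟩ := exists_along_of_isVersal h0 R ξ hξ R' u
  have he : R.res.comp (f.comp r) = R.res := by
    rw [← AlgHom.comp_assoc, hf, hr]
  have hξe : ξ.along (f.comp r) he = ξ := by
    apply toFormalElt_injective
    change (ξ.along (f.comp r) he).toFormalElt = ξ.toFormalElt
    have h1 : ξ.along (f.comp r) he = (ξ.along r hr).along f hf := rfl
    rw [h1, CR.toFormalElt_along, hru, hu]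
  have hs := hend (f.comp r) he hξe
  exact Function.Surjective.of_comp hs

/-- **existence of a minimal versal family** -/
theorem exists_isMinimalVersal [IsNoetherianRing Λ] [Module.Finite Λ k]
    {F : Art Λ k ⥤ Type v} (h0 : H0 F) (V : VersalPair F) :
    ∃ (R' : CRing Λ k) (ξ' : Family R'.carrier R'.res F), ξ'.IsMinimalVersal := by
  classical
  suffices H : ∀ n : ℕ, ∀ V : VersalPair F,
      (IsLocalRing.maximalIdeal V.ring.carrier).spanFinrank = n →
      ∃ (R' : CRing Λ k) (ξ' : Family R'.carrier R'.res F), ξ'.IsMinimalVersal from H _ V rfl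
  intro n
  induction n using Nat.strong_induction_on with
  | _ n ih =>
  intro V hn
  set R := V.ring with hR
  set ξ := V.family with hξdef
  have hξ : IsVersal ξ := V.versal
  by_cases hend : ∀ (e : R.carrier →ₐ[Λ] R.carrier) (he : R.res.comp e = R.res),
      ξ.along e he = ξ → Function.Surjective e
  · exact ⟨R, ξ, isMinimalVersal_of_endo_surjective h0 R ξ hξ hend⟩
  · push Not at hend
    obtain ⟨e, he, hξe, hns⟩ := hend
    obtain ⟨δ₀, w, hw0, hw, hinv⟩ := exists_transInv_of_not_surjective R ξ e he hξe hns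
    have hwm : w ∈ IsLocalRing.maximalIdeal R.carrier := (CR.mem_maximalIdeal_iff R w).2 hw0
    haveI : IsAdicComplete (IsLocalRing.maximalIdeal R.carrier) R.carrier := R.isAdicComplete
    obtain ⟨S', π, hπ, hπs, hker⟩ := exists_cring_quot (Λ := Λ) (k := k) R.res_surjective
      (Ideal.span {w}) ((Ideal.span_singleton_le_iff_mem _).2 hwm)
    have hcut : IsVersal (ξ.along π hπ) :=
      isVersal_cut_inv R ξ hξ δ₀ hinv w hw0 hw S' π hπ hπs hker
    have hlt : (IsLocalRing.maximalIdeal S'.carrier).spanFinrank + 1 ≤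
        (IsLocalRing.maximalIdeal R.carrier).spanFinrank := by
      apply spanFinrank_maximalIdeal_lt_of_surjective (π : R.carrier →+* S'.carrier) hπs
        ((isNoetherianRing_iff_ideal_fg R.carrier).1 inferInstance _)
      intro hle
      have hwk : w ∈ RingHom.ker (π : R.carrier →+* S'.carrier) := by
        change w ∈ RingHom.ker π
        rw [hker]
        exact Ideal.subset_span rfl
      have := CR.tangent_sq_eq_zero R δ₀ w (hle hwk)
      apply hw
      rw [this]
      rfl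
    have hlt' : (IsLocalRing.maximalIdeal S'.carrier).spanFinrank < n := by
      rw [← hn]
      exact hlt
    exact ih _ hlt' ⟨S', ξ.along π hπ, hcut⟩ rfl

/-- a map of coefficient rings with a retraction, along which a versal family is induced, makes
`h_R → h_{R'}` smooth -/
theorem isVersal_self_along_of_retraction [Module.Finite Λ k] {F : Art Λ k ⥤ Type v}
    (R' R : CRing Λ k) (ξ' : Family R'.carrier R'.res F)
    (ξ : Family R.carrier R.res F) (hξ : IsVersal ξ)
    (g : R'.carrier →ₐ[Λ] R.carrier) (hg : R.res.comp g = R'.res) (hgξ : ξ'.along g hg = ξ)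
    (ρ : R.carrier →ₐ[Λ] R'.carrier) (hρ : R'.res.comp ρ = R.res) (hρg : ρ.comp g = AlgHom.id Λ _) :
    IsVersal ((Family.self R'.carrier R'.res).along g hg) := by
  apply isVersal_of_smallExt
  intro B A μ hμ φ y hy'
  -- `ψ' : R' → B` lifts `φ ∘ g`
  let ψ' : HomSet R'.carrier R'.res B := y
  have hψ'φ : HomSet.map μ ψ' = homSetComp g hg φ := hy'
  -- a lift of `φ`
  have hy : F.map μ (ξ'.app B ψ') = ξ.app A φ := by
    rw [← ξ'.natural, hψ'φ, ← hgξ]
    rfl
  obtain ⟨ψ₀, hψ₀, -⟩ := hξ μ hμ.1 φ (ξ'.app B ψ') hy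
  obtain ⟨C, π₁, π₂, δ, Δ, hC₁, hC₂, hΔ₁, hΔ₂, hΔδ⟩ := exists_smallData μ hμ
  -- the pair `(ψ₀ ∘ g, ψ')`
  obtain ⟨χ', hχ'₁, hχ'₂⟩ := IsFibreProd.exists_lift_homSet hC₁ (homSetComp g hg ψ₀) ψ' (by
    rw [← homSetComp_map, hψ₀, hψ'φ])
  -- its tangent component, extended to `R` through the retraction
  let t : HomSet R.carrier R.res (dual Λ k) := homSetComp ρ hρ (HomSet.map δ χ')
  obtain ⟨χ, hχ₁, hχ₂⟩ := IsFibreProd.exists_lift_homSet hC₂ ψ₀ t
    ((homSet_base_eq _).trans (homSet_base_eq _).symm)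
  have hχg : homSetComp g hg χ = χ' := by
    apply Groth.Agent.H63.IsFibreProd.homSet_ext hC₂
    · rw [← homSetComp_map, hχ₁, hχ'₁]
    · rw [← homSetComp_map, hχ₂]
      apply Subtype.ext
      apply AlgHom.ext
      intro a
      change (HomSet.map δ χ').1 (ρ (g a)) = (HomSet.map δ χ').1 a
      have : ρ (g a) = a := AlgHom.congr_fun hρg a
      rw [this]
  refine ⟨HomSet.map π₂ χ, ?_, ?_⟩
  · rw [← homSet_map_comp, ← hC₁.w, homSet_map_comp, hχ₁, hψ₀]
  · change homSetComp g hg (HomSet.map π₂ χ) = ψ'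
    rw [homSetComp_map, hχg, hχ'₂]

/-- **a versal family is a power series extension of a minimal versal one** -/
theorem exists_ps_of_minimal [IsNoetherianRing Λ] [Module.Finite Λ k] {F : Art Λ k ⥤ Type v}
    (h0 : H0 F) (R' : CRing Λ k) (ξ' : Family R'.carrier R'.res F) (hmin : ξ'.IsMinimalVersal)
    (R : CRing Λ k) (ξ : Family R.carrier R.res F) (hξ : IsVersal ξ) :
    ∃ (g : R'.carrier →ₐ[Λ] R.carrier) (hg : R.res.comp g = R'.res) (n : ℕ)
      (e : R.carrier ≃ₐ[Λ] MvPowerSeries (Fin n) R'.carrier),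
      (∀ a : R'.carrier, e (g a) = algebraMap R'.carrier (MvPowerSeries (Fin n) R'.carrier) a) ∧
      (ξ'.along g hg).toFormalElt = ξ.toFormalElt := by
  obtain ⟨g, hg, hgξ⟩ := exists_along_of_isVersal h0 R' ξ' hmin.1 R ξ.toFormalElt
  obtain ⟨r₀, hr₀, hr₀ξ⟩ := exists_along_of_isVersal h0 R ξ hξ R' ξ'.toFormalElt
  have hgξ' : ξ'.along g hg = ξ := toFormalElt_injective hgξ
  have hα : R'.res.comp (r₀.comp g) = R'.res := by rw [← AlgHom.comp_assoc, hr₀, hg]
  have hαs : Function.Surjective (r₀.comp g) := hmin.2 R' ξ'.toFormalElt (r₀.comp g) hα (by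
    rw [← CR.toFormalElt_along]
    have h1 : ξ'.along (r₀.comp g) hα = (ξ'.along g hg).along r₀ hr₀ := rfl
    rw [h1, hgξ', hr₀ξ])
  have hαi : Function.Injective (r₀.comp g) :=
    injective_of_surjective_ringEnd (r₀.comp g).toRingHom hαs
  let α : R'.carrier ≃ₐ[Λ] R'.carrier := AlgEquiv.ofBijective (r₀.comp g) ⟨hαi, hαs⟩
  have hαapp : ∀ a, α a = r₀ (g a) := fun a => rfl
  let ρ : R.carrier →ₐ[Λ] R'.carrier := (α.symm : R'.carrier →ₐ[Λ] R'.carrier).comp r₀
  have hρg : ρ.comp g = AlgHom.id Λ _ := by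
    apply AlgHom.ext
    intro a
    change α.symm (r₀ (g a)) = a
    rw [← hαapp, AlgEquiv.symm_apply_apply]
  have hresα : ∀ b, R'.res (α.symm b) = R'.res b := by
    intro b
    have h1 : R'.res (α (α.symm b)) = R'.res (α.symm b) := AlgHom.congr_fun hα (α.symm b)
    rw [AlgEquiv.apply_symm_apply] at h1
    exact h1.symm
  have hρ : R'.res.comp ρ = R.res := by
    apply AlgHom.ext
    intro x
    change R'.res (α.symm (r₀ x)) = R.res x
    rw [hresα]
    exact AlgHom.congr_fun hr₀ x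
  have hv := isVersal_self_along_of_retraction R' R ξ' ξ hξ g hg hgξ' ρ hρ hρg
  letI : Algebra R'.carrier R.carrier := g.toRingHom.toAlgebra
  haveI : IsScalarTower Λ R'.carrier R.carrier :=
    IsScalarTower.of_algebraMap_eq (fun c => (g.commutes c).symm)
  have hgeq : IsScalarTower.toAlgHom Λ R'.carrier R.carrier = g := AlgHom.ext fun _ => rfl
  have hRS : R.res.comp (IsScalarTower.toAlgHom Λ R'.carrier R.carrier) = R'.res := by
    rw [hgeq]; exact hg
  have key : ∀ (g₁ : R'.carrier →ₐ[Λ] R.carrier) (_ : g₁ = g) (hg₁ : R.res.comp g₁ = R'.res),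
      IsVersal ((Family.self R'.carrier R'.res).along g₁ hg₁) := by
    intro g₁ h hg₁
    subst h
    exact hv
  obtain ⟨n, ⟨e₀⟩⟩ := (isVersal_along_iff_ps R' R hRS).1 (key _ hgeq hRS)
  refine ⟨g, hg, n, e₀.restrictScalars Λ, fun a => ?_, hgξ⟩
  change e₀ (algebraMap R'.carrier R.carrier a) = _
  exact e₀.commutes a

end Groth.Agent.H63.MinVersal
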