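import Groth.Agent.H63.ArtDefFun
import Mathlib.CategoryTheory.Limits.FunctorCategory.Shapes.Pullbacks
import Mathlib.CategoryTheory.Limits.Types.Pullbacks
import Mathlib.CategoryTheory.Limits.Shapes.Pullback.IsPullback.Basic

set_option autoImplicit false
set_option linter.style.haveILetI false
universe u v
open CategoryTheory CategoryTheory.Limits

namespace Groth.Agent.H63

open ArtFun ArtFun.Art

variable {Λ : Type u} {k : Type u} [CommRing Λ] [Field k] [Algebra Λ k]

section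
variable {F G H : Art Λ k ⥤ Type v} (f : H ⟶ F) (g : G ⟶ F)

theorem isPullback_app (A : Art Λ k) :
    IsPullback ((pullback.fst f g).app A) ((pullback.snd f g).app A) (f.app A) (g.app A) :=
  Functor.map_isPullback ((evaluation (Art Λ k) (Type v)).obj A) (IsPullback.of_hasPullback f g)

theorem pullback_condition_apply (A : Art Λ k) (z : (pullback f g).obj A) :
    f.app A ((pullback.fst f g).app A z) = g.app A ((pullback.snd f g).app A z) :=
  ConcreteCategory.congr_hom (isPullback_app f g A).w z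

theorem pullback_ext_apply (A : Art Λ k) (z w : (pullback f g).obj A)
    (h₁ : (pullback.fst f g).app A z = (pullback.fst f g).app A w)
    (h₂ : (pullback.snd f g).app A z = (pullback.snd f g).app A w) : z = w :=
  Types.ext_of_isPullback (isPullback_app f g A) h₁ h₂

theorem pullback_exists_apply (A : Art Λ k) (x : H.obj A) (y : G.obj A) (h : f.app A x = g.app A y) :
    ∃ z : (pullback f g).obj A, (pullback.fst f g).app A z = x ∧ (pullback.snd f g).app A z = y :=
  Types.exists_of_isPullback (isPullback_app f g A) x y h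

/-- (RS) is stable under fibre products of functors. -/
theorem rs_pullback (hF : RS F) (hG : RS G) (hH : RS H) : RS (pullback f g) := by
  intro B A A' A'' p' p'' f' f'' h hs
  have nat₁ : ∀ {X Y : Art Λ k} (μ : X ⟶ Y) (z : (pullback f g).obj X),
      (pullback.fst f g).app Y ((pullback f g).map μ z) = H.map μ ((pullback.fst f g).app X z) :=
    fun μ z => NatTrans.naturality_apply (pullback.fst f g) μ z
  have nat₂ : ∀ {X Y : Art Λ k} (μ : X ⟶ Y) (z : (pullback f g).obj X),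
      (pullback.snd f g).app Y ((pullback f g).map μ z) = G.map μ ((pullback.snd f g).app X z) :=
    fun μ z => NatTrans.naturality_apply (pullback.snd f g) μ z
  constructor
  · rw [cmp_injective_iff]
    intro z w e₁ e₂
    apply pullback_ext_apply
    · apply (cmp_injective_iff H h).1 (hH _ _ _ _ h hs).1
      · rw [← nat₁, ← nat₁, e₁]
      · rw [← nat₁, ← nat₁, e₂]
    · apply (cmp_injective_iff G h).1 (hG _ _ _ _ h hs).1
      · rw [← nat₂, ← nat₂, e₁]
      · rw [← nat₂, ← nat₂, e₂]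
  · rw [cmp_surjective_iff]
    intro z' z'' hz
    obtain ⟨x, hx₁, hx₂⟩ := (cmp_surjective_iff H h).1 (hH _ _ _ _ h hs).2
      ((pullback.fst f g).app A' z') ((pullback.fst f g).app A'' z'') (by rw [← nat₁, ← nat₁, hz])
    obtain ⟨y, hy₁, hy₂⟩ := (cmp_surjective_iff G h).1 (hG _ _ _ _ h hs).2
      ((pullback.snd f g).app A' z') ((pullback.snd f g).app A'' z'') (by rw [← nat₂, ← nat₂, hz])
    have hxy : f.app B x = g.app B y := by
      apply (cmp_injective_iff F h).1 (hF _ _ _ _ h hs).1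
      · rw [← NatTrans.naturality_apply f p' x, ← NatTrans.naturality_apply g p' y, hx₁, hy₁,
          pullback_condition_apply]
      · rw [← NatTrans.naturality_apply f p'' x, ← NatTrans.naturality_apply g p'' y, hx₂, hy₂,
          pullback_condition_apply]
    obtain ⟨z, hz₁, hz₂⟩ := pullback_exists_apply f g B x y hxy
    refine ⟨z, ?_, ?_⟩
    · apply pullback_ext_apply
      · rw [nat₁, hz₁, hx₁]
      · rw [nat₂, hz₂, hy₁]
    · apply pullback_ext_apply
      · rw [nat₁, hz₁, hx₂]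
      · rw [nat₂, hz₂, hy₂]

end

end Groth.Agent.H63

namespace Groth.Agent.H63

open ArtFun ArtFun.Art

variable {Λ : Type u} {k : Type u} [CommRing Λ] [Field k] [Algebra Λ k]

/-- relative injectivity along small extensions for a morphism injective on tangent spaces -/
theorem rel_injective_small [Module.Finite Λ k] {F G : Art Λ k ⥤ Type v} (hF : RS F) (hG : RS G)
    (q : G ⟶ F) (hq : Function.Injective (q.app (dual Λ k))) {B A : Art Λ k} (μ : B ⟶ A) (hμ : IsSmallExt μ)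
    (g₁ g₂ : G.obj B) (h₁ : G.map μ g₁ = G.map μ g₂) (h₂ : q.app B g₁ = q.app B g₂) : g₁ = g₂ := by
  obtain ⟨C, π₁, π₂, δ, Δ, hC₁, hC₂, hΔ₁, hΔ₂, hΔδ⟩ := exists_smallData μ hμ
  obtain ⟨z, hz₁, hz₂⟩ := (cmp_surjective_iff G hC₁).1 (hG _ _ _ _ hC₁ hμ.1).2 g₁ g₂ h₁
  let z₀ := G.map Δ g₁
  have hz₀₁ : G.map π₁ z₀ = g₁ := by
    change G.map π₁ (G.map Δ g₁) = g₁
    rw [← map_comp_apply, hΔ₁, map_id_apply]
  have hz₀₂ : G.map π₂ z₀ = g₁ := by
    change G.map π₂ (G.map Δ g₁) = g₁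
    rw [← map_comp_apply, hΔ₂, map_id_apply]
  have hφz : q.app C z = q.app C z₀ := by
    apply (cmp_injective_iff F hC₁).1 (hF _ _ _ _ hC₁ hμ.1).1
    · rw [← NatTrans.naturality_apply q π₁ z, ← NatTrans.naturality_apply q π₁ z₀, hz₁, hz₀₁]
    · rw [← NatTrans.naturality_apply q π₂ z, ← NatTrans.naturality_apply q π₂ z₀, hz₂, hz₀₂, h₂]
  have hδ : G.map δ z = G.map δ z₀ := by
    apply hq
    rw [NatTrans.naturality_apply q δ z, NatTrans.naturality_apply q δ z₀, hφz]
  have hzz₀ : z = z₀ := by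
    apply (cmp_injective_iff G hC₂).1 (hG _ _ _ _ hC₂ (toBase_surjective _)).1
    · rw [hz₁, hz₀₁]
    · exact hδ
  rw [← hz₂, hzz₀, hz₀₂]

theorem rel_injective [Module.Finite Λ k] {F G : Art Λ k ⥤ Type v} (hF : RS F) (hG : RS G)
    (q : G ⟶ F) (hq : Function.Injective (q.app (dual Λ k))) {B A : Art Λ k} (μ : B ⟶ A)
    (hμ : Function.Surjective μ)
    (g₁ g₂ : G.obj B) (h₁ : G.map μ g₁ = G.map μ g₂) (h₂ : q.app B g₁ = q.app B g₂) : g₁ = g₂ := by
  refine surjective_induction (Λ := Λ) (k := k)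
    (fun A B μ => ∀ g₁ g₂ : G.obj B, G.map μ g₁ = G.map μ g₂ → q.app B g₁ = q.app B g₂ → g₁ = g₂)
    ?_ ?_ ?_ μ hμ g₁ g₂ h₁ h₂
  · intro A B e he g₁ g₂ h₁ _
    exact map_injective_of_isIso G e h₁
  · intro A B μ hμ g₁ g₂ h₁ h₂
    exact rel_injective_small hF hG q hq μ hμ g₁ g₂ h₁ h₂
  · intro A B C p r hp hr g₁ g₂ h₁ h₂
    apply hp g₁ g₂ _ h₂
    apply hr
    · rw [← map_comp_apply, ← map_comp_apply, h₁]
    · rw [NatTrans.naturality_apply q p g₁, NatTrans.naturality_apply q p g₂, h₂]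

section
open CategoryTheory.Limits

/-- the comparison of fibre products over `G` and over `F` is smooth when `G ⟶ F` is injective on tangent
spaces -/
theorem isSmooth_pullback_map [Module.Finite Λ k] {F G H₁ H₂ : Art Λ k ⥤ Type v} (p₁ : H₁ ⟶ G) (p₂ : H₂ ⟶ G)
    (q : G ⟶ F) (hF : RS F) (hG : RS G) (hq : Function.Injective (q.app (dual Λ k))) :
    IsSmooth (pullback.map p₁ p₂ (p₁ ≫ q) (p₂ ≫ q) (𝟙 H₁) (𝟙 H₂) q
      (Category.id_comp _).symm (Category.id_comp _).symm) := by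
  set Φ := pullback.map p₁ p₂ (p₁ ≫ q) (p₂ ≫ q) (𝟙 H₁) (𝟙 H₂) q
      (Category.id_comp _).symm (Category.id_comp _).symm with hΦ
  have hΦ₁ : Φ ≫ pullback.fst (p₁ ≫ q) (p₂ ≫ q) = pullback.fst p₁ p₂ := by
    rw [hΦ, pullback.map, pullback.lift_fst, Category.comp_id]
  have hΦ₂ : Φ ≫ pullback.snd (p₁ ≫ q) (p₂ ≫ q) = pullback.snd p₁ p₂ := by
    rw [hΦ, pullback.map, pullback.lift_snd, Category.comp_id]
  have eΦ₁ : ∀ (A : Art Λ k) (w : (pullback p₁ p₂).obj A),
      (pullback.fst (p₁ ≫ q) (p₂ ≫ q)).app A (Φ.app A w) = (pullback.fst p₁ p₂).app A w := by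
    intro A w
    have := congrArg (fun t => t.app A w) hΦ₁
    exact this
  have eΦ₂ : ∀ (A : Art Λ k) (w : (pullback p₁ p₂).obj A),
      (pullback.snd (p₁ ≫ q) (p₂ ≫ q)).app A (Φ.app A w) = (pullback.snd p₁ p₂).app A w := by
    intro A w
    have := congrArg (fun t => t.app A w) hΦ₂
    exact this
  intro B A μ hμ
  rw [relCmp_surjective_iff]
  intro z w' hzw'
  set k₁ := (pullback.fst (p₁ ≫ q) (p₂ ≫ q)).app B w' with hk₁
  set k₂ := (pullback.snd (p₁ ≫ q) (p₂ ≫ q)).app B w' with hk₂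
  have hk : q.app B (p₁.app B k₁) = q.app B (p₂.app B k₂) :=
    pullback_condition_apply (p₁ ≫ q) (p₂ ≫ q) B w'
  have hμ₁ : H₁.map μ k₁ = (pullback.fst p₁ p₂).app A z := by
    rw [hk₁, ← NatTrans.naturality_apply (pullback.fst (p₁ ≫ q) (p₂ ≫ q)) μ w', ← hzw', eΦ₁]
  have hμ₂ : H₂.map μ k₂ = (pullback.snd p₁ p₂).app A z := by
    rw [hk₂, ← NatTrans.naturality_apply (pullback.snd (p₁ ≫ q) (p₂ ≫ q)) μ w', ← hzw', eΦ₂]
  have hg : p₁.app B k₁ = p₂.app B k₂ := by
    apply rel_injective hF hG q hq μ hμ _ _ _ hk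
    rw [← NatTrans.naturality_apply p₁ μ k₁, ← NatTrans.naturality_apply p₂ μ k₂, hμ₁, hμ₂]
    exact pullback_condition_apply p₁ p₂ A z
  obtain ⟨w, hw₁, hw₂⟩ := pullback_exists_apply p₁ p₂ B k₁ k₂ hg
  refine ⟨w, ?_, ?_⟩
  · apply pullback_ext_apply
    · rw [NatTrans.naturality_apply (pullback.fst p₁ p₂) μ w, hw₁, hμ₁]
    · rw [NatTrans.naturality_apply (pullback.snd p₁ p₂) μ w, hw₂, hμ₂]
  · apply pullback_ext_apply
    · rw [eΦ₁, hw₁]
    · rw [eΦ₂, hw₂]

end

end Groth.Agent.H63
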