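import Mathlib
import Groth.Agent.H63.TameDiff

/-!
# Different exponent of an Artin–Schreier extension (helper63)

Universe-polymorphic versions (`K`, `K'` in different universes) of the lemmas of
`Eisenstein`/`DiffExp`, and the computation `d(P|p) = 1 - ord_p f` for `y² + y = f` in
characteristic `2` at a pole of odd order.
-/

set_option autoImplicit false
set_option linter.style.haveILetI false

namespace Groth.Agent.H63.ArtinSchreier
open FunFld LocRes LaurentSeries
open Groth.Agent.H63.TameDiff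

universe u v v' w

section L
variable {F : Type w} [Field F]

/-- derivative of a Laurent series of exact order `n` with `n ≠ 0` in `F` has exact order `n - 1` -/
theorem v_D_int (g : F⸨X⸩) (n : ℤ) (hg : Valued.v g = WithZero.exp (-n))
    (hn : (n : F) ≠ 0) : Valued.v (LocRes.D F g) = WithZero.exp (-(n - 1)) := by
  have hcoef : ∀ m : ℤ, m < n → g.coeff m = 0 :=
    (valuation_le_iff_coeff_lt_eq_zero F).mp hg.le
  have hcn : g.coeff n ≠ 0 := by
    intro h0
    have : Valued.v g ≤ WithZero.exp (-(n + 1)) := by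
      rw [valuation_le_iff_coeff_lt_eq_zero]
      intro m hm
      rcases lt_or_eq_of_le (show m ≤ n by omega) with h | h
      · exact hcoef m h
      · rw [h]; exact h0
    rw [hg, WithZero.exp_le_exp] at this
    omega
  have hle : Valued.v (LocRes.D F g) ≤ WithZero.exp (-(n - 1)) := by
    rw [valuation_le_iff_coeff_lt_eq_zero]
    intro m hm
    rw [LocRes.D_coeff, hcoef (m + 1) (by omega), smul_zero]
  have hnle : ¬ Valued.v (LocRes.D F g) ≤ WithZero.exp (-n) := by
    rw [valuation_le_iff_coeff_lt_eq_zero]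
    intro hall
    have := hall (n - 1) (by omega)
    rw [LocRes.D_coeff, sub_add_cancel, zsmul_eq_mul] at this
    exact (mul_ne_zero hn hcn) this
  have hv0 : Valued.v (LocRes.D F g) ≠ 0 := by
    intro h0
    apply hnle
    rw [h0]
    exact zero_le
  obtain ⟨m, hm⟩ : ∃ m : ℤ, Valued.v (LocRes.D F g) = WithZero.exp m :=
    ⟨WithZero.log (Valued.v (LocRes.D F g)), (WithZero.exp_log hv0).symm⟩
  rw [hm, WithZero.exp_le_exp] at hle hnle
  rw [hm]
  congr 1
  omega

end L

section R
variable {k : Type u} {K : Type v} {K' : Type v'} [Field k] [Field K] [Field K'] [Algebra k K]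
  [Algebra K K'] [Algebra k K']

/-- the value of the `i`-th term -/
theorem term_val (P : Place k K) (Q : Place k K') (e : ℕ) (he : IsOverWith Q P e) (s : K')
    (hs : Q.1 s = WithZero.exp (-1 : ℤ)) (c : K) (hc : c ≠ 0) (i : ℕ) :
    Q.1 (algebraMap K K' c * s ^ i) =
      WithZero.exp ((e : ℤ) * WithZero.log (P.1 c) - i) := by
  have hPc : P.1 c ≠ 0 := (Valuation.ne_zero_iff _).2 hc
  rw [map_mul, map_pow, he c, hs, ← WithZero.exp_nsmul, ← WithZero.exp_log hPc, ← WithZero.exp_nsmul,
    ← WithZero.exp_add, WithZero.log_exp]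
  congr 1
  simp only [nsmul_eq_mul]
  ring

/-- **Distinct orders**: the valuation of `∑_{i<e} c_i s^i` is the largest of the valuations of its
terms. -/
theorem exists_max_term (P : Place k K) (Q : Place k K') (e : ℕ) (he : IsOverWith Q P e) (s : K')
    (hs : Q.1 s = WithZero.exp (-1 : ℤ)) (c : ℕ → K) (hc : ∃ i < e, c i ≠ 0) :
    ∃ j < e, c j ≠ 0 ∧
      Q.1 (∑ i ∈ Finset.range e, algebraMap K K' (c i) * s ^ i) = Q.1 (algebraMap K K' (c j) * s ^ j) ∧
      ∀ i < e, Q.1 (algebraMap K K' (c i) * s ^ i) ≤ Q.1 (algebraMap K K' (c j) * s ^ j) := by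
  classical
  obtain ⟨i0, hi0, hci0⟩ := hc
  have hne : ((Finset.range e).filter (fun i => c i ≠ 0)).Nonempty :=
    ⟨i0, Finset.mem_filter.2 ⟨Finset.mem_range.2 hi0, hci0⟩⟩
  obtain ⟨j, hj, hmax⟩ := Finset.exists_max_image _
    (fun i => Q.1 (algebraMap K K' (c i) * s ^ i)) hne
  rw [Finset.mem_filter, Finset.mem_range] at hj
  have hle : ∀ i < e, Q.1 (algebraMap K K' (c i) * s ^ i) ≤ Q.1 (algebraMap K K' (c j) * s ^ j) := by
    intro i hi
    by_cases hci : c i = 0
    · rw [hci, map_zero, zero_mul, map_zero]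
      exact zero_le
    · exact hmax i (Finset.mem_filter.2 ⟨Finset.mem_range.2 hi, hci⟩)
  refine ⟨j, hj.1, hj.2, ?_, hle⟩
  apply Valuation.map_sum_eq_of_lt _ (Finset.mem_range.2 hj.1)
  intro i hi
  rw [Finset.mem_sdiff, Finset.mem_range, Finset.mem_singleton] at hi
  have hjv := term_val P Q e he s hs (c j) hj.2 j
  by_cases hci : c i = 0
  · rw [hci, map_zero, zero_mul, map_zero, hjv]
    exact WithZero.exp_pos
  · refine lt_of_le_of_ne (hle i hi.1) ?_
    rw [hjv, term_val P Q e he s hs (c i) hci i]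
    intro heq
    have h1 := WithZero.exp_injective heq
    have hdvd : (e : ℤ) ∣ (i : ℤ) - j :=
      ⟨WithZero.log (P.1 (c i)) - WithZero.log (P.1 (c j)), by linarith⟩
    have habs : |(i : ℤ) - j| < e := by
      rw [abs_lt]
      constructor <;> omega
    have := Int.eq_zero_of_abs_lt_dvd hdvd habs
    apply hi.2
    omega


theorem ramIdx_ne_zero (P : Place k K) (Q : Place k K') (e : ℕ) (he : IsOverWith Q P e) : e ≠ 0 := by
  rintro rfl
  have := he 0
  rw [map_zero, map_zero, map_zero, pow_zero] at this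
  exact zero_ne_one this

/-- powers of a uniformizer below the ramification index are linearly independent -/
theorem linearIndependent_pow (P : Place k K) (Q : Place k K') (e : ℕ) (he : IsOverWith Q P e)
    (s : K') (hs : Q.1 s = WithZero.exp (-1 : ℤ)) :
    LinearIndependent K (fun i : Fin e => s ^ (i : ℕ)) := by
  rw [Fintype.linearIndependent_iff]
  intro c hc
  by_contra hne
  push Not at hne
  obtain ⟨i0, hi0⟩ := hne
  let c' : ℕ → K := fun i => if h : i < e then c ⟨i, h⟩ else 0
  have hsum : ∑ i ∈ Finset.range e, algebraMap K K' (c' i) * s ^ i = 0 := by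
    rw [← hc, ← Fin.sum_univ_eq_sum_range (fun i => algebraMap K K' (c' i) * s ^ i) e]
    refine Finset.sum_congr rfl (fun i _ => ?_)
    simp only [c', dif_pos i.2, Fin.eta, Algebra.smul_def]
  obtain ⟨j, hj, hcj, hval, -⟩ := exists_max_term P Q e he s hs c'
    ⟨i0, i0.2, by simp only [c', dif_pos i0.2, Fin.eta]; exact hi0⟩
  rw [hsum, map_zero, term_val P Q e he s hs _ hcj j] at hval
  exact WithZero.exp_ne_zero hval.symm

theorem ramIdx_le_finrank [FiniteDimensional K K'] (P : Place k K) (Q : Place k K') (e : ℕ)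
    (he : IsOverWith Q P e) : e ≤ Module.finrank K K' := by
  obtain ⟨s, hs⟩ := Q.2.2 (WithZero.exp (-1 : ℤ))
  have := (linearIndependent_pow P Q e he s hs).fintype_card_le_finrank
  rwa [Fintype.card_fin] at this


end R

section M
variable {k : Type u} {K : Type v} {K' : Type v'} [Field k] [Field K] [Field K'] [Algebra k K]
  [Algebra K K'] [Algebra k K'] [IsScalarTower k K K']

theorem D_algebraMap_eq {x x' a : K}
    (h : KaehlerDifferential.D k K x' = a • KaehlerDifferential.D k K x) :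
    KaehlerDifferential.D k K' (algebraMap K K' x') =
      algebraMap K K' a • KaehlerDifferential.D k K' (algebraMap K K' x) := by
  have h1 := congrArg (KaehlerDifferential.map k k K K') h
  rw [map_smul, KaehlerDifferential.map_D, KaehlerDifferential.map_D] at h1
  rw [h1, algebraMap_smul]


variable {F F' : Type w} [Field F] [Algebra k F] [Field F'] [Algebra k F']

/-- the different exponent does not depend on the differential used -/
theorem diffExp_eq_of_D_eq (P : Place k K) (Q : Place k K') (e : ℕ) (he : IsOverWith Q P e)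
    (φ : K →ₐ[k] LaurentSeries F) (hφ : LocRes.IsExpansionAt P.1 φ)
    (ψ : K' →ₐ[k] LaurentSeries F') (hψ : LocRes.IsExpansionAt Q.1 ψ)
    {x x' a : K} (h : KaehlerDifferential.D k K x' = a • KaehlerDifferential.D k K x)
    (hx : LocRes.vDiff φ 1 x ≠ 0) (hx' : LocRes.vDiff ψ 1 (algebraMap K K' x) ≠ 0)
    (hx2 : LocRes.vDiff φ 1 x' ≠ 0) (hx2' : LocRes.vDiff ψ 1 (algebraMap K K' x') ≠ 0) :
    LocRes.diffExp φ ψ e x = LocRes.diffExp φ ψ e x' := by
  unfold LocRes.diffExp
  rw [Groth.Agent.H63.DiffExp.ordDiff_eq_add φ P.1 hφ.1 h hx hx2,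
    Groth.Agent.H63.DiffExp.ordDiff_eq_add ψ Q.1 hψ.1 (D_algebraMap_eq h) hx' hx2', he a, WithZero.log_pow]
  simp only [nsmul_eq_mul]
  ring

/-- `diffExp_param` with the one-dimensionality of differentials as a hypothesis -/
theorem diffExp_param_of (P : Place k K) (Q : Place k K') (e : ℕ) (he : IsOverWith Q P e)
    (φ : K →ₐ[k] LaurentSeries F) (hφ : LocRes.IsExpansionAt P.1 φ)
    (ψ : K' →ₐ[k] LaurentSeries F') (hψ : LocRes.IsExpansionAt Q.1 ψ)
    (x : K) (hΩ : ∀ z : K, ∃ a : K, KaehlerDifferential.D k K z = a • KaehlerDifferential.D k K x)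
    (hx : LocRes.vDiff φ 1 x ≠ 0) (hx' : LocRes.vDiff ψ 1 (algebraMap K K' x) ≠ 0) :
    ∃ t : K, P.1 t = WithZero.exp (-1 : ℤ) ∧ LocRes.vDiff ψ 1 (algebraMap K K' t) ≠ 0 ∧
      LocRes.diffExp φ ψ e x = LocRes.ordDiff ψ 1 (algebraMap K K' t) ∧
      Valued.v (LocRes.D F (φ t)) = 1 := by
  obtain ⟨t, ht⟩ := hφ.2.2
  have hvt : Valued.v (φ t) = WithZero.exp (-((1 : ℕ) : ℤ)) := by rw [hφ.1, ht]; rfl
  have hDt : Valued.v (LocRes.D F (φ t)) = 1 := by
    have := v_D_tame (φ t) 1 hvt (by simp)
    simpa using this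
  have hvt1 : LocRes.vDiff φ 1 t ≠ 0 := by
    rw [Groth.Agent.H63.DiffExp.vDiff_one, hDt]; exact one_ne_zero
  obtain ⟨a, ha⟩ := hΩ t
  have ha0 : a ≠ 0 := by
    rintro rfl
    apply hvt1
    rw [Groth.Agent.H63.DiffExp.vDiff_one,
      Groth.Agent.H63.KaehlerFF.D_map_eq_of_D_eq φ ha, map_zero, zero_mul, map_zero]
  have hvt2 : LocRes.vDiff ψ 1 (algebraMap K K' t) ≠ 0 := by
    rw [Groth.Agent.H63.DiffExp.vDiff_one] at hx' ⊢
    rw [Groth.Agent.H63.KaehlerFF.D_map_eq_of_D_eq ψ (D_algebraMap_eq ha),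
      map_mul]
    refine mul_ne_zero ?_ hx'
    rw [hψ.1, he a]
    exact pow_ne_zero _ ((Valuation.ne_zero_iff _).2 ha0)
  refine ⟨t, ht, hvt2, ?_, hDt⟩
  rw [diffExp_eq_of_D_eq P Q e he φ hφ ψ hψ ha hx hx' hvt1 hvt2]
  unfold LocRes.diffExp
  have : LocRes.ordDiff φ 1 t = 0 := by
    unfold LocRes.ordDiff
    rw [Groth.Agent.H63.DiffExp.vDiff_one, hDt]
    simp
  rw [this, mul_zero, sub_zero]

theorem intCast_ne_zero_of_odd (h2 : ringChar k = 2) {n : ℤ} (hn : Odd n) : ((n : ℤ) : F) ≠ 0 := by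
  haveI : CharP k 2 := ringChar.of_eq h2
  haveI : CharP F 2 := charP_of_injective_algebraMap (algebraMap k F).injective 2
  intro h0
  have := (CharP.intCast_eq_zero_iff F 2 n).1 h0
  rw [← Int.not_even_iff_odd] at hn
  exact hn (even_iff_two_dvd.2 (by exact_mod_cast this))

/-- the different exponent of an Artin–Schreier extension at a pole of odd order -/
theorem artin_schreier_diffExp [PerfectField k] (hK : IsFunctionField k K)
    (hdeg : Module.finrank K K' = 2) (h2 : ringChar k = 2)
    (y : K') (f : K) (heq : y ^ 2 + y = algebraMap K K' f)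
    (p : Place k K) (hp : 1 < p.1 f) (hodd : Odd (p.ord f))
    (P : Place k K') (e : ℕ) (he : IsOverWith P p e)
    (φ : K →ₐ[k] LaurentSeries F) (hφ : LocRes.IsExpansionAt p.1 φ)
    (ψ : K' →ₐ[k] LaurentSeries F') (hψ : LocRes.IsExpansionAt P.1 ψ)
    (z : K) (hz : LocRes.vDiff φ 1 z ≠ 0) (hz' : LocRes.vDiff ψ 1 (algebraMap K K' z) ≠ 0) :
    LocRes.diffExp φ ψ e z = 1 - p.ord f := by
  haveI : FiniteDimensional K K' := Module.finite_of_finrank_pos (by rw [hdeg]; norm_num)
  have hdz : KaehlerDifferential.D k K z ≠ 0 := by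
    intro h0
    apply hz
    rw [Groth.Agent.H63.DiffExp.vDiff_one]
    have := Groth.Agent.H63.KaehlerFF.D_map_eq_of_D_eq φ (x := z) (z := z) (a := 0)
      (by rw [h0, zero_smul])
    rw [this, map_zero, zero_mul, map_zero]
  obtain ⟨t, ht, hvt2, hd, hDt⟩ := diffExp_param_of p P e he φ hφ ψ hψ z
    (fun w => Groth.Agent.H63.KaehlerFF.exists_smul_D_eq hK hdz _) hz hz'
  have hdt : KaehlerDifferential.D k K t ≠ 0 := by
    intro h0'
    have := Groth.Agent.H63.KaehlerFF.D_map_eq_of_D_eq φ (x := t) (z := t) (a := 0)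
      (by rw [h0', zero_smul])
    rw [this, map_zero, zero_mul, map_zero] at hDt
    exact zero_ne_one hDt
  -- the pole order
  have hf0 : f ≠ 0 := by
    rintro rfl
    rw [map_zero] at hp
    exact absurd hp (by simp)
  have hpf0 : p.1 f ≠ 0 := (Valuation.ne_zero_iff _).2 hf0
  set m : ℤ := WithZero.log (p.1 f) with hm
  have hpf : p.1 f = WithZero.exp m := (WithZero.exp_log hpf0).symm
  have hord : p.ord f = -m := rfl
  have hmodd : Odd m := by
    rw [hord] at hodd
    exact Odd.neg hodd |>.imp (fun _ h => by simpa using h)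
  have hmpos : 0 < m := by
    rw [hpf, ← WithZero.exp_zero, WithZero.exp_lt_exp] at hp
    exact hp
  have he0 : e ≠ 0 := ramIdx_ne_zero p P e he
  -- valuation of y
  have hPf : P.1 (algebraMap K K' f) = WithZero.exp ((e : ℤ) * m) := by
    rw [he f, hpf, ← WithZero.exp_nsmul]
    simp
  have hy1 : 1 < P.1 y := by
    by_contra hle
    rw [not_lt] at hle
    have h1 : P.1 (y ^ 2 + y) ≤ 1 :=
      Valuation.map_add_le _ (by rw [map_pow]; exact pow_le_one' hle 2) hle
    rw [heq, hPf, ← WithZero.exp_zero, WithZero.exp_le_exp] at h1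
    have : 0 < (e : ℤ) * m := mul_pos (by exact_mod_cast Nat.pos_of_ne_zero he0) hmpos
    omega
  have hy0 : y ≠ 0 := by
    rintro rfl
    rw [map_zero] at hy1
    exact absurd hy1 (by simp)
  have hPy0 : P.1 y ≠ 0 := (Valuation.ne_zero_iff _).2 hy0
  set n : ℤ := WithZero.log (P.1 y) with hn
  have hPy : P.1 y = WithZero.exp n := (WithZero.exp_log hPy0).symm
  have hnpos : 0 < n := by
    rw [hPy, ← WithZero.exp_zero, WithZero.exp_lt_exp] at hy1
    exact hy1
  have hy2 : P.1 (y ^ 2 + y) = P.1 y ^ 2 := by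
    rw [← map_pow]
    apply Valuation.map_add_eq_of_lt_left
    rw [map_pow, hPy, ← WithZero.exp_nsmul, WithZero.exp_lt_exp]
    simp only [nsmul_eq_mul]
    push_cast
    omega
  have hrel : 2 * n = (e : ℤ) * m := by
    rw [heq, hPf, hPy, ← WithZero.exp_nsmul] at hy2
    have := WithZero.exp_injective hy2
    simp only [nsmul_eq_mul] at this
    push_cast at this
    omega
  -- e = 2
  have hele : e ≤ 2 := by rw [← hdeg]; exact ramIdx_le_finrank p P e he
  have he2 : e = 2 := by
    have heven : Even ((e : ℤ) * m) := ⟨n, by omega⟩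
    rcases Int.even_mul.1 heven with h | h
    · have : Even e := by exact_mod_cast h
      obtain ⟨r, hr⟩ := this
      omega
    · exact absurd h (Int.not_even_iff_odd.2 hmodd)
  subst he2
  have hnm : n = m := by push_cast at hrel; omega
  -- below: the derivative of f
  obtain ⟨a, ha⟩ := Groth.Agent.H63.KaehlerFF.exists_smul_D_eq hK hdt (KaehlerDifferential.D k K f)
  have hφf : Valued.v (φ f) = WithZero.exp (-(-m)) := by rw [hφ.1, hpf, neg_neg]
  have hDf := v_D_int (φ f) (-m) hφf (intCast_ne_zero_of_odd (k := k) h2 hmodd.neg)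
  rw [Groth.Agent.H63.KaehlerFF.D_map_eq_of_D_eq φ ha, map_mul, hDt, mul_one, hφ.1] at hDf
  -- above: dy = df
  have h2K : (2 : K') = 0 := by
    haveI : CharP k 2 := ringChar.of_eq h2
    haveI : CharP K' 2 := charP_of_injective_algebraMap (algebraMap k K').injective 2
    exact_mod_cast CharP.cast_eq_zero K' 2
  have hDy : KaehlerDifferential.D k K' y =
      algebraMap K K' a • KaehlerDifferential.D k K' (algebraMap K K' t) := by
    rw [← D_algebraMap_eq ha, ← heq, map_add, Derivation.leibniz_pow]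
    have : (2 : ℕ) • y ^ (2 - 1) • KaehlerDifferential.D k K' y = 0 := by
      rw [← Nat.cast_smul_eq_nsmul K', Nat.cast_ofNat, h2K, zero_smul]
    rw [this, zero_add]
  have hψy : Valued.v (ψ y) = WithZero.exp (-(-m)) := by rw [hψ.1, hPy, hnm, neg_neg]
  have hDψy := v_D_int (ψ y) (-m) hψy (intCast_ne_zero_of_odd (k := k) h2 hmodd.neg)
  rw [Groth.Agent.H63.KaehlerFF.D_map_eq_of_D_eq ψ hDy, map_mul, hψ.1, he a, hDf] at hDψy
  -- conclude
  rw [hd]
  unfold LocRes.ordDiff
  rw [Groth.Agent.H63.DiffExp.vDiff_one] at hvt2 ⊢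
  have hlog := congrArg WithZero.log hDψy
  rw [WithZero.log_mul (pow_ne_zero _ WithZero.exp_ne_zero) hvt2, WithZero.log_pow,
    WithZero.log_exp] at hlog
  rw [hord]
  simp only [nsmul_eq_mul] at hlog
  push_cast at hlog
  omega


end M

end Groth.Agent.H63.ArtinSchreier
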