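import Mathlib
import Groth.Agent.H63.C1T

set_option autoImplicit false
set_option linter.style.haveILetI false
set_option linter.unusedSectionVars false
set_option linter.unusedVariables false
universe u
open CategoryTheory CategoryTheory.Limits AlgebraicGeometry TopologicalSpace Opposite Order

namespace Groth.Agent.H63.C1

open Groth.Agent.H8 Groth.Agent.H18 Groth.Agent.H54.PB Groth.Agent.H54.SecOrd
  Groth.Agent.H54.SecOrdGen Groth.Agent.H54.C1Cap Groth.Agent.H54.C1Struct

variable {D X : Scheme.{u}} (i : D ⟶ X) [IsClosedImmersion i]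

/-- the pushforward of a cycle along a closed immersion, at a point of the image. -/
theorem map_closedImmersion_apply (δ : X → ℤ) (α : AlgebraicCycle D ℤ) (d : D) :
    (AlgebraicCycle.map i (fun d : D => δ (i d)) δ α) (i d) = α d := by
  simp only [AlgebraicCycle.map, Function.locallyFinsupp.map_apply]
  have hpre : (i : D → X) ⁻¹' {i d} = {d} := by
    ext d'
    simp only [Set.mem_preimage, Set.mem_singleton_iff]
    exact ⟨fun h => i.isEmbedding.injective h, fun h => by rw [h]⟩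
  rw [hpre, finsum_mem_singleton]
  unfold AlgebraicCycle.mapCoeff
  rw [if_pos rfl, Groth.Agent.H48.ClosedDim.residueDegree_eq_one i d]
  simp

theorem map_closedImmersion_apply_of_notMem (δ : X → ℤ) (α : AlgebraicCycle D ℤ) (x : X)
    (hx : x ∉ Set.range i) :
    (AlgebraicCycle.map i (fun d : D => δ (i d)) δ α) x = 0 := by
  simp only [AlgebraicCycle.map, Function.locallyFinsupp.map_apply]
  have hpre : (i : D → X) ⁻¹' {x} = ∅ := by
    apply Set.eq_empty_of_forall_notMem
    intro d' hd'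
    exact hx ⟨d', hd'⟩
  rw [hpre, finsum_mem_empty]

/-- the transfer identity for the pulled back family. -/
theorem pullFam_spec (δ : X → ℤ) (L : X.Modules) (hL : PicF.IsInvertible L)
    (w : (ξ : X) → Cyc.secFibre L ξ) (hw : ∀ ξ, w ξ ≠ 0) (d d'' : D) :
    Cyc.secDivFun δ L (i d) (w (i d)) (i d'') =
      Cyc.secDivFun (X := D) (fun d : D => δ (i d)) ((Scheme.Modules.pullback i).obj L) d
        (pullFam i L w d) d'' := by
  have h1 := secDivFun_pull i L δ hL d d'' (rep w (i d)) (by rw [mk_rep]; exact hw (i d))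
  rw [mk_rep] at h1
  exact h1.symm

/-- **`i^* i_* α ∼ c₁(i^*L) ∩ α` on `D`.** -/
theorem gysin_push (δ : X → ℤ) (hX : Cyc.IsSetup X δ) (L : X.Modules)
    (hL : PicF.IsInvertible L) (s : L.presheaf.obj (Opposite.op ⊤))
    (hD : Cyc.IsZeroSchemeOf i L s) (k : ℤ) (α : AlgebraicCycle D ℤ)
    (hα : α ∈ Cyc.Zk D (fun d => δ (i d)) k) (w : (ξ : X) → Cyc.secFibre L ξ)
    (hw : ∀ ξ, w ξ ≠ 0) (t : (d : D) → Cyc.secFibre ((Scheme.Modules.pullback i).obj L) d)
    (ht : ∀ d, t d ≠ 0) (ζ₁ ζ₂ : AlgebraicCycle D ℤ)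
    (h₁ : ∀ d, ζ₁ d = Cyc.c1CapFun δ L
      ⇑(AlgebraicCycle.map i (fun d => δ (i d)) δ α) (Cyc.gysinChoice L s w) (i d))
    (h₂ : ⇑ζ₂ = Cyc.c1CapFun (fun d => δ (i d)) ((Scheme.Modules.pullback i).obj L) ⇑α t) :
    Cyc.RatEquiv (fun d => δ (i d)) (k - 1) ζ₁ ζ₂ := by
  have hL' := PicLoc.isInvertible_pullback i hL
  have hZ : ∀ x : X, x ∈ Set.range i ↔
      (Submodule.Quotient.mk ((L.presheaf.germ ⊤ x trivial) s) : Cyc.secFibre L x) = 0 := by
    intro x
    rw [hD.1]
    rfl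
  have hα' : α ∈ Cyc.Zk D (fun d => δ (i d)) (k - 1 + 1) := by
    rw [sub_add_cancel]
    exact hα
  refine Groth.Agent.H54.C1Indep.ratEquiv_of_sections (fun d => δ (i d))
    ((Scheme.Modules.pullback i).obj L) hL' (k - 1) α hα' (pullFam i L w) (pullFam_ne_zero i L hL w hw)
    t ht ζ₁ ζ₂ ?_ h₂
  funext d
  rw [h₁ d]
  have hβ : ∀ x, x ∉ Set.range i →
      (AlgebraicCycle.map i (fun d => δ (i d)) δ α) x = 0 :=
    fun x hx => map_closedImmersion_apply_of_notMem i δ α x hx
  have hstep : Cyc.c1CapFun δ L ⇑(AlgebraicCycle.map i (fun d => δ (i d)) δ α)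
      (Cyc.gysinChoice L s w) (i d) =
      Cyc.c1CapFun δ L ⇑(AlgebraicCycle.map i (fun d => δ (i d)) δ α) w (i d) := by
    unfold Cyc.c1CapFun
    refine finsum_congr fun ξ => ?_
    by_cases hξ : ξ ∈ Set.range i
    · have h0 := (hZ ξ).mp hξ
      have : Cyc.gysinChoice L s w ξ = w ξ := by
        unfold Cyc.gysinChoice
        rw [if_neg (not_not.mpr h0)]
      rw [this]
    · rw [hβ ξ hξ, zero_mul, zero_mul]
  rw [hstep, c1CapFun_pull_gen i δ L _ hβ w (pullFam i L w) (pullFam_spec i δ L hL w hw) d]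
  congr 1
  funext d'
  exact map_closedImmersion_apply i δ α d'

end Groth.Agent.H63.C1
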