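import Mathlib
import Groth.Agent.H63.C1U

set_option autoImplicit false
set_option linter.style.haveILetI false
set_option linter.unusedSectionVars false
set_option linter.unusedVariables false
universe u
open CategoryTheory CategoryTheory.Limits AlgebraicGeometry TopologicalSpace Opposite Order

namespace Groth.Agent.H63.C1

open Groth.Agent.H8 Groth.Agent.H18 Groth.Agent.H54.PB Groth.Agent.H54.SecOrd
  Groth.Agent.H54.SecOrdGen Groth.Agent.H54.C1Cap Groth.Agent.H54.C1Struct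

section Pt

variable {X : Scheme.{u}}

/-- iterated caps as sums over the points of the cycle. -/
theorem c1CapFun_c1CapFun (δ : X → ℤ) [IsLocallyNoetherian X] (hδ : Cyc.IsDimFun X δ)
    (α : AlgebraicCycle X ℤ) (L N : X.Modules) (hN : PicF.IsInvertible N)
    (sL : (ξ : X) → Cyc.secFibre L ξ) (sN : (ξ : X) → Cyc.secFibre N ξ)
    (hsN : ∀ ξ, sN ξ ≠ 0) (x : X) :
    Cyc.c1CapFun δ L (Cyc.c1CapFun δ N ⇑α sN) sL x =
      ∑ᶠ ξ : X, α ξ * Cyc.c1CapFun δ L (Cyc.secDivFun δ N ξ (sN ξ)) sL x := by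
  have hfin : {p : X × X | α p.1 * Cyc.secDivFun δ N p.1 (sN p.1) p.2 ≠ 0 ∧
      p.2 ⤳ x}.Finite := by
    have hF := finite_gen_support α x
    have hS := fun ξ : X => finite_secDivFun_support δ hδ N hN ξ (sN ξ) (hsN ξ) x
    refine (hF.biUnion fun ξ _ => (hS ξ).image (Prod.mk ξ)).subset ?_
    rintro ⟨ξ, ξ'⟩ ⟨hne, hsp⟩
    have h1 : α ξ ≠ 0 := left_ne_zero_of_mul hne
    have h2 : Cyc.secDivFun δ N ξ (sN ξ) ξ' ≠ 0 := right_ne_zero_of_mul hne
    have h3 : ξ ⤳ x := (secDivFun_ne_zero_specializes h2).trans hsp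
    exact Set.mem_biUnion (show ξ ∈ {ξ | α ξ ≠ 0 ∧ ξ ⤳ x} from ⟨h1, h3⟩)
      ⟨ξ', ⟨hsp, h2⟩, rfl⟩
  have h0 := c1CapFun_finsum δ L (fun ξ ξ' => α ξ * Cyc.secDivFun δ N ξ (sN ξ) ξ') sL x hfin
  have h0' : Cyc.c1CapFun δ L (Cyc.c1CapFun δ N ⇑α sN) sL x =
      Cyc.c1CapFun δ L (fun ξ' => ∑ᶠ ξ, α ξ * Cyc.secDivFun δ N ξ (sN ξ) ξ') sL x := rfl
  rw [h0', h0]
  exact finsum_congr fun ξ => c1CapFun_mul_left δ L (α ξ) _ sL x

theorem finite_support_cap (δ : X → ℤ) (α : AlgebraicCycle X ℤ) (L N : X.Modules)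
    (sL : (ξ : X) → Cyc.secFibre L ξ) (sN : (ξ : X) → Cyc.secFibre N ξ) (x : X) :
    (Function.support fun ξ : X =>
      α ξ * Cyc.c1CapFun δ L (Cyc.secDivFun δ N ξ (sN ξ)) sL x).Finite := by
  refine (finite_gen_support α x).subset ?_
  intro ξ hξ
  have h1 : α ξ ≠ 0 := left_ne_zero_of_mul hξ
  have h2 := right_ne_zero_of_mul hξ
  obtain ⟨ξ', hb, hsp⟩ := c1CapFun_ne_zero_exists h2
  exact ⟨h1, (secDivFun_ne_zero_specializes hb).trans hsp⟩

/-- the divisor of the Gysin section is supported on `Z(s)`. -/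
theorem secDivFun_gysinChoice_eq_zero (δ : X → ℤ) (L : X.Modules) (hL : PicF.IsInvertible L)
    (s : L.presheaf.obj (Opposite.op ⊤)) (Z : Set X) (hZc : IsClosed Z)
    (hZ : ∀ x : X, x ∈ Z ↔
      (Submodule.Quotient.mk ((L.presheaf.germ ⊤ x trivial) s) : Cyc.secFibre L x) = 0)
    (w : (ξ : X) → Cyc.secFibre L ξ) (ξ x : X) (hx : x ∉ Z) :
    Cyc.secDivFun δ L ξ (Cyc.gysinChoice L s w ξ) x = 0 := by
  unfold Cyc.secDivFun
  split_ifs with h
  · have hξZ : ξ ∉ Z := fun hξ => hx (h.1.mem_closed hZc hξ)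
    have hne : (Submodule.Quotient.mk ((L.presheaf.germ ⊤ ξ trivial) s) :
        Cyc.secFibre L ξ) ≠ 0 := fun h0 => hξZ ((hZ ξ).mpr h0)
    have hv : Cyc.gysinChoice L s w ξ =
        Submodule.Quotient.mk ((L.presheaf.germ ⊤ ξ trivial) s) := by
      unfold Cyc.gysinChoice
      rw [if_pos hne]
    rw [hv]
    obtain ⟨U, hxU, σ, hσ⟩ := exists_isFreeGen_of_isInvertible hL x
    obtain ⟨a, ha⟩ := (hσ.germ_bijective hxU).2 ((L.presheaf.germ ⊤ x trivial) s)
    have ha' : a • L.presheaf.germ U x hxU σ = (L.presheaf.germ ⊤ x trivial) s := ha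
    have hane : a ∉ IsLocalRing.maximalIdeal (X.presheaf.stalk x) := by
      intro hmem
      apply hx
      rw [hZ x, ← ha']
      exact (mk_smul_eq_zero_iff L x _ (hσ.germ_bijective hxU) a).mpr hmem
    have hunit : IsUnit a := by
      by_contra hnu
      exact hane ((IsLocalRing.mem_maximalIdeal _).mpr hnu)
    have hξU : ξ ∈ U := h.1.mem_open U.2 hxU
    have hgermξ : (L.presheaf.germ ⊤ ξ trivial) s =
        (X.presheaf.stalkSpecializes h.1).hom a • L.presheaf.germ U ξ hξU σ := by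
      have e1 : (L.presheaf.stalkSpecializes h.1) ((L.presheaf.germ ⊤ x trivial) s) =
          (L.presheaf.germ ⊤ ξ trivial) s :=
        TopCat.Presheaf.germ_stalkSpecializes_apply _ _ _ _
      have e2 : (L.presheaf.stalkSpecializes h.1) (L.presheaf.germ U x hxU σ) =
          L.presheaf.germ U ξ hξU σ :=
        TopCat.Presheaf.germ_stalkSpecializes_apply _ _ _ _
      rw [← e1, ← ha', stalkSpecializes_smul, e2]
    have haξ : (X.presheaf.stalkSpecializes h.1).hom a ∉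
        IsLocalRing.maximalIdeal (X.presheaf.stalk ξ) := fun hmem =>
      (IsLocalRing.mem_maximalIdeal _).mp hmem (hunit.map _)
    rw [Groth.Agent.H54.C1Indep.secOrdAt_chart L hσ h.1 hxU _ haξ _ hgermξ]
    exact ordAt_specMap_of_isUnit x ξ h.1 a hunit
  · rfl

/-- commutativity on the closure of a point with the Gysin sections of `(L, s)`: the rational
equivalence is supported on `Z(s)`. -/
theorem gysin_comm_pt (δ : X → ℤ) [IsLocallyNoetherian X] (hδ : Cyc.IsDimFun X δ)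
    (L N : X.Modules) (hL : PicF.IsInvertible L) (hN : PicF.IsInvertible N)
    (s : L.presheaf.obj (Opposite.op ⊤)) (Z : Set X) (hZc : IsClosed Z)
    (hZ : ∀ x : X, x ∈ Z ↔
      (Submodule.Quotient.mk ((L.presheaf.germ ⊤ x trivial) s) : Cyc.secFibre L x) = 0)
    (ξ : X) (t : Cyc.secFibre N ξ) (ht : t ≠ 0)
    (u : (ξ : X) → Cyc.secFibre N ξ) (hu : ∀ ξ, u ξ ≠ 0)
    (w : (ξ : X) → Cyc.secFibre L ξ) (hw : ∀ ξ, w ξ ≠ 0) :
    RatZeroOn δ (δ ξ - 2) (closure {ξ} ∩ Z)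
      (fun x => Cyc.c1CapFun δ N (Cyc.secDivFun δ L ξ (Cyc.gysinChoice L s w ξ)) u x -
        Cyc.c1CapFun δ L (Cyc.secDivFun δ N ξ t) (Cyc.gysinChoice L s w) x) := by
  have hv := Groth.Agent.H54.C1Indep.gysinChoice_ne_zero L s w hw
  by_cases hξZ : ξ ∈ Z
  · refine (c1_comm_pt δ hδ L N hL hN ξ _ (hv ξ) t ht u hu _ hv).mono ?_
    intro y hy
    exact ⟨hy, hZc.closure_subset_iff.mpr (Set.singleton_subset_iff.mpr hξZ) hy⟩
  · obtain ⟨W, j, hj, hW, hη, hr⟩ := exists_closure_subscheme ξ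
    subst hη
    haveI : IsLocallyNoetherian W := LocallyOfFiniteType.isLocallyNoetherian j
    have hδ' := Groth.Agent.H48.ClosedDim.isDimFun_comp j δ hδ
    have hL' := PicLoc.isInvertible_pullback j hL
    have hN' := PicLoc.isInvertible_pullback j hN
    obtain ⟨t0, rfl⟩ := Submodule.Quotient.mk_surjective _ t
    have hgerm : ∀ w' : W, ((Scheme.Modules.pullback j).obj L).presheaf.germ ⊤ w' trivial
        (pullSect j L ⊤ s) = pullStalk j L w' ((L.presheaf.germ ⊤ (j w') trivial) s) :=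
      fun w' => (pullStalk_germ j L w' ⊤ trivial s).symm
    have hZ' : ∀ w' : W, w' ∈ (j : W → X) ⁻¹' Z ↔
        (Submodule.Quotient.mk (((Scheme.Modules.pullback j).obj L).presheaf.germ ⊤ w' trivial
          (pullSect j L ⊤ s)) : Cyc.secFibre ((Scheme.Modules.pullback j).obj L) w') = 0 := by
      intro w'
      rw [hgerm w', Set.mem_preimage, hZ (j w')]
      constructor
      · exact mk_pullStalk_eq_zero j L hL w' _
      · intro h0
        by_contra hne
        exact mk_pullStalk_ne_zero j L hL w' _ hne h0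
    have hs' : (Submodule.Quotient.mk (((Scheme.Modules.pullback j).obj L).presheaf.germ ⊤
        (genericPoint W) trivial (pullSect j L ⊤ s)) :
        Cyc.secFibre ((Scheme.Modules.pullback j).obj L) (genericPoint W)) ≠ 0 :=
      fun h0 => hξZ ((hZ' _).mpr h0)
    have hsne : (Submodule.Quotient.mk ((L.presheaf.germ ⊤ (j (genericPoint W)) trivial) s) :
        Cyc.secFibre L (j (genericPoint W))) ≠ 0 := fun h0 => hξZ ((hZ _).mpr h0)
    have hvη : Cyc.gysinChoice L s w (j (genericPoint W)) =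
        Submodule.Quotient.mk ((L.presheaf.germ ⊤ (j (genericPoint W)) trivial) s) := by
      unfold Cyc.gysinChoice
      rw [if_pos hsne]
    have hkey := gysin_key (X := W) (fun w' : W => δ (j w')) hδ'
      ((Scheme.Modules.pullback j).obj L) ((Scheme.Modules.pullback j).obj N) hL' hN'
      (pullSect j L ⊤ s) hs' ((j : W → X) ⁻¹' Z)
      (hZc.preimage j.continuous) hZ'
      (Submodule.Quotient.mk (pullStalk j N (genericPoint W) t0))
      (mk_pullStalk_ne_zero j N hN _ t0 ht)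
      (pullFam j N u) (pullFam_ne_zero j N hN u hu) (pullFam j L w)
      (pullFam_ne_zero j L hL w hw)
    have hβ : ∀ x, x ∉ Set.range j →
        Cyc.secDivFun δ N (j (genericPoint W)) (Submodule.Quotient.mk t0) x = 0 :=
      fun x hx => secDivFun_eq_zero_of_notMem_range j N δ _ _ x hx
    have hfun : (fun w' : W => Cyc.secDivFun δ N (j (genericPoint W))
        (Submodule.Quotient.mk t0) (j w')) =
        Cyc.secDivFun (X := W) (fun w' : W => δ (j w')) ((Scheme.Modules.pullback j).obj N)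
          (genericPoint W) (Submodule.Quotient.mk (pullStalk j N (genericPoint W) t0)) := by
      funext w'
      exact (secDivFun_pull j N δ hN _ w' t0 ht).symm
    have hpush := ratZeroOn_push' j δ _ _ _ hkey
      (fun x => Cyc.c1CapFun δ N (Cyc.secDivFun δ L (j (genericPoint W))
          (Cyc.gysinChoice L s w (j (genericPoint W)))) u x -
        Cyc.c1CapFun δ L (Cyc.secDivFun δ N (j (genericPoint W)) (Submodule.Quotient.mk t0))
          (Cyc.gysinChoice L s w) x) ?_ ?_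
    · refine hpush.mono ?_
      rintro _ ⟨w', hw', rfl⟩
      refine ⟨?_, hw'⟩
      rw [← hr]
      exact ⟨w', rfl⟩
    · intro w'
      beta_reduce
      have h1 := c1CapFun_pull j δ L N hL hN (genericPoint W) _ hsne u hu w'
      have h2 := c1CapFun_pull_gen j δ L _ hβ (Cyc.gysinChoice L s w)
        (Cyc.gysinChoice ((Scheme.Modules.pullback j).obj L) (pullSect j L ⊤ s)
          (pullFam j L w)) (gysinChoice_pull j δ L hL s w hw) w'
      rw [hfun] at h2
      rw [hvη, h1, h2, hgerm]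
    · intro x hx
      beta_reduce
      rw [c1CapFun_eq_zero_of_notMem_range j δ L N _ _ u x hx,
        c1CapFun_eq_zero_of_notMem_range j δ N L _ _ _ x hx, sub_zero]

end Pt

/-- **`i^*(c₁(N) ∩ α) ∼ c₁(i^*N) ∩ i^*α` on `D`.** -/
theorem gysin_c1Cap (X D : Scheme.{u}) (δ : X → ℤ) (hX : Cyc.IsSetup X δ) (L N : X.Modules)
    (hL : PicF.IsInvertible L) (hN : PicF.IsInvertible N)
    (s : L.presheaf.obj (Opposite.op ⊤)) (i : D ⟶ X) [IsClosedImmersion i]
    (hD : Cyc.IsZeroSchemeOf i L s) (k : ℤ) (α : AlgebraicCycle X ℤ)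
    (hα : α ∈ Cyc.Zk X δ k) (w : (ξ : X) → Cyc.secFibre L ξ) (hw : ∀ ξ, w ξ ≠ 0)
    (v : (ξ : X) → Cyc.secFibre N ξ) (hv : ∀ ξ, v ξ ≠ 0)
    (t : (d : D) → Cyc.secFibre ((Scheme.Modules.pullback i).obj N) d) (ht : ∀ d, t d ≠ 0)
    (β : AlgebraicCycle X ℤ) (hβ : ⇑β = Cyc.c1CapFun δ N ⇑α v) (γ : D → ℤ)
    (hγ : γ = fun d => Cyc.c1CapFun δ L ⇑α (Cyc.gysinChoice L s w) (i d))
    (ζ₁ ζ₂ : AlgebraicCycle D ℤ)
    (h₁ : ∀ d, ζ₁ d = Cyc.c1CapFun δ L ⇑β (Cyc.gysinChoice L s w) (i d))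
    (h₂ : ⇑ζ₂ = Cyc.c1CapFun (fun d => δ (i d)) ((Scheme.Modules.pullback i).obj N) γ t) :
    Cyc.RatEquiv (fun d => δ (i d)) (k - 2) ζ₁ ζ₂ := by
  classical
  haveI : IsLocallyNoetherian X := hX.1
  have hδ := hX.2.2
  have hZc : IsClosed (Set.range i) := i.isClosedEmbedding.isClosed_range
  have hZ : ∀ x : X, x ∈ Set.range i ↔
      (Submodule.Quotient.mk ((L.presheaf.germ ⊤ x trivial) s) : Cyc.secFibre L x) = 0 := by
    intro x
    rw [hD.1]
    rfl
  set vG := Cyc.gysinChoice L s w with hvGdef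
  have hvG : ∀ ξ, vG ξ ≠ 0 := Groth.Agent.H54.C1Indep.gysinChoice_ne_zero L s w hw
  obtain ⟨u', hu', hQ⟩ := exists_family_lift i N hN δ t ht
  have hdim : ∀ ξ : X, α ξ ≠ 0 → δ ξ = k := by
    intro ξ hξ
    by_contra hne
    exact hξ (hα ξ hne)
  have hg : ∀ a : {ξ : X // α ξ ≠ 0}, RatZeroOn δ (k - 2) (closure {a.1} ∩ Set.range i)
      (fun x => α a.1 * (Cyc.c1CapFun δ N (Cyc.secDivFun δ L a.1 (vG a.1)) u' x -
        Cyc.c1CapFun δ L (Cyc.secDivFun δ N a.1 (v a.1)) vG x)) := by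
    intro a
    have h := gysin_comm_pt δ hδ L N hL hN s (Set.range i) hZc hZ a.1 (v a.1) (hv a.1)
      u' hu' w hw
    rw [hdim a.1 a.2] at h
    exact h.zsmul (α a.1)
  have hlf' : ∀ x : X, ∃ U : Set X, IsOpen U ∧ x ∈ U ∧
      {a : {ξ : X // α ξ ≠ 0} | ((closure {a.1} ∩ Set.range i) ∩ U).Nonempty}.Finite := by
    intro x
    obtain ⟨U, hU, hxU, hfin⟩ := locallyFinite_closure_support α x
    refine ⟨U, hU, hxU, hfin.subset ?_⟩
    rintro a ⟨y, ⟨hy, -⟩, hyU⟩
    exact ⟨y, hy, hyU⟩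
  have hsum := ratZeroOn_sum (δ := δ) (k := k - 2)
    (fun a : {ξ : X // α ξ ≠ 0} => closure {a.1} ∩ Set.range i)
    (fun a => isClosed_closure.inter hZc) hlf' _ hg
  have hX' : RatZeroOn δ (k - 2) (Set.range i)
      (fun x => Cyc.c1CapFun δ N (Cyc.c1CapFun δ L ⇑α vG) u' x -
        Cyc.c1CapFun δ L (Cyc.c1CapFun δ N ⇑α v) vG x) := by
    refine (hsum.mono ?_).congr fun x => ?_
    · intro y hy
      obtain ⟨a, -, hya⟩ := Set.mem_iUnion.mp hy
      exact hya
    · rw [c1CapFun_c1CapFun δ hδ α N L hL u' vG hvG x, c1CapFun_c1CapFun δ hδ α L N hN vG v hv x,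
        ← finsum_sub_distrib (finite_support_cap δ α N L u' vG x)
          (finite_support_cap δ α L N vG v x)]
      rw [finsum_eq_finsum_subtype (fun ξ : X =>
        α ξ * Cyc.c1CapFun δ N (Cyc.secDivFun δ L ξ (vG ξ)) u' x -
          α ξ * Cyc.c1CapFun δ L (Cyc.secDivFun δ N ξ (v ξ)) vG x) (fun ξ => α ξ ≠ 0)]
      · refine finsum_congr fun a => ?_
        ring
      · intro ξ hξ
        have : α ξ = 0 := not_not.mp hξ
        rw [this, zero_mul, zero_mul, sub_zero]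
  have hpull := ratZeroOn_pull i δ (k - 2) _ hX'
  unfold Cyc.RatEquiv
  refine ratEquivZero_of_ratZeroOn (ζ₁ - ζ₂) (hpull.neg.congr fun d => ?_)
  have hcoe : (ζ₁ - ζ₂) d = ζ₁ d - ζ₂ d := rfl
  have hγX : ∀ x, x ∉ Set.range i → Cyc.c1CapFun δ L ⇑α vG x = 0 := by
    intro x hx
    unfold Cyc.c1CapFun
    apply finsum_eq_zero_of_forall_eq_zero
    intro ξ
    rw [secDivFun_gysinChoice_eq_zero δ L hL s (Set.range i) hZc hZ w ξ x hx, mul_zero]
  have hA := c1CapFun_pull_gen i δ N _ hγX u' t hQ d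
  have hγ' : (fun d' : D => Cyc.c1CapFun δ L ⇑α vG (i d')) = γ := hγ.symm
  rw [hγ'] at hA
  rw [hcoe, h₁ d, h₂, hβ, ← hA]
  ring

end Groth.Agent.H63.C1
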