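import Mathlib
import Groth.Agent.H63.C1V

set_option autoImplicit false
set_option linter.style.haveILetI false
set_option linter.unusedSectionVars false
set_option linter.unusedVariables false
universe u
open CategoryTheory CategoryTheory.Limits AlgebraicGeometry TopologicalSpace Opposite Order

namespace Groth.Agent.H63.C1

open Groth.Agent.H8 Groth.Agent.H54.SecOrd Groth.Agent.H54.SecOrdGen Groth.Agent.H54.C1Cap
open IsLocalRing

section Alg
variable (R : Type u) [CommRing R] [IsDomain R] [IsNoetherianRing R] [IsLocalRing R]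
  (K : Type u) [Field K] [Algebra R K] [IsFractionRing R K]

theorem PhiK_swap (hR : ringKrullDim R = 1) {a b : K} (ha0 : a ≠ 0) (hb0 : b ≠ 0) :
    PhiK R K a b * PhiK R K b a = 1 := by
  have h1 := nzd_of_ne (num_ne_zero R K ha0)
  have h2 := den_mem R K a
  have h3 := nzd_of_ne (num_ne_zero R K hb0)
  have h4 := den_mem R K b
  have e11 := ts_swap hR h1 h3
  have e22 := ts_swap hR h2 h4
  have e12 := ts_swap hR h1 h4
  have e21 := ts_swap hR h2 h3
  have n11 := left_ne_zero_of_mul_eq_one e11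
  have n22 := left_ne_zero_of_mul_eq_one e22
  have n12 := left_ne_zero_of_mul_eq_one e12
  have n21 := left_ne_zero_of_mul_eq_one e21
  unfold PhiK Phi4
  rw [eq_inv_of_mul_eq_one_right e11, eq_inv_of_mul_eq_one_right e22,
    eq_inv_of_mul_eq_one_right e12, eq_inv_of_mul_eq_one_right e21]
  field_simp

end Alg

variable {X : Scheme.{u}} [IsIntegral X] [IsLocallyNoetherian X]

/-- a global section which is a unit at a codimension one point has order zero there. -/
theorem secOrdAt_generic_of_unit {L : X.Modules} (hL : PicF.IsInvertible L)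
    (σ : L.presheaf.obj (Opposite.op ⊤))
    (hs0 : (L.presheaf.germ ⊤ (genericPoint X) trivial) σ ≠ 0)
    (ξ : X) (hξ : coheight ξ = 1)
    (hξZ : (Submodule.Quotient.mk ((L.presheaf.germ ⊤ ξ trivial) σ) : Cyc.secFibre L ξ) ≠ 0) :
    Cyc.secOrdAt L (genericPoint X) ξ (genericPoint_specializes' ξ)
      (Submodule.Quotient.mk ((L.presheaf.germ ⊤ (genericPoint X) trivial) σ)) = 0 := by
  obtain ⟨c⟩ := chart_nonempty hL ξ
  have h0 := gysin_local σ hs0 _ hs0 (fun ξ => 0) ξ hξ hξZ ξ specializes_rfl c c 0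
  have h1 := gysin_local σ hs0 _ hs0 (fun ξ => 0) ξ hξ hξZ ξ specializes_rfl c c 1
  linarith

/-- the local identity at a codimension one point where the global section of `N` is a unit. -/
theorem gysin_local_right {L N : X.Modules} (τ : N.presheaf.obj (Opposite.op ⊤))
    (ht0 : (N.presheaf.germ ⊤ (genericPoint X) trivial) τ ≠ 0)
    (s0 : L.presheaf.stalk (genericPoint X)) (hs0 : s0 ≠ 0)
    (w : (ξ : X) → Cyc.secFibre N ξ) (ξ : X) (hξ : coheight ξ = 1)
    (hξZ : (Submodule.Quotient.mk ((N.presheaf.germ ⊤ ξ trivial) τ) : Cyc.secFibre N ξ) ≠ 0)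
    (x : X) (h : ξ ⤳ x) (cL : Chart L x) (cN : Chart N x) (B : ℤ) :
    (0 : ℤ) =
      Cyc.ordAt x ξ h (PhiK (X.presheaf.stalk ξ) X.functionField
        (cL.coord s0) (cN.coord ((N.presheaf.germ ⊤ (genericPoint X) trivial) τ))) +
      Cyc.secOrdAt L (genericPoint X) ξ (genericPoint_specializes' ξ)
        (Submodule.Quotient.mk s0) * Cyc.secOrdAt N ξ x h (Cyc.gysinChoice N τ w ξ) -
      Cyc.secOrdAt N (genericPoint X) ξ (genericPoint_specializes' ξ)
        (Submodule.Quotient.mk ((N.presheaf.germ ⊤ (genericPoint X) trivial) τ)) * B := by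
  have hR := ringKrullDim_stalk_of_coheight hξ
  have h1 := gysin_local τ ht0 s0 hs0 w ξ hξ hξZ x h cN cL B
  have ha0 := cL.coord_ne_zero hs0
  have hb0 := cN.coord_ne_zero ht0
  have hsw := PhiK_swap (X.presheaf.stalk ξ) X.functionField hR ha0 hb0
  have h2 : Cyc.ordAt x ξ h (PhiK (X.presheaf.stalk ξ) X.functionField (cL.coord s0)
      (cN.coord ((N.presheaf.germ ⊤ (genericPoint X) trivial) τ))) +
      Cyc.ordAt x ξ h (PhiK (X.presheaf.stalk ξ) X.functionField
        (cN.coord ((N.presheaf.germ ⊤ (genericPoint X) trivial) τ)) (cL.coord s0)) = 0 := by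
    exact (ordAt_mul x ξ h (PhiK_ne_zero _ _ hR ha0 hb0) (PhiK_ne_zero _ _ hR hb0 ha0)).symm.trans
      ((congrArg (Cyc.ordAt x ξ h) hsw).trans (ordAt_one x ξ h))
  linarith

/-- the key formula with prescribed support: if the local identity holds at all codimension one
points outside the closed set `Z`, the rational equivalence is supported on `Z`. -/
theorem key_supported (δ : X → ℤ) (hδ : Cyc.IsDimFun X δ)
    (L N : X.Modules) (hL : PicF.IsInvertible L) (hN : PicF.IsInvertible N)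
    (s0 : L.presheaf.stalk (genericPoint X)) (hs0 : s0 ≠ 0)
    (t0 : N.presheaf.stalk (genericPoint X)) (ht0 : t0 ≠ 0)
    (u : (ξ : X) → Cyc.secFibre N ξ) (hu : ∀ ξ, u ξ ≠ 0)
    (v : (ξ : X) → Cyc.secFibre L ξ) (hv : ∀ ξ, v ξ ≠ 0)
    (Z : Set X) (hZc : IsClosed Z) (hηZ : genericPoint X ∉ Z)
    (hloc : ∀ ξ : X, δ ξ + 1 = δ (genericPoint X) → ξ ∉ Z →
      ∀ (x : X) (h : ξ ⤳ x), δ x + 2 = δ (genericPoint X) →
        ∀ (cL : Chart L x) (cN : Chart N x), (0 : ℤ) =
          Cyc.ordAt x ξ h (PhiK (X.presheaf.stalk ξ) X.functionField (cL.coord s0) (cN.coord t0)) +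
          Cyc.secOrdAt L (genericPoint X) ξ (genericPoint_specializes' ξ)
              (Submodule.Quotient.mk s0) * Cyc.secOrdAt N ξ x h (u ξ) -
          Cyc.secOrdAt N (genericPoint X) ξ (genericPoint_specializes' ξ)
              (Submodule.Quotient.mk t0) * Cyc.secOrdAt L ξ x h (v ξ)) :
    RatZeroOn δ (δ (genericPoint X) - 2) Z
      (fun x => Cyc.c1CapFun δ N (Cyc.secDivFun δ L (genericPoint X)
          (Submodule.Quotient.mk s0)) u x -
        Cyc.c1CapFun δ L (Cyc.secDivFun δ N (genericPoint X) (Submodule.Quotient.mk t0)) v x) := by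
  classical
  let ZU : X.Opens := ⟨Zᶜ, hZc.isOpen_compl⟩
  have hηZU : genericPoint X ∈ ZU := hηZ
  obtain ⟨UL, hηUL, hULunit⟩ := exists_unit_locus hL s0 hs0
  obtain ⟨UN, hηUN, hUNunit⟩ := exists_unit_locus hN t0 ht0
  let U₀ : X.Opens := UL ⊓ UN
  have hηU₀ : genericPoint X ∈ U₀ := ⟨hηUL, hηUN⟩
  have hcoh : ∀ ξ : X, δ ξ + 1 = δ (genericPoint X) → coheight ξ = 1 := fun ξ hξ =>
    Groth.Agent.H54.DivZero.coheight_eq_one_of_dimFun δ hδ ξ hξ
  have hex : ∀ ξ : X, ∃ f : X.residueField ξ, f ≠ 0 ∧ (δ ξ + 1 = δ (genericPoint X) →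
      (∀ (x : X) (h : ξ ⤳ x), δ x + 2 = δ (genericPoint X) → ∀ (cL : Chart L x) (cN : Chart N x),
        Cyc.ordAt x ξ h f =
          Cyc.ordAt x ξ h (PhiK (X.presheaf.stalk ξ) X.functionField (cL.coord s0) (cN.coord t0)) +
          Cyc.secOrdAt L (genericPoint X) ξ (genericPoint_specializes' ξ)
              (Submodule.Quotient.mk s0) * Cyc.secOrdAt N ξ x h (u ξ) -
          Cyc.secOrdAt N (genericPoint X) ξ (genericPoint_specializes' ξ)
              (Submodule.Quotient.mk t0) * Cyc.secOrdAt L ξ x h (v ξ)) ∧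
      (ξ ∉ Z → f = 1)) := by
    intro ξ
    by_cases hξ : δ ξ + 1 = δ (genericPoint X)
    · by_cases hξZ : ξ ∈ Z
      · obtain ⟨f, hf0, hf1, hf2⟩ := exists_f hL hN s0 hs0 t0 ht0 u hu v hv ξ (hcoh ξ hξ)
        exact ⟨f, hf0, fun _ => ⟨fun x h _ cL cN => hf1 x h cL cN, fun hn => absurd hξZ hn⟩⟩
      · refine ⟨1, one_ne_zero, fun _ => ⟨?_, fun _ => rfl⟩⟩
        intro x h hx cL cN
        rw [ordAt_one]
        exact hloc ξ hξ hξZ x h hx cL cN
    · exact ⟨1, one_ne_zero, fun h => absurd h hξ⟩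
  choose f hf0 hf using hex
  have hLF := Groth.Agent.H54.OrdLF.locallyFinite_of_forall_notMem X U₀ hηU₀
    (fun ξ => δ ξ + 1 = δ (genericPoint X) ∧ ξ ∉ U₀) (fun ξ hξ => ⟨hcoh ξ hξ.1, hξ.2⟩)
  have hLFZ := Groth.Agent.H54.OrdLF.locallyFinite_of_forall_notMem X ZU hηZU
    (fun ξ => δ ξ + 1 = δ (genericPoint X) ∧ ξ ∈ Z)
    (fun ξ hξ => ⟨hcoh ξ hξ.1, fun hmem => hmem hξ.2⟩)
  refine ⟨{ξ : X // δ ξ + 1 = δ (genericPoint X) ∧ ξ ∈ Z}, fun i => i.1, fun i => f i.1,
    fun i => i.2.2, ?_, ?_, ?_, ?_⟩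
  · intro i
    have := i.2.1
    change δ i.1 = δ (genericPoint X) - 2 + 1
    omega
  · intro i
    exact hf0 i.1
  · intro x
    obtain ⟨t, ht, hfin⟩ := hLFZ x
    obtain ⟨U, hUt, hU, hxU⟩ := mem_nhds_iff.mp ht
    refine ⟨U, hU, hxU, hfin.subset ?_⟩
    rintro i ⟨y, hy, hyU⟩
    exact ⟨y, hy, hUt hyU⟩
  · intro x
    beta_reduce
    unfold Cyc.c1CapFun
    by_cases hx : δ x + 2 = δ (genericPoint X)
    · -- the main case
      obtain ⟨cL⟩ := chart_nonempty hL x
      obtain ⟨cN⟩ := chart_nonempty hN x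
      have ha0 : cL.coord s0 ≠ 0 := cL.coord_ne_zero hs0
      have hb0 : cN.coord t0 ≠ 0 := cN.coord_ne_zero ht0
      have hP := sum_ordAt_PhiK_eq_zero δ hδ x hx (cL.coord s0) (cN.coord t0) ha0 hb0
      set P : {ξ : X // ξ ⤳ x ∧ δ ξ + 1 = δ (genericPoint X)} → ℤ := fun j =>
        Cyc.ordAt x j.1 j.2.1 (PhiK (X.presheaf.stalk j.1) X.functionField
          (cL.coord s0) (cN.coord t0)) with hPdef
      set B1 : {ξ : X // ξ ⤳ x ∧ δ ξ + 1 = δ (genericPoint X)} → ℤ := fun j =>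
        Cyc.secOrdAt L (genericPoint X) j.1 (genericPoint_specializes' j.1)
          (Submodule.Quotient.mk s0) * Cyc.secOrdAt N j.1 x j.2.1 (u j.1) with hB1def
      set B2 : {ξ : X // ξ ⤳ x ∧ δ ξ + 1 = δ (genericPoint X)} → ℤ := fun j =>
        Cyc.secOrdAt N (genericPoint X) j.1 (genericPoint_specializes' j.1)
          (Submodule.Quotient.mk t0) * Cyc.secOrdAt L j.1 x j.2.1 (v j.1) with hB2def
      have hid : ∀ j : {ξ : X // ξ ⤳ x ∧ δ ξ + 1 = δ (genericPoint X)},
          Cyc.ordAt x j.1 j.2.1 (f j.1) = P j + B1 j - B2 j := fun j =>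
        (hf j.1 j.2.2).1 x j.2.1 hx cL cN
      -- finiteness
      obtain ⟨tn, htn, hfin⟩ := hLF x
      have hT := hfin.image Subtype.val
      have hFx : {j : {ξ : X // ξ ⤳ x ∧ δ ξ + 1 = δ (genericPoint X)} | j.1 ∉ U₀}.Finite := by
        refine (hT.preimage Subtype.val_injective.injOn).subset ?_
        intro j hj
        exact ⟨⟨j.1, j.2.2, hj⟩,
          ⟨x, specializes_iff_mem_closure.mp j.2.1, mem_of_mem_nhds htn⟩, rfl⟩
      have hunitL : ∀ j : {ξ : X // ξ ⤳ x ∧ δ ξ + 1 = δ (genericPoint X)}, j.1 ∈ U₀ →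
          ∃ w : (X.presheaf.stalk j.1)ˣ, cL.coord s0 =
            algebraMap (X.presheaf.stalk j.1) X.functionField (w : X.presheaf.stalk j.1) :=
        fun j hj => hULunit j.1 hj.1 (cL.gen j.2.1)
      have hunitN : ∀ j : {ξ : X // ξ ⤳ x ∧ δ ξ + 1 = δ (genericPoint X)}, j.1 ∈ U₀ →
          ∃ w : (X.presheaf.stalk j.1)ˣ, cN.coord t0 =
            algebraMap (X.presheaf.stalk j.1) X.functionField (w : X.presheaf.stalk j.1) :=
        fun j hj => hUNunit j.1 hj.2 (cN.gen j.2.1)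
      have hsP : ∀ j : {ξ : X // ξ ⤳ x ∧ δ ξ + 1 = δ (genericPoint X)}, j.1 ∈ U₀ → P j = 0 := by
        intro j hj
        obtain ⟨w, hw⟩ := hunitL j hj
        obtain ⟨w', hw'⟩ := hunitN j hj
        have hR := ringKrullDim_stalk_of_coheight (hcoh j.1 j.2.2)
        change Cyc.ordAt x j.1 j.2.1 (PhiK (X.presheaf.stalk j.1) X.functionField
          (cL.coord s0) (cN.coord t0)) = 0
        rw [hw, hw', PhiK_units _ _ hR w w']
        exact ordAt_one x j.1 j.2.1
      have hsB1 : ∀ j : {ξ : X // ξ ⤳ x ∧ δ ξ + 1 = δ (genericPoint X)}, j.1 ∈ U₀ → B1 j = 0 := by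
        intro j hj
        obtain ⟨w, hw⟩ := hunitL j hj
        have hR := ringKrullDim_stalk_of_coheight (hcoh j.1 j.2.2)
        have h0 : Cyc.secOrdAt L (genericPoint X) j.1 (genericPoint_specializes' j.1)
            (Submodule.Quotient.mk s0) = 0 := by
          rw [secOrdAt_generic (cL.gen j.2.1) (hcoh j.1 j.2.2) s0 hs0]
          change CycAlg.ordFrac _ _ (cL.coord s0) = 0
          rw [hw, ordFrac_algebraMap _ _ hR w.ne_zero, mm_unit]
          rfl
        change _ * _ = 0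
        rw [h0, zero_mul]
      have hsB2 : ∀ j : {ξ : X // ξ ⤳ x ∧ δ ξ + 1 = δ (genericPoint X)}, j.1 ∈ U₀ → B2 j = 0 := by
        intro j hj
        obtain ⟨w, hw⟩ := hunitN j hj
        have hR := ringKrullDim_stalk_of_coheight (hcoh j.1 j.2.2)
        have h0 : Cyc.secOrdAt N (genericPoint X) j.1 (genericPoint_specializes' j.1)
            (Submodule.Quotient.mk t0) = 0 := by
          rw [secOrdAt_generic (cN.gen j.2.1) (hcoh j.1 j.2.2) t0 ht0]
          change CycAlg.ordFrac _ _ (cN.coord t0) = 0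
          rw [hw, ordFrac_algebraMap _ _ hR w.ne_zero, mm_unit]
          rfl
        change _ * _ = 0
        rw [h0, zero_mul]
      have hfP : (Function.support P).Finite := hFx.subset fun j hj hmem => hj (hsP j hmem)
      have hfB1 : (Function.support B1).Finite := hFx.subset fun j hj hmem => hj (hsB1 j hmem)
      have hfB2 : (Function.support B2).Finite := hFx.subset fun j hj hmem => hj (hsB2 j hmem)
      have e1 : ∑ᶠ ξ : X, Cyc.secDivFun δ L (genericPoint X) (Submodule.Quotient.mk s0) ξ *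
          Cyc.secDivFun δ N ξ (u ξ) x = ∑ᶠ j, B1 j := by
        rw [finsum_eq_finsum_subtype
          (fun ξ : X => Cyc.secDivFun δ L (genericPoint X) (Submodule.Quotient.mk s0) ξ *
            Cyc.secDivFun δ N ξ (u ξ) x) (fun ξ => ξ ⤳ x ∧ δ ξ + 1 = δ (genericPoint X))]
        · refine finsum_congr fun j => ?_
          rw [hB1def]
          unfold Cyc.secDivFun
          rw [dif_pos ⟨genericPoint_specializes' j.1, j.2.2⟩,
            dif_pos ⟨j.2.1, by have := j.2.2; omega⟩]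
        · intro ξ hξ
          unfold Cyc.secDivFun
          by_cases c1 : genericPoint X ⤳ ξ ∧ δ ξ + 1 = δ (genericPoint X)
          · have c2 : ¬ (ξ ⤳ x ∧ δ x + 1 = δ ξ) := fun c2 => hξ ⟨c2.1, c1.2⟩
            rw [dif_neg c2, mul_zero]
          · rw [dif_neg c1, zero_mul]
      have e2 : ∑ᶠ ξ : X, Cyc.secDivFun δ N (genericPoint X) (Submodule.Quotient.mk t0) ξ *
          Cyc.secDivFun δ L ξ (v ξ) x = ∑ᶠ j, B2 j := by
        rw [finsum_eq_finsum_subtype
          (fun ξ : X => Cyc.secDivFun δ N (genericPoint X) (Submodule.Quotient.mk t0) ξ *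
            Cyc.secDivFun δ L ξ (v ξ) x) (fun ξ => ξ ⤳ x ∧ δ ξ + 1 = δ (genericPoint X))]
        · refine finsum_congr fun j => ?_
          rw [hB2def]
          unfold Cyc.secDivFun
          rw [dif_pos ⟨genericPoint_specializes' j.1, j.2.2⟩,
            dif_pos ⟨j.2.1, by have := j.2.2; omega⟩]
        · intro ξ hξ
          unfold Cyc.secDivFun
          by_cases c1 : genericPoint X ⤳ ξ ∧ δ ξ + 1 = δ (genericPoint X)
          · have c2 : ¬ (ξ ⤳ x ∧ δ x + 1 = δ ξ) := fun c2 => hξ ⟨c2.1, c1.2⟩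
            rw [dif_neg c2, mul_zero]
          · rw [dif_neg c1, zero_mul]
      have e3 : ∑ᶠ i : {ξ : X // δ ξ + 1 = δ (genericPoint X) ∧ ξ ∈ Z},
          Cyc.divFun δ i.1 (f i.1) x =
          ∑ᶠ j : {ξ : X // ξ ⤳ x ∧ δ ξ + 1 = δ (genericPoint X)},
            Cyc.ordAt x j.1 j.2.1 (f j.1) := by
        have a1 : ∑ᶠ ξ : X, (if δ ξ + 1 = δ (genericPoint X) then Cyc.divFun δ ξ (f ξ) x else 0) =
            ∑ᶠ i : {ξ : X // δ ξ + 1 = δ (genericPoint X) ∧ ξ ∈ Z},
              Cyc.divFun δ i.1 (f i.1) x := by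
          rw [finsum_eq_finsum_subtype
            (fun ξ : X => if δ ξ + 1 = δ (genericPoint X) then Cyc.divFun δ ξ (f ξ) x else 0)
            (fun ξ => δ ξ + 1 = δ (genericPoint X) ∧ ξ ∈ Z)]
          · refine finsum_congr fun i => ?_
            rw [if_pos i.2.1]
          · intro ξ hξ
            split_ifs with c
            · have hmem : ξ ∉ Z := fun hn => hξ ⟨c, hn⟩
              rw [(hf ξ c).2 hmem]
              exact divFun_one δ ξ x
            · rfl
        have a2 : ∑ᶠ ξ : X, (if δ ξ + 1 = δ (genericPoint X) then Cyc.divFun δ ξ (f ξ) x else 0) =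
            ∑ᶠ j : {ξ : X // ξ ⤳ x ∧ δ ξ + 1 = δ (genericPoint X)},
              Cyc.ordAt x j.1 j.2.1 (f j.1) := by
          rw [finsum_eq_finsum_subtype
            (fun ξ : X => if δ ξ + 1 = δ (genericPoint X) then Cyc.divFun δ ξ (f ξ) x else 0)
            (fun ξ => ξ ⤳ x ∧ δ ξ + 1 = δ (genericPoint X))]
          · refine finsum_congr fun j => ?_
            rw [if_pos j.2.2]
            unfold Cyc.divFun
            rw [dif_pos ⟨j.2.1, by have := j.2.2; omega⟩]
          · intro ξ hξ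
            split_ifs with c
            · unfold Cyc.divFun
              rw [dif_neg]
              intro c2
              exact hξ ⟨c2.1, c⟩
            · rfl
        rw [← a1, a2]
      rw [e1, e2]
      change _ = ∑ᶠ i : {ξ : X // δ ξ + 1 = δ (genericPoint X) ∧ ξ ∈ Z},
        Cyc.divFun δ i.1 (f i.1) x
      rw [e3, finsum_congr hid,
        finsum_sub_distrib ((hfP.union hfB1).subset (Function.support_add _ _)) hfB2,
        finsum_add_distrib hfP hfB1, hP, zero_add]
    · -- all terms vanish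
      have z1 : ∀ ξ : X, Cyc.secDivFun δ L (genericPoint X) (Submodule.Quotient.mk s0) ξ *
          Cyc.secDivFun δ N ξ (u ξ) x = 0 := by
        intro ξ
        unfold Cyc.secDivFun
        by_cases c1 : genericPoint X ⤳ ξ ∧ δ ξ + 1 = δ (genericPoint X)
        · by_cases c2 : ξ ⤳ x ∧ δ x + 1 = δ ξ
          · exfalso
            have := c1.2
            have := c2.2
            omega
          · rw [dif_neg c2, mul_zero]
        · rw [dif_neg c1, zero_mul]
      have z2 : ∀ ξ : X, Cyc.secDivFun δ N (genericPoint X) (Submodule.Quotient.mk t0) ξ *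
          Cyc.secDivFun δ L ξ (v ξ) x = 0 := by
        intro ξ
        unfold Cyc.secDivFun
        by_cases c1 : genericPoint X ⤳ ξ ∧ δ ξ + 1 = δ (genericPoint X)
        · by_cases c2 : ξ ⤳ x ∧ δ x + 1 = δ ξ
          · exfalso
            have := c1.2
            have := c2.2
            omega
          · rw [dif_neg c2, mul_zero]
        · rw [dif_neg c1, zero_mul]
      have z3 : ∀ i : {ξ : X // δ ξ + 1 = δ (genericPoint X) ∧ ξ ∈ Z},
          Cyc.divFun δ i.1 (f i.1) x = 0 := by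
        intro i
        unfold Cyc.divFun
        rw [dif_neg]
        rintro ⟨-, h2⟩
        have := i.2.1
        omega
      rw [finsum_eq_zero_of_forall_eq_zero z1, finsum_eq_zero_of_forall_eq_zero z2,
        finsum_eq_zero_of_forall_eq_zero z3, sub_zero]


/-- the two-sided key formula: both sections are global and the families have the divisors of
the global sections away from the other zero locus; the rational equivalence is supported on
`Z(σ) ∩ Z(τ)`. -/
theorem gysin_key2 (δ : X → ℤ) (hδ : Cyc.IsDimFun X δ)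
    (L N : X.Modules) (hL : PicF.IsInvertible L) (hN : PicF.IsInvertible N)
    (σ : L.presheaf.obj (Opposite.op ⊤)) (τ : N.presheaf.obj (Opposite.op ⊤))
    (hs : (Submodule.Quotient.mk ((L.presheaf.germ ⊤ (genericPoint X) trivial) σ) :
      Cyc.secFibre L (genericPoint X)) ≠ 0)
    (ht : (Submodule.Quotient.mk ((N.presheaf.germ ⊤ (genericPoint X) trivial) τ) :
      Cyc.secFibre N (genericPoint X)) ≠ 0)
    (Z Z' : Set X) (hZc : IsClosed Z) (hZ'c : IsClosed Z')
    (hZ : ∀ x : X, x ∈ Z ↔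
      (Submodule.Quotient.mk ((L.presheaf.germ ⊤ x trivial) σ) : Cyc.secFibre L x) = 0)
    (hZ' : ∀ x : X, x ∈ Z' ↔
      (Submodule.Quotient.mk ((N.presheaf.germ ⊤ x trivial) τ) : Cyc.secFibre N x) = 0)
    (u : (ξ : X) → Cyc.secFibre N ξ) (hu : ∀ ξ, u ξ ≠ 0)
    (v : (ξ : X) → Cyc.secFibre L ξ) (hv : ∀ ξ, v ξ ≠ 0)
    (hu' : ∀ ξ : X, ξ ∈ Z → ξ ∉ Z' → ∀ x : X, Cyc.secDivFun δ N ξ (u ξ) x =
      Cyc.secDivFun δ N ξ (Submodule.Quotient.mk ((N.presheaf.germ ⊤ ξ trivial) τ)) x)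
    (hv' : ∀ ξ : X, ξ ∈ Z' → ξ ∉ Z → ∀ x : X, Cyc.secDivFun δ L ξ (v ξ) x =
      Cyc.secDivFun δ L ξ (Submodule.Quotient.mk ((L.presheaf.germ ⊤ ξ trivial) σ)) x) :
    RatZeroOn δ (δ (genericPoint X) - 2) (Z ∩ Z')
      (fun x => Cyc.c1CapFun δ N (Cyc.secDivFun δ L (genericPoint X)
          (Submodule.Quotient.mk ((L.presheaf.germ ⊤ (genericPoint X) trivial) σ))) u x -
        Cyc.c1CapFun δ L (Cyc.secDivFun δ N (genericPoint X)
          (Submodule.Quotient.mk ((N.presheaf.germ ⊤ (genericPoint X) trivial) τ))) v x) := by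
  have hs0 : (L.presheaf.germ ⊤ (genericPoint X) trivial) σ ≠ 0 := by
    intro h0
    apply hs
    rw [h0]
    rfl
  have ht0 : (N.presheaf.germ ⊤ (genericPoint X) trivial) τ ≠ 0 := by
    intro h0
    apply ht
    rw [h0]
    rfl
  refine key_supported δ hδ L N hL hN _ hs0 _ ht0 u hu v hv (Z ∩ Z') (hZc.inter hZ'c)
    (fun h => hs ((hZ _).mp h.1)) ?_
  intro ξ hξ hξS x h hx cL cN
  have hcoh : coheight ξ = 1 := Groth.Agent.H54.DivZero.coheight_eq_one_of_dimFun δ hδ ξ hξ
  have hdx : δ x + 1 = δ ξ := by omega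
  by_cases hξZ : ξ ∈ Z
  · have hξZ' : ξ ∉ Z' := fun h' => hξS ⟨hξZ, h'⟩
    have hne : (Submodule.Quotient.mk ((N.presheaf.germ ⊤ ξ trivial) τ) : Cyc.secFibre N ξ) ≠ 0 :=
      fun h0 => hξZ' ((hZ' ξ).mpr h0)
    have hgc : Cyc.gysinChoice N τ u ξ =
        Submodule.Quotient.mk ((N.presheaf.germ ⊤ ξ trivial) τ) := by
      unfold Cyc.gysinChoice
      rw [if_pos hne]
    have hord : Cyc.secOrdAt N ξ x h (u ξ) = Cyc.secOrdAt N ξ x h
        (Submodule.Quotient.mk ((N.presheaf.germ ⊤ ξ trivial) τ)) := by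
      have := hu' ξ hξZ hξZ' x
      unfold Cyc.secDivFun at this
      rw [dif_pos ⟨h, hdx⟩, dif_pos ⟨h, hdx⟩] at this
      exact this
    have key := gysin_local_right τ ht0 _ hs0 u ξ hcoh hne x h cL cN (Cyc.secOrdAt L ξ x h (v ξ))
    rw [hgc, ← hord] at key
    exact key
  · have hneL : (Submodule.Quotient.mk ((L.presheaf.germ ⊤ ξ trivial) σ) : Cyc.secFibre L ξ) ≠ 0 :=
      fun h0 => hξZ ((hZ ξ).mpr h0)
    have hgc : Cyc.gysinChoice L σ v ξ =
        Submodule.Quotient.mk ((L.presheaf.germ ⊤ ξ trivial) σ) := by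
      unfold Cyc.gysinChoice
      rw [if_pos hneL]
    have key := gysin_local σ hs0 _ ht0 v ξ hcoh hneL x h cL cN (Cyc.secOrdAt N ξ x h (u ξ))
    by_cases hξZ' : ξ ∈ Z'
    · have hord : Cyc.secOrdAt L ξ x h (v ξ) = Cyc.secOrdAt L ξ x h
          (Submodule.Quotient.mk ((L.presheaf.germ ⊤ ξ trivial) σ)) := by
        have := hv' ξ hξZ' hξZ x
        unfold Cyc.secDivFun at this
        rw [dif_pos ⟨h, hdx⟩, dif_pos ⟨h, hdx⟩] at this
        exact this
      rw [hgc, ← hord] at key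
      exact key
    · have hneN : (Submodule.Quotient.mk ((N.presheaf.germ ⊤ ξ trivial) τ) :
          Cyc.secFibre N ξ) ≠ 0 := fun h0 => hξZ' ((hZ' ξ).mpr h0)
      have mN := secOrdAt_generic_of_unit hN τ ht0 ξ hcoh hneN
      simp only [mN, zero_mul, sub_zero] at key ⊢
      exact key

end Groth.Agent.H63.C1
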