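import Mathlib
import Groth.Agent.H63.C1V

set_option autoImplicit false
set_option linter.style.haveILetI false
set_option linter.unusedSectionVars false
set_option linter.unusedVariables false
universe u
open CategoryTheory CategoryTheory.Limits AlgebraicGeometry TopologicalSpace Opposite Order

namespace Groth.Agent.H63.C1

open Groth.Agent.H8 Groth.Agent.H54.SecOrd Groth.Agent.H54.SecOrdGen Groth.Agent.H54.C1Cap
  Groth.Agent.H54.C1Indep

theorem finsum_sum_type {ι ι' M : Type*} [AddCommMonoid M] (F : ι ⊕ ι' → M)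
    (h1 : (Function.support fun i => F (Sum.inl i)).Finite)
    (h2 : (Function.support fun i => F (Sum.inr i)).Finite) :
    ∑ᶠ i, F i = ∑ᶠ i, F (Sum.inl i) + ∑ᶠ i, F (Sum.inr i) := by
  rw [← finsum_mem_univ, ← Set.range_inl_union_range_inr,
    finsum_mem_union' Set.isCompl_range_inl_range_inr.disjoint ?_ ?_,
    finsum_mem_range Sum.inl_injective, finsum_mem_range Sum.inr_injective]
  · refine (h1.image Sum.inl).subset ?_
    rintro _ ⟨⟨i, rfl⟩, hi⟩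
    exact ⟨i, hi, rfl⟩
  · refine (h2.image Sum.inr).subset ?_
    rintro _ ⟨⟨i, rfl⟩, hi⟩
    exact ⟨i, hi, rfl⟩

variable {X : Scheme.{u}}

theorem RatZeroOn.add {δ : X → ℤ} {k : ℤ} {C : Set X} {g g' : X → ℤ}
    (h : RatZeroOn δ k C g) (h' : RatZeroOn δ k C g') :
    RatZeroOn δ k C (fun x => g x + g' x) := by
  obtain ⟨ι, ξ, f, h1, h2, h3, h4, h5⟩ := h
  obtain ⟨ι', ξ', f', h1', h2', h3', h4', h5'⟩ := h'
  have hLF : ∀ x : X, ∃ U : Set X, IsOpen U ∧ x ∈ U ∧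
      {i : ι ⊕ ι' | (closure {Sum.elim ξ ξ' i} ∩ U).Nonempty}.Finite := by
    intro x
    obtain ⟨U, hU, hxU, hfin⟩ := h4 x
    obtain ⟨U', hU', hxU', hfin'⟩ := h4' x
    refine ⟨U ∩ U', hU.inter hU', ⟨hxU, hxU'⟩,
      ((hfin.image Sum.inl).union (hfin'.image Sum.inr)).subset ?_⟩
    rintro (i | i) ⟨y, hy, hyU, hyU'⟩
    · exact Or.inl ⟨i, ⟨y, hy, hyU⟩, rfl⟩
    · exact Or.inr ⟨i, ⟨y, hy, hyU'⟩, rfl⟩
  refine ⟨ι ⊕ ι', Sum.elim ξ ξ', fun i => Sum.rec (motive := fun i =>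
      X.residueField (Sum.elim ξ ξ' i)) f f' i, ?_, ?_, ?_, hLF, ?_⟩
  · rintro (i | i)
    · exact h1 i
    · exact h1' i
  · rintro (i | i)
    · exact h2 i
    · exact h2' i
  · rintro (i | i)
    · exact h3 i
    · exact h3' i
  · intro x
    beta_reduce
    obtain ⟨U, hU, hxU, hfin⟩ := h4 x
    obtain ⟨U', hU', hxU', hfin'⟩ := h4' x
    have hs1 := finite_support_divFun (δ := δ) ξ f x hxU hfin
    have hs2 := finite_support_divFun (δ := δ) ξ' f' x hxU' hfin'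
    rw [h5 x, h5' x]
    symm
    exact finsum_sum_type (fun i : ι ⊕ ι' => Cyc.divFun δ (Sum.elim ξ ξ' i)
      (Sum.rec (motive := fun i => X.residueField (Sum.elim ξ ξ' i)) f f' i) x) hs1 hs2

theorem RatZeroOn.sub {δ : X → ℤ} {k : ℤ} {C : Set X} {g g' : X → ℤ}
    (h : RatZeroOn δ k C g) (h' : RatZeroOn δ k C g') :
    RatZeroOn δ k C (fun x => g x - g' x) :=
  (h.add h'.neg).congr fun x => sub_eq_add_neg _ _

/-- the divisors of two nonzero rational sections differ by a principal divisor. -/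
theorem exists_divFun_eq_sub (δ : X → ℤ) {L : X.Modules} (hL : PicF.IsInvertible L) (ξ : X)
    (s₁ s₂ : Cyc.secFibre L ξ) (hs₁ : s₁ ≠ 0) (hs₂ : s₂ ≠ 0) :
    ∃ f : X.residueField ξ, f ≠ 0 ∧ ∀ x, Cyc.secDivFun δ L ξ s₁ x - Cyc.secDivFun δ L ξ s₂ x =
      Cyc.divFun δ ξ f x := by
  obtain ⟨m₂, rfl⟩ := Submodule.Quotient.mk_surjective _ s₂
  obtain ⟨e, he, hs₁'⟩ := exists_unit_smul hL ξ m₂ hs₂ s₁ hs₁
  refine ⟨X.residue ξ e, fun h0 => he ((residue_eq_zero_iff ξ _).mp h0), fun x => ?_⟩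
  unfold Cyc.secDivFun Cyc.divFun
  split_ifs with h
  · rw [hs₁', secOrdAt_smul hL h.1 m₂ hs₂ e he]
    ring
  · simp

/-- the divisor of a rational section is locally finite. -/
theorem secDivFun_locallyFinite (δ : X → ℤ) [IsLocallyNoetherian X] (hδ : Cyc.IsDimFun X δ)
    (N : X.Modules) (hN : PicF.IsInvertible N) (ξ : X) (s : Cyc.secFibre N ξ) (hs : s ≠ 0)
    (x : X) : ∃ U : Set X, IsOpen U ∧ x ∈ U ∧
      {ξ' : X | Cyc.secDivFun δ N ξ s ξ' ≠ 0 ∧ (closure {ξ'} ∩ U).Nonempty}.Finite := by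
  by_cases hξx : ξ ⤳ x
  · obtain ⟨U, hxU, σ, hσ⟩ := exists_isFreeGen_of_isInvertible hN x
    have hξU : ξ ∈ U := hξx.mem_open U.2 hxU
    obtain ⟨m, rfl⟩ := Submodule.Quotient.mk_surjective _ s
    obtain ⟨a, ha⟩ := (hσ.germ_bijective hξU).2 m
    have ha' : m = a • N.presheaf.germ U ξ hξU σ := ha.symm
    have hane := Groth.Agent.H54.C1Indep.not_mem_of_mk_ne_zero N hσ hξU a m ha' hs
    have hf : X.residue ξ a ≠ 0 := fun h0 =>
      hane ((Groth.Agent.H54.SecOrdGen.residue_eq_zero_iff ξ a).mp h0)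
    obtain ⟨t, ht, hfin⟩ := Groth.Agent.H48.DivLocFin.iUnion_support_divFun_locallyFinite δ hδ
      (fun _ : PUnit.{u + 1} => ξ) (fun _ => X.residue ξ a) (fun _ => hf)
      (fun y => ⟨Set.univ, isOpen_univ, trivial, Set.toFinite _⟩) x
    obtain ⟨O, hOt, hO, hxO⟩ := mem_nhds_iff.mp ht
    refine ⟨O ∩ (U : Set X), hO.inter U.2, ⟨hxO, hxU⟩, hfin.subset ?_⟩
    rintro ξ' ⟨hne, y, hy, hyO, hyU⟩
    have hsp : ξ' ⤳ y := specializes_iff_mem_closure.mpr hy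
    have hξ'U : ξ' ∈ U := hsp.mem_open U.2 hyU
    refine ⟨hOt (hsp.mem_open hO hyO), Set.mem_iUnion.mpr ⟨PUnit.unit, ?_⟩⟩
    rw [ha', secDivFun_chart δ N hσ ξ hξU a hane ξ' hξ'U] at hne
    exact hne
  · refine ⟨(closure {ξ})ᶜ, isClosed_closure.isOpen_compl,
      fun hx => hξx (specializes_iff_mem_closure.mpr hx), ?_⟩
    convert Set.finite_empty
    apply Set.eq_empty_of_forall_notMem
    rintro ξ' ⟨hne, y, hy, hyn⟩
    apply hyn
    have h1 : ξ ⤳ ξ' := secDivFun_ne_zero_specializes hne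
    exact specializes_iff_mem_closure.mp (h1.trans (specializes_iff_mem_closure.mpr hy))

/-- changing the rational sections away from `S` changes `c₁(L) ∩ β` by a rational equivalence
with witnesses in `S`. -/
theorem c1CapFun_change (δ : X → ℤ) (L : X.Modules) (hL : PicF.IsInvertible L) (k : ℤ)
    (β : X → ℤ) (hβdim : ∀ ξ, β ξ ≠ 0 → δ ξ = k + 1)
    (hβlf : ∀ x : X, ∃ U : Set X, IsOpen U ∧ x ∈ U ∧
      {ξ : X | β ξ ≠ 0 ∧ (closure {ξ} ∩ U).Nonempty}.Finite)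
    (s₁ s₂ : (ξ : X) → Cyc.secFibre L ξ) (hs₁ : ∀ ξ, s₁ ξ ≠ 0) (hs₂ : ∀ ξ, s₂ ξ ≠ 0)
    (S : Set X) (hS : ∀ ξ, β ξ ≠ 0 → ξ ∉ S → ∀ x,
      Cyc.secDivFun δ L ξ (s₁ ξ) x = Cyc.secDivFun δ L ξ (s₂ ξ) x) :
    RatZeroOn δ k S (fun x => Cyc.c1CapFun δ L β s₁ x - Cyc.c1CapFun δ L β s₂ x) := by
  classical
  choose f hf0 hf using fun ξ => exists_divFun_eq_sub δ hL ξ (s₁ ξ) (s₂ ξ) (hs₁ ξ) (hs₂ ξ)
  refine ⟨{ξ : X // β ξ ≠ 0 ∧ ξ ∈ S}, fun a => a.1, fun a => (f a.1) ^ (β a.1),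
    fun a => a.2.2, fun a => hβdim a.1 a.2.1, fun a => zpow_ne_zero _ (hf0 a.1), ?_, ?_⟩
  · intro x
    obtain ⟨U, hU, hxU, hfin⟩ := hβlf x
    refine ⟨U, hU, hxU, ?_⟩
    refine Set.Finite.of_injOn (f := fun a : {ξ : X // β ξ ≠ 0 ∧ ξ ∈ S} => a.1) ?_
      Subtype.val_injective.injOn hfin
    intro a ha
    exact ⟨a.2.1, ha⟩
  · intro x
    beta_reduce
    unfold Cyc.c1CapFun
    obtain ⟨U, hU, hxU, hfin⟩ := hβlf x
    have hfinx : {ξ : X | β ξ ≠ 0 ∧ ξ ⤳ x}.Finite := by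
      refine hfin.subset ?_
      rintro ξ ⟨h1, h2⟩
      exact ⟨h1, x, specializes_iff_mem_closure.mp h2, hxU⟩
    have hsupp : ∀ (s : (ξ : X) → Cyc.secFibre L ξ),
        (Function.support fun ξ => β ξ * Cyc.secDivFun δ L ξ (s ξ) x).Finite := by
      intro s
      refine hfinx.subset ?_
      intro ξ hξ
      exact ⟨left_ne_zero_of_mul hξ, secDivFun_ne_zero_specializes (right_ne_zero_of_mul hξ)⟩
    rw [← finsum_sub_distrib (hsupp s₁) (hsupp s₂)]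
    rw [finsum_eq_finsum_subtype (fun ξ : X => β ξ * Cyc.secDivFun δ L ξ (s₁ ξ) x -
      β ξ * Cyc.secDivFun δ L ξ (s₂ ξ) x) (fun ξ => β ξ ≠ 0 ∧ ξ ∈ S)]
    · refine finsum_congr fun a => ?_
      rw [divFun_zpow δ a.1 (hf0 a.1), ← hf a.1 x]
      ring
    · intro ξ hξ
      by_cases hβ : β ξ = 0
      · rw [hβ, zero_mul, zero_mul, sub_zero]
      · have hξS : ξ ∉ S := fun h => hξ ⟨hβ, h⟩
        rw [hS ξ hβ hξS x, sub_self]

end Groth.Agent.H63.C1
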