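import Mathlib
import Groth.Agent.H63.C1W
import Groth.Agent.H63.C1X

set_option autoImplicit false
set_option linter.style.haveILetI false
set_option linter.unusedSectionVars false
set_option linter.unusedVariables false
universe u
open CategoryTheory CategoryTheory.Limits AlgebraicGeometry TopologicalSpace Opposite Order

namespace Groth.Agent.H63.C1

open Groth.Agent.H8 Groth.Agent.H18 Groth.Agent.H54.PB Groth.Agent.H54.SecOrd
  Groth.Agent.H54.SecOrdGen Groth.Agent.H54.C1Cap Groth.Agent.H54.C1Struct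

variable {X : Scheme.{u}}

theorem gysinChoice_eq_of_ne (L : X.Modules) (s : L.presheaf.obj (Opposite.op ⊤))
    (w : (ξ : X) → Cyc.secFibre L ξ) (ξ : X)
    (h : (Submodule.Quotient.mk ((L.presheaf.germ ⊤ ξ trivial) s) : Cyc.secFibre L ξ) ≠ 0) :
    Cyc.gysinChoice L s w ξ = Submodule.Quotient.mk ((L.presheaf.germ ⊤ ξ trivial) s) := by
  unfold Cyc.gysinChoice
  rw [if_pos h]

theorem secDivFun_dim {δ : X → ℤ} {L : X.Modules} {ξ : X} {t : Cyc.secFibre L ξ} {ξ' : X}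
    (h : Cyc.secDivFun δ L ξ t ξ' ≠ 0) : δ ξ' + 1 = δ ξ := by
  by_contra hne
  apply h
  unfold Cyc.secDivFun
  rw [dif_neg (fun h' => hne h'.2)]

/-- commutativity of two Gysin maps on the closure of a point: the rational equivalence is
supported on `Z(s) ∩ Z(s')`. -/
theorem gysin2_comm_pt (δ : X → ℤ) [IsLocallyNoetherian X] (hδ : Cyc.IsDimFun X δ)
    (L N : X.Modules) (hL : PicF.IsInvertible L) (hN : PicF.IsInvertible N)
    (s : L.presheaf.obj (Opposite.op ⊤)) (s' : N.presheaf.obj (Opposite.op ⊤))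
    (Z Z' : Set X) (hZc : IsClosed Z) (hZ'c : IsClosed Z')
    (hZ : ∀ x : X, x ∈ Z ↔
      (Submodule.Quotient.mk ((L.presheaf.germ ⊤ x trivial) s) : Cyc.secFibre L x) = 0)
    (hZ' : ∀ x : X, x ∈ Z' ↔
      (Submodule.Quotient.mk ((N.presheaf.germ ⊤ x trivial) s') : Cyc.secFibre N x) = 0)
    (ξ : X)
    (w : (ξ : X) → Cyc.secFibre L ξ) (hw : ∀ ξ, w ξ ≠ 0)
    (w' : (ξ : X) → Cyc.secFibre N ξ) (hw' : ∀ ξ, w' ξ ≠ 0)
    (U₁ : (ξ : X) → Cyc.secFibre N ξ) (hU₁ : ∀ ξ, U₁ ξ ≠ 0)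
    (U₂ : (ξ : X) → Cyc.secFibre L ξ) (hU₂ : ∀ ξ, U₂ ξ ≠ 0)
    (hU₁' : ∀ ξ' : X, ξ' ∈ Z → ξ' ∉ Z' → ∀ x : X, Cyc.secDivFun δ N ξ' (U₁ ξ') x =
      Cyc.secDivFun δ N ξ' (Submodule.Quotient.mk ((N.presheaf.germ ⊤ ξ' trivial) s')) x)
    (hU₂' : ∀ ξ' : X, ξ' ∈ Z' → ξ' ∉ Z → ∀ x : X, Cyc.secDivFun δ L ξ' (U₂ ξ') x =
      Cyc.secDivFun δ L ξ' (Submodule.Quotient.mk ((L.presheaf.germ ⊤ ξ' trivial) s)) x) :
    RatZeroOn δ (δ ξ - 2) (closure {ξ} ∩ (Z ∩ Z'))
      (fun x => Cyc.c1CapFun δ N (Cyc.secDivFun δ L ξ (Cyc.gysinChoice L s w ξ)) U₁ x -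
        Cyc.c1CapFun δ L (Cyc.secDivFun δ N ξ (Cyc.gysinChoice N s' w' ξ)) U₂ x) := by
  have hG := Groth.Agent.H54.C1Indep.gysinChoice_ne_zero L s w hw
  have hG' := Groth.Agent.H54.C1Indep.gysinChoice_ne_zero N s' w' hw'
  by_cases hξZ : ξ ∈ Z
  · have hcl : closure {ξ} ⊆ Z :=
      hZc.closure_subset_iff.mpr (Set.singleton_subset_iff.mpr hξZ)
    by_cases hξZ' : ξ ∈ Z'
    · have hcl' : closure {ξ} ⊆ Z' :=
        hZ'c.closure_subset_iff.mpr (Set.singleton_subset_iff.mpr hξZ')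
      refine (c1_comm_pt δ hδ L N hL hN ξ _ (hG ξ) _ (hG' ξ) U₁ hU₁ U₂ hU₂).mono ?_
      intro y hy
      exact ⟨hy, hcl hy, hcl' hy⟩
    · -- `ξ ∈ Z`, `ξ ∉ Z'`
      have h1 := gysin_comm_pt δ hδ N L hN hL s' Z' hZ'c hZ' ξ (Cyc.gysinChoice L s w ξ) (hG ξ)
        U₂ hU₂ w' hw'
      have h2 := c1CapFun_change δ N hN (δ ξ - 2)
        (Cyc.secDivFun δ L ξ (Cyc.gysinChoice L s w ξ))
        (fun ξ'' h => by have := secDivFun_dim h; omega)
        (secDivFun_locallyFinite δ hδ L hL ξ _ (hG ξ)) U₁ (Cyc.gysinChoice N s' w') hU₁ hG'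
        (closure {ξ} ∩ (Z ∩ Z')) ?_
      · refine (h2.sub (h1.mono ?_)).congr (fun x => by ring)
        rintro y ⟨hy, hy'⟩
        exact ⟨hy, hcl hy, hy'⟩
      · intro ξ'' hβ hS x
        have hsp : ξ ⤳ ξ'' := secDivFun_ne_zero_specializes hβ
        have hmem : ξ'' ∈ closure {ξ} := specializes_iff_mem_closure.mp hsp
        have hZ'' : ξ'' ∈ Z := hcl hmem
        have hnZ : ξ'' ∉ Z' := fun h => hS ⟨hmem, hZ'', h⟩
        have hne : (Submodule.Quotient.mk ((N.presheaf.germ ⊤ ξ'' trivial) s') :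
            Cyc.secFibre N ξ'') ≠ 0 := fun h0 => hnZ ((hZ' _).mpr h0)
        rw [gysinChoice_eq_of_ne N s' w' ξ'' hne]
        exact hU₁' ξ'' hZ'' hnZ x
  · by_cases hξZ' : ξ ∈ Z'
    · -- `ξ ∈ Z'`, `ξ ∉ Z`
      have hcl' : closure {ξ} ⊆ Z' :=
        hZ'c.closure_subset_iff.mpr (Set.singleton_subset_iff.mpr hξZ')
      have h1 := gysin_comm_pt δ hδ L N hL hN s Z hZc hZ ξ (Cyc.gysinChoice N s' w' ξ) (hG' ξ)
        U₁ hU₁ w hw
      have h2 := c1CapFun_change δ L hL (δ ξ - 2)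
        (Cyc.secDivFun δ N ξ (Cyc.gysinChoice N s' w' ξ))
        (fun ξ'' h => by have := secDivFun_dim h; omega)
        (secDivFun_locallyFinite δ hδ N hN ξ _ (hG' ξ)) (Cyc.gysinChoice L s w) U₂ hG hU₂
        (closure {ξ} ∩ (Z ∩ Z')) ?_
      · refine ((h1.mono ?_).add h2).congr (fun x => by ring)
        rintro y ⟨hy, hy'⟩
        exact ⟨hy, hy', hcl' hy⟩
      · intro ξ'' hβ hS x
        have hsp : ξ ⤳ ξ'' := secDivFun_ne_zero_specializes hβ
        have hmem : ξ'' ∈ closure {ξ} := specializes_iff_mem_closure.mp hsp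
        have hZ'' : ξ'' ∈ Z' := hcl' hmem
        have hnZ : ξ'' ∉ Z := fun h => hS ⟨hmem, h, hZ''⟩
        have hne : (Submodule.Quotient.mk ((L.presheaf.germ ⊤ ξ'' trivial) s) :
            Cyc.secFibre L ξ'') ≠ 0 := fun h0 => hnZ ((hZ _).mpr h0)
        rw [gysinChoice_eq_of_ne L s w ξ'' hne]
        exact (hU₂' ξ'' hZ'' hnZ x).symm
    · -- `ξ ∉ Z`, `ξ ∉ Z'`
      obtain ⟨W, j, hj, hW, hη, hr⟩ := exists_closure_subscheme ξ
      subst hη
      haveI : IsLocallyNoetherian W := LocallyOfFiniteType.isLocallyNoetherian j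
      have hδ' := Groth.Agent.H48.ClosedDim.isDimFun_comp j δ hδ
      have hL' := PicLoc.isInvertible_pullback j hL
      have hN' := PicLoc.isInvertible_pullback j hN
      have hgermL : ∀ w₀ : W, ((Scheme.Modules.pullback j).obj L).presheaf.germ ⊤ w₀ trivial
          (pullSect j L ⊤ s) = pullStalk j L w₀ ((L.presheaf.germ ⊤ (j w₀) trivial) s) :=
        fun w₀ => (pullStalk_germ j L w₀ ⊤ trivial s).symm
      have hgermN : ∀ w₀ : W, ((Scheme.Modules.pullback j).obj N).presheaf.germ ⊤ w₀ trivial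
          (pullSect j N ⊤ s') = pullStalk j N w₀ ((N.presheaf.germ ⊤ (j w₀) trivial) s') :=
        fun w₀ => (pullStalk_germ j N w₀ ⊤ trivial s').symm
      have hZW : ∀ w₀ : W, w₀ ∈ (j : W → X) ⁻¹' Z ↔
          (Submodule.Quotient.mk (((Scheme.Modules.pullback j).obj L).presheaf.germ ⊤ w₀ trivial
            (pullSect j L ⊤ s)) : Cyc.secFibre ((Scheme.Modules.pullback j).obj L) w₀) = 0 := by
        intro w₀
        rw [hgermL w₀, Set.mem_preimage, hZ (j w₀)]
        constructor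
        · exact mk_pullStalk_eq_zero j L hL w₀ _
        · intro h0
          by_contra hne
          exact mk_pullStalk_ne_zero j L hL w₀ _ hne h0
      have hZ'W : ∀ w₀ : W, w₀ ∈ (j : W → X) ⁻¹' Z' ↔
          (Submodule.Quotient.mk (((Scheme.Modules.pullback j).obj N).presheaf.germ ⊤ w₀ trivial
            (pullSect j N ⊤ s')) : Cyc.secFibre ((Scheme.Modules.pullback j).obj N) w₀) = 0 := by
        intro w₀
        rw [hgermN w₀, Set.mem_preimage, hZ' (j w₀)]
        constructor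
        · exact mk_pullStalk_eq_zero j N hN w₀ _
        · intro h0
          by_contra hne
          exact mk_pullStalk_ne_zero j N hN w₀ _ hne h0
      have hsne : (Submodule.Quotient.mk ((L.presheaf.germ ⊤ (j (genericPoint W)) trivial) s) :
          Cyc.secFibre L (j (genericPoint W))) ≠ 0 := fun h0 => hξZ ((hZ _).mpr h0)
      have hs'ne : (Submodule.Quotient.mk ((N.presheaf.germ ⊤ (j (genericPoint W)) trivial) s') :
          Cyc.secFibre N (j (genericPoint W))) ≠ 0 := fun h0 => hξZ' ((hZ' _).mpr h0)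
      have hsW : (Submodule.Quotient.mk (((Scheme.Modules.pullback j).obj L).presheaf.germ ⊤
          (genericPoint W) trivial (pullSect j L ⊤ s)) :
          Cyc.secFibre ((Scheme.Modules.pullback j).obj L) (genericPoint W)) ≠ 0 :=
        fun h0 => hξZ ((hZW _).mpr h0)
      have hs'W : (Submodule.Quotient.mk (((Scheme.Modules.pullback j).obj N).presheaf.germ ⊤
          (genericPoint W) trivial (pullSect j N ⊤ s')) :
          Cyc.secFibre ((Scheme.Modules.pullback j).obj N) (genericPoint W)) ≠ 0 :=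
        fun h0 => hξZ' ((hZ'W _).mpr h0)
      have hvη := gysinChoice_eq_of_ne L s w (j (genericPoint W)) hsne
      have hv'η := gysinChoice_eq_of_ne N s' w' (j (genericPoint W)) hs'ne
      have hu'W : ∀ w₀ : W, w₀ ∈ (j : W → X) ⁻¹' Z → w₀ ∉ (j : W → X) ⁻¹' Z' → ∀ y : W,
          Cyc.secDivFun (X := W) (fun w : W => δ (j w)) ((Scheme.Modules.pullback j).obj N) w₀
            (pullFam j N U₁ w₀) y =
          Cyc.secDivFun (X := W) (fun w : W => δ (j w)) ((Scheme.Modules.pullback j).obj N) w₀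
            (Submodule.Quotient.mk (((Scheme.Modules.pullback j).obj N).presheaf.germ ⊤ w₀ trivial
              (pullSect j N ⊤ s'))) y := by
        intro w₀ h1 h2 y
        have hne : (Submodule.Quotient.mk ((N.presheaf.germ ⊤ (j w₀) trivial) s') :
            Cyc.secFibre N (j w₀)) ≠ 0 := fun h0 => h2 ((hZ' _).mpr h0)
        rw [← pullFam_spec j δ N hN U₁ hU₁ w₀ y, hU₁' (j w₀) h1 h2 (j y), hgermN w₀,
          secDivFun_pull j N δ hN w₀ y _ hne]
      have hv'W : ∀ w₀ : W, w₀ ∈ (j : W → X) ⁻¹' Z' → w₀ ∉ (j : W → X) ⁻¹' Z → ∀ y : W,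
          Cyc.secDivFun (X := W) (fun w : W => δ (j w)) ((Scheme.Modules.pullback j).obj L) w₀
            (pullFam j L U₂ w₀) y =
          Cyc.secDivFun (X := W) (fun w : W => δ (j w)) ((Scheme.Modules.pullback j).obj L) w₀
            (Submodule.Quotient.mk (((Scheme.Modules.pullback j).obj L).presheaf.germ ⊤ w₀ trivial
              (pullSect j L ⊤ s))) y := by
        intro w₀ h1 h2 y
        have hne : (Submodule.Quotient.mk ((L.presheaf.germ ⊤ (j w₀) trivial) s) :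
            Cyc.secFibre L (j w₀)) ≠ 0 := fun h0 => h2 ((hZ _).mpr h0)
        rw [← pullFam_spec j δ L hL U₂ hU₂ w₀ y, hU₂' (j w₀) h1 h2 (j y), hgermL w₀,
          secDivFun_pull j L δ hL w₀ y _ hne]
      have hkey := gysin_key2 (X := W) (fun w₀ : W => δ (j w₀)) hδ'
        ((Scheme.Modules.pullback j).obj L) ((Scheme.Modules.pullback j).obj N) hL' hN'
        (pullSect j L ⊤ s) (pullSect j N ⊤ s') hsW hs'W ((j : W → X) ⁻¹' Z) ((j : W → X) ⁻¹' Z')
        (hZc.preimage j.continuous) (hZ'c.preimage j.continuous) hZW hZ'W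
        (pullFam j N U₁) (pullFam_ne_zero j N hN U₁ hU₁) (pullFam j L U₂)
        (pullFam_ne_zero j L hL U₂ hU₂) hu'W hv'W
      have hpush := ratZeroOn_push' j δ _ _ _ hkey
        (fun x => Cyc.c1CapFun δ N (Cyc.secDivFun δ L (j (genericPoint W))
            (Cyc.gysinChoice L s w (j (genericPoint W)))) U₁ x -
          Cyc.c1CapFun δ L (Cyc.secDivFun δ N (j (genericPoint W))
            (Cyc.gysinChoice N s' w' (j (genericPoint W)))) U₂ x) ?_ ?_
      · refine hpush.mono ?_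
        rintro _ ⟨w₀, ⟨h1, h2⟩, rfl⟩
        refine ⟨?_, h1, h2⟩
        rw [← hr]
        exact ⟨w₀, rfl⟩
      · intro w₀
        beta_reduce
        have h1 := c1CapFun_pull j δ L N hL hN (genericPoint W) _ hsne U₁ hU₁ w₀
        have h2 := c1CapFun_pull j δ N L hN hL (genericPoint W) _ hs'ne U₂ hU₂ w₀
        rw [hvη, hv'η, h1, h2, hgermL, hgermN]
      · intro x hx
        beta_reduce
        rw [c1CapFun_eq_zero_of_notMem_range j δ L N _ _ U₁ x hx,
          c1CapFun_eq_zero_of_notMem_range j δ N L _ _ U₂ x hx, sub_zero]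

end Groth.Agent.H63.C1
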