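import Mathlib
import Groth.Agent.H63.C1Y
import Groth.Agent.H39.RegImmStalk
import Groth.Agent.H39.RelRegGeom

set_option autoImplicit false
set_option linter.style.haveILetI false
set_option linter.unusedSectionVars false
set_option linter.unusedVariables false
universe u
open CategoryTheory CategoryTheory.Limits AlgebraicGeometry TopologicalSpace Opposite Order

namespace Groth.Agent.H63.C1

open Groth.Agent.H8 Groth.Agent.H18 Groth.Agent.H54.PB Groth.Agent.H54.SecOrd
  Groth.Agent.H54.SecOrdGen Groth.Agent.H54.C1Cap Groth.Agent.H54.C1Struct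
  Groth.Agent.H54.C1Indep

section Alg

theorem exists_unit_mul_of_span_eq {R : Type*} [CommRing R] [IsLocalRing R] {e b : R}
    (h : Ideal.span {e} = Ideal.span {b}) : ∃ c : R, IsUnit c ∧ e = c * b := by
  have he : e ∈ Ideal.span {b} := h ▸ Ideal.mem_span_singleton_self e
  have hb : b ∈ Ideal.span {e} := h.symm ▸ Ideal.mem_span_singleton_self b
  obtain ⟨r, hr⟩ := Ideal.mem_span_singleton'.mp he
  obtain ⟨r', hr'⟩ := Ideal.mem_span_singleton'.mp hb
  by_cases hu : IsUnit r
  · exact ⟨r, hu, hr.symm⟩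
  · have h1 : IsUnit (1 - r * r') := by
      have hm : r * r' ∈ nonunits R := by
        intro hrr
        exact hu (isUnit_of_mul_isUnit_left hrr)
      exact IsLocalRing.isUnit_one_sub_self_of_mem_nonunits _ hm
    have h2 : (1 - r * r') * e = 0 := by
      rw [sub_mul, one_mul, mul_assoc, hr', hr, sub_self]
    have he0 : e = 0 := (h1.mul_right_eq_zero).mp h2
    have hb0 : b = 0 := by rw [← hr', he0, mul_zero]
    exact ⟨1, isUnit_one, by rw [he0, hb0, mul_zero]⟩

theorem exists_unit_smul_of_span_eq_top {R M : Type*} [CommRing R] [AddCommGroup M] [Module R M]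
    {g t : M} (hg : Function.Bijective (fun r : R => r • g))
    (ht : Submodule.span R {t} = ⊤) : ∃ u : R, IsUnit u ∧ t = u • g := by
  obtain ⟨u, hu⟩ := hg.2 t
  have hu' : u • g = t := hu
  have hmem : g ∈ Submodule.span R {t} := ht ▸ Submodule.mem_top
  obtain ⟨r, hr⟩ := Submodule.mem_span_singleton.mp hmem
  have h1 : r * u = 1 := by
    apply hg.1
    change (r * u) • g = (1 : R) • g
    rw [mul_smul, hu', hr, one_smul]
  exact ⟨u, IsUnit.of_mul_eq_one r (by rw [mul_comm]; exact h1), hu'.symm⟩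

end Alg

variable {X D D' : Scheme.{u}} (i : D ⟶ X) (i' : D' ⟶ X) [IsClosedImmersion i]
  [IsClosedImmersion i'] (N : X.Modules) (hN : PicF.IsInvertible N)
  (s' : N.presheaf.obj (Opposite.op ⊤)) (hD' : Cyc.IsZeroSchemeOf i' N s')
  {P : Scheme.{u}} (p : P ⟶ D) (q : P ⟶ D') (H : IsPullback p q i i')

include hN hD' in
/-- the stalk of the ideal of the zero scheme is generated by the coefficient of the section. -/
theorem ker_ideal_map_germ (y : X) (hy : y ∈ Set.range i') (t : N.presheaf.stalk y)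
    (f : X.presheaf.stalk y) (ht : Submodule.span (X.presheaf.stalk y) {t} = ⊤)
    (hf : (N.presheaf.germ ⊤ y trivial) s' = f • t) (W : X.affineOpens) (hyW : y ∈ W.1) :
    (i'.ker.ideal W).map (X.presheaf.germ W.1 y hyW).hom = Ideal.span {f} := by
  obtain ⟨z', rfl⟩ := hy
  rw [← Groth.Agent.H39.RegImmStalk.ker_stalkMap_eq i' z' W hyW]
  obtain ⟨t₂, f₂, ht₂, hf₂, hker⟩ := hD'.2 z'
  rw [hker]
  obtain ⟨U, hxU, τ, hτ⟩ := exists_isFreeGen_of_isInvertible hN (i' z')
  have hg := hτ.germ_bijective hxU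
  obtain ⟨v, hv, rfl⟩ := exists_unit_smul_of_span_eq_top hg ht
  obtain ⟨v₂, hv₂, rfl⟩ := exists_unit_smul_of_span_eq_top hg ht₂
  have key : f₂ * v₂ = f * v := by
    apply hg.1
    change (f₂ * v₂) • _ = (f * v) • _
    rw [mul_smul, mul_smul, ← hf₂, hf]
  rw [← Ideal.span_singleton_mul_right_unit hv₂ f₂, key, Ideal.span_singleton_mul_right_unit hv f]

include hN hD' H in
/-- base change of the zero scheme: the kernel of the stalk map of `D ∩ D' → D`. -/
theorem ker_stalkMap_fst (z : P)
    (t : N.presheaf.stalk (i (p z)))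
    (f : X.presheaf.stalk (i (p z)))
    (ht : Submodule.span (X.presheaf.stalk (i (p z))) {t} = ⊤)
    (hf : (N.presheaf.germ ⊤ (i (p z)) trivial) s' = f • t) :
    RingHom.ker (p.stalkMap z).hom =
      Ideal.span {(i.stalkMap (p z)).hom f} := by
  obtain ⟨_, ⟨W, hW, rfl⟩, hxW, -⟩ := X.isBasis_affineOpens.exists_subset_of_mem_open
    (Set.mem_univ (i (p z))) isOpen_univ
  have hUT : IsAffineOpen (i ⁻¹ᵁ W) := hW.preimage i
  have hdU : p z ∈ i ⁻¹ᵁ W := hxW
  haveI : IsClosedImmersion p := MorphismProperty.of_isPullback (P := @IsClosedImmersion) H.flip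
    inferInstance
  have hk1 := Groth.Agent.H39.RegImmStalk.ker_stalkMap_eq p z
    ⟨i ⁻¹ᵁ W, hUT⟩ hdU
  have hk2 := Groth.Agent.H39.RelRegGeom.ker_app_of_isPullback H.flip (US := W) (UT := i ⁻¹ᵁ W)
    le_rfl hW hUT
  have hrange : i (p z) ∈ Set.range i' := by
    refine ⟨q z, ?_⟩
    rw [← Scheme.Hom.comp_apply, ← H.w, Scheme.Hom.comp_apply]
  have hk3 := ker_ideal_map_germ i' N hN s' hD' _ hrange t f ht hf ⟨W, hW⟩ hxW
  rw [hk1, Scheme.Hom.ker_apply, hk2, Scheme.Hom.appLE_eq_app, Ideal.map_map]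
  rw [Scheme.Hom.ker_apply] at hk3
  have hcomp : (D.presheaf.germ (i ⁻¹ᵁ W) (p z) hdU).hom.comp (i.app W).hom =
      (i.stalkMap (p z)).hom.comp
        (X.presheaf.germ W (i (p z)) hxW).hom := by
    have := Scheme.Hom.germ_stalkMap i W (p z) hxW
    exact (congrArg CommRingCat.Hom.hom this).symm
  rw [hcomp, ← Ideal.map_map, hk3, Ideal.map_span, Set.image_singleton]

variable (σ' : ((Scheme.Modules.pullback i).obj N).presheaf.obj (Opposite.op ⊤))
  (hσ' : Cyc.IsZeroSchemeOf p ((Scheme.Modules.pullback i).obj N) σ')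

include hN hD' hσ' H in
/-- any section of `i^*N` cutting out `D ∩ D'` in `D` is stalkwise a unit multiple of `i^*s'`. -/
theorem exists_unit_germ_eq (d : D) :
    ∃ c : D.presheaf.stalk d, IsUnit c ∧
      ((Scheme.Modules.pullback i).obj N).presheaf.germ ⊤ d trivial σ' =
        c • ((Scheme.Modules.pullback i).obj N).presheaf.germ ⊤ d trivial
          (pullSect i N ⊤ s') := by
  obtain ⟨U, hxU, τ, hτ⟩ := exists_isFreeGen_of_isInvertible hN (i d)
  have hg := hτ.germ_bijective hxU
  have hτ' := isFreeGen_pullSect i N hτ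
  have hg' := hτ'.germ_bijective (mem_pre i hxU)
  obtain ⟨a, ha⟩ := hg.2 ((N.presheaf.germ ⊤ (i d) trivial) s')
  have ha' : (N.presheaf.germ ⊤ (i d) trivial) s' = a • N.presheaf.germ U (i d) hxU τ := ha.symm
  have hspan : Submodule.span (X.presheaf.stalk (i d)) {N.presheaf.germ U (i d) hxU τ} = ⊤ := by
    rw [eq_top_iff]
    intro m _
    obtain ⟨r, hr⟩ := hg.2 m
    exact Submodule.mem_span_singleton.mpr ⟨r, hr⟩
  have hpull : ((Scheme.Modules.pullback i).obj N).presheaf.germ ⊤ d trivial
      (pullSect i N ⊤ s') = (i.stalkMap d).hom a •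
        ((Scheme.Modules.pullback i).obj N).presheaf.germ (i ⁻¹ᵁ U) d (mem_pre i hxU)
          (pullSect i N U τ) := by
    have hgermN : ((Scheme.Modules.pullback i).obj N).presheaf.germ ⊤ d trivial
        (pullSect i N ⊤ s') = pullStalk i N d ((N.presheaf.germ ⊤ (i d) trivial) s') :=
      (pullStalk_germ i N d ⊤ trivial s').symm
    rw [hgermN, ha', pullStalk_smul, pullStalk_germ]
  obtain ⟨e, he⟩ := hg'.2 (((Scheme.Modules.pullback i).obj N).presheaf.germ ⊤ d trivial σ')
  have he' : ((Scheme.Modules.pullback i).obj N).presheaf.germ ⊤ d trivial σ' =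
      e • ((Scheme.Modules.pullback i).obj N).presheaf.germ (i ⁻¹ᵁ U) d (mem_pre i hxU)
        (pullSect i N U τ) := he.symm
  by_cases hd : d ∈ Set.range p
  · obtain ⟨z, rfl⟩ := hd
    obtain ⟨t₁, f₁, ht₁, hf₁, hker⟩ := hσ'.2 z
    obtain ⟨v, hv, rfl⟩ := exists_unit_smul_of_span_eq_top hg' ht₁
    have hef : e = f₁ * v := by
      apply hg'.1
      change e • _ = (f₁ * v) • _
      rw [mul_smul, ← hf₁, he']
    have hk := ker_stalkMap_fst i i' N hN s' hD' p q H z _ a hspan ha'
    have hspan_eq : Ideal.span {e} = Ideal.span {(i.stalkMap (p z)).hom a} := by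
      rw [hef, Ideal.span_singleton_mul_right_unit hv, ← hker, hk]
    obtain ⟨c, hc, hce⟩ := exists_unit_mul_of_span_eq hspan_eq
    exact ⟨c, hc, by rw [he', hpull, hce, mul_smul]⟩
  · have h1 : (Submodule.Quotient.mk (((Scheme.Modules.pullback i).obj N).presheaf.germ ⊤ d
        trivial σ') : Cyc.secFibre ((Scheme.Modules.pullback i).obj N) d) ≠ 0 := by
      intro h0
      apply hd
      rw [hσ'.1]
      exact h0
    have heu : IsUnit e := by
      by_contra hnu
      exact not_mem_of_mk_ne_zero _ hτ' (mem_pre i hxU) e _ he' h1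
        ((IsLocalRing.mem_maximalIdeal _).mpr hnu)
    have hx : i d ∉ Set.range i' := by
      intro hx
      apply hd
      have h3 : d ∈ Set.range (pullback.fst i i') := by
        rw [Scheme.Pullback.range_fst]
        exact hx
      obtain ⟨z₀, rfl⟩ := h3
      refine ⟨H.isoPullback.inv z₀, ?_⟩
      rw [← Scheme.Hom.comp_apply, H.isoPullback_inv_fst]
    have h2 : (Submodule.Quotient.mk ((N.presheaf.germ ⊤ (i d) trivial) s') :
        Cyc.secFibre N (i d)) ≠ 0 := by
      intro h0
      apply hx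
      rw [hD'.1]
      exact h0
    have hau : IsUnit a := by
      by_contra hnu
      exact not_mem_of_mk_ne_zero N hτ hxU a _ ha' h2
        ((IsLocalRing.mem_maximalIdeal _).mpr hnu)
    have hbu : IsUnit ((i.stalkMap d).hom a) := hau.map _
    obtain ⟨b', hb'⟩ := hbu
    refine ⟨e * ↑b'⁻¹, heu.mul (Units.isUnit _), ?_⟩
    rw [he', hpull, ← hb', ← mul_smul, mul_assoc, Units.inv_mul, mul_one]

include hN hD' hσ' H in
/-- the divisors of `σ'` and of `i^*s'` on the closure of a point of `D` agree. -/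
theorem secDivFun_germ_eq (δ' : D → ℤ) (d : D)
    (hd : (Submodule.Quotient.mk (((Scheme.Modules.pullback i).obj N).presheaf.germ ⊤ d
      trivial σ') : Cyc.secFibre ((Scheme.Modules.pullback i).obj N) d) ≠ 0) (d'' : D) :
    Cyc.secDivFun δ' ((Scheme.Modules.pullback i).obj N) d
        (Submodule.Quotient.mk (((Scheme.Modules.pullback i).obj N).presheaf.germ ⊤ d
          trivial σ')) d'' =
      Cyc.secDivFun δ' ((Scheme.Modules.pullback i).obj N) d
        (Submodule.Quotient.mk (((Scheme.Modules.pullback i).obj N).presheaf.germ ⊤ d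
          trivial (pullSect i N ⊤ s'))) d'' := by
  have hN' := PicLoc.isInvertible_pullback i hN
  unfold Cyc.secDivFun
  split_ifs with h
  · obtain ⟨c, hc, hσc⟩ := exists_unit_germ_eq i i' N hN s' hD' p q H σ' hσ' d''
    have e1 : (((Scheme.Modules.pullback i).obj N).presheaf.stalkSpecializes h.1)
        (((Scheme.Modules.pullback i).obj N).presheaf.germ ⊤ d'' trivial σ') =
        ((Scheme.Modules.pullback i).obj N).presheaf.germ ⊤ d trivial σ' :=
      TopCat.Presheaf.germ_stalkSpecializes_apply _ _ _ _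
    have e2 : (((Scheme.Modules.pullback i).obj N).presheaf.stalkSpecializes h.1)
        (((Scheme.Modules.pullback i).obj N).presheaf.germ ⊤ d'' trivial (pullSect i N ⊤ s')) =
        ((Scheme.Modules.pullback i).obj N).presheaf.germ ⊤ d trivial (pullSect i N ⊤ s') :=
      TopCat.Presheaf.germ_stalkSpecializes_apply _ _ _ _
    have hrel : ((Scheme.Modules.pullback i).obj N).presheaf.germ ⊤ d trivial σ' =
        (D.presheaf.stalkSpecializes h.1).hom c •
          ((Scheme.Modules.pullback i).obj N).presheaf.germ ⊤ d trivial (pullSect i N ⊤ s') := by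
      rw [← e1, hσc, stalkSpecializes_smul, e2]
    have hcu : IsUnit ((D.presheaf.stalkSpecializes h.1).hom c) := hc.map _
    have hcm : (D.presheaf.stalkSpecializes h.1).hom c ∉
        IsLocalRing.maximalIdeal (D.presheaf.stalk d) :=
      fun hm => (IsLocalRing.mem_maximalIdeal _).mp hm hcu
    have hm₂ : (Submodule.Quotient.mk (((Scheme.Modules.pullback i).obj N).presheaf.germ ⊤ d
        trivial (pullSect i N ⊤ s')) : Cyc.secFibre ((Scheme.Modules.pullback i).obj N) d) ≠ 0 := by
      intro h0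
      apply hd
      rw [hrel, Submodule.Quotient.mk_smul, h0, smul_zero]
    rw [hrel, secOrdAt_smul hN' h.1 _ hm₂ _ hcm]
    have h0 := ordAt_specMap_of_isUnit d'' d h.1 c hc
    have h0' : Cyc.ordAt d'' d h.1 (D.residue d ((D.presheaf.stalkSpecializes h.1).hom c)) = 0 :=
      h0
    rw [h0', zero_add]
  · rfl

end Groth.Agent.H63.C1
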