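import Mathlib
import Groth.Agent.H63.C1Z

set_option autoImplicit false
set_option linter.style.haveILetI false
set_option linter.unusedSectionVars false
set_option linter.unusedVariables false
universe u
open CategoryTheory CategoryTheory.Limits AlgebraicGeometry TopologicalSpace Opposite Order

namespace Groth.Agent.H63.C1

open Groth.Agent.H8 Groth.Agent.H18 Groth.Agent.H54.PB Groth.Agent.H54.SecOrd
  Groth.Agent.H54.SecOrdGen Groth.Agent.H54.C1Cap Groth.Agent.H54.C1Struct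
  Groth.Agent.H54.C1Indep

section Lift

variable {X D D' : Scheme.{u}} (i : D ⟶ X) (i' : D' ⟶ X) [IsClosedImmersion i]
  [IsClosedImmersion i'] (N : X.Modules) (hN : PicF.IsInvertible N)
  (s' : N.presheaf.obj (Opposite.op ⊤)) (hD' : Cyc.IsZeroSchemeOf i' N s')
  {P : Scheme.{u}} (p : P ⟶ D) (q : P ⟶ D') (H : IsPullback p q i i')
  (σ' : ((Scheme.Modules.pullback i).obj N).presheaf.obj (Opposite.op ⊤))
  (hσ' : Cyc.IsZeroSchemeOf p ((Scheme.Modules.pullback i).obj N) σ')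

include hN hD' H hσ' in
/-- a family on `X` inducing the Gysin family of `(i^*N, σ')` on `D` has the divisors of `s'` at
the points of `D` outside `D'`. -/
theorem lift_gysin_family (δ : X → ℤ)
    (w₁ : (d : D) → Cyc.secFibre ((Scheme.Modules.pullback i).obj N) d)
    (U₁ : (ξ : X) → Cyc.secFibre N ξ)
    (hQ₁ : ∀ d d'' : D, Cyc.secDivFun δ N (i d) (U₁ (i d)) (i d'') =
      Cyc.secDivFun (X := D) (fun d : D => δ (i d)) ((Scheme.Modules.pullback i).obj N) d
        (Cyc.gysinChoice ((Scheme.Modules.pullback i).obj N) σ' w₁ d) d'')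
    (ξ' : X) (hξ' : ξ' ∈ Set.range i) (hξ'n : ξ' ∉ Set.range i') (x : X) :
    Cyc.secDivFun δ N ξ' (U₁ ξ') x =
      Cyc.secDivFun δ N ξ' (Submodule.Quotient.mk ((N.presheaf.germ ⊤ ξ' trivial) s')) x := by
  obtain ⟨d, rfl⟩ := hξ'
  by_cases hx : x ∈ Set.range i
  · obtain ⟨d'', rfl⟩ := hx
    have hdp : d ∉ Set.range p := by
      rintro ⟨z, rfl⟩
      apply hξ'n
      refine ⟨q z, ?_⟩
      rw [← Scheme.Hom.comp_apply, ← H.w, Scheme.Hom.comp_apply]
    have hdne : (Submodule.Quotient.mk (((Scheme.Modules.pullback i).obj N).presheaf.germ ⊤ d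
        trivial σ') : Cyc.secFibre ((Scheme.Modules.pullback i).obj N) d) ≠ 0 := by
      intro h0
      apply hdp
      rw [hσ'.1]
      exact h0
    have hne' : (Submodule.Quotient.mk ((N.presheaf.germ ⊤ (i d) trivial) s') :
        Cyc.secFibre N (i d)) ≠ 0 := by
      intro h0
      apply hξ'n
      rw [hD'.1]
      exact h0
    have hgermN : ((Scheme.Modules.pullback i).obj N).presheaf.germ ⊤ d trivial
        (pullSect i N ⊤ s') = pullStalk i N d ((N.presheaf.germ ⊤ (i d) trivial) s') :=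
      (pullStalk_germ i N d ⊤ trivial s').symm
    rw [hQ₁ d d'', gysinChoice_eq_of_ne _ σ' w₁ d hdne,
      secDivFun_germ_eq i i' N hN s' hD' p q H σ' hσ' (fun d : D => δ (i d)) d hdne d'',
      hgermN, secDivFun_pull i N δ hN d d'' _ hne']
  · rw [secDivFun_eq_zero_of_notMem_range i N δ d _ x hx,
      secDivFun_eq_zero_of_notMem_range i N δ d _ x hx]

end Lift

/-- **Commutativity of two Gysin maps.** -/
theorem gysin_gysin (X D D' : Scheme.{u}) (δ : X → ℤ) (hX : Cyc.IsSetup X δ) (L L' : X.Modules)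
    (hL : PicF.IsInvertible L) (hL' : PicF.IsInvertible L')
    (s : L.presheaf.obj (Opposite.op ⊤)) (s' : L'.presheaf.obj (Opposite.op ⊤))
    (i : D ⟶ X) (i' : D' ⟶ X) [IsClosedImmersion i] [IsClosedImmersion i']
    (hD : Cyc.IsZeroSchemeOf i L s) (hD' : Cyc.IsZeroSchemeOf i' L' s')
    (σ' : ((Scheme.Modules.pullback i).obj L').presheaf.obj (Opposite.op ⊤))
    (hσ' : Cyc.IsZeroSchemeOf (pullback.fst i i') ((Scheme.Modules.pullback i).obj L') σ')
    (σ : ((Scheme.Modules.pullback i').obj L).presheaf.obj (Opposite.op ⊤))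
    (hσ : Cyc.IsZeroSchemeOf (pullback.snd i i') ((Scheme.Modules.pullback i').obj L) σ)
    (k : ℤ) (α : AlgebraicCycle X ℤ) (hα : α ∈ Cyc.Zk X δ k)
    (w : (ξ : X) → Cyc.secFibre L ξ) (hw : ∀ ξ, w ξ ≠ 0)
    (w' : (ξ : X) → Cyc.secFibre L' ξ) (hw' : ∀ ξ, w' ξ ≠ 0)
    (w₁ : (d : D) → Cyc.secFibre ((Scheme.Modules.pullback i).obj L') d) (hw₁ : ∀ d, w₁ d ≠ 0)
    (w₂ : (d : D') → Cyc.secFibre ((Scheme.Modules.pullback i').obj L) d) (hw₂ : ∀ d, w₂ d ≠ 0)
    (γ : D → ℤ) (hγ : γ = fun d => Cyc.c1CapFun δ L ⇑α (Cyc.gysinChoice L s w) (i d))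
    (γ' : D' → ℤ) (hγ' : γ' = fun d => Cyc.c1CapFun δ L' ⇑α (Cyc.gysinChoice L' s' w') (i' d))
    (ζ₁ ζ₂ : AlgebraicCycle (pullback i i') ℤ)
    (h₁ : ∀ z, ζ₁ z = Cyc.c1CapFun (fun d => δ (i d)) ((Scheme.Modules.pullback i).obj L') γ
      (Cyc.gysinChoice ((Scheme.Modules.pullback i).obj L') σ' w₁) (pullback.fst i i' z))
    (h₂ : ∀ z, ζ₂ z = Cyc.c1CapFun (fun d => δ (i' d)) ((Scheme.Modules.pullback i').obj L) γ'
      (Cyc.gysinChoice ((Scheme.Modules.pullback i').obj L) σ w₂) (pullback.snd i i' z)) :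
    Cyc.RatEquiv (fun z => δ (i (pullback.fst i i' z))) (k - 2) ζ₁ ζ₂ := by
  classical
  haveI : IsLocallyNoetherian X := hX.1
  have hδ := hX.2.2
  subst hγ hγ'
  have hZc : IsClosed (Set.range i) := i.isClosedEmbedding.isClosed_range
  have hZ'c : IsClosed (Set.range i') := i'.isClosedEmbedding.isClosed_range
  have hZ : ∀ x : X, x ∈ Set.range i ↔
      (Submodule.Quotient.mk ((L.presheaf.germ ⊤ x trivial) s) : Cyc.secFibre L x) = 0 := by
    intro x
    rw [hD.1]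
    rfl
  have hZ' : ∀ x : X, x ∈ Set.range i' ↔
      (Submodule.Quotient.mk ((L'.presheaf.germ ⊤ x trivial) s') : Cyc.secFibre L' x) = 0 := by
    intro x
    rw [hD'.1]
    rfl
  set G := Cyc.gysinChoice L s w with hGdef
  set G' := Cyc.gysinChoice L' s' w' with hG'def
  have hG : ∀ ξ, G ξ ≠ 0 := gysinChoice_ne_zero L s w hw
  have hG' : ∀ ξ, G' ξ ≠ 0 := gysinChoice_ne_zero L' s' w' hw'
  set T₁ := Cyc.gysinChoice ((Scheme.Modules.pullback i).obj L') σ' w₁ with hT₁def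
  set T₂ := Cyc.gysinChoice ((Scheme.Modules.pullback i').obj L) σ w₂ with hT₂def
  have hT₁ : ∀ d, T₁ d ≠ 0 := gysinChoice_ne_zero _ σ' w₁ hw₁
  have hT₂ : ∀ d, T₂ d ≠ 0 := gysinChoice_ne_zero _ σ w₂ hw₂
  obtain ⟨U₁, hU₁, hQ₁⟩ := exists_family_lift i L' hL' δ T₁ hT₁
  obtain ⟨U₂, hU₂, hQ₂⟩ := exists_family_lift i' L hL δ T₂ hT₂
  have H : IsPullback (pullback.fst i i') (pullback.snd i i') i i' := IsPullback.of_hasPullback i i'
  have hU₁' : ∀ ξ' : X, ξ' ∈ Set.range i → ξ' ∉ Set.range i' → ∀ x : X,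
      Cyc.secDivFun δ L' ξ' (U₁ ξ') x =
        Cyc.secDivFun δ L' ξ' (Submodule.Quotient.mk ((L'.presheaf.germ ⊤ ξ' trivial) s')) x :=
    lift_gysin_family i i' L' hL' s' hD' (pullback.fst i i') (pullback.snd i i') H σ' hσ' δ w₁ U₁ hQ₁
  have hU₂' : ∀ ξ' : X, ξ' ∈ Set.range i' → ξ' ∉ Set.range i → ∀ x : X,
      Cyc.secDivFun δ L ξ' (U₂ ξ') x =
        Cyc.secDivFun δ L ξ' (Submodule.Quotient.mk ((L.presheaf.germ ⊤ ξ' trivial) s)) x :=
    lift_gysin_family i' i L hL s hD (pullback.snd i i') (pullback.fst i i') H.flip σ hσ δ w₂ U₂ hQ₂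
  -- the closed immersion of the intersection
  let q : pullback i i' ⟶ X := pullback.fst i i' ≫ i
  haveI : IsClosedImmersion (pullback.fst i i') :=
    MorphismProperty.of_isPullback (P := @IsClosedImmersion) H.flip inferInstance
  haveI : IsClosedImmersion q := inferInstance
  have hqz : ∀ z, q z = i (pullback.fst i i' z) := fun z => Scheme.Hom.comp_apply _ _ z
  have hqz' : ∀ z, i' (pullback.snd i i' z) = i (pullback.fst i i' z) := by
    intro z
    rw [← Scheme.Hom.comp_apply, ← pullback.condition, Scheme.Hom.comp_apply]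
  have hrange : Set.range q = Set.range i ∩ Set.range i' := by
    ext x
    constructor
    · rintro ⟨z, rfl⟩
      exact ⟨⟨pullback.fst i i' z, (hqz z).symm⟩, ⟨pullback.snd i i' z, (hqz' z).trans (hqz z).symm⟩⟩
    · rintro ⟨⟨d, rfl⟩, hx'⟩
      have h3 : d ∈ Set.range (pullback.fst i i') := by
        rw [Scheme.Pullback.range_fst]
        exact hx'
      obtain ⟨z, rfl⟩ := h3
      exact ⟨z, hqz z⟩
  have hdim : ∀ ξ : X, α ξ ≠ 0 → δ ξ = k := by
    intro ξ hξ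
    by_contra hne
    exact hξ (hα ξ hne)
  have hg : ∀ a : {ξ : X // α ξ ≠ 0},
      RatZeroOn δ (k - 2) (closure {a.1} ∩ (Set.range i ∩ Set.range i'))
      (fun x => α a.1 * (Cyc.c1CapFun δ L' (Cyc.secDivFun δ L a.1 (G a.1)) U₁ x -
        Cyc.c1CapFun δ L (Cyc.secDivFun δ L' a.1 (G' a.1)) U₂ x)) := by
    intro a
    have h := gysin2_comm_pt δ hδ L L' hL hL' s s' (Set.range i) (Set.range i') hZc hZ'c hZ hZ'
      a.1 w hw w' hw' U₁ hU₁ U₂ hU₂ hU₁' hU₂'
    rw [hdim a.1 a.2] at h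
    exact h.zsmul (α a.1)
  have hlf' : ∀ x : X, ∃ U : Set X, IsOpen U ∧ x ∈ U ∧
      {a : {ξ : X // α ξ ≠ 0} |
        ((closure {a.1} ∩ (Set.range i ∩ Set.range i')) ∩ U).Nonempty}.Finite := by
    intro x
    obtain ⟨U, hU, hxU, hfin⟩ := locallyFinite_closure_support α x
    refine ⟨U, hU, hxU, hfin.subset ?_⟩
    rintro a ⟨y, ⟨hy, -⟩, hyU⟩
    exact ⟨y, hy, hyU⟩
  have hsum := ratZeroOn_sum (δ := δ) (k := k - 2)
    (fun a : {ξ : X // α ξ ≠ 0} => closure {a.1} ∩ (Set.range i ∩ Set.range i'))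
    (fun a => isClosed_closure.inter (hZc.inter hZ'c)) hlf' _ hg
  have hX' : RatZeroOn δ (k - 2) (Set.range q)
      (fun x => Cyc.c1CapFun δ L' (Cyc.c1CapFun δ L ⇑α G) U₁ x -
        Cyc.c1CapFun δ L (Cyc.c1CapFun δ L' ⇑α G') U₂ x) := by
    refine (hsum.mono ?_).congr fun x => ?_
    · intro y hy
      obtain ⟨a, hya⟩ := Set.mem_iUnion.mp hy
      rw [hrange]
      exact hya.2
    · rw [c1CapFun_c1CapFun δ hδ α L' L hL U₁ G hG x, c1CapFun_c1CapFun δ hδ α L L' hL' U₂ G' hG' x,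
        ← finsum_sub_distrib (finite_support_cap δ α L' L U₁ G x)
          (finite_support_cap δ α L L' U₂ G' x)]
      rw [finsum_eq_finsum_subtype (fun ξ : X =>
        α ξ * Cyc.c1CapFun δ L' (Cyc.secDivFun δ L ξ (G ξ)) U₁ x -
          α ξ * Cyc.c1CapFun δ L (Cyc.secDivFun δ L' ξ (G' ξ)) U₂ x) (fun ξ => α ξ ≠ 0)]
      · refine finsum_congr fun a => ?_
        ring
      · intro ξ hξ
        have : α ξ = 0 := not_not.mp hξ
        rw [this, zero_mul, zero_mul, sub_zero]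
  have hpull := ratZeroOn_pull q δ (k - 2) _ hX'
  have hδq : (fun z : (pullback i i' : Scheme.{u}) => δ (q z)) =
      fun z => δ (i (pullback.fst i i' z)) := funext fun z => by rw [hqz z]
  rw [hδq] at hpull
  unfold Cyc.RatEquiv
  refine ratEquivZero_of_ratZeroOn (ζ₁ - ζ₂) (hpull.congr fun z => ?_)
  have hcoe : (ζ₁ - ζ₂) z = ζ₁ z - ζ₂ z := rfl
  have hγX : ∀ x, x ∉ Set.range i → Cyc.c1CapFun δ L ⇑α G x = 0 := by
    intro x hx
    unfold Cyc.c1CapFun
    apply finsum_eq_zero_of_forall_eq_zero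
    intro ξ
    rw [secDivFun_gysinChoice_eq_zero δ L hL s (Set.range i) hZc hZ w ξ x hx, mul_zero]
  have hγ'X : ∀ x, x ∉ Set.range i' → Cyc.c1CapFun δ L' ⇑α G' x = 0 := by
    intro x hx
    unfold Cyc.c1CapFun
    apply finsum_eq_zero_of_forall_eq_zero
    intro ξ
    rw [secDivFun_gysinChoice_eq_zero δ L' hL' s' (Set.range i') hZ'c hZ' w' ξ x hx, mul_zero]
  have hA := c1CapFun_pull_gen i δ L' _ hγX U₁ T₁ hQ₁ (pullback.fst i i' z)
  have hB := c1CapFun_pull_gen i' δ L _ hγ'X U₂ T₂ hQ₂ (pullback.snd i i' z)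
  rw [hcoe, h₁ z, h₂ z, ← hA, ← hB, hqz z, hqz' z]

end Groth.Agent.H63.C1
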