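import Mathlib
import Groth.Prelude.Def_LocRes
import Groth.Agent.H55.WExt

set_option autoImplicit false
set_option linter.style.haveILetI false
set_option linter.unusedSectionVars false

namespace Groth.Agent.H63.ComplBasis
open LocRes HahnSeries LaurentSeries WithZero Module Groth.Agent.H55

universe u v

variable {K : Type u} [Field K] {F E : Type v} [Field F] [Field E] [Algebra K F] [Algebra F E]
  [Algebra K E] [IsScalarTower K F E]
variable (vF : Valuation F (WithZero (Multiplicative ℤ))) (w : Valuation E (WithZero (Multiplicative ℤ)))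
  (φ : F →ₐ[K] K⸨X⸩) (hφ : LocRes.IsExpansionAt vF φ) (hφs : Function.Surjective φ)

/-- the element of `F` with a prescribed power series expansion -/
noncomputable def cser (a : ℕ → K) : F :=
  Classical.choose (hφs ((PowerSeries.mk a : PowerSeries K) : K⸨X⸩))

theorem φ_cser (a : ℕ → K) : φ (cser φ hφs a) = ((PowerSeries.mk a : PowerSeries K) : K⸨X⸩) :=
  Classical.choose_spec (hφs ((PowerSeries.mk a : PowerSeries K) : K⸨X⸩))

include hφ in
theorem v_cser_le (a : ℕ → K) : vF (cser φ hφs a) ≤ 1 := by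
  rw [← hφ.1, φ_cser, LaurentSeries.val_le_one_iff_eq_coe]
  exact ⟨_, rfl⟩

/-- the local parameter with expansion `X` -/
noncomputable def tX : F := Classical.choose (hφs (single 1 1))

theorem φ_tX : φ (tX φ hφs) = single 1 1 := Classical.choose_spec (hφs (single 1 1))

include hφ in
theorem v_tX : vF (tX φ hφs) = exp (-1 : ℤ) := by
  rw [← hφ.1, φ_tX]
  have := LaurentSeries.valuation_single_zpow (K := K) 1
  simpa using this

theorem cser_shift (a : ℕ → K) :
    cser φ hφs a = algebraMap K F (a 0) + tX φ hφs * cser φ hφs (fun j => a (j + 1)) := by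
  apply φ.toRingHom.injective
  change φ _ = φ _
  rw [map_add, map_mul, φ_cser, φ_cser, φ_tX, φ.commutes, LocRes.algebraMap_eq_C]
  conv_lhs => rw [PowerSeries.eq_X_mul_shift_add_const (PowerSeries.mk a)]
  rw [PowerSeries.coe_add, PowerSeries.coe_mul, PowerSeries.coe_X, PowerSeries.coe_C, add_comm]
  simp only [PowerSeries.coeff_mk, PowerSeries.constantCoeff_mk]

section stepA
variable (e : ℕ) (he : ∀ a : F, w (algebraMap F E a) = vF a ^ e) (he0 : 0 < e)
  {ι : Type*} [Fintype ι] (g : ι → E) (hg : ∀ i, w (g i) ≤ 1)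
  (H1 : ∀ z : E, w z ≤ 1 → ∃ a : ι → K, w (z - ∑ i, a i • g i) ≤ exp (-(e : ℤ)))

include hφ he in
theorem w_tX : w (algebraMap F E (tX φ hφs)) = exp (-(e : ℤ)) := by
  rw [he, v_tX vF φ hφ hφs, exp_pow_nat]
  congr 1
  ring

include hφ he H1 in
/-- one step of the approximation -/
theorem exists_step (z : E) (hz : w z ≤ 1) :
    ∃ a : ι → K, ∃ z' : E, w z' ≤ 1 ∧
      z = ∑ i, a i • g i + algebraMap F E (tX φ hφs) * z' := by
  obtain ⟨a, ha⟩ := H1 z hz
  have ht := w_tX vF w φ hφ hφs e he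
  have ht0 : algebraMap F E (tX φ hφs) ≠ 0 := by
    intro h0
    rw [h0, map_zero] at ht
    exact exp_ne_zero ht.symm
  refine ⟨a, (algebraMap F E (tX φ hφs))⁻¹ * (z - ∑ i, a i • g i), ?_, ?_⟩
  · rw [map_mul, map_inv₀, ht]
    calc (exp (-(e : ℤ)))⁻¹ * w (z - ∑ i, a i • g i)
        ≤ (exp (-(e : ℤ)))⁻¹ * exp (-(e : ℤ)) := mul_le_mul' le_rfl ha
      _ = 1 := inv_mul_cancel₀ exp_ne_zero
  · rw [← mul_assoc, mul_inv_cancel₀ ht0, one_mul]
    ring

/-- the integral elements of `E` as a type -/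
abbrev Bw := {z : E // w z ≤ 1}

include hφ he H1 in
theorem exists_next (z : Bw w) : ∃ p : (ι → K) × Bw w,
    (z : E) = ∑ i, p.1 i • g i + algebraMap F E (tX φ hφs) * (p.2 : E) := by
  obtain ⟨a, z', hz', h⟩ := exists_step vF w φ hφ hφs e he g H1 z.1 z.2
  exact ⟨(a, ⟨z', hz'⟩), h⟩

/-- the approximation sequence -/
noncomputable def next (z : Bw w) : (ι → K) × Bw w :=
  Classical.choose (exists_next vF w φ hφ hφs e he g H1 z)

theorem next_spec (z : Bw w) : (z : E) = ∑ i, (next vF w φ hφ hφs e he g H1 z).1 i • g i +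
    algebraMap F E (tX φ hφs) * ((next vF w φ hφ hφs e he g H1 z).2 : E) :=
  Classical.choose_spec (exists_next vF w φ hφ hφs e he g H1 z)

/-- the sequence of remainders -/
noncomputable def zseq (z : Bw w) : ℕ → Bw w
  | 0 => z
  | n + 1 => (next vF w φ hφ hφs e he g H1 (zseq z n)).2

/-- the sequence of coefficient vectors -/
noncomputable def aseq (z : Bw w) (n : ℕ) : ι → K :=
  (next vF w φ hφ hφs e he g H1 (zseq vF w φ hφ hφs e he g H1 z n)).1

theorem zseq_spec (z : Bw w) (n : ℕ) :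
    (zseq vF w φ hφ hφs e he g H1 z n : E) =
      ∑ i, aseq vF w φ hφ hφs e he g H1 z n i • g i +
        algebraMap F E (tX φ hφs) * (zseq vF w φ hφ hφs e he g H1 z (n + 1) : E) :=
  next_spec vF w φ hφ hφs e he g H1 _

/-- the limiting coefficients, shifted by `n` -/
noncomputable def cs (z : Bw w) (n : ℕ) (i : ι) : F :=
  cser φ hφs (fun j => aseq vF w φ hφ hφs e he g H1 z (j + n) i)

theorem cs_shift (z : Bw w) (n : ℕ) (i : ι) :
    cs vF w φ hφ hφs e he g H1 z n i =
      algebraMap K F (aseq vF w φ hφ hφs e he g H1 z n i) +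
        tX φ hφs * cs vF w φ hφ hφs e he g H1 z (n + 1) i := by
  unfold cs
  rw [cser_shift]
  have h1 : (fun j => aseq vF w φ hφ hφs e he g H1 z (j + 1 + n) i) =
      fun j => aseq vF w φ hφ hφs e he g H1 z (j + (n + 1)) i := by
    funext j
    rw [show j + 1 + n = j + (n + 1) by omega]
  rw [h1, Nat.zero_add]

/-- the remainders -/
noncomputable def rem (z : Bw w) (n : ℕ) : E :=
  (zseq vF w φ hφ hφs e he g H1 z n : E) - ∑ i, cs vF w φ hφ hφs e he g H1 z n i • g i

theorem rem_succ (z : Bw w) (n : ℕ) :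
    rem vF w φ hφ hφs e he g H1 z n =
      algebraMap F E (tX φ hφs) * rem vF w φ hφ hφs e he g H1 z (n + 1) := by
  unfold rem
  rw [zseq_spec vF w φ hφ hφs e he g H1 z n, mul_sub, Finset.mul_sum]
  have : ∀ i, cs vF w φ hφ hφs e he g H1 z n i • g i =
      aseq vF w φ hφ hφs e he g H1 z n i • g i +
        algebraMap F E (tX φ hφs) * (cs vF w φ hφ hφs e he g H1 z (n + 1) i • g i) := by
    intro i
    rw [cs_shift, add_smul, algebraMap_smul, mul_smul, Algebra.smul_def (tX φ hφs)]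
  rw [Finset.sum_congr rfl fun i _ => this i, Finset.sum_add_distrib]
  ring

include hφ hg in
theorem w_rem_le (z : Bw w) (n : ℕ) : w (rem vF w φ hφ hφs e he g H1 z n) ≤ 1 := by
  unfold rem
  refine (Valuation.map_sub _ _ _).trans (max_le (zseq vF w φ hφ hφs e he g H1 z n).2 ?_)
  refine Valuation.map_sum_le _ fun i _ => ?_
  rw [Algebra.smul_def, map_mul, he]
  exact mul_le_one' (pow_le_one₀ zero_le (v_cser_le vF φ hφ hφs _)) (hg i)

include hφ hg in
theorem rem_zero_eq (z : Bw w) (n : ℕ) :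
    w (rem vF w φ hφ hφs e he g H1 z 0) ≤ exp (-((e * n : ℕ) : ℤ)) := by
  induction n with
  | zero =>
    rw [Nat.mul_zero, Nat.cast_zero, neg_zero, exp_zero]
    exact w_rem_le vF w φ hφ hφs e he g hg H1 z 0
  | succ n ih =>
    have key : ∀ m : ℕ, w (rem vF w φ hφ hφs e he g H1 z 0) =
        exp (-((e * m : ℕ) : ℤ)) * w (rem vF w φ hφ hφs e he g H1 z m) := by
      intro m
      induction m with
      | zero => rw [Nat.mul_zero, Nat.cast_zero, neg_zero, exp_zero, one_mul]
      | succ m ihm =>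
        rw [ihm, rem_succ vF w φ hφ hφs e he g H1 z m, map_mul,
          w_tX vF w φ hφ hφs e he, ← mul_assoc, ← exp_add]
        congr 2
        push_cast
        ring
    rw [key (n + 1)]
    calc exp (-((e * (n + 1) : ℕ) : ℤ)) * w (rem vF w φ hφ hφs e he g H1 z (n + 1))
        ≤ exp (-((e * (n + 1) : ℕ) : ℤ)) * 1 :=
          mul_le_mul' le_rfl (w_rem_le vF w φ hφ hφs e he g hg H1 z (n + 1))
      _ = _ := mul_one _

include hφ hφs he H1 hg he0 in
/-- **Step A**: integral elements are combinations of the `g i` with integral coefficients -/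
theorem exists_coeffs (z : E) (hz : w z ≤ 1) :
    ∃ c : ι → F, (∀ i, vF (c i) ≤ 1) ∧ z = ∑ i, c i • g i := by
  refine ⟨cs vF w φ hφ hφs e he g H1 ⟨z, hz⟩ 0,
    fun i => v_cser_le vF φ hφ hφs _, ?_⟩
  have h0 : rem vF w φ hφ hφs e he g H1 ⟨z, hz⟩ 0 = 0 := by
    by_contra hne
    have hw0 : w (rem vF w φ hφ hφs e he g H1 ⟨z, hz⟩ 0) ≠ 0 :=
      (Valuation.ne_zero_iff _).2 hne
    obtain ⟨r, hr⟩ : ∃ r, r = w (rem vF w φ hφ hφs e he g H1 ⟨z, hz⟩ 0) := ⟨_, rfl⟩
    rw [← hr] at hw0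
    obtain ⟨N, hN⟩ : ∃ N : ℕ, N = (-(log r)).toNat + 1 := ⟨_, rfl⟩
    have h5 := rem_zero_eq vF w φ hφ hφs e he g hg H1 ⟨z, hz⟩ N
    rw [← hr, ← exp_log hw0, exp_le_exp] at h5
    have h3 : (1 : ℤ) ≤ e := by exact_mod_cast he0
    have h4 := Int.self_le_toNat (-(log r))
    have h6 : (N : ℤ) = ((-(log r)).toNat : ℤ) + 1 := by exact_mod_cast hN
    have h2 : (0 : ℤ) ≤ N := by positivity
    push_cast at h5
    nlinarith
  unfold rem at h0
  exact sub_eq_zero.1 h0

end stepA

section stepB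
variable (e : ℕ) (he : ∀ a : F, w (algebraMap F E a) = vF a ^ e) (he0 : 0 < e)
  {ι : Type*} [Fintype ι] (g : ι → E) (hg : ∀ i, w (g i) ≤ 1)
  (H1 : ∀ z : E, w z ≤ 1 → ∃ a : ι → K, w (z - ∑ i, a i • g i) ≤ exp (-(e : ℤ)))
  (H2 : ∀ a : ι → K, w (∑ i, a i • g i) ≤ exp (-(e : ℤ)) → a = 0)

include hφ in
/-- an integral element is congruent to its constant coefficient modulo the local parameter -/
theorem v_sub_coeff_le (c : F) (hc : vF c ≤ 1) :
    vF (c - algebraMap K F ((φ c).coeff 0)) ≤ exp (-1 : ℤ) := by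
  rw [← hφ.1, map_sub, φ.commutes, LocRes.algebraMap_eq_C,
    LaurentSeries.valuation_le_iff_coeff_lt_eq_zero]
  intro n hn
  rw [HahnSeries.coeff_sub]
  have hc' : Valued.v (φ c) ≤ exp (-(0 : ℤ)) := by
    rw [hφ.1, neg_zero, exp_zero]; exact hc
  rcases lt_or_eq_of_le (show n ≤ 0 by omega) with h | h
  · rw [(LaurentSeries.valuation_le_iff_coeff_lt_eq_zero K).mp hc' n h, HahnSeries.C_apply,
      HahnSeries.coeff_single, if_neg h.ne, sub_zero]
  · rw [h, HahnSeries.C_apply, HahnSeries.coeff_single, if_pos rfl, sub_self]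

include hφ he he0 hg H2 in
/-- **Step B**: the family `g` is linearly independent over `F` -/
theorem linearIndependent_g : LinearIndependent F g := by
  classical
  rw [Fintype.linearIndependent_iff]
  intro c hc
  by_contra hcon
  push Not at hcon
  obtain ⟨i1, hi1⟩ := hcon
  obtain ⟨i0, -, hmax⟩ := Finset.exists_max_image Finset.univ (fun i => vF (c i)) ⟨i1, Finset.mem_univ _⟩
  have hci0 : c i0 ≠ 0 := by
    intro h0
    have := hmax i1 (Finset.mem_univ _)
    rw [h0, map_zero] at this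
    exact hi1 ((map_eq_zero _).1 (le_antisymm this zero_le))
  set c' : ι → F := fun i => (c i0)⁻¹ * c i with hc'
  have hc'1 : ∀ i, vF (c' i) ≤ 1 := by
    intro i
    rw [hc', map_mul, map_inv₀]
    have h0 : vF (c i0) ≠ 0 := (Valuation.ne_zero_iff _).2 hci0
    calc (vF (c i0))⁻¹ * vF (c i) ≤ (vF (c i0))⁻¹ * vF (c i0) :=
          mul_le_mul' le_rfl (hmax i (Finset.mem_univ _))
      _ = 1 := inv_mul_cancel₀ h0
  have hsum : ∑ i, c' i • g i = 0 := by
    have : ∑ i, c' i • g i = (c i0)⁻¹ • ∑ i, c i • g i := by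
      rw [Finset.smul_sum]
      refine Finset.sum_congr rfl fun i _ => ?_
      rw [hc', mul_smul]
    rw [this, hc, smul_zero]
  set a : ι → K := fun i => (φ (c' i)).coeff 0 with ha
  have hrel : ∑ i, a i • g i = ∑ i, (algebraMap K F (a i) - c' i) • g i := by
    have : ∑ i, (algebraMap K F (a i) - c' i) • g i =
        ∑ i, a i • g i - ∑ i, c' i • g i := by
      rw [← Finset.sum_sub_distrib]
      refine Finset.sum_congr rfl fun i _ => ?_
      rw [sub_smul, algebraMap_smul]
    rw [this, hsum, sub_zero]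
  have hle : w (∑ i, a i • g i) ≤ exp (-(e : ℤ)) := by
    rw [hrel]
    refine Valuation.map_sum_le _ fun i _ => ?_
    rw [Algebra.smul_def, map_mul, he]
    have h1 : vF (algebraMap K F (a i) - c' i) ≤ exp (-1 : ℤ) := by
      rw [← neg_sub, Valuation.map_neg]
      exact v_sub_coeff_le vF φ hφ (c' i) (hc'1 i)
    calc vF (algebraMap K F (a i) - c' i) ^ e * w (g i)
        ≤ (exp (-1 : ℤ)) ^ e * 1 := mul_le_mul' (pow_le_pow_left₀ zero_le h1 e) (hg i)
      _ = exp (-(e : ℤ)) := by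
        rw [mul_one, exp_pow_nat]
        congr 1
        ring
  have ha0 := congrFun (H2 a hle) i0
  have : a i0 = 1 := by
    rw [ha]
    simp only [hc']
    rw [inv_mul_cancel₀ hci0, map_one, HahnSeries.coeff_one, if_pos rfl]
  rw [this] at ha0
  exact one_ne_zero ha0

include hφ hφs he he0 hg H1 in
theorem span_g_eq_top : ⊤ ≤ Submodule.span F (Set.range g) := by
  intro z _
  -- `t^N z` is integral for large `N`
  have ht := w_tX vF w φ hφ hφs e he
  have ht0 : tX φ hφs ≠ 0 := by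
    intro h0
    rw [h0, map_zero, map_zero] at ht
    exact exp_ne_zero ht.symm
  obtain ⟨N, hN⟩ : ∃ N : ℕ, w (algebraMap F E (tX φ hφs ^ N) * z) ≤ 1 := by
    by_cases hz0 : z = 0
    · exact ⟨0, by rw [hz0, mul_zero, map_zero]; exact zero_le_one⟩
    have hw0 : w z ≠ 0 := (Valuation.ne_zero_iff _).2 hz0
    obtain ⟨N, hN⟩ : ∃ N : ℕ, N = (log (w z)).toNat := ⟨_, rfl⟩
    refine ⟨N, ?_⟩
    rw [map_mul, map_pow, map_pow, ht, exp_pow_nat, ← exp_log hw0, ← exp_add, ← exp_zero,
      exp_le_exp]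
    have h1 := Int.self_le_toNat (log (w z))
    have h3 : (1 : ℤ) ≤ e := by exact_mod_cast he0
    have h2 : (0 : ℤ) ≤ (N : ℤ) := by positivity
    have h4 : (N : ℤ) = ((log (w z)).toNat : ℤ) := by exact_mod_cast hN
    nlinarith
  obtain ⟨c, -, hc⟩ := exists_coeffs vF w φ hφ hφs e he he0 g hg H1 _ hN
  have hz : z = ∑ i, ((tX φ hφs ^ N)⁻¹ * c i) • g i := by
    have : ∑ i, ((tX φ hφs ^ N)⁻¹ * c i) • g i = (tX φ hφs ^ N)⁻¹ • ∑ i, c i • g i := by
      rw [Finset.smul_sum]
      refine Finset.sum_congr rfl fun i _ => ?_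
      rw [mul_smul]
    rw [this, ← hc, ← Algebra.smul_def, smul_smul, inv_mul_cancel₀ (pow_ne_zero N ht0), one_smul]
  rw [hz]
  exact Submodule.sum_mem _ fun i _ => Submodule.smul_mem _ _ (Submodule.subset_span ⟨i, rfl⟩)

include hφ hφs he he0 hg H1 H2 in
/-- the valuation ring of `w` is free over the valuation ring of `v` on an `F`-basis of `E` -/
theorem exists_basis : ∃ bs : Basis ι F E, ∀ z : E, w z ≤ 1 ↔ ∀ i, vF (bs.repr z i) ≤ 1 := by
  classical
  have hli := linearIndependent_g vF w φ hφ e he he0 g hg H2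
  have hsp := span_g_eq_top vF w φ hφ hφs e he he0 g hg H1
  refine ⟨Basis.mk hli hsp, fun z => ⟨fun hz i => ?_, fun hz => ?_⟩⟩
  · obtain ⟨c, hc1, hc⟩ := exists_coeffs vF w φ hφ hφs e he he0 g hg H1 z hz
    have : (Basis.mk hli hsp).repr z i = c i := by
      have h1 : z = ∑ i, c i • (Basis.mk hli hsp) i := by
        rw [hc]
        refine Finset.sum_congr rfl fun i _ => ?_
        rw [Basis.mk_apply]
      rw [h1, Basis.repr_sum_self]
    rw [this]
    exact hc1 i
  · rw [← (Basis.mk hli hsp).sum_repr z]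
    refine Valuation.map_sum_le _ fun i _ => ?_
    rw [Basis.mk_apply, Algebra.smul_def, map_mul, he]
    exact mul_le_one' (pow_le_one₀ zero_le (hz i)) (hg i)

end stepB

end Groth.Agent.H63.ComplBasis
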