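import Groth.Agent.H63.ComplCRingMap
import Groth.Agent.H61.CRingQuot
import Groth.Agent.H61.HomSetQuot

set_option autoImplicit false
set_option linter.style.haveILetI false
set_option linter.unusedSectionVars false
universe u v
open CategoryTheory

namespace Groth.Agent.H63

open ArtFun ArtFun.Art AdicCompletion Groth.Agent.H61

variable {Λ : Type u} {k : Type u} [CommRing Λ] [Field k] [Algebra Λ k] [IsNoetherianRing Λ]

/-- The data of a completed polynomial ring. -/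
structure PolyData (Λ : Type u) (k : Type u) [CommRing Λ] [Field k] [Algebra Λ k] where
  σ : Type
  fin : Finite σ
  res₀ : MvPolynomial σ Λ →ₐ[Λ] k
  hres₀ : Function.Surjective res₀

namespace PolyData

variable (D : PolyData Λ k)

instance : Finite D.σ := D.fin

/-- the completed polynomial ring as a coefficient ring -/
noncomputable def cring : CRing Λ k := complCRing D.hres₀

/-- the structure map from the polynomial ring -/
noncomputable def of : MvPolynomial D.σ Λ →ₐ[Λ] D.cring.carrier := complOf (MvPolynomial D.σ Λ) D.res₀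

theorem res_of (p : MvPolynomial D.σ Λ) : D.cring.res (D.of p) = D.res₀ p := complRes_of _ D.res₀ p

theorem res_comp_of : D.cring.res.comp D.of = D.res₀ := AlgHom.ext fun p => D.res_of p

/-- maps out of a completed polynomial ring are determined by the images of the variables -/
theorem hom_ext (T : CRing Λ k) (ψ ψ' : D.cring.carrier →ₐ[Λ] T.carrier)
    (hψ : T.res.comp ψ = D.cring.res) (hψ' : T.res.comp ψ' = D.cring.res)
    (h : ∀ i : D.σ, ψ (D.of (MvPolynomial.X i)) = ψ' (D.of (MvPolynomial.X i))) : ψ = ψ' := by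
  apply algHom_compl_ext (res₀ := D.res₀) T ψ ψ' hψ hψ'
  have : ψ.comp D.of = ψ'.comp D.of := by
    apply MvPolynomial.algHom_ext
    intro i
    exact h i
  intro r
  exact AlgHom.congr_fun this r

/-- maps out of a completed polynomial ring with prescribed images of the variables -/
theorem exists_hom (T : CRing Λ k) (t : D.σ → T.carrier) (ht : ∀ i, T.res (t i) = D.res₀ (MvPolynomial.X i)) :
    ∃ ψ : D.cring.carrier →ₐ[Λ] T.carrier, T.res.comp ψ = D.cring.res ∧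
      ∀ i, ψ (D.of (MvPolynomial.X i)) = t i := by
  have h0 : T.res.comp (MvPolynomial.aeval t : MvPolynomial D.σ Λ →ₐ[Λ] T.carrier) = D.res₀ := by
    apply MvPolynomial.algHom_ext
    intro i
    rw [AlgHom.comp_apply, MvPolynomial.aeval_X]
    exact ht i
  obtain ⟨ψ, hψ, hψof⟩ := exists_algHom_compl (res₀ := D.res₀) T (MvPolynomial.aeval t) h0
  refine ⟨ψ, hψ, fun i => ?_⟩
  change ψ (algebraMap (MvPolynomial D.σ Λ) (AdicCompletion (RingHom.ker D.res₀) (MvPolynomial D.σ Λ))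
    (MvPolynomial.X i)) = t i
  rw [hψof, MvPolynomial.aeval_X]

end PolyData

/-- Every coefficient ring is a quotient of a completed polynomial ring. -/
theorem exists_polyData_surjective [Module.Finite Λ k] (R : CRing Λ k) :
    ∃ (D : PolyData Λ k) (π : D.cring.carrier →ₐ[Λ] R.carrier),
      R.res.comp π = D.cring.res ∧ Function.Surjective π := by
  classical
  obtain ⟨s, c, hc⟩ := Module.Finite.exists_fin (R := Λ) (M := k)
  choose c' hc' using fun i : Fin s => R.res_surjective (c i)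
  have hfg : (IsLocalRing.maximalIdeal R.carrier).FG := (isNoetherianRing_iff_ideal_fg R.carrier).1 inferInstance _
  obtain ⟨t, g, hg⟩ := Submodule.fg_iff_exists_fin_generating_family.1 hfg
  let v : Fin s ⊕ Fin t → R.carrier := Sum.elim c' g
  let ψ₀ : MvPolynomial (Fin s ⊕ Fin t) Λ →ₐ[Λ] R.carrier := MvPolynomial.aeval v
  let res₀ : MvPolynomial (Fin s ⊕ Fin t) Λ →ₐ[Λ] k := R.res.comp ψ₀
  have hψ₀X : ∀ i, ψ₀ (MvPolynomial.X i) = v i := fun i => MvPolynomial.aeval_X v i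
  have hres₀ : Function.Surjective res₀ := by
    have : LinearMap.range res₀.toLinearMap = ⊤ := by
      rw [eq_top_iff, ← hc, Submodule.span_le]
      rintro _ ⟨i, rfl⟩
      refine ⟨MvPolynomial.X (Sum.inl i), ?_⟩
      change R.res (ψ₀ (MvPolynomial.X (Sum.inl i))) = c i
      rw [hψ₀X]
      exact hc' i
    exact LinearMap.range_eq_top.1 this
  let D : PolyData Λ k := ⟨Fin s ⊕ Fin t, inferInstance, res₀, hres₀⟩
  obtain ⟨π, hπ, hπX⟩ := D.exists_hom R v (fun i => by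
    change R.res (v i) = R.res (ψ₀ (MvPolynomial.X i))
    rw [hψ₀X])
  refine ⟨D, π, hπ, ?_⟩
  apply CR.surjective_of_cotangent D.cring R π hπ
  apply le_antisymm
  · refine sup_le (CR.map_maximalIdeal_le D.cring R π hπ) ?_
    exact Ideal.pow_le_self two_ne_zero
  · refine le_sup_of_le_left ?_
    rw [← hg]
    refine Ideal.span_le.2 ?_
    rintro _ ⟨j, rfl⟩
    have hmem : D.of (MvPolynomial.X (Sum.inr j)) ∈ IsLocalRing.maximalIdeal D.cring.carrier := by
      refine (CR.mem_maximalIdeal_iff D.cring _).2 ?_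
      rw [D.res_of]
      change R.res (ψ₀ (MvPolynomial.X (Sum.inr j))) = 0
      rw [hψ₀X]
      have hgj : g j ∈ IsLocalRing.maximalIdeal R.carrier := by
        rw [← hg]
        exact Submodule.subset_span ⟨j, rfl⟩
      exact (CR.mem_maximalIdeal_iff R _).1 hgj
    have := Ideal.mem_map_of_mem (π : D.cring.carrier →+* R.carrier) hmem
    have e : (π : D.cring.carrier →+* R.carrier) (D.of (MvPolynomial.X (Sum.inr j))) = g j := hπX (Sum.inr j)
    rw [e] at this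
    exact this

/-- Coproducts of completed polynomial rings. -/
theorem PolyData.exists_coprod (D₁ D₂ : PolyData Λ k) :
    ∃ (D : PolyData Λ k) (i₁ : D₁.cring.carrier →ₐ[Λ] D.cring.carrier)
      (i₂ : D₂.cring.carrier →ₐ[Λ] D.cring.carrier),
      D.cring.res.comp i₁ = D₁.cring.res ∧ D.cring.res.comp i₂ = D₂.cring.res ∧
      ∀ (T : CRing Λ k) (g₁ : D₁.cring.carrier →ₐ[Λ] T.carrier) (g₂ : D₂.cring.carrier →ₐ[Λ] T.carrier),
        T.res.comp g₁ = D₁.cring.res → T.res.comp g₂ = D₂.cring.res →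
          ∃! h : D.cring.carrier →ₐ[Λ] T.carrier, T.res.comp h = D.cring.res ∧ h.comp i₁ = g₁ ∧ h.comp i₂ = g₂ := by
  classical
  let e : D₁.σ ⊕ D₂.σ → k := Sum.elim (fun i => D₁.res₀ (MvPolynomial.X i)) (fun j => D₂.res₀ (MvPolynomial.X j))
  let res₀ : MvPolynomial (D₁.σ ⊕ D₂.σ) Λ →ₐ[Λ] k := MvPolynomial.aeval e
  have hres₀ : Function.Surjective res₀ := by
    intro c
    obtain ⟨p, rfl⟩ := D₁.hres₀ c
    refine ⟨MvPolynomial.rename Sum.inl p, ?_⟩
    change MvPolynomial.aeval e (MvPolynomial.rename Sum.inl p) = D₁.res₀ p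
    rw [MvPolynomial.aeval_rename]
    have h1 : D₁.res₀ = MvPolynomial.aeval (D₁.res₀ ∘ MvPolynomial.X) := MvPolynomial.aeval_unique D₁.res₀
    conv_rhs => rw [h1]
    rfl
  let D : PolyData Λ k := ⟨D₁.σ ⊕ D₂.σ, inferInstance, res₀, hres₀⟩
  have hDres : ∀ i, D.res₀ (MvPolynomial.X i) = e i := fun i => MvPolynomial.aeval_X e i
  obtain ⟨i₁, hi₁, hi₁X⟩ := D₁.exists_hom D.cring (fun i => D.of (MvPolynomial.X (Sum.inl i))) (fun i => by
    rw [D.res_of, hDres]; rfl)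
  obtain ⟨i₂, hi₂, hi₂X⟩ := D₂.exists_hom D.cring (fun j => D.of (MvPolynomial.X (Sum.inr j))) (fun j => by
    rw [D.res_of, hDres]; rfl)
  refine ⟨D, i₁, i₂, hi₁, hi₂, ?_⟩
  intro T g₁ g₂ hg₁ hg₂
  let t : D.σ → T.carrier := Sum.elim (fun i => g₁ (D₁.of (MvPolynomial.X i))) (fun j => g₂ (D₂.of (MvPolynomial.X j)))
  have ht : ∀ i, T.res (t i) = D.res₀ (MvPolynomial.X i) := by
    intro i
    rw [hDres]
    rcases i with i | j
    · change T.res (g₁ (D₁.of (MvPolynomial.X i))) = D₁.res₀ (MvPolynomial.X i)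
      have := AlgHom.congr_fun hg₁ (D₁.of (MvPolynomial.X i))
      rw [AlgHom.comp_apply] at this
      rw [this, D₁.res_of]
    · change T.res (g₂ (D₂.of (MvPolynomial.X j))) = D₂.res₀ (MvPolynomial.X j)
      have := AlgHom.congr_fun hg₂ (D₂.of (MvPolynomial.X j))
      rw [AlgHom.comp_apply] at this
      rw [this, D₂.res_of]
  obtain ⟨h, hh, hhX⟩ := D.exists_hom T t ht
  have hh₁ : h.comp i₁ = g₁ := by
    apply D₁.hom_ext T _ _ (by rw [← AlgHom.comp_assoc, hh, hi₁]) hg₁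
    intro i
    rw [AlgHom.comp_apply, hi₁X, hhX]
    rfl
  have hh₂ : h.comp i₂ = g₂ := by
    apply D₂.hom_ext T _ _ (by rw [← AlgHom.comp_assoc, hh, hi₂]) hg₂
    intro j
    rw [AlgHom.comp_apply, hi₂X, hhX]
    rfl
  refine ⟨h, ⟨hh, hh₁, hh₂⟩, ?_⟩
  rintro h' ⟨hh', hh'₁, hh'₂⟩
  apply D.hom_ext T _ _ hh' hh
  intro i
  rw [hhX]
  rcases i with i | j
  · change h' (D.of (MvPolynomial.X (Sum.inl i))) = g₁ (D₁.of (MvPolynomial.X i))
    rw [← hi₁X, ← hh'₁]
    rfl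
  · change h' (D.of (MvPolynomial.X (Sum.inr j))) = g₂ (D₂.of (MvPolynomial.X j))
    rw [← hi₂X, ← hh'₂]
    rfl

theorem CR.ker_le_maximalIdeal (R S : CRing Λ k) (f : R.carrier →ₐ[Λ] S.carrier) (hf : S.res.comp f = R.res) :
    RingHom.ker f ≤ IsLocalRing.maximalIdeal R.carrier := by
  intro x hx
  rw [CR.mem_maximalIdeal_iff, ← hf, AlgHom.comp_apply, (RingHom.mem_ker).1 hx, _root_.map_zero]

/-- Coproducts in the category of coefficient rings. -/
theorem exists_coprod_cring [Module.Finite Λ k] (R S : CRing Λ k) :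
    ∃ (P : CRing Λ k) (i₁ : R.carrier →ₐ[Λ] P.carrier) (i₂ : S.carrier →ₐ[Λ] P.carrier),
      P.res.comp i₁ = R.res ∧ P.res.comp i₂ = S.res ∧
      ∀ (T : CRing Λ k) (g₁ : R.carrier →ₐ[Λ] T.carrier) (g₂ : S.carrier →ₐ[Λ] T.carrier),
        T.res.comp g₁ = R.res → T.res.comp g₂ = S.res →
          ∃! h : P.carrier →ₐ[Λ] T.carrier, T.res.comp h = P.res ∧ h.comp i₁ = g₁ ∧ h.comp i₂ = g₂ := by
  classical
  obtain ⟨D₁, π₁, hπ₁, hπ₁s⟩ := exists_polyData_surjective R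
  obtain ⟨D₂, π₂, hπ₂, hπ₂s⟩ := exists_polyData_surjective S
  obtain ⟨D, k₁, k₂, hk₁, hk₂, hUP⟩ := PolyData.exists_coprod D₁ D₂
  haveI : IsAdicComplete (IsLocalRing.maximalIdeal D.cring.carrier) D.cring.carrier := D.cring.isAdicComplete
  set J : Ideal D.cring.carrier := (RingHom.ker π₁).map (k₁ : D₁.cring.carrier →+* D.cring.carrier) ⊔
    (RingHom.ker π₂).map (k₂ : D₂.cring.carrier →+* D.cring.carrier) with hJ
  have hJm : J ≤ IsLocalRing.maximalIdeal D.cring.carrier := by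
    refine sup_le ?_ ?_
    · exact (Ideal.map_mono (CR.ker_le_maximalIdeal D₁.cring R π₁ hπ₁)).trans
        (CR.map_maximalIdeal_le D₁.cring D.cring k₁ hk₁)
    · exact (Ideal.map_mono (CR.ker_le_maximalIdeal D₂.cring S π₂ hπ₂)).trans
        (CR.map_maximalIdeal_le D₂.cring D.cring k₂ hk₂)
  obtain ⟨Q, q, hq, hqs, hqk⟩ := exists_cring_quot (Λ := Λ) (k := k) D.cring.res_surjective J hJm
  have hle₁ : RingHom.ker π₁ ≤ RingHom.ker (q.comp k₁) := by
    intro x hx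
    rw [RingHom.mem_ker, AlgHom.comp_apply, ← RingHom.mem_ker, hqk]
    exact Ideal.mem_sup_left (Ideal.mem_map_of_mem _ hx)
  have hle₂ : RingHom.ker π₂ ≤ RingHom.ker (q.comp k₂) := by
    intro x hx
    rw [RingHom.mem_ker, AlgHom.comp_apply, ← RingHom.mem_ker, hqk]
    exact Ideal.mem_sup_right (Ideal.mem_map_of_mem _ hx)
  obtain ⟨ι₁, hι₁⟩ := exists_algHom_factor π₁ hπ₁s (q.comp k₁) hle₁
  obtain ⟨ι₂, hι₂⟩ := exists_algHom_factor π₂ hπ₂s (q.comp k₂) hle₂
  have hι₁res : Q.res.comp ι₁ = R.res := by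
    rw [← AlgHom.cancel_right hπ₁s, AlgHom.comp_assoc, hι₁, ← AlgHom.comp_assoc, hq, hk₁, hπ₁]
  have hι₂res : Q.res.comp ι₂ = S.res := by
    rw [← AlgHom.cancel_right hπ₂s, AlgHom.comp_assoc, hι₂, ← AlgHom.comp_assoc, hq, hk₂, hπ₂]
  refine ⟨Q, ι₁, ι₂, hι₁res, hι₂res, ?_⟩
  intro T g₁ g₂ hg₁ hg₂
  obtain ⟨h₀, ⟨hh₀, hh₀₁, hh₀₂⟩, hh₀u⟩ := hUP T (g₁.comp π₁) (g₂.comp π₂)
    (by rw [← AlgHom.comp_assoc, hg₁, hπ₁]) (by rw [← AlgHom.comp_assoc, hg₂, hπ₂])
  have hkill : RingHom.ker q ≤ RingHom.ker h₀ := by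
    rw [hqk, hJ]
    refine sup_le ?_ ?_
    · rw [Ideal.map_le_iff_le_comap]
      intro x hx
      rw [Ideal.mem_comap, RingHom.mem_ker]
      change h₀ (k₁ x) = 0
      have := AlgHom.congr_fun hh₀₁ x
      rw [AlgHom.comp_apply, AlgHom.comp_apply] at this
      rw [this, (RingHom.mem_ker).1 hx, _root_.map_zero]
    · rw [Ideal.map_le_iff_le_comap]
      intro x hx
      rw [Ideal.mem_comap, RingHom.mem_ker]
      change h₀ (k₂ x) = 0
      have := AlgHom.congr_fun hh₀₂ x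
      rw [AlgHom.comp_apply, AlgHom.comp_apply] at this
      rw [this, (RingHom.mem_ker).1 hx, _root_.map_zero]
  obtain ⟨h, hh⟩ := exists_algHom_factor q hqs h₀ hkill
  have hhres : T.res.comp h = Q.res := by
    rw [← AlgHom.cancel_right hqs, AlgHom.comp_assoc, hh, hh₀, hq]
  have hh₁ : h.comp ι₁ = g₁ := by
    rw [← AlgHom.cancel_right hπ₁s, AlgHom.comp_assoc, hι₁, ← AlgHom.comp_assoc, hh, hh₀₁]
  have hh₂ : h.comp ι₂ = g₂ := by
    rw [← AlgHom.cancel_right hπ₂s, AlgHom.comp_assoc, hι₂, ← AlgHom.comp_assoc, hh, hh₀₂]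
  refine ⟨h, ⟨hhres, hh₁, hh₂⟩, ?_⟩
  rintro h' ⟨hh', hh'₁, hh'₂⟩
  rw [← AlgHom.cancel_right hqs, hh]
  apply hh₀u
  refine ⟨by rw [← AlgHom.comp_assoc, hh', hq], ?_, ?_⟩
  · rw [AlgHom.comp_assoc, ← hι₁, ← AlgHom.comp_assoc, hh'₁]
  · rw [AlgHom.comp_assoc, ← hι₂, ← AlgHom.comp_assoc, hh'₂]

/-- Pushouts in the category of coefficient rings. -/
theorem exists_pushout_cring [Module.Finite Λ k] (R S₁ S₂ : CRing Λ k)
    (f₁ : R.carrier →ₐ[Λ] S₁.carrier) (hf₁ : S₁.res.comp f₁ = R.res)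
    (f₂ : R.carrier →ₐ[Λ] S₂.carrier) (hf₂ : S₂.res.comp f₂ = R.res) :
    ∃ (P : CRing Λ k) (i₁ : S₁.carrier →ₐ[Λ] P.carrier) (i₂ : S₂.carrier →ₐ[Λ] P.carrier),
      P.res.comp i₁ = S₁.res ∧ P.res.comp i₂ = S₂.res ∧ i₁.comp f₁ = i₂.comp f₂ ∧
      ∀ (T : CRing Λ k) (g₁ : S₁.carrier →ₐ[Λ] T.carrier) (g₂ : S₂.carrier →ₐ[Λ] T.carrier),
        T.res.comp g₁ = S₁.res → T.res.comp g₂ = S₂.res → g₁.comp f₁ = g₂.comp f₂ →
          ∃! h : P.carrier →ₐ[Λ] T.carrier, T.res.comp h = P.res ∧ h.comp i₁ = g₁ ∧ h.comp i₂ = g₂ := by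
  classical
  obtain ⟨C, k₁, k₂, hk₁, hk₂, hUP⟩ := exists_coprod_cring S₁ S₂
  haveI : IsAdicComplete (IsLocalRing.maximalIdeal C.carrier) C.carrier := C.isAdicComplete
  set J : Ideal C.carrier := Ideal.span (Set.range fun r : R.carrier => k₁ (f₁ r) - k₂ (f₂ r)) with hJ
  have hJm : J ≤ IsLocalRing.maximalIdeal C.carrier := by
    rw [hJ, Ideal.span_le]
    rintro _ ⟨r, rfl⟩
    change _ ∈ IsLocalRing.maximalIdeal C.carrier
    rw [CR.mem_maximalIdeal_iff, map_sub]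
    have e1 : C.res (k₁ (f₁ r)) = R.res r := by
      have := AlgHom.congr_fun hk₁ (f₁ r)
      rw [AlgHom.comp_apply] at this
      rw [this]
      exact AlgHom.congr_fun hf₁ r
    have e2 : C.res (k₂ (f₂ r)) = R.res r := by
      have := AlgHom.congr_fun hk₂ (f₂ r)
      rw [AlgHom.comp_apply] at this
      rw [this]
      exact AlgHom.congr_fun hf₂ r
    rw [e1, e2, sub_self]
  obtain ⟨Q, q, hq, hqs, hqk⟩ := exists_cring_quot (Λ := Λ) (k := k) C.res_surjective J hJm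
  refine ⟨Q, q.comp k₁, q.comp k₂, by rw [← AlgHom.comp_assoc, hq, hk₁],
    by rw [← AlgHom.comp_assoc, hq, hk₂], ?_, ?_⟩
  · apply AlgHom.ext
    intro r
    rw [AlgHom.comp_apply, AlgHom.comp_apply, AlgHom.comp_apply, AlgHom.comp_apply, ← sub_eq_zero, ← map_sub,
      ← RingHom.mem_ker, hqk]
    exact Ideal.subset_span ⟨r, rfl⟩
  · intro T g₁ g₂ hg₁ hg₂ hg
    obtain ⟨h₀, ⟨hh₀, hh₀₁, hh₀₂⟩, hh₀u⟩ := hUP T g₁ g₂ hg₁ hg₂
    have hkill : RingHom.ker q ≤ RingHom.ker h₀ := by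
      rw [hqk, hJ, Ideal.span_le]
      rintro _ ⟨r, rfl⟩
      change _ ∈ RingHom.ker h₀
      rw [RingHom.mem_ker, map_sub, sub_eq_zero]
      have a1 := AlgHom.congr_fun hh₀₁ (f₁ r)
      have a2 := AlgHom.congr_fun hh₀₂ (f₂ r)
      rw [AlgHom.comp_apply] at a1 a2
      rw [a1, a2]
      exact AlgHom.congr_fun hg r
    obtain ⟨h, hh⟩ := exists_algHom_factor q hqs h₀ hkill
    refine ⟨h, ⟨?_, ?_, ?_⟩, ?_⟩
    · rw [← AlgHom.cancel_right hqs, AlgHom.comp_assoc, hh, hh₀, hq]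
    · rw [← AlgHom.comp_assoc, hh, hh₀₁]
    · rw [← AlgHom.comp_assoc, hh, hh₀₂]
    · rintro h' ⟨hh', hh'₁, hh'₂⟩
      rw [← AlgHom.cancel_right hqs, hh]
      apply hh₀u
      exact ⟨by rw [← AlgHom.comp_assoc, hh', hq], by rw [AlgHom.comp_assoc, hh'₁], by rw [AlgHom.comp_assoc, hh'₂]⟩

end Groth.Agent.H63
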