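import Groth.Agent.H63.ComplMap
import Groth.Agent.H63.AdicSmooth

set_option autoImplicit false
set_option linter.style.haveILetI false
set_option linter.unusedSectionVars false
universe u v
open CategoryTheory

namespace Groth.Agent.H63

open ArtFun ArtFun.Art AdicCompletion

variable {Λ : Type u} {k : Type u} [CommRing Λ] [Field k] [Algebra Λ k] [IsNoetherianRing Λ]

/-- The completion of a polynomial ring at an augmentation ideal has the lifting property. -/
theorem compl_mvPolynomial_lifts {σ : Type} [Finite σ] (res₀ : MvPolynomial σ Λ →ₐ[Λ] k)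
    ⦃B A : Art Λ k⦄ (μ : B ⟶ A) (hμ : Function.Surjective μ)
    (φ : HomSet (AdicCompletion (RingHom.ker res₀) (MvPolynomial σ Λ)) (complRes _ res₀) A) :
    ∃ ψ : HomSet (AdicCompletion (RingHom.ker res₀) (MvPolynomial σ Λ)) (complRes _ res₀) B,
      HomSet.map μ ψ = φ := by
  classical
  choose b hb using fun i : σ => hμ (φ.1 (algebraMap (MvPolynomial σ Λ) _ (MvPolynomial.X i)))
  let ψ₀ : MvPolynomial σ Λ →ₐ[Λ] B := MvPolynomial.aeval b
  have h1 : μ.toAlgHom.comp ψ₀ = φ.1.comp (complOf (MvPolynomial σ Λ) res₀) := by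
    apply MvPolynomial.algHom_ext
    intro i
    rw [AlgHom.comp_apply, AlgHom.comp_apply]
    change μ (MvPolynomial.aeval b (MvPolynomial.X i)) = _
    rw [MvPolynomial.aeval_X, hb]
    rfl
  have h2 : B.res.comp ψ₀ = res₀ := by
    rw [← μ.res_comp, AlgHom.comp_assoc, h1, ← AlgHom.comp_assoc, φ.2, complRes_comp_complOf]
  obtain ⟨ψ, hψ⟩ := exists_homSet_compl ψ₀ h2
  refine ⟨ψ, ?_⟩
  apply homSet_compl_ext
  intro r
  change μ (ψ.1 (algebraMap _ _ r)) = _
  rw [hψ]
  exact AlgHom.congr_fun h1 r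

/-- Every Artinian object is a quotient of a formally smooth coefficient ring. -/
theorem exists_smooth_cover [Module.Finite Λ k] (A : Art Λ k) :
    ∃ (P : CRing Λ k),
      (∀ ⦃B A' : Art Λ k⦄ (μ : B ⟶ A'), Function.Surjective μ → ∀ φ : HomSet P.carrier P.res A',
        ∃ ψ : HomSet P.carrier P.res B, HomSet.map μ ψ = φ) ∧
      ∃ p : HomSet P.carrier P.res A, Function.Surjective p.1 := by
  classical
  obtain ⟨s, c, hc⟩ := Module.Finite.exists_fin (R := Λ) (M := k)
  choose c' hc' using fun i : Fin s => A.res_surjective (c i)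
  have hfg : (IsLocalRing.maximalIdeal A).FG := (isNoetherianRing_iff_ideal_fg A).1 inferInstance _
  obtain ⟨t, g, hg⟩ := Submodule.fg_iff_exists_fin_generating_family.1 hfg
  let v : Fin s ⊕ Fin t → A := Sum.elim c' g
  let ψ₀ : MvPolynomial (Fin s ⊕ Fin t) Λ →ₐ[Λ] A := MvPolynomial.aeval v
  let res₀ : MvPolynomial (Fin s ⊕ Fin t) Λ →ₐ[Λ] k := A.res.comp ψ₀
  have hψ₀X : ∀ i, ψ₀ (MvPolynomial.X i) = v i := fun i => MvPolynomial.aeval_X v i
  have hres₀ : Function.Surjective res₀ := by
    have : LinearMap.range res₀.toLinearMap = ⊤ := by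
      rw [eq_top_iff, ← hc, Submodule.span_le]
      rintro _ ⟨i, rfl⟩
      refine ⟨MvPolynomial.X (Sum.inl i), ?_⟩
      change A.res (ψ₀ (MvPolynomial.X (Sum.inl i))) = c i
      rw [hψ₀X]
      exact hc' i
    exact LinearMap.range_eq_top.1 this
  refine ⟨complCRing hres₀, ?_, ?_⟩
  · intro B A' μ hμ φ
    exact compl_mvPolynomial_lifts res₀ μ hμ φ
  · obtain ⟨p₀, hp₀⟩ := exists_homSet_compl (res₀ := res₀) ψ₀ rfl
    let P : CRing Λ k := complCRing hres₀
    let p : HomSet P.carrier P.res A := p₀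
    let ι : MvPolynomial (Fin s ⊕ Fin t) Λ → P.carrier := fun r =>
      algebraMap (MvPolynomial (Fin s ⊕ Fin t) Λ) (AdicCompletion (RingHom.ker res₀) _) r
    have hp : ∀ r, p.1 (ι r) = ψ₀ r := hp₀
    have hres : ∀ r, P.res (ι r) = res₀ r := fun r => complRes_of _ res₀ r
    refine ⟨p, ?_⟩
    apply CR.surjective_of_cotangent P (artCRing A) p.1 p.2
    apply le_antisymm
    · refine sup_le (CR.map_maximalIdeal_le P (artCRing A) p.1 p.2) ?_
      exact Ideal.pow_le_self two_ne_zero
    · refine le_sup_of_le_left ?_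
      change IsLocalRing.maximalIdeal A ≤ _
      rw [← hg]
      refine Ideal.span_le.2 ?_
      rintro _ ⟨j, rfl⟩
      have hmem : ι (MvPolynomial.X (Sum.inr j)) ∈ IsLocalRing.maximalIdeal P.carrier := by
        refine (CR.mem_maximalIdeal_iff P _).2 ?_
        rw [hres]
        change A.res (ψ₀ (MvPolynomial.X (Sum.inr j))) = 0
        rw [hψ₀X]
        have hgj : g j ∈ IsLocalRing.maximalIdeal A := by
          rw [← hg]
          exact Submodule.subset_span ⟨j, rfl⟩
        exact (Art.mem_maximalIdeal_iff A _).1 hgj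
      have := Ideal.mem_map_of_mem (p.1 : P.carrier →+* A) hmem
      have e : (p.1 : P.carrier →+* A) (ι (MvPolynomial.X (Sum.inr j))) = g j := by
        change p.1 (ι (MvPolynomial.X (Sum.inr j))) = g j
        rw [hp, hψ₀X]
        rfl
      rw [e] at this
      exact this

end Groth.Agent.H63
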