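import Mathlib
import Groth.Agent.H63.ComplBasis
import Groth.Agent.H63.TateTrace
import Groth.Agent.H86.TT12
import Groth.Agent.H63.CoeffDer

set_option autoImplicit false
set_option linter.style.haveILetI false
set_option linter.unusedSectionVars false

namespace Groth.Agent.H63.ComplTrace
open LocRes HahnSeries LaurentSeries WithZero Module Groth.Agent.H55
open Groth.Agent.H86.Tate Groth.Agent.H63.TateGen

universe u v

section gen
variable {k : Type*} [Field k] {V : Type*} [AddCommGroup V] [Module k V]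

/-- a relative quotient is finite-dimensional when the larger space is contained in the smaller
one up to a finite-dimensional space -/
theorem finite_relQ_of_le_sup (A B F₀ : Submodule k V) [FiniteDimensional k F₀]
    (h : B ≤ A ⊔ F₀) : Module.Finite k (RelQ A B) := by
  let T : Submodule k V := A ⊔ F₀
  have hTfin : Module.Finite k (T ⧸ A.comap T.subtype) := by
    let p : F₀ →ₗ[k] (T ⧸ A.comap T.subtype) :=
      (A.comap T.subtype).mkQ ∘ₗ Submodule.inclusion (le_sup_right : F₀ ≤ T)
    have hp : Function.Surjective p := by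
      intro y
      obtain ⟨⟨z, hz⟩, rfl⟩ := Submodule.mkQ_surjective _ y
      obtain ⟨a, ha, x, hx, rfl⟩ := Submodule.mem_sup.mp hz
      refine ⟨⟨x, hx⟩, ?_⟩
      rw [LinearMap.comp_apply, Submodule.mkQ_apply, Submodule.mkQ_apply, Submodule.Quotient.eq]
      rw [Submodule.mem_comap]
      change x - (a + x) ∈ A
      rw [sub_add_cancel_right]
      exact neg_mem ha
    exact Module.Finite.of_surjective p hp
  let q : B →ₗ[k] (T ⧸ A.comap T.subtype) :=
    (A.comap T.subtype).mkQ ∘ₗ Submodule.inclusion h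
  have hker : LinearMap.ker q = A.comap B.subtype := by
    ext x
    rw [LinearMap.mem_ker, LinearMap.comp_apply, Submodule.mkQ_apply,
      Submodule.Quotient.mk_eq_zero, Submodule.mem_comap, Submodule.mem_comap]
    rfl
  have hinj : Function.Injective (Submodule.liftQ (A.comap B.subtype) q (le_of_eq hker.symm)) := by
    rw [← LinearMap.ker_eq_bot, Submodule.ker_liftQ, hker, Submodule.mkQ_map_self]
  exact Module.Finite.of_injective _ hinj

end gen

section ball
variable {k : Type*} [Field k] {F : Type*} [Field F] [Algebra k F] [FiniteDimensional k F]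
variable {K : Type*} [Field K] [Algebra k K]
variable {w : Valuation K (WithZero (Multiplicative ℤ))} (hw : ∀ c : k, w (algebraMap k K c) ≤ 1)
  {Φ : K →ₐ[k] F⸨X⸩} (hΦ : LocRes.IsExpansionAt w Φ)

include hΦ in
/-- balls of a valuation with an expansion are nearly stable under multiplications -/
theorem nearStable_ball (m : ℤ) (u : K) :
    NearStable (ball w hw m) (LinearMap.mulLeft k u) := by
  refine nearStable_comap (expL Φ) (ball_eq_comap hw hΦ m) (f' := mulL k (Φ u)) ?_
    (nearStable_lat m (Φ u))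
  refine LinearMap.ext fun x => ?_
  change Φ u * Φ x = Φ (u * x)
  rw [map_mul]

include hΦ in
/-- `O / t O` is finite-dimensional -/
theorem finite_relQ_ball (m : ℤ) (n : ℕ) :
    Module.Finite k (RelQ (ball w hw (m + n)) (ball w hw m)) := by
  obtain ⟨t, ht⟩ := hΦ.2.2
  have ht0 : t ≠ 0 := by
    intro h0
    rw [h0, map_zero] at ht
    exact exp_ne_zero ht.symm
  obtain ⟨F₀, hF₀, hsub⟩ := nearStable_ball hw hΦ (m + n) ((t ^ n)⁻¹)
  haveI := hF₀
  apply finite_relQ_of_le_sup _ _ F₀
  intro z hz
  apply hsub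
  refine ⟨t ^ n * z, ?_, ?_⟩
  · change w (t ^ n * z) ≤ exp (-(m + n))
    rw [map_mul, map_pow, ht, exp_pow_nat]
    have hz' : w z ≤ exp (-m) := hz
    refine (mul_le_mul' le_rfl hz').trans_eq ?_
    rw [← exp_add]
    congr 1
    ring
  · rw [LinearMap.mulLeft_apply, ← mul_assoc, inv_mul_cancel₀ (pow_ne_zero n ht0), one_mul]

end ball

section ram
variable {F E : Type*} [Field F] [Field E] [Algebra F E]
  (vF : Valuation F (WithZero (Multiplicative ℤ))) (w : Valuation E (WithZero (Multiplicative ℤ)))
  [vF.HasExtension w]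

/-- the ramification index of an extension of normalised discrete valuations -/
theorem exists_ram (hv : ∃ t : F, vF t = exp (-1 : ℤ)) :
    ∃ e : ℕ, 0 < e ∧ ∀ a : F, w (algebraMap F E a) = vF a ^ e := by
  obtain ⟨t, ht⟩ := hv
  have ht0 : t ≠ 0 := by
    intro h0
    rw [h0, map_zero] at ht
    exact exp_ne_zero ht.symm
  have hwt1 : w (algebraMap F E t) < 1 := by
    rw [Valuation.HasExtension.val_map_lt_one_iff vF w, ht, ← exp_zero, exp_lt_exp]
    omega
  have hwt0 : w (algebraMap F E t) ≠ 0 :=
    (Valuation.ne_zero_iff _).2 ((map_ne_zero (algebraMap F E)).2 ht0)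
  set n : ℤ := -log (w (algebraMap F E t)) with hn
  have hwt : w (algebraMap F E t) = exp (-n) := by
    rw [hn, neg_neg, exp_log hwt0]
  have hn1 : 1 ≤ n := by
    rw [hwt, ← exp_zero, exp_lt_exp] at hwt1
    omega
  refine ⟨n.toNat, by omega, fun a => ?_⟩
  by_cases ha0 : a = 0
  · rw [ha0, map_zero, map_zero, map_zero, zero_pow (by omega)]
  have hva0 : vF a ≠ 0 := (Valuation.ne_zero_iff _).2 ha0
  set m : ℤ := -log (vF a) with hm
  have hva : vF a = exp (-m) := by rw [hm, neg_neg, exp_log hva0]
  -- `u = a t^{-m}` is a unit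
  have hu : vF (a * t ^ (-m)) = 1 := by
    rw [map_mul, map_zpow₀, ht, hva, ← exp_zsmul, ← exp_add, ← exp_zero]
    congr 1
    simp
  have hwu := (Valuation.HasExtension.val_map_eq_one_iff vF w _).2 hu
  rw [map_mul, map_mul, map_zpow₀, map_zpow₀, hwt] at hwu
  have hwa : w (algebraMap F E a) = (exp (-n) ^ (-m))⁻¹ := by
    have hne : (exp (-n) : WithZero (Multiplicative ℤ)) ^ (-m) ≠ 0 := zpow_ne_zero _ exp_ne_zero
    exact eq_inv_of_mul_eq_one_left hwu
  rw [hwa, hva, exp_pow_nat, ← exp_zsmul, ← exp_neg]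
  congr 1
  have : (n.toNat : ℤ) = n := Int.toNat_of_nonneg (by omega)
  rw [this]
  simp
  ring

end ram

section lift
variable {k : Type*} [Field k] {F : Type*} [Field F] [Algebra k F] [FiniteDimensional k F]
variable {K : Type*} [Field K] [Algebra k K]
variable {w : Valuation K (WithZero (Multiplicative ℤ))} (hw : ∀ c : k, w (algebraMap k K c) ≤ 1)
  {Φ : K →ₐ[k] F⸨X⸩} (hΦ : LocRes.IsExpansionAt w Φ)

include hw hΦ in
/-- a finite family of integral elements lifting a `k`-basis of `O / t^e O` -/
theorem exists_lift (e : ℕ) : ∃ (r : ℕ) (g : Fin r → K), (∀ i, w (g i) ≤ 1) ∧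
    (∀ z : K, w z ≤ 1 → ∃ a : Fin r → k, w (z - ∑ i, a i • g i) ≤ exp (-(e : ℤ))) ∧
    (∀ a : Fin r → k, w (∑ i, a i • g i) ≤ exp (-(e : ℤ)) → a = 0) := by
  haveI := finite_relQ_ball hw hΦ 0 e
  let b := Module.finBasis k (RelQ (ball w hw (0 + e)) (ball w hw 0))
  have hl : ∀ i, ∃ x : ball w hw 0, Submodule.Quotient.mk x = b i := fun i =>
    Submodule.Quotient.mk_surjective _ (b i)
  choose g' hg' using hl
  have hsum : ∀ a : Fin _ → k, ((∑ i, a i • g' i : ball w hw 0) : K) = ∑ i, a i • (g' i : K) := by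
    intro a
    rw [Submodule.coe_sum]
    rfl
  have hmk : ∀ a : Fin _ → k,
      (Submodule.Quotient.mk (∑ i, a i • g' i) : RelQ (ball w hw (0 + e)) (ball w hw 0)) =
        ∑ i, a i • b i := by
    intro a
    have : (Submodule.Quotient.mk (∑ i, a i • g' i) : RelQ (ball w hw (0 + e)) (ball w hw 0)) =
        ((ball w hw (0 + e)).comap (ball w hw 0).subtype).mkQ (∑ i, a i • g' i) := rfl
    rw [this, map_sum]
    refine Finset.sum_congr rfl fun i _ => ?_
    rw [map_smul, Submodule.mkQ_apply, hg']
  refine ⟨_, fun i => (g' i : K), fun i => ?_, fun z hz => ?_, fun a ha => ?_⟩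
  · have := (g' i).2
    rw [mem_ball] at this
    simpa using this
  · have hzB : z ∈ ball w hw 0 := by
      rw [mem_ball]
      simpa using hz
    refine ⟨fun i => b.repr (Submodule.Quotient.mk ⟨z, hzB⟩) i, ?_⟩
    have h1 : (Submodule.Quotient.mk ⟨z, hzB⟩ : RelQ (ball w hw (0 + e)) (ball w hw 0)) =
        Submodule.Quotient.mk (∑ i, (b.repr (Submodule.Quotient.mk ⟨z, hzB⟩) i) • g' i) := by
      rw [hmk]
      exact (b.sum_repr _).symm
    rw [Submodule.Quotient.eq, Submodule.mem_comap, map_sub, Submodule.subtype_apply,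
      Submodule.subtype_apply, hsum, mem_ball] at h1
    simpa using h1
  · have h1 : (Submodule.Quotient.mk (∑ i, a i • g' i) :
        RelQ (ball w hw (0 + e)) (ball w hw 0)) = 0 := by
      rw [Submodule.Quotient.mk_eq_zero, Submodule.mem_comap, Submodule.subtype_apply, hsum,
        mem_ball]
      simpa using ha
    rw [hmk] at h1
    funext i
    exact Fintype.linearIndependent_iff.1 b.linearIndependent a h1 i

end lift

section final
variable {K L : Type u} {F E : Type v} [Field K] [Field L]
    [Field F] [Field E] [Algebra K F] [Algebra F E] [Algebra K E] [IsScalarTower K F E]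
    [FiniteDimensional F E]
    [Algebra K L] [Algebra L E] [IsScalarTower K L E] [FiniteDimensional K L]

/-- the trace formula for residues over a complete discretely valued field -/
theorem resExp_trace (vF : Valuation F (WithZero (Multiplicative ℤ)))
    (w : Valuation E (WithZero (Multiplicative ℤ))) [vF.HasExtension w]
    (φ : F →ₐ[K] LaurentSeries K) (hφ : LocRes.IsExpansionAt vF φ) (hφs : Function.Surjective φ)
    (ψ : E →ₐ[L] LaurentSeries L) (hψ : LocRes.IsExpansionAt w ψ)
    (x : F) (y : E) :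
    Algebra.trace K L (LocRes.resExp ψ y (algebraMap F E x)) =
      LocRes.resExp φ (Algebra.trace F E y) x := by
  classical
  obtain ⟨e, he0, he⟩ := exists_ram vF w hφ.2.2
  have hv : ∀ c : K, vF (algebraMap K F c) ≤ 1 := by
    intro c
    rw [← hφ.1, φ.commutes, LocRes.algebraMap_eq_C, LaurentSeries.val_le_one_iff_eq_coe]
    exact ⟨PowerSeries.C c, HahnSeries.ofPowerSeries_C c⟩
  have hw : ∀ c : K, w (algebraMap K E c) ≤ 1 := by
    intro c
    rw [IsScalarTower.algebraMap_apply K F E, he]
    exact pow_le_one₀ zero_le (hv c)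
  have htower : ∀ c : K, algebraMap K (LaurentSeries L) c =
      algebraMap L (LaurentSeries L) (algebraMap K L c) := by
    intro c
    rw [Groth.Agent.H63.CoeffDer.algebraMap_eq (k := K) (F := L), LocRes.algebraMap_eq_C]
  let Ψ : E →ₐ[K] LaurentSeries L :=
    { ψ.toRingHom with
      commutes' := fun c => by
        change ψ (algebraMap K E c) = _
        rw [IsScalarTower.algebraMap_apply K L E, ψ.commutes, htower] }
  have hΨψ : ∀ z, Ψ z = ψ z := fun _ => rfl
  have hΨ : LocRes.IsExpansionAt w Ψ := hψ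
  obtain ⟨r, g, hg, H1, H2⟩ := exists_lift hw hΨ e
  obtain ⟨bs, hbs⟩ := Groth.Agent.H63.ComplBasis.exists_basis vF w φ hφ hφs e he he0 g hg H1 H2
  obtain ⟨π, hπ⟩ := exists_isProj (ball vF hv 0)
  obtain ⟨πB, hπB⟩ := exists_isProj (ball w hw 0)
  have h1 := Groth.Agent.H63.TateTrace.tate_trace bs (A := ball vF hv 0) (B := ball w hw 0)
    (by
      intro z
      rw [mem_ball, neg_zero, exp_zero, hbs]
      refine forall_congr' fun i => ?_
      rw [mem_ball, neg_zero, exp_zero])
    (fun u => nearStable_ball hv hφ 0 u) (fun y => nearStable_ball hw hΨ 0 y) hπ hπB y x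
  rw [tate_ball_eq_locRes hw hΨ 0 hπB, tate_ball_eq_locRes hv hφ 0 hπ] at h1
  unfold LocRes.locRes at h1
  rw [Algebra.trace_self_apply] at h1
  have h2 : LocRes.resExp Ψ y (algebraMap F E x) = LocRes.resExp ψ y (algebraMap F E x) := rfl
  rw [h2] at h1
  exact h1

end final

end Groth.Agent.H63.ComplTrace
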