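import Mathlib.RingTheory.Kaehler.Basic
import Mathlib.Algebra.MvPolynomial.PDeriv
import Mathlib.RingTheory.MvPolynomial.Homogeneous
import Mathlib.RingTheory.MvPolynomial.EulerIdentity
import Mathlib.LinearAlgebra.Matrix.Determinant.Basic
import Mathlib.Data.Fin.VecNotation
import Mathlib.Tactic.Module
import Mathlib.Tactic.LinearCombination
import Mathlib.Tactic.FieldSimp
import Mathlib.Tactic.Ring

/-!
# Invariance of `dx / f_y` under projective coordinate change (helper63)

`derivation_aeval`: chain rule `D (f(P)) = ∑ f_i(P) • D P_i` for any derivation;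
`aeval_smul_of_isHomogeneous`: `g(c v) = c^d g(v)`; `cross_identity`: third component of
`Aᵗ((Au)×(A du)) = det A (u × du)`; `main`: `dx/f_y = det A · z^(e-3) · dx'/f'_{y'}`.
-/

set_option autoImplicit false
set_option linter.unusedSectionVars false
set_option linter.unusedVariables false
set_option linter.unusedSimpArgs false

namespace Groth.Agent.H63.CoordChange
open MvPolynomial

section Chain
variable {k : Type*} [CommRing k] {σ : Type*} [Fintype σ] [DecidableEq σ]
  {B : Type*} [CommRing B] [Algebra k B] {M : Type*} [AddCommGroup M] [Module k M] [Module B M]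
  [IsScalarTower k B M]

/-- chain rule for a derivation applied to a polynomial expression. -/
theorem derivation_aeval (D : Derivation k B M) (P : σ → B) (f : MvPolynomial σ k) :
    D (aeval P f) = ∑ i, aeval P (pderiv i f) • D (P i) := by
  induction f using MvPolynomial.induction_on with
  | C a => simp
  | add p q hp hq => simp [hp, hq, add_smul, Finset.sum_add_distrib]
  | mul_X p i hp =>
    rw [map_mul, aeval_X, Derivation.leibniz, hp]
    simp only [Derivation.leibniz, pderiv_X, map_add, map_mul, aeval_X, smul_eq_mul, add_smul,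
      Finset.sum_add_distrib]
    congr 1
    · rw [Finset.sum_eq_single i]
      · simp
      · intro j _ hj
        simp [Pi.single_apply, Ne.symm hj]
      · simp
    · rw [Finset.smul_sum]
      refine Finset.sum_congr rfl fun j _ => ?_
      rw [smul_smul]

end Chain

section Homog
variable {k : Type*} [CommRing k] {σ : Type*} [Fintype σ]
  {B : Type*} [CommRing B] [Algebra k B]

theorem aeval_smul_of_isHomogeneous {g : MvPolynomial σ k} {d : ℕ} (hg : g.IsHomogeneous d)
    (c : B) (v : σ → B) : aeval (fun i => c * v i) g = c ^ d * aeval v g := by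
  rw [aeval_def, aeval_def, eval₂_eq', eval₂_eq', Finset.mul_sum]
  refine Finset.sum_congr rfl fun m hm => ?_
  have hd : ∑ i, m i = d := by
    have := hg (mem_support_iff.1 hm)
    rw [← this, Finsupp.weight_apply, Finsupp.sum_fintype]
    · simp
    · intro i; simp
  simp only [mul_pow, Finset.prod_mul_distrib, Finset.prod_pow_eq_pow_sum, hd]
  ring

end Homog

/-- the cofactor identity `Aᵗ((Au)×(A du)) = det A (u × du)`, third component, in a module. -/
theorem cross_identity {K M : Type*} [Field K] [AddCommGroup M] [Module K M]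
    (a : Fin 3 → Fin 3 → K) (u : Fin 3 → K) (du : Fin 3 → M) :
    (Matrix.of a).det • (u 0 • du 1 - u 1 • du 0) =
      a 0 2 • ((∑ j, a 1 j * u j) • (∑ j, a 2 j • du j) - (∑ j, a 2 j * u j) • (∑ j, a 1 j • du j)) +
      a 1 2 • ((∑ j, a 2 j * u j) • (∑ j, a 0 j • du j) - (∑ j, a 0 j * u j) • (∑ j, a 2 j • du j)) +
      a 2 2 • ((∑ j, a 0 j * u j) • (∑ j, a 1 j • du j) - (∑ j, a 1 j * u j) • (∑ j, a 0 j • du j)) := by
  rw [Matrix.det_fin_three]
  simp only [Fin.sum_univ_three, Matrix.of_apply]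
  module

theorem main
    (k K : Type*) [Field k] [Field K] [Algebra k K]
    (f : MvPolynomial (Fin 3) k) (e : ℕ) (hf : f.IsHomogeneous e)
    (x y : K) (hfxy : MvPolynomial.aeval ![(1 : K), x, y] f = 0)
    (A : Matrix (Fin 3) (Fin 3) k) (hA : A.det ≠ 0)
    (u : Fin 3 → K) (hu : ∀ i, ∑ j, algebraMap k K (A i j) * u j = ![(1 : K), x, y] i)
    (hu0 : u 0 ≠ 0)
    (hfy : MvPolynomial.aeval ![(1 : K), x, y] (MvPolynomial.pderiv 2 f) ≠ 0)
    (hfy' : MvPolynomial.aeval ![(1 : K), u 1 / u 0, u 2 / u 0]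
      (MvPolynomial.pderiv 2
        (MvPolynomial.aeval (fun i : Fin 3 => ∑ j, MvPolynomial.C (A i j) * MvPolynomial.X j) f)) ≠ 0) :
    (MvPolynomial.aeval ![(1 : K), x, y] (MvPolynomial.pderiv 2 f))⁻¹ • KaehlerDifferential.D k K x =
      (algebraMap k K A.det * (u 0)⁻¹ ^ ((e : ℤ) - 3) *
        (MvPolynomial.aeval ![(1 : K), u 1 / u 0, u 2 / u 0]
          (MvPolynomial.pderiv 2
            (MvPolynomial.aeval (fun i : Fin 3 => ∑ j, MvPolynomial.C (A i j) * MvPolynomial.X j) f)))⁻¹) •
        KaehlerDifferential.D k K (u 1 / u 0) := by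
  classical
  set P : Fin 3 → K := ![(1 : K), x, y] with hP
  set L : Fin 3 → MvPolynomial (Fin 3) k := fun i => ∑ j, C (A i j) * X j with hL
  set f' := aeval L f with hf'
  set Q : Fin 3 → K := ![(1 : K), u 1 / u 0, u 2 / u 0] with hQ
  set D := KaehlerDifferential.D k K with hD
  set a : Fin 3 → Fin 3 → K := fun i j => algebraMap k K (A i j) with ha
  set F : Fin 3 → K := fun i => aeval P (pderiv i f) with hF
  set G' := aeval Q (pderiv 2 f') with hG'
  -- e ≥ 1
  obtain ⟨e', rfl⟩ : ∃ e', e = e' + 1 := by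
    rcases e with _ | e'
    · exfalso
      apply hfy
      have := hf.pderiv (i := (2 : Fin 3))
      rw [← totalDegree_zero_iff_isHomogeneous, totalDegree_eq_zero_iff_eq_C] at hf
      rw [hf, pderiv_C, map_zero]
    · exact ⟨e', rfl⟩
  -- (R1) chain rule
  have R1 : F 1 • D x + F 2 • D y = 0 := by
    have h := derivation_aeval D P f
    rw [hfxy, map_zero, Fin.sum_univ_three] at h
    have h0 : D (P 0) = 0 := by simp [hP]
    rw [h0, smul_zero, zero_add] at h
    exact h.symm
  -- (R2) Euler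
  have R2 : F 0 + x * F 1 + y * F 2 = 0 := by
    have h := congrArg (aeval P) hf.sum_X_mul_pderiv
    rw [map_sum, map_nsmul, hfxy, smul_zero, Fin.sum_univ_three] at h
    simp only [map_mul, aeval_X] at h
    simpa [hP, hF] using h
  -- (R3) gradient of f'
  have R3 : aeval u (pderiv 2 f') = ∑ i, a i 2 * F i := by
    have h := derivation_aeval (pderiv (2 : Fin 3) : Derivation k (MvPolynomial (Fin 3) k) _) L f
    rw [← hf'] at h
    rw [h, map_sum]
    refine Finset.sum_congr rfl fun i _ => ?_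
    have h1 : pderiv (2 : Fin 3) (L i) = C (A i 2) := by
      simp only [hL, map_sum, Derivation.leibniz, pderiv_C, pderiv_X, smul_zero, add_zero]
      rw [Fin.sum_univ_three]
      simp
    have h2 : aeval u (aeval L (pderiv i f)) = F i := by
      rw [← AlgHom.comp_apply, comp_aeval]
      congr 2
      funext j
      simp only [hL, map_sum, map_mul, aeval_C, aeval_X]
      exact hu j
    rw [h1, smul_eq_mul, map_mul, h2, aeval_C, mul_comm]
  -- (R4) homogeneity
  have R4 : aeval u (pderiv 2 f') = u 0 ^ e' * G' := by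
    have hf'h : f'.IsHomogeneous (e' + 1) := by
      have := hf.aeval (S := k) L (n := 1) (fun i => by
        simp only [hL]
        exact IsHomogeneous.sum _ _ _ fun j _ => (isHomogeneous_X k j).C_mul _)
      simpa using this
    have hg := hf'h.pderiv (i := (2 : Fin 3))
    rw [Nat.add_sub_cancel] at hg
    have hu' : u = fun i => u 0 * Q i := by
      funext i
      fin_cases i
      · simp [hQ]
      · simp [hQ]; field_simp
      · simp [hQ]; field_simp
    conv_lhs => rw [hu']
    exact aeval_smul_of_isHomogeneous hg (u 0) Q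
  -- (R5) differentials
  have R5 : ∀ i, ∑ j, a i j • D (u j) = D (P i) := by
    intro i
    rw [← hu i, map_sum]
    refine Finset.sum_congr rfl fun j _ => ?_
    rw [Derivation.leibniz, Derivation.map_algebraMap, smul_zero, add_zero]
  have hdet : (Matrix.of a).det = algebraMap k K A.det := by
    rw [RingHom.map_det]
    rfl
  have R6 := cross_identity a u (fun j => D (u j))
  have hu' : ∀ i, ∑ j, a i j * u j = P i := hu
  simp only [hu', R5, hdet] at R6
  have hP0 : P 0 = 1 := rfl
  have hP1 : P 1 = x := rfl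
  have hP2 : P 2 = y := rfl
  rw [hP0, hP1, hP2, Derivation.map_one_eq_zero] at R6
  -- ω
  set ω := (F 2)⁻¹ • D x with hω
  have hF2 : F 2 ≠ 0 := hfy
  have hω2 : D x = F 2 • ω := by
    rw [hω, smul_smul, mul_inv_cancel₀ hF2, one_smul]
  have hω1 : D y = -(F 1 • ω) := by
    have h1 : F 2 • D y = -(F 1 • D x) := by
      rw [eq_neg_iff_add_eq_zero, add_comm]; exact R1
    have h2 : D y = (F 2)⁻¹ • (F 2 • D y) := by
      rw [smul_smul, inv_mul_cancel₀ hF2, one_smul]
    rw [h2, h1, hω, smul_neg, smul_smul, smul_smul, mul_comm]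
  have hsum : ∑ i, a i 2 * F i = u 0 ^ e' * G' := by rw [← R3, R4]
  rw [Fin.sum_univ_three] at hsum
  have key : algebraMap k K A.det • (u 0 • D (u 1) - u 1 • D (u 0)) = (u 0 ^ e' * G') • ω := by
    have hF0 : F 0 = -(x * F 1) - y * F 2 := by linear_combination R2
    rw [R6, hω2, hω1, ← hsum, hF0]
    module
  have hdiv : D (u 1 / u 0) = (1 / u 0 ^ 2) • (u 0 • D (u 1) - u 1 • D (u 0)) := by
    rw [Derivation.leibniz_div D (u 1) (u 0), inv_pow, one_div]
  have hz : (u 0)⁻¹ ^ (((e' + 1 : ℕ) : ℤ) - 3) * (1 / u 0 ^ 2) * u 0 ^ e' = 1 := by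
    rw [inv_zpow', one_div, ← zpow_natCast, ← zpow_natCast, ← zpow_neg, ← zpow_add₀ hu0,
      ← zpow_add₀ hu0]
    have : (-(((e' + 1 : ℕ) : ℤ) - 3) + -((2 : ℕ) : ℤ) + (e' : ℤ)) = 0 := by push_cast; ring
    rw [this, zpow_zero]
  rw [hdiv, smul_smul]
  have e1 : (algebraMap k K A.det * (u 0)⁻¹ ^ (((e' + 1 : ℕ) : ℤ) - 3) * G'⁻¹ * (1 / u 0 ^ 2)) •
      (u 0 • D (u 1) - u 1 • D (u 0)) =
      ((u 0)⁻¹ ^ (((e' + 1 : ℕ) : ℤ) - 3) * G'⁻¹ * (1 / u 0 ^ 2)) •
        (algebraMap k K A.det • (u 0 • D (u 1) - u 1 • D (u 0))) := by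
    rw [smul_smul]
    congr 1
    ring
  rw [e1, key, smul_smul]
  have e2 : (u 0)⁻¹ ^ (((e' + 1 : ℕ) : ℤ) - 3) * G'⁻¹ * (1 / u 0 ^ 2) * (u 0 ^ e' * G') = 1 := by
    have : (u 0)⁻¹ ^ (((e' + 1 : ℕ) : ℤ) - 3) * G'⁻¹ * (1 / u 0 ^ 2) * (u 0 ^ e' * G') =
        ((u 0)⁻¹ ^ (((e' + 1 : ℕ) : ℤ) - 3) * (1 / u 0 ^ 2) * u 0 ^ e') * (G'⁻¹ * G') := by ring
    rw [this, hz, inv_mul_cancel₀ hfy', one_mul]
  rw [e2, one_smul]

end Groth.Agent.H63.CoordChange
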