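import Mathlib
import Groth.Agent.H63.MinpolyDiff

set_option autoImplicit false
set_option linter.style.haveILetI false
set_option linter.unusedSectionVars false

namespace Groth.Agent.H63.DiffNorm
open FunFld LocRes LaurentSeries Polynomial
open Groth.Agent.H63.TameDiff Groth.Agent.H63.Eisenstein Groth.Agent.H63.DiffExp
open Groth.Agent.H63.MinpolyDiff

universe u v w

variable {k : Type u} {K K' : Type v} [Field k] [Field K] [Field K'] [Algebra k K] [Algebra K K']
  [Algebra k K'] [IsScalarTower k K K'] [FiniteDimensional K K']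
variable {F F' : Type w} [Field F] [Algebra k F] [Field F'] [Algebra k F']

/-- `v_Q(f'(s)) = d(Q|P)` for a local parameter `s` at `Q` whose minimal polynomial over `K` has
integral coefficients and constant term a local parameter at `P` -/
theorem ord_derivative_minpoly_of_coeff (hK : IsFunctionField k K) (hg : IsGeometric k K)
    (P : Place k K) (Q : Place k K') (e : ℕ) (he : IsOverWith Q P e)
    (φ : K →ₐ[k] LaurentSeries F) (hφ : LocRes.IsExpansionAt P.1 φ)
    (ψ : K' →ₐ[k] LaurentSeries F') (hψ : LocRes.IsExpansionAt Q.1 ψ)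
    (x : K) (hx : LocRes.vDiff φ 1 x ≠ 0) (hx' : LocRes.vDiff ψ 1 (algebraMap K K' x) ≠ 0)
    (s : K') (hs : Q.1 s = WithZero.exp (-1 : ℤ))
    (hint : ∀ i, P.1 ((minpoly K s).coeff i) ≤ 1)
    (h0 : P.1 ((minpoly K s).coeff 0) = WithZero.exp (-1 : ℤ)) :
    Q.ord (Polynomial.aeval s (Polynomial.derivative (minpoly K s))) = LocRes.diffExp φ ψ e x := by
  classical
  obtain ⟨t, ht, hvt2, hd⟩ := diffExp_param hK hg P Q e he φ hφ ψ hψ x hx hx'
  set f := minpoly K s with hf
  have hDt : Valued.v (LocRes.D F (φ t)) = 1 := v_D_unif _ (by rw [hφ.1, ht])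
  have hdt : KaehlerDifferential.D k K t ≠ 0 := by
    intro h0'
    have := Groth.Agent.H63.KaehlerFF.D_map_eq_of_D_eq φ (x := t) (z := t) (a := 0)
      (by rw [h0', zero_smul])
    rw [this, map_zero, zero_mul, map_zero] at hDt
    exact zero_ne_one hDt
  choose δ hδ using fun a : K =>
    Groth.Agent.H63.SepGen.exists_smul_D_eq hK hg hdt (KaehlerDifferential.D k K a)
  have hδv : ∀ a : K, Valued.v (LocRes.D F (φ a)) = P.1 (δ a) := by
    intro a
    rw [Groth.Agent.H63.KaehlerFF.D_map_eq_of_D_eq φ (hδ a), map_mul, hφ.1, hDt, mul_one]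
  have hδint : ∀ a : K, P.1 a ≤ 1 → P.1 (δ a) ≤ 1 := by
    intro a ha
    rw [← hδv a]
    exact v_D_le_one _ (by rw [hφ.1]; exact ha)
  have hδ0 : P.1 (δ (f.coeff 0)) = 1 := by
    rw [← hδv]
    exact v_D_unif _ (by rw [hφ.1, h0])
  -- the differential identity
  have hid := Groth.Agent.H63.DerAeval.der_aeval (KaehlerDifferential.D k K') s f
  rw [hf, minpoly.aeval, ← hf, map_zero] at hid
  set Sg : K' := f.sum (fun i a => s ^ i * algebraMap K K' (δ a)) with hSg
  have hsum : f.sum (fun i a => s ^ i • KaehlerDifferential.D k K' (algebraMap K K' a)) =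
      Sg • KaehlerDifferential.D k K' (algebraMap K K' t) := by
    rw [hSg, Polynomial.sum_def, Polynomial.sum_def, Finset.sum_smul]
    refine Finset.sum_congr rfl (fun i _ => ?_)
    rw [D_algebraMap_eq (hδ (f.coeff i)), smul_smul]
  rw [hsum] at hid
  have hid2 : Polynomial.aeval s (Polynomial.derivative f) • KaehlerDifferential.D k K' s =
      (-Sg) • KaehlerDifferential.D k K' (algebraMap K K' t) := by
    rw [neg_smul]
    exact eq_neg_of_add_eq_zero_left hid.symm
  have hlift := Groth.Agent.H63.KaehlerFF.lift_smul_eq ψ hid2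
  have hDs : Valued.v (LocRes.D F' (ψ s)) = 1 := v_D_unif _ (by rw [hψ.1, hs])
  have hval := congrArg Valued.v hlift
  rw [map_mul, map_mul, hψ.1, hψ.1, hDs, mul_one, Valuation.map_neg] at hval
  -- the valuation of Sg
  have hc0 : f.coeff 0 ≠ 0 := by
    intro h
    rw [h, map_zero] at h0
    exact WithZero.exp_ne_zero h0.symm
  have h0supp : 0 ∈ f.support := Polynomial.mem_support_iff.2 hc0
  have hSg1 : Q.1 Sg = 1 := by
    rw [hSg, Polynomial.sum_def, Valuation.map_sum_eq_of_lt _ h0supp]
    · rw [pow_zero, one_mul, he, hδ0, one_pow]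
    · intro i hi
      rw [Finset.mem_sdiff, Finset.mem_singleton] at hi
      rw [pow_zero, one_mul, he, hδ0, one_pow, map_mul, map_pow, hs, he]
      have h1 : P.1 (δ (f.coeff i)) ^ e ≤ 1 := pow_le_one' (hδint _ (hint i)) e
      have h2 : (WithZero.exp (-1 : ℤ)) ^ i < 1 := by
        rw [← WithZero.exp_nsmul, ← WithZero.exp_zero, WithZero.exp_lt_exp]
        have : 0 < i := Nat.pos_of_ne_zero hi.2
        simp only [nsmul_eq_mul]
        omega
      calc (WithZero.exp (-1 : ℤ)) ^ i * P.1 (δ (f.coeff i)) ^ e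
          ≤ (WithZero.exp (-1 : ℤ)) ^ i * 1 := mul_le_mul' le_rfl h1
        _ < 1 := by rw [mul_one]; exact h2
  rw [hSg1, one_mul] at hval
  rw [hd]
  unfold Place.ord LocRes.ordDiff
  rw [vDiff_one, hval]

end Groth.Agent.H63.DiffNorm
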