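import Mathlib
import Groth.Agent.H63.DiffNorm
import Groth.Agent.H63.TraceDual2

set_option autoImplicit false
set_option linter.style.haveILetI false
set_option linter.unusedSectionVars false

namespace Groth.Agent.H63.DiffNorm
open FunFld LocRes LaurentSeries Polynomial Groth.Agent.H55 WithZero
open Groth.Agent.H63.TateSemi

universe u v w

variable {k : Type u} {K K' : Type v} [Field k] [Field K] [Field K'] [Algebra k K] [Algebra K K']
  [Algebra k K'] [IsScalarTower k K K'] [FiniteDimensional K K']

open scoped Classical in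
/-- an element which is a local parameter at `Q`, a unit at the other places above `P`, and has
norm a local parameter at `P` generates `K'`, with integral minimal polynomial whose constant
term is a local parameter -/
theorem of_norm [Algebra.IsSeparable K K'] (hK : IsFunctionField k K) (P : Place k K)
    (Q : Place k K') (hQP : IsOver Q P) (s : K') (hs : Q.1 s = exp (-1 : ℤ))
    (hs' : ∀ Q' : Place k K', IsOver Q' P → Q' ≠ Q → Q'.1 s = 1)
    (hnorm : P.1 (Algebra.norm K s) = exp (-1 : ℤ)) :
    IntermediateField.adjoin K ({s} : Set K') = ⊤ ∧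
      (∀ i, P.1 ((minpoly K s).coeff i) ≤ 1) ∧
      P.1 ((minpoly K s).coeff 0) = exp (-1 : ℤ) := by
  have hsK : IsIntegral K s := IsIntegral.of_finite K s
  have hK' : W.IsWeakFF k K' := W.weak_of_finite hK.weak
  set r := Module.finrank (IntermediateField.adjoin K ({s} : Set K')) K' with hr
  have h1 := Algebra.norm_eq_norm_adjoin K s
  set v := P.1 (Algebra.norm K (IntermediateField.AdjoinSimple.gen K s)) with hv
  have h2 : v ^ r = exp (-1 : ℤ) := by
    rw [hv, ← map_pow, ← h1, hnorm]
  have hv0 : v ≠ 0 := by
    intro h0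
    rw [h0] at h2
    rcases Nat.eq_zero_or_pos r with hr0 | hr0
    · rw [hr0, pow_zero] at h2
      have : (0 : ℤ) = -1 := exp_injective (by rw [exp_zero]; exact h2)
      omega
    · rw [zero_pow hr0.ne'] at h2
      exact exp_ne_zero h2.symm
  obtain ⟨j, hj⟩ : ∃ j : ℤ, v = exp j := ⟨log v, (exp_log hv0).symm⟩
  rw [hj, exp_pow_nat] at h2
  have h3 : (r : ℤ) * j = -1 := exp_injective h2
  have hr1 : r = 1 := by
    have : (r : ℤ) ∣ 1 := ⟨-j, by rw [mul_neg, h3]; rfl⟩
    have := Int.natAbs_dvd_natAbs.2 this
    simpa using this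
  have hj1 : j = -1 := by
    rw [hr1] at h3
    simpa using h3
  have htop : IntermediateField.adjoin K ({s} : Set K') = ⊤ :=
    IntermediateField.finrank_eq_one_iff_eq_top.1 hr1
  refine ⟨htop, ?_, ?_⟩
  · -- integrality of the coefficients
    letI : Algebra P.O K' := ((algebraMap K K').comp P.O.subtype).toAlgebra
    haveI : IsScalarTower P.O K K' := IsScalarTower.of_algebraMap_eq fun _ => rfl
    obtain ⟨hfinQ, -⟩ := sum_ramIdx_mul_deg (K' := K') hK P
    set Qs : Finset (Place k K') := hfinQ.toFinset with hQsdef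
    have hQs : ∀ Q', Q' ∈ Qs ↔ IsOver Q' P := fun Q' => by
      rw [hQsdef, Set.Finite.mem_toFinset]
      rfl
    have hsB : s ∈ semiB Qs (0 : Qs → ℤ) := by
      rw [mem_semiB]
      intro Q'
      simp only [Pi.zero_apply, neg_zero, exp_zero]
      by_cases hQ'Q : Q'.1 = Q
      · rw [hQ'Q, hs, ← exp_zero, exp_le_exp]
        omega
      · exact (hs' Q'.1 ((hQs Q'.1).1 Q'.2) hQ'Q).le
    have hsi : IsIntegral P.O s :=
      Groth.Agent.H63.TraceDual.isIntegral_of_mem_semiB hK hK' P Qs hQs hsB
    intro i
    rw [minpoly.isIntegrallyClosed_eq_field_fractions' K hsi, Polynomial.coeff_map]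
    exact ((minpoly P.O s).coeff i).2
  · -- the constant term
    have h4 := Algebra.PowerBasis.norm_gen_eq_coeff_zero_minpoly (IntermediateField.adjoin.powerBasis hsK)
    rw [IntermediateField.adjoin.powerBasis_gen, IntermediateField.minpoly_gen] at h4
    have h5 : v = P.1 ((minpoly K s).coeff 0) := by
      rw [hv, h4, map_mul, map_pow, Valuation.map_neg, map_one, one_pow, one_mul]
    rw [← h5, hj, hj1]

end Groth.Agent.H63.DiffNorm
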