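import Mathlib
import Groth.Agent.H63.DiffNorm2
import Groth.Agent.S11033

set_option autoImplicit false
set_option linter.style.haveILetI false
set_option linter.unusedSectionVars false

namespace Groth.Agent.H63.DiffNorm
open FunFld LocRes LaurentSeries Polynomial Groth.Agent.H55 WithZero

universe u v w

section
variable {k : Type u} {K K' : Type v} [Field k] [Field K] [Field K'] [Algebra k K] [Algebra K K']
  [Algebra k K'] [IsScalarTower k K K']

/-- residue degree one means equal degrees -/
theorem deg_eq_of_surjective (P : Place k K) (Q : Place k K') [P.1.HasExtension Q.1]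
    (hf : Function.Surjective
      (algebraMap (IsLocalRing.ResidueField P.O) (IsLocalRing.ResidueField Q.O))) :
    Q.deg = P.deg := by
  let gl : IsLocalRing.ResidueField P.O →ₗ[k] IsLocalRing.ResidueField Q.O :=
    { toFun := algebraMap (IsLocalRing.ResidueField P.O) (IsLocalRing.ResidueField Q.O)
      map_add' := map_add _
      map_smul' := fun c x => by
        change algebraMap (IsLocalRing.ResidueField P.O) (IsLocalRing.ResidueField Q.O)
            (IsLocalRing.residue P.O (algebraMap k P.O c) * x) =
          IsLocalRing.residue Q.O (algebraMap k Q.O c) *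
            algebraMap (IsLocalRing.ResidueField P.O) (IsLocalRing.ResidueField Q.O) x
        rw [map_mul]
        congr 1
        rw [Valuation.HasExtension.algebraMap_residue_eq_residue_algebraMap]
        congr 1
        apply Subtype.ext
        change algebraMap K K' (algebraMap k K c) = algebraMap k K' c
        rw [← IsScalarTower.algebraMap_apply] }
  have hinj : Function.Injective gl :=
    (algebraMap (IsLocalRing.ResidueField P.O) (IsLocalRing.ResidueField Q.O)).injective
  exact (LinearEquiv.ofBijective gl ⟨hinj, hf⟩).finrank_eq.symm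

variable [FiniteDimensional K K'] [Algebra.IsSeparable K K']
variable {F F' : Type w} [Field F] [Algebra k F] [Field F'] [Algebra k F']

open scoped Classical in
/-- a local parameter at `Q` (residue degree one) which is a unit at the other places above `P`
generates `K'` and computes the different exponent -/
theorem different_of_unit_elsewhere (hK : IsFunctionField k K) (hg : IsGeometric k K)
    (P : Place k K) (Q : Place k K') (e : ℕ) (he : IsOverWith Q P e)
    (φ : K →ₐ[k] LaurentSeries F) (hφ : LocRes.IsExpansionAt P.1 φ)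
    (ψ : K' →ₐ[k] LaurentSeries F') (hψ : LocRes.IsExpansionAt Q.1 ψ)
    (x : K) (hx : LocRes.vDiff φ 1 x ≠ 0) (hx' : LocRes.vDiff ψ 1 (algebraMap K K' x) ≠ 0)
    [P.1.HasExtension Q.1]
    (hf : Function.Surjective
      (algebraMap (IsLocalRing.ResidueField P.O) (IsLocalRing.ResidueField Q.O)))
    (s : K') (hs : Q.1 s = WithZero.exp (-1 : ℤ))
    (hs' : ∀ Q' : Place k K', IsOver Q' P → Q' ≠ Q → Q'.1 s = 1) :
    IntermediateField.adjoin K ({s} : Set K') = ⊤ ∧
    Q.ord (Polynomial.aeval s (Polynomial.derivative (minpoly K s))) =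
      LocRes.diffExp φ ψ e x := by
  obtain ⟨hfinQ, -⟩ := sum_ramIdx_mul_deg (K' := K') hK P
  set Qs : Finset (Place k K') := hfinQ.toFinset with hQsdef
  have hQs : ∀ Q', Q' ∈ Qs ↔ IsOver Q' P := fun Q' => by
    rw [hQsdef, Set.Finite.mem_toFinset]
    rfl
  have hQmem : Q ∈ Qs := (hQs Q).2 ⟨e, he⟩
  have hs0 : s ≠ 0 := by
    rintro rfl
    rw [map_zero] at hs
    exact exp_ne_zero hs.symm
  have hnorm := Groth.Agent.S11033.result k K K' hK hg P s Qs hQs
  have hsum : ∑ Q' ∈ Qs, (Q'.deg : ℤ) * Q'.ord s = (Q.deg : ℤ) := by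
    rw [Finset.sum_eq_single Q]
    · have : Q.ord s = 1 := by
        unfold Place.ord
        rw [hs, log_exp]
        ring
      rw [this, mul_one]
    · intro Q' hQ' hne
      have : Q'.ord s = 0 := by
        unfold Place.ord
        rw [hs' Q' ((hQs Q').1 hQ') hne, log_one, neg_zero]
      rw [this, mul_zero]
    · intro h
      exact absurd hQmem h
  rw [hsum, deg_eq_of_surjective P Q hf] at hnorm
  have hdeg : (0 : ℤ) < P.deg := by exact_mod_cast Place.deg_pos hK P
  have hord : P.ord (Algebra.norm K s) = 1 := by
    have : (P.deg : ℤ) * P.ord (Algebra.norm K s) = (P.deg : ℤ) * 1 := by rw [hnorm, mul_one]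
    exact mul_left_cancel₀ hdeg.ne' this
  have hN0 : Algebra.norm K s ≠ 0 := by
    rw [Ne, Algebra.norm_eq_zero_iff]
    exact hs0
  have hPN : P.1 (Algebra.norm K s) = exp (-1 : ℤ) := by
    rw [Place.val_eq_exp_neg_ord P hN0, hord]
  obtain ⟨htop, hint, h0⟩ := of_norm hK P Q ⟨e, he⟩ s hs hs' hPN
  exact ⟨htop, ord_derivative_minpoly_of_coeff hK hg P Q e he φ hφ ψ hψ x hx hx' s hs hint h0⟩

end

end Groth.Agent.H63.DiffNorm
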