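import Mathlib
import Groth.Agent.H63.EtaEtA

set_option autoImplicit false
universe u

namespace Groth.Agent.H63.EtaEt

open TensorProduct KaehlerDifferential AlgebraicGeometry



theorem exists_pow_smul_eq_zero (R M : Type u) [CommRing R] [AddCommGroup M] [Module R M]
    [Module.Finite R M] (x : R) (h : ∀ m : M, ∃ k : ℕ, x ^ k • m = 0) :
    ∃ N : ℕ, ∀ m : M, x ^ N • m = 0 := by
  obtain ⟨s, hs⟩ := (Module.Finite.fg_top : (⊤ : Submodule R M).FG)
  choose k hk using h
  refine ⟨s.sup k, fun m => ?_⟩
  have hm : m ∈ Submodule.span R (s : Set M) := by rw [hs]; trivial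
  induction hm using Submodule.span_induction with
  | mem y hy =>
    have hle : k y ≤ s.sup k := Finset.le_sup hy
    obtain ⟨j, hj⟩ := Nat.exists_eq_add_of_le hle
    rw [hj, add_comm, pow_add, mul_smul, hk, smul_zero]
  | zero => simp
  | add y z _ _ hy hz => rw [smul_add, hy, hz, add_zero]
  | smul r y _ hy => rw [smul_comm, hy, smul_zero]

section part1

variable (V : Type u) [CommRing V] [IsDomain V] [IsDiscreteValuationRing V]
  (ϖ : V) (hϖ : Irreducible ϖ) (p : ℕ) [CharP (IsLocalRing.ResidueField V) p]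
  (A : Type u) [CommRing A] [Algebra V A]
  (R : Type u) [CommRing R] [Algebra V R] [Algebra.FiniteType V R] [Algebra A R] [IsScalarTower V A R]

include hϖ in
theorem natCast_eq_mul : ∃ c : V, (p : V) = ϖ * c := by
  have hpmem : (p : V) ∈ IsLocalRing.maximalIdeal V := by
    rw [← IsLocalRing.residue_eq_zero_iff, map_natCast]
    exact CharP.cast_eq_zero _ p
  rw [hϖ.maximalIdeal_eq, Ideal.mem_span_singleton] at hpmem
  exact hpmem

include hϖ in
theorem part1
    (h : ∃ a : R, Ideal.span {a} ⊔ Ideal.span {algebraMap V R ϖ} = ⊤ ∧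
        ((algebraMap R (Localization.Away (a * algebraMap V R ϖ))).comp (algebraMap A R)).Etale) :
    ∃ n : ℕ, Ideal.span {((p : R)) ^ n} • (⊤ : Submodule R (Ω[R⁄A])) ≤
        Ideal.span {algebraMap V R ϖ * (p : R) ^ n} • (⊤ : Submodule R (Ω[R⁄A])) := by
  obtain ⟨a, ha, het⟩ := h
  obtain ⟨c, hc⟩ := natCast_eq_mul V ϖ hϖ p
  have hpR : (p : R) = algebraMap V R ϖ * algebraMap V R c := by
    rw [← map_mul, ← hc, map_natCast]
  have hft : Algebra.FiniteType A R := Algebra.FiniteType.of_restrictScalars_finiteType V A R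
  set x : R := a * algebraMap V R ϖ with hx
  have het' : Algebra.Etale A (Localization.Away x) := by
    rwa [← IsScalarTower.algebraMap_eq, RingHom.etale_algebraMap] at het
  have hsub : Subsingleton (Ω[Localization.Away x⁄A]) := inferInstance
  have hkill : ∀ m : Ω[R⁄A], ∃ k : ℕ, x ^ k • m = 0 := by
    intro m
    obtain ⟨r, ⟨k, rfl⟩, hr⟩ := (IsLocalizedModule.subsingleton_iff (Submonoid.powers x)
      (map A A R (Localization.Away x))).mp hsub m
    exact ⟨k, hr⟩
  obtain ⟨N, hN⟩ := exists_pow_smul_eq_zero R (Ω[R⁄A]) x hkill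
  refine ⟨N, ?_⟩
  have hcop : IsCoprime (a ^ N) (algebraMap V R ϖ) := by
    have : IsCoprime a (algebraMap V R ϖ) := by
      rw [← Ideal.isCoprime_span_singleton_iff, Ideal.isCoprime_iff_sup_eq]
      exact ha
    exact this.pow_left
  obtain ⟨u, v, huv⟩ := hcop
  have hzero : ∀ ω : Ω[R⁄A], (a ^ N * (p : R) ^ N) • ω = 0 := by
    intro ω
    have : a ^ N * (p : R) ^ N = algebraMap V R c ^ N * x ^ N := by
      rw [hpR, hx]; ring
    rw [this, mul_smul, hN, smul_zero]
  have hω : ∀ ω : Ω[R⁄A], (p : R) ^ N • ω = (algebraMap V R ϖ * (p : R) ^ N) • (v • ω) := by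
    intro ω
    have h1 : (p : R) ^ N • ω = ((u * a ^ N + v * algebraMap V R ϖ) * (p : R) ^ N) • ω := by
      rw [huv, one_mul]
    rw [h1, smul_smul]
    have : (u * a ^ N + v * algebraMap V R ϖ) * (p : R) ^ N =
        u * (a ^ N * (p : R) ^ N) + algebraMap V R ϖ * (p : R) ^ N * v := by ring
    rw [this, add_smul, mul_smul u, hzero, smul_zero, zero_add]
  rw [Submodule.smul_le]
  intro r hr n _
  obtain ⟨b, rfl⟩ := Ideal.mem_span_singleton'.mp hr
  rw [mul_smul, hω]
  exact Submodule.smul_mem _ _ (Submodule.smul_mem_smul (Ideal.mem_span_singleton_self _)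
    Submodule.mem_top)

end part1




theorem tower4 {A B C D : Type*} [CommSemiring A] [CommSemiring B] [CommSemiring C]
    [CommSemiring D] [Algebra A B] [Algebra A C] [Algebra B C] [Algebra A D] [Algebra B D]
    [Algebra C D] [IsScalarTower A B C] [IsScalarTower A C D] [IsScalarTower B C D] :
    IsScalarTower A B D :=
  IsScalarTower.of_algebraMap_eq (fun x => by
    rw [IsScalarTower.algebraMap_apply A C D, IsScalarTower.algebraMap_apply A B C,
      ← IsScalarTower.algebraMap_apply B C D])

section part2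

attribute [local instance] Algebra.TensorProduct.rightAlgebra

variable (V : Type u) [CommRing V] [IsDomain V] [IsDiscreteValuationRing V] [CharZero V]
  (ϖ : V) (hϖ : Irreducible ϖ) (p : ℕ) [Fact p.Prime]
  (A : Type u) [CommRing A] [Algebra V A]
  (R : Type u) [CommRing R] [Algebra V R] [Algebra.FiniteType V R] [Algebra A R]
  [IsScalarTower V A R]

local notation "K" => FractionRing V

include hϖ in
theorem part2 (d : ℕ)
    (hA : SmoothOfRelativeDimension d
      (Spec.map (CommRingCat.ofHom (algebraMap K (K ⊗[V] A)))))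
    (hR : SmoothOfRelativeDimension d
      (Spec.map (CommRingCat.ofHom (algebraMap K (K ⊗[V] R)))))
    (hn : ∃ n : ℕ, Ideal.span {((p : R)) ^ n} • (⊤ : Submodule R (Ω[R⁄A])) ≤
        Ideal.span {algebraMap V R ϖ * (p : R) ^ n} • (⊤ : Submodule R (Ω[R⁄A]))) :
    ∃ a : R, Ideal.span {a} ⊔ Ideal.span {algebraMap V R ϖ} = ⊤ ∧
      ((algebraMap R (Localization.Away (a * algebraMap V R ϖ))).comp (algebraMap A R)).Etale := by
  obtain ⟨n, hn⟩ := hn
  have hft : Algebra.FiniteType A R := Algebra.FiniteType.of_restrictScalars_finiteType V A R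
  have hnoeth : IsNoetherianRing R := Algebra.FiniteType.isNoetherianRing V R
  -- Nakayama
  have hNfg : (Ideal.span {((p : R)) ^ n} • (⊤ : Submodule R (Ω[R⁄A]))).FG :=
    IsNoetherian.noetherian _
  have hle : Ideal.span {((p : R)) ^ n} • (⊤ : Submodule R (Ω[R⁄A])) ≤
      Ideal.span {algebraMap V R ϖ} • (Ideal.span {((p : R)) ^ n} • (⊤ : Submodule R (Ω[R⁄A]))) := by
    rw [← Submodule.mul_smul, Ideal.span_singleton_mul_span_singleton]
    exact hn
  obtain ⟨a, ha1, ha2⟩ :=
    Submodule.exists_sub_one_mem_and_smul_eq_zero_of_fg_of_le_smul _ _ hNfg hle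
  refine ⟨a, ?_, ?_⟩
  · rw [Ideal.eq_top_iff_one]
    have : (1 : R) = a - (a - 1) := by ring
    rw [this]
    exact Submodule.sub_mem _ (Submodule.mem_sup_left (Ideal.mem_span_singleton_self a))
      (Submodule.mem_sup_right ha1)
  have hkill : ∀ ω : Ω[R⁄A], (a * (p : R) ^ n) • ω = 0 := fun ω => by
    rw [mul_smul]
    exact ha2 _ (Submodule.smul_mem_smul (Ideal.mem_span_singleton_self _) trivial)
  have hKloc : IsLocalization.Away ϖ K := isLocalization_away_of_dvr V ϖ hϖ K
  have hlocA := locally_of_smoothOfRelativeDimension K (K ⊗[V] A) d hA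
  have hlocR := locally_of_smoothOfRelativeDimension K (K ⊗[V] R) d hR
  have smA : Algebra.Smooth K (K ⊗[V] A) := smooth_of_locally _ _ d hlocA
  have smR : Algebra.Smooth K (K ⊗[V] R) := smooth_of_locally _ _ d hlocR
  -- algebra structures
  let φ : K ⊗[V] A →ₐ[K] K ⊗[V] R :=
    Algebra.TensorProduct.map (AlgHom.id K K) (IsScalarTower.toAlgHom V A R)
  let algAR' : Algebra (K ⊗[V] A) (K ⊗[V] R) := φ.toRingHom.toAlgebra
  have : IsScalarTower K (K ⊗[V] A) (K ⊗[V] R) :=
    IsScalarTower.of_algebraMap_eq (fun k => (φ.commutes k).symm)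
  let : Algebra A (K ⊗[V] R) := ((algebraMap R (K ⊗[V] R)).comp (algebraMap A R)).toAlgebra
  have : IsScalarTower A R (K ⊗[V] R) := IsScalarTower.of_algebraMap_eq' rfl
  have : IsScalarTower A (K ⊗[V] A) (K ⊗[V] R) := IsScalarTower.of_algebraMap_eq (fun x => by
    change algebraMap R (K ⊗[V] R) (algebraMap A R x) = φ (algebraMap A (K ⊗[V] A) x)
    simp [φ, Algebra.TensorProduct.right_algebraMap_apply])
  set t : K ⊗[V] R := algebraMap R (K ⊗[V] R) a with ht
  have tw1 : IsScalarTower K (K ⊗[V] A) (Localization.Away t) :=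
    tower4 (A := K) (B := K ⊗[V] A) (C := K ⊗[V] R) (D := Localization.Away t)
  have tw2 : IsScalarTower A (K ⊗[V] A) (Localization.Away t) :=
    tower4 (A := A) (B := K ⊗[V] A) (C := K ⊗[V] R) (D := Localization.Away t)
  have tw3 : IsScalarTower A R (Localization.Away t) :=
    tower4 (A := A) (B := R) (C := K ⊗[V] R) (D := Localization.Away t)
  have hloc1 : IsLocalization.Away (algebraMap V R ϖ) (K ⊗[V] R) :=
    isLocalization_away_tensor V K R ϖ
  have hloc2 : IsLocalization.Away (algebraMap R (K ⊗[V] R) a) (Localization.Away t) :=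
    (inferInstance : IsLocalization.Away t (Localization.Away t))
  have hTloc : IsLocalization.Away (a * algebraMap V R ϖ) (Localization.Away t) :=
    IsLocalization.Away.mul (K ⊗[V] R) (Localization.Away t) (algebraMap V R ϖ) a
  -- `a * p ^ n` becomes a unit
  have hpK : IsUnit ((p : ℕ) : K) := by
    have h0 : ((p : ℕ) : V) ≠ 0 := Nat.cast_ne_zero.mpr (Fact.out : p.Prime).ne_zero
    have h1 : algebraMap V K ((p : ℕ) : V) ≠ 0 := by
      rw [Ne, map_eq_zero_iff _ (IsFractionRing.injective V K)]
      exact h0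
    rw [map_natCast] at h1
    exact isUnit_iff_ne_zero.mpr h1
  have hu : IsUnit (algebraMap R (Localization.Away t) (a * (p : R) ^ n)) := by
    rw [map_mul, map_pow]
    refine IsUnit.mul ?_ (IsUnit.pow _ ?_)
    · rw [IsScalarTower.algebraMap_apply R (K ⊗[V] R) (Localization.Away t)]
      exact IsLocalization.Away.algebraMap_isUnit t
    · rw [map_natCast, ← map_natCast (algebraMap K (Localization.Away t))]
      exact hpK.map _
  have unrA : Algebra.FormallyUnramified A (Localization.Away t) := by
    constructor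
    have hspan := KaehlerDifferential.span_range_map_derivation_of_isLocalization A R
      (Localization.Away t) (Submonoid.powers (a * algebraMap V R ϖ))
    have hzero : ∀ r : R, map A A R (Localization.Away t) (D A R r) = 0 := by
      intro r
      have h1 : (a * (p : R) ^ n) • map A A R (Localization.Away t) (D A R r) = 0 := by
        rw [← LinearMap.map_smul, hkill, map_zero]
      rw [← algebraMap_smul (Localization.Away t)] at h1
      exact (hu.smul_eq_zero).mp h1
    have : (⊤ : Submodule (Localization.Away t) (Ω[Localization.Away t⁄A])) = ⊥ := by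
      rw [← hspan, Submodule.span_eq_bot]
      rintro _ ⟨r, rfl⟩
      exact hzero r
    exact (Submodule.subsingleton_iff (Localization.Away t)).mp
      (subsingleton_of_bot_eq_top this.symm)
  have unrA' : Algebra.FormallyUnramified (K ⊗[V] A) (Localization.Away t) :=
    Algebra.FormallyUnramified.of_restrictScalars A (K ⊗[V] A) (Localization.Away t)
  have smT' : Algebra.Smooth (K ⊗[V] R) (Localization.Away t) :=
    Algebra.Smooth.of_isLocalization_Away t
  have smT : Algebra.Smooth K (Localization.Away t) :=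
    Algebra.Smooth.comp K (K ⊗[V] R) (Localization.Away t)
  have rkA := rank_of_locally K (K ⊗[V] A) d hlocA
  have rkT : ∀ q : PrimeSpectrum (Localization.Away t),
      Module.rankAtStalk (Ω[Localization.Away t⁄K]) q = d := by
    intro q
    have hbc : IsBaseChange (Localization.Away t) (map K K (K ⊗[V] R) (Localization.Away t)) :=
      (isLocalizedModule_iff_isBaseChange (Submonoid.powers t) (Localization.Away t) _).mp
        inferInstance
    have hproj : Module.Projective (K ⊗[V] R) (Ω[K ⊗[V] R⁄K]) :=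
      Algebra.FormallySmooth.projective_kaehlerDifferential
    have hflat : Module.Flat (K ⊗[V] R) (Ω[K ⊗[V] R⁄K]) := Module.Flat.of_projective
    have hfin : Module.Finite (K ⊗[V] R) (Ω[K ⊗[V] R⁄K]) := inferInstance
    rw [Module.rankAtStalk_isBaseChange hbc q]
    exact rank_of_locally K (K ⊗[V] R) d hlocR _
  have etT : Algebra.Etale (K ⊗[V] A) (Localization.Away t) :=
    etale_of_smooth_of_rank_eq K (K ⊗[V] A) (Localization.Away t) d rkA rkT
  have hlocA' : IsLocalization.Away (algebraMap V A ϖ) (K ⊗[V] A) :=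
    isLocalization_away_tensor V K A ϖ
  have etA : Algebra.Etale A (K ⊗[V] A) := Algebra.Etale.of_isLocalizationAway (algebraMap V A ϖ)
  have etAT : Algebra.Etale A (Localization.Away t) :=
    Algebra.Etale.comp A (K ⊗[V] A) (Localization.Away t)
  -- transfer
  let e : Localization.Away (a * algebraMap V R ϖ) ≃ₐ[R] Localization.Away t :=
    IsLocalization.algEquiv (Submonoid.powers (a * algebraMap V R ϖ)) _ _
  have hcomp : (algebraMap R (Localization.Away (a * algebraMap V R ϖ))).comp (algebraMap A R) =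
      (e.symm : Localization.Away t ≃+* _).toRingHom.comp (algebraMap A (Localization.Away t)) := by
    ext x
    simp [IsScalarTower.algebraMap_apply A R (Localization.Away t)]
  rw [hcomp]
  exact RingHom.Etale.respectsIso.1 _ _ (RingHom.etale_algebraMap.mpr etAT)

end part2

end Groth.Agent.H63.EtaEt
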