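import Mathlib
import Groth.Agent.H63.EtaEtB
import Groth.Agent.H47.EtaleDim
import Groth.Agent.H91.MvPolyStdSmooth

set_option autoImplicit false
set_option linter.style.haveILetI false
universe u

namespace Groth.Agent.H63.EtaEt

open TensorProduct KaehlerDifferential AlgebraicGeometry



theorem ringKrullDim_le_of_locally (K B : Type u) [Field K] [CommRing B] [Algebra K B] (d : ℕ)
    (h : RingHom.Locally (RingHom.IsStandardSmoothOfRelativeDimension d) (algebraMap K B)) :
    ringKrullDim B ≤ d := by
  obtain ⟨s, hs, hloc⟩ := h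
  rw [ringKrullDim_le_iff_isMaximal_height_le]
  intro M hM
  obtain ⟨t, hts, htM⟩ : ∃ t ∈ s, t ∉ M := by
    by_contra hcon
    simp only [not_exists, not_and, not_not] at hcon
    have : Ideal.span s ≤ M := Ideal.span_le.mpr hcon
    rw [hs] at this
    exact hM.ne_top (top_le_iff.mp this)
  have hst := hloc t hts
  rw [← IsScalarTower.algebraMap_eq, RingHom.isStandardSmoothOfRelativeDimension_algebraMap] at hst
  obtain ⟨φ, hφ⟩ := Algebra.IsStandardSmoothOfRelativeDimension.exists_etale_mvPolynomial d K
    (Localization.Away t)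
  letI := φ.toRingHom.toAlgebra
  haveI : IsScalarTower K (MvPolynomial (Fin d) K) (Localization.Away t) :=
    IsScalarTower.of_algebraMap_eq (fun k => (φ.commutes k).symm)
  haveI : Algebra.Etale (MvPolynomial (Fin d) K) (Localization.Away t) := hφ
  have hMprime : M.IsPrime := hM.isPrime
  have hdisj : Disjoint (Submonoid.powers t : Set B) (M : Set B) := by
    rw [Set.disjoint_left]
    rintro x ⟨n, rfl⟩ hx
    exact htM (hMprime.mem_of_pow_mem n hx)
  have hP : (M.map (algebraMap B (Localization.Away t))).IsPrime :=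
    IsLocalization.isPrime_of_isPrime_disjoint (Submonoid.powers t) _ M hMprime hdisj
  haveI : Nontrivial (Localization.Away t) := by
    refine ⟨⟨0, 1, fun h01 => hP.ne_top ?_⟩⟩
    exact (Ideal.eq_top_iff_one _).mpr (h01 ▸ Ideal.zero_mem _)
  have hdim := Groth.Agent.H47.ED.ringKrullDim_eq_of_etale_mvPolynomial K d (Localization.Away t)
  have hht := IsLocalization.height_map_of_disjoint (S := Localization.Away t)
    (Submonoid.powers t) M hdisj
  rw [← hht, ← hdim]
  exact Ideal.height_le_ringKrullDim_of_ne_top hP.ne_top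




section transl

variable (V : Type u) [CommRing V] (R : Type u) [CommRing R] [Algebra V R] (d : ℕ)
  [Algebra (MvPolynomial (Fin d) V) R] [IsScalarTower V (MvPolynomial (Fin d) V) R]
  (x : Fin d → R) (hx : ∀ i, algebraMap (MvPolynomial (Fin d) V) R (MvPolynomial.X i) = x i)

include hx in
theorem D_algebraMap_mem (f : MvPolynomial (Fin d) V) :
    D V R (algebraMap (MvPolynomial (Fin d) V) R f) ∈
      Submodule.span R (Set.range fun i => D V R (x i)) := by
  induction f using MvPolynomial.induction_on with
  | C a =>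
    rw [← MvPolynomial.algebraMap_eq, ← IsScalarTower.algebraMap_apply V
      (MvPolynomial (Fin d) V) R, Derivation.map_algebraMap]
    exact Submodule.zero_mem _
  | add f g hf hg =>
    rw [map_add, map_add]
    exact Submodule.add_mem _ hf hg
  | mul_X f i hf =>
    rw [map_mul, Derivation.leibniz, hx]
    refine Submodule.add_mem _ (Submodule.smul_mem _ _ (Submodule.subset_span ⟨i, rfl⟩))
      (Submodule.smul_mem _ _ hf)

include hx in
theorem ker_map_eq :
    LinearMap.ker (map V (MvPolynomial (Fin d) V) R R) =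
      Submodule.span R (Set.range fun i => D V R (x i)) := by
  rw [← range_mapBaseChange]
  apply le_antisymm
  · rintro _ ⟨z, rfl⟩
    induction z with
    | zero => simp
    | tmul r ω =>
      rw [mapBaseChange_tmul]
      refine Submodule.smul_mem _ _ ?_
      have hω : ω ∈ Submodule.span (MvPolynomial (Fin d) V)
          (Set.range (D V (MvPolynomial (Fin d) V))) := by
        rw [span_range_derivation]; trivial
      induction hω using Submodule.span_induction with
      | mem y hy =>
        obtain ⟨f, rfl⟩ := hy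
        rw [map_D]
        exact D_algebraMap_mem V R d x hx f
      | zero => simp
      | add y z _ _ hy hz => rw [map_add]; exact Submodule.add_mem _ hy hz
      | smul f y _ hy =>
        rw [LinearMap.map_smul, ← algebraMap_smul R f]
        exact Submodule.smul_mem _ _ hy
    | add y z hy hz => rw [map_add]; exact Submodule.add_mem _ hy hz
  · rw [Submodule.span_le]
    rintro _ ⟨i, rfl⟩
    refine ⟨1 ⊗ₜ D V (MvPolynomial (Fin d) V) (MvPolynomial.X i), ?_⟩
    rw [mapBaseChange_tmul, one_smul, map_D, hx]

include hx in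
theorem smul_le_iff (c e : R) :
    (Ideal.span {c} • (⊤ : Submodule R (Ω[R⁄MvPolynomial (Fin d) V])) ≤
      Ideal.span {e} • (⊤ : Submodule R (Ω[R⁄MvPolynomial (Fin d) V]))) ↔
    (Ideal.span {c} • (⊤ : Submodule R (Ω[R⁄V])) ≤
      Ideal.span {e} • (⊤ : Submodule R (Ω[R⁄V])) ⊔
        Submodule.span R (Set.range fun i => D V R (x i))) := by
  have hπ : Function.Surjective (map V (MvPolynomial (Fin d) V) R R) := map_surjective V _ R
  have h1 : ∀ c : R, Submodule.map (map V (MvPolynomial (Fin d) V) R R)
      (Ideal.span {c} • (⊤ : Submodule R (Ω[R⁄V]))) =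
      Ideal.span {c} • (⊤ : Submodule R (Ω[R⁄MvPolynomial (Fin d) V])) := by
    intro c
    rw [Submodule.map_smul'', Submodule.map_top, LinearMap.range_eq_top.mpr hπ]
  rw [← h1 c, ← h1 e, Submodule.map_le_iff_le_comap, Submodule.comap_map_eq,
    ker_map_eq V R d x hx]

end transl




theorem smoothOfRelativeDimension_mvPolynomial (V K : Type u) [CommRing V] [CommRing K]
    [Algebra V K] (d : ℕ) :
    SmoothOfRelativeDimension d (Spec.map (CommRingCat.ofHom
      (algebraMap K (K ⊗[V] MvPolynomial (Fin d) V)))) := by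
  rw [HasRingHomProperty.Spec_iff (P := @SmoothOfRelativeDimension d)]
  refine RingHom.locally_of RingHom.isStandardSmoothOfRelativeDimension_respectsIso _ ?_
  simp only [CommRingCat.hom_ofHom]
  rw [RingHom.isStandardSmoothOfRelativeDimension_algebraMap]
  infer_instance


section assembly

variable (V : Type u) [CommRing V] [IsDomain V] [IsDiscreteValuationRing V] [CharZero V]
  (ϖ : V) (hϖ : Irreducible ϖ) (p : ℕ) [Fact p.Prime] [CharP (IsLocalRing.ResidueField V) p]
  (R : Type u) [CommRing R] [Algebra V R] [Algebra.FiniteType V R] (d : ℕ)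

include hϖ in
/-- η-étaleness of `(x_1, …, x_d)` gives the differential condition in `Ω[R⁄V]`. -/
theorem diffCond_of_etaEtale (x : Fin d → R)
    (hx : ∃ a : R, Ideal.span {a} ⊔ Ideal.span {algebraMap V R ϖ} = ⊤ ∧
        ((algebraMap R (Localization.Away (a * algebraMap V R ϖ))).comp
          (MvPolynomial.aeval x : MvPolynomial (Fin d) V →ₐ[V] R).toRingHom).Etale) :
    ∃ n : ℕ, Ideal.span {((p : R)) ^ n} • (⊤ : Submodule R (Ω[R⁄V])) ≤
      Ideal.span {algebraMap V R ϖ * (p : R) ^ n} • (⊤ : Submodule R (Ω[R⁄V])) ⊔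
        Submodule.span R (Set.range fun i => D V R (x i)) := by
  letI algP : Algebra (MvPolynomial (Fin d) V) R :=
    (MvPolynomial.aeval x : MvPolynomial (Fin d) V →ₐ[V] R).toRingHom.toAlgebra
  haveI : IsScalarTower V (MvPolynomial (Fin d) V) R :=
    IsScalarTower.of_algebraMap_eq' (MvPolynomial.aeval x : MvPolynomial (Fin d) V →ₐ[V] R).comp_algebraMap.symm
  have hX : ∀ i, algebraMap (MvPolynomial (Fin d) V) R (MvPolynomial.X i) = x i := fun i => by
    change MvPolynomial.aeval x (MvPolynomial.X i) = x i
    simp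
  obtain ⟨n, hn⟩ := part1 V ϖ hϖ p (MvPolynomial (Fin d) V) R hx
  exact ⟨n, (smul_le_iff V R d x hX _ _).mp hn⟩

include hϖ in
/-- The differential condition in `Ω[R⁄V]` gives η-étaleness when the generic fibre is smooth
of relative dimension `d`. -/
theorem etaEtale_of_diffCond (x : Fin d → R)
    (hsm : SmoothOfRelativeDimension d
      (Spec.map (CommRingCat.ofHom (algebraMap (FractionRing V) (FractionRing V ⊗[V] R)))))
    (hn : ∃ n : ℕ, Ideal.span {((p : R)) ^ n} • (⊤ : Submodule R (Ω[R⁄V])) ≤
      Ideal.span {algebraMap V R ϖ * (p : R) ^ n} • (⊤ : Submodule R (Ω[R⁄V])) ⊔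
        Submodule.span R (Set.range fun i => D V R (x i))) :
    ∃ a : R, Ideal.span {a} ⊔ Ideal.span {algebraMap V R ϖ} = ⊤ ∧
        ((algebraMap R (Localization.Away (a * algebraMap V R ϖ))).comp
          (MvPolynomial.aeval x : MvPolynomial (Fin d) V →ₐ[V] R).toRingHom).Etale := by
  letI algP : Algebra (MvPolynomial (Fin d) V) R :=
    (MvPolynomial.aeval x : MvPolynomial (Fin d) V →ₐ[V] R).toRingHom.toAlgebra
  haveI : IsScalarTower V (MvPolynomial (Fin d) V) R :=
    IsScalarTower.of_algebraMap_eq' (MvPolynomial.aeval x : MvPolynomial (Fin d) V →ₐ[V] R).comp_algebraMap.symm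
  have hX : ∀ i, algebraMap (MvPolynomial (Fin d) V) R (MvPolynomial.X i) = x i := fun i => by
    change MvPolynomial.aeval x (MvPolynomial.X i) = x i
    simp
  obtain ⟨n, hn⟩ := hn
  exact part2 V ϖ hϖ p (MvPolynomial (Fin d) V) R d
    (smoothOfRelativeDimension_mvPolynomial V (FractionRing V) d) hsm
    ⟨n, (smul_le_iff V R d x hX _ _).mpr hn⟩

end assembly

end Groth.Agent.H63.EtaEt
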