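import Groth.Agent.H93.DualMod
import Mathlib.RingTheory.Bialgebra.SymmetricAlgebra
import Mathlib.Algebra.Polynomial.Basis
import Mathlib.Algebra.Polynomial.AlgebraMap
import Mathlib.Data.Nat.Choose.Sum
import Mathlib.Algebra.CharZero.Defs

/-!
# Comodules over `k[s]` (additive group) are exponentials of locally nilpotent operators (helper63)

Uses helper93's dual-algebra action `dualAct` (H93/DualMod).  `powBasis`: the basis `s^n` of
`SymmetricAlgebra k k`; `cf n = n! · coord n` are the functionals dual to the divided powers, with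
`cf m * cf n = cf (m+n)` for the convolution product.
-/

set_option autoImplicit false
set_option linter.unusedSimpArgs false
set_option linter.unusedSectionVars false
universe u v w
open TensorProduct

namespace Groth.Agent.H63.GaComod
open Groth.Agent.H93

section Expand
variable {k : Type u} [CommRing k] {A : Type v} [AddCommGroup A] [Module k A]
  {ι : Type w} (b : Module.Basis ι k A) (U : Type*) [AddCommGroup U] [Module k U]

theorem exists_expand (x : U ⊗[k] A) :
    ∃ T : Finset ι, (∀ i, i ∉ T → slice U (b.coord i) x = 0) ∧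
      x = ∑ i ∈ T, slice U (b.coord i) x ⊗ₜ[k] b i := by
  classical
  have hcoord : ∀ i, TensorProduct.equivFinsuppOfBasisRight b x i = slice U (b.coord i) x := by
    intro i
    rw [TensorProduct.equivFinsuppOfBasisRight_apply]
    rfl
  refine ⟨(TensorProduct.equivFinsuppOfBasisRight b x).support, fun i hi => ?_, ?_⟩
  · rw [← hcoord]
    exact Finsupp.notMem_support_iff.1 hi
  · conv_lhs => rw [← (TensorProduct.equivFinsuppOfBasisRight (M := U) b).symm_apply_apply x]
    rw [TensorProduct.equivFinsuppOfBasisRight_symm_apply, Finsupp.sum]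
    exact Finset.sum_congr rfl fun i _ => by rw [hcoord]

end Expand

section Sym
variable (k : Type u) [CommRing k]

local notation "S" => SymmetricAlgebra k k

/-- the generator `s` of `k[s]`. -/
noncomputable def gen : S := SymmetricAlgebra.ι k k 1

noncomputable def toPoly : S →ₐ[k] Polynomial k :=
  SymmetricAlgebra.lift (LinearMap.toSpanSingleton k _ Polynomial.X)

noncomputable def ofPoly : Polynomial k →ₐ[k] S := Polynomial.aeval (gen k)

theorem toPoly_gen : toPoly k (gen k) = Polynomial.X := by
  simp [toPoly, gen, SymmetricAlgebra.lift_ι_apply]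

theorem ofPoly_X : ofPoly k Polynomial.X = gen k := by simp [ofPoly]

noncomputable def polyEquiv : S ≃ₐ[k] Polynomial k :=
  AlgEquiv.ofAlgHom (toPoly k) (ofPoly k)
    (by
      apply Polynomial.algHom_ext
      simp [ofPoly_X, toPoly_gen])
    (by
      apply SymmetricAlgebra.algHom_ext
      apply LinearMap.ext_ring
      simp only [LinearMap.comp_apply, AlgHom.toLinearMap_apply, AlgHom.comp_apply]
      change ofPoly k (toPoly k (gen k)) = gen k
      rw [toPoly_gen, ofPoly_X])

/-- the basis `s^n` of `k[s]`. -/
noncomputable def powBasis : Module.Basis ℕ k S :=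
  (Polynomial.basisMonomials k).map (polyEquiv k).symm.toLinearEquiv

theorem powBasis_apply (n : ℕ) : powBasis k n = gen k ^ n := by
  simp only [powBasis, Module.Basis.map_apply, Polynomial.coe_basisMonomials]
  change ofPoly k (Polynomial.monomial n 1) = _
  rw [← Polynomial.X_pow_eq_monomial, map_pow, ofPoly_X]

theorem comul_gen_pow (l : ℕ) :
    Coalgebra.comul (R := k) (gen k ^ l) =
      ∑ i ∈ Finset.range (l + 1), (l.choose i : k) • ((gen k ^ i) ⊗ₜ[k] (gen k ^ (l - i))) := by
  rw [Bialgebra.comul_pow, gen, SymmetricAlgebra.comul_ι, add_pow]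
  refine Finset.sum_congr rfl fun i _ => ?_
  rw [Algebra.TensorProduct.tmul_pow, Algebra.TensorProduct.tmul_pow, one_pow, one_pow,
    Algebra.TensorProduct.tmul_mul_tmul, one_mul, mul_one, mul_comm, ← nsmul_eq_mul,
    Nat.cast_smul_eq_nsmul]

theorem counit_gen_pow (l : ℕ) :
    Coalgebra.counit (R := k) (gen k ^ l) = if l = 0 then 1 else 0 := by
  rw [Bialgebra.counit_pow, gen, SymmetricAlgebra.counit_ι]
  split_ifs with h
  · rw [h, pow_zero]
  · exact zero_pow h


/-- the functional `n! · (coefficient of s^n)`: dual basis of the divided powers. -/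
noncomputable def cf (n : ℕ) : S →ₗ[k] k := (n.factorial : k) • (powBasis k).coord n

theorem cf_gen_pow (n l : ℕ) : cf k n (gen k ^ l) = if l = n then (n.factorial : k) else 0 := by
  rw [cf, LinearMap.smul_apply, ← powBasis_apply, Module.Basis.coord_apply,
    Module.Basis.repr_self, Finsupp.single_apply]
  split_ifs <;> simp

theorem cf_zero : cf k 0 = Coalgebra.counit (R := k) (A := S) := by
  apply (powBasis k).ext
  intro l
  rw [powBasis_apply, cf_gen_pow, counit_gen_pow]
  simp

open WithConv in
theorem cf_mul (m n : ℕ) :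
    (toConv (cf k m) * toConv (cf k n)).ofConv = cf k (m + n) := by
  apply (powBasis k).ext
  intro l
  rw [powBasis_apply, cf_gen_pow]
  change LinearMap.mul' k k (TensorProduct.map (cf k m) (cf k n) (Coalgebra.comul (R := k) (gen k ^ l))) = _
  rw [comul_gen_pow, map_sum, map_sum]
  simp only [map_smul, TensorProduct.map_tmul, LinearMap.mul'_apply, cf_gen_pow, smul_eq_mul]
  by_cases h : l = m + n
  · subst h
    rw [if_pos rfl, Finset.sum_eq_single m]
    · rw [if_pos rfl, if_pos (by omega)]
      have := Nat.add_choose_mul_factorial_mul_factorial m n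
      rw [← this, Nat.choose_symm_add]
      push_cast
      ring
    · intro i _ hi
      rw [if_neg hi, zero_mul, mul_zero]
    · intro hm
      exact absurd (Finset.mem_range.2 (by omega)) hm
  · rw [if_neg h]
    apply Finset.sum_eq_zero
    intro i hi
    have hi' := Finset.mem_range.1 hi
    by_cases h1 : i = m
    · subst h1
      have h2 : ¬ (l - i = n) := by omega
      rw [if_neg h2, mul_zero, mul_zero]
    · rw [if_neg h1, zero_mul, mul_zero]

end Sym

section Main
variable (k : Type u) [Field k] [CharZero k]
  (V : Type v) [AddCommGroup V] [Module k V] [HopfRep.Comod k (SymmetricAlgebra k k) V]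

/-- the operators `f_n = (id ⊗ cf n) ∘ ρ`. -/
noncomputable def fN (n : ℕ) : V →ₗ[k] V := dualAct V (cf k n)

theorem fN_zero : fN k V 0 = LinearMap.id := by
  rw [fN, cf_zero, dualAct_counit]

theorem fN_add (m n : ℕ) : fN k V (m + n) = fN k V m ∘ₗ fN k V n := by
  rw [fN, ← cf_mul, dualAct_mul]
  rfl

theorem fN_eq_pow (n : ℕ) : fN k V n = (fN k V 1) ^ n := by
  induction n with
  | zero => rw [fN_zero, pow_zero]; rfl
  | succ n ih => rw [pow_succ', ← ih, add_comm, fN_add]; rfl

theorem fN_apply (n : ℕ) (v : V) :
    fN k V n v = (n.factorial : k) • slice V ((powBasis k).coord n)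
      (HopfRep.Comod.coact (k := k) (A := SymmetricAlgebra k k) v) := by
  rw [fN, cf, dualAct_smul, LinearMap.smul_apply, dualAct_apply]

theorem main : ∃ f : V →ₗ[k] V, ∀ v : V, ∃ N : ℕ, (f ^ N) v = 0 ∧
    HopfRep.Comod.coact (k := k) (A := SymmetricAlgebra k k) v =
      ∑ n ∈ Finset.range N, (f ^ n) v ⊗ₜ[k]
        (((n.factorial : k)⁻¹) • (SymmetricAlgebra.ι k k 1) ^ n) := by
  refine ⟨fN k V 1, fun v => ?_⟩
  obtain ⟨T, hT0, hTsum⟩ := exists_expand (powBasis k) V
    (HopfRep.Comod.coact (k := k) (A := SymmetricAlgebra k k) v)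
  refine ⟨T.sup id + 1, ?_, ?_⟩
  · rw [← fN_eq_pow, fN_apply, hT0, smul_zero]
    intro h
    have := Finset.le_sup (f := id) h
    simp only [id_eq] at this
    omega
  · have hsub : T ⊆ Finset.range (T.sup id + 1) := by
      intro i hi
      have := Finset.le_sup (f := id) hi
      simp only [id_eq] at this
      exact Finset.mem_range.2 (by omega)
    have hterm : ∀ n : ℕ, (fN k V 1 ^ n) v ⊗ₜ[k]
        (((n.factorial : k)⁻¹) • (SymmetricAlgebra.ι k k 1) ^ n) =
        slice V ((powBasis k).coord n)
          (HopfRep.Comod.coact (k := k) (A := SymmetricAlgebra k k) v) ⊗ₜ[k] powBasis k n := by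
      intro n
      have hn : (n.factorial : k) ≠ 0 := Nat.cast_ne_zero.2 (Nat.factorial_ne_zero n)
      rw [← fN_eq_pow, fN_apply, powBasis_apply, TensorProduct.smul_tmul, smul_smul,
        mul_inv_cancel₀ hn, one_smul]
      rfl
    rw [Finset.sum_congr rfl fun n _ => hterm n]
    conv_lhs => rw [hTsum]
    apply Finset.sum_subset hsub
    intro i _ hi
    rw [hT0 i hi, TensorProduct.zero_tmul]

end Main

end Groth.Agent.H63.GaComod
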