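import Groth.Agent.H55.Geom2

/-!
# Constant field extensions: universe-polymorphic versions of `H55.Geom2`

The statements and proofs are those of `Groth.Agent.H55.Geom2` (helper55), with the extension
field `K'` allowed to live in an arbitrary universe.
-/

set_option autoImplicit false

namespace Groth.Agent.H63.GeomU

open Groth.Agent.H55

open FunFld Module IntermediateField Polynomial
open scoped TensorProduct

universe u v w

section

variable {k k' : Type u} {K : Type v} {K' : Type w} [Field k] [Field k'] [Field K] [Field K']
  [Algebra k k'] [Algebra k K] [Algebra K K'] [Algebra k' K'] [Algebra k K']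
  [IsScalarTower k k' K'] [IsScalarTower k K K']

/-- the `k'`-algebra isomorphism `k' ⊗ K ≃ K'` -/
noncomputable def constExtEquiv
    (h : Function.Bijective (Algebra.TensorProduct.productMap
      (IsScalarTower.toAlgHom k k' K') (IsScalarTower.toAlgHom k K K'))) :
    k' ⊗[k] K ≃ₐ[k'] K' :=
  AlgEquiv.ofBijective (Algebra.TensorProduct.productLeftAlgHom (Algebra.ofId k' K')
    (IsScalarTower.toAlgHom k K K')) h

theorem constExtEquiv_tmul
    (h : Function.Bijective (Algebra.TensorProduct.productMap
      (IsScalarTower.toAlgHom k k' K') (IsScalarTower.toAlgHom k K K'))) (a : k') (b : K) :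
    constExtEquiv h (a ⊗ₜ b) = algebraMap k' K' a * algebraMap K K' b := rfl

/-- S11006, geometric part -/
theorem isGeometric_constExt
    (h : Function.Bijective (Algebra.TensorProduct.productMap
      (IsScalarTower.toAlgHom k k' K') (IsScalarTower.toAlgHom k K K')))
    [FiniteDimensional k k'] (hg : IsGeometric k K) : IsGeometric k' K' := by
  intro k'' _ _ hfin
  letI : Algebra k k'' := ((algebraMap k' k'').comp (algebraMap k k')).toAlgebra
  haveI : IsScalarTower k k' k'' := IsScalarTower.of_algebraMap_eq (fun _ => rfl)
  haveI : FiniteDimensional k k'' := FiniteDimensional.trans k k' k''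
  have hF : IsField (k'' ⊗[k] K) := hg k'' inferInstance
  let e1 := constExtEquiv h
  let e2 : k'' ⊗[k'] (k' ⊗[k] K) ≃ₐ[k'] k'' ⊗[k'] K' :=
    Algebra.TensorProduct.congr AlgEquiv.refl e1
  let e3 : k'' ⊗[k'] (k' ⊗[k] K) ≃ₐ[k'] k'' ⊗[k] K :=
    Algebra.TensorProduct.cancelBaseChange k k' k' k'' K
  exact (e2.symm.trans e3).toMulEquiv.isField hF

/-- `K'` is finite over `K` -/
theorem finite_constExt
    (h : Function.Bijective (Algebra.TensorProduct.productMap
      (IsScalarTower.toAlgHom k k' K') (IsScalarTower.toAlgHom k K K')))
    [FiniteDimensional k k'] : FiniteDimensional K K' := by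
  let f : K ⊗[k] k' →ₐ[K] K' := Algebra.TensorProduct.productLeftAlgHom (Algebra.ofId K K')
    (IsScalarTower.toAlgHom k k' K')
  have hf : ∀ z : K ⊗[k] k', f z = Algebra.TensorProduct.productMap
      (IsScalarTower.toAlgHom k k' K') (IsScalarTower.toAlgHom k K K')
      (Algebra.TensorProduct.comm k K k' z) := by
    intro z
    induction z using TensorProduct.induction_on with
    | zero => simp
    | tmul a b =>
      show algebraMap K K' a * algebraMap k' K' b = _
      rw [Algebra.TensorProduct.comm_tmul, Algebra.TensorProduct.productMap_apply_tmul]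
      exact mul_comm _ _
    | add x y hx hy => rw [map_add, map_add, map_add, hx, hy]
  have hsurj : Function.Surjective f := by
    intro z
    obtain ⟨w, hw⟩ := h.2 z
    refine ⟨(Algebra.TensorProduct.comm k K k').symm w, ?_⟩
    rw [hf, AlgEquiv.apply_symm_apply, hw]
  exact Module.Finite.of_surjective f.toLinearMap hsurj

theorem finiteDimensional_of_le {E : IntermediateField k K'} {E' : IntermediateField k' K'}
    (hle : ∀ z ∈ E, z ∈ E') [hfin : FiniteDimensional E K'] : FiniteDimensional E' K' := by
  obtain ⟨S, hS⟩ := (Module.finite_def.mp hfin)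
  refine Module.finite_def.mpr ⟨S, ?_⟩
  rw [eq_top_iff]
  intro z hztop
  clear hztop
  have hz : z ∈ Submodule.span E (S : Set K') := by rw [hS]; trivial
  induction hz using Submodule.span_induction with
  | mem z hz => exact Submodule.subset_span hz
  | zero => exact Submodule.zero_mem _
  | add a b _ _ ha hb => exact Submodule.add_mem _ ha hb
  | smul e a _ ha =>
    have : e • a = (⟨e.1, hle e.1 e.2⟩ : E') • a := rfl
    rw [this]
    exact Submodule.smul_mem _ _ ha

/-- S11006, function field part (1): transcendental element of finite codegree -/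
theorem weak_constExt
    (h : Function.Bijective (Algebra.TensorProduct.productMap
      (IsScalarTower.toAlgHom k k' K') (IsScalarTower.toAlgHom k K K')))
    [FiniteDimensional k k'] (hK : IsFunctionField k K) : W.IsWeakFF k' K' := by
  obtain ⟨x, hx, hfin⟩ := hK.1
  have hfinK := finite_constExt h
  refine ⟨algebraMap K K' x, ?_, ?_⟩
  · intro halg
    have h1 : IsAlgebraic k (algebraMap K K' x) := halg.restrictScalars k
    exact transcendental_algebraMap hx h1
  · have h1 : FiniteDimensional k⟮algebraMap K K' x⟯ K' := finiteDimensional_adjoin_algebraMap x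
    apply finiteDimensional_of_le (E := k⟮algebraMap K K' x⟯)
    intro z hz
    have h2 : k⟮algebraMap K K' x⟯ ≤ (k'⟮algebraMap K K' x⟯).restrictScalars k := by
      rw [adjoin_le_iff]
      rintro _ rfl
      exact mem_adjoin_simple_self k' _
    exact h2 hz

/-- S11006, function field part (2): `k'` is algebraically closed in `K'` -/
theorem algClosed_constExt
    (h : Function.Bijective (Algebra.TensorProduct.productMap
      (IsScalarTower.toAlgHom k k' K') (IsScalarTower.toAlgHom k K K')))
    [FiniteDimensional k k'] (hg : IsGeometric k K) (y : K') (hy : IsAlgebraic k' y) :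
    y ∈ Set.range (algebraMap k' K') := by
  have hgeo := isGeometric_constExt h hg
  have hint : IsIntegral k' y := hy.isIntegral
  set m := minpoly k' y with hm
  have hm0 : m ≠ 0 := minpoly.ne_zero hint
  haveI : Fact (Irreducible m) := ⟨minpoly.irreducible hint⟩
  let pb := AdjoinRoot.powerBasis hm0
  haveI : FiniteDimensional k' (AdjoinRoot m) := pb.finite
  have hrank : finrank k' (AdjoinRoot m) = m.natDegree := by
    rw [pb.finrank]
    rfl
  have hF : IsField (AdjoinRoot m ⊗[k'] K') := hgeo (AdjoinRoot m) inferInstance
  have hF' : IsField (K' ⊗[k'] AdjoinRoot m) :=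
    (Algebra.TensorProduct.comm k' K' (AdjoinRoot m)).toMulEquiv.isField hF
  let φ : AdjoinRoot m →ₐ[k'] K' :=
    AdjoinRoot.liftAlgHom m (Algebra.ofId k' K') y (by
      have := minpoly.aeval k' y
      rw [← hm] at this
      exact this)
  let ψ : K' ⊗[k'] AdjoinRoot m →ₐ[K'] K' :=
    Algebra.TensorProduct.productLeftAlgHom (AlgHom.id K' K') φ
  have hinj : Function.Injective ψ := by
    letI := hF'.toField
    exact ψ.toRingHom.injective
  have h1 : finrank K' (K' ⊗[k'] AdjoinRoot m) ≤ finrank K' K' :=
    LinearMap.finrank_le_finrank_of_injective (f := ψ.toLinearMap) hinj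
  rw [Module.finrank_baseChange, Module.finrank_self, hrank] at h1
  have h2 : 0 < m.natDegree := minpoly.natDegree_pos hint
  have h3 : m.natDegree = 1 := by omega
  have := minpoly.natDegree_eq_one_iff.mp h3
  exact this

/-- S11006 -/
theorem isFunctionField_and_isGeometric_constExt
    (h : Function.Bijective (Algebra.TensorProduct.productMap
      (IsScalarTower.toAlgHom k k' K') (IsScalarTower.toAlgHom k K K')))
    [FiniteDimensional k k'] (hK : IsFunctionField k K) (hg : IsGeometric k K) :
    IsFunctionField k' K' ∧ IsGeometric k' K' :=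
  ⟨⟨weak_constExt h hK, fun y hy => algClosed_constExt h hg y hy⟩, isGeometric_constExt h hg⟩

end

end Groth.Agent.H63.GeomU
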