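import Mathlib
import Groth.Agent.H63.ResidueSep
import Groth.Agent.H63.TraceDual1

set_option autoImplicit false
set_option linter.style.haveILetI false
set_option linter.unusedSectionVars false

namespace Groth.Agent.H63.Hilb
open FunFld LocRes HahnSeries LaurentSeries Groth.Agent.H63.LaurentTaylor
open Groth.Agent.H63.CoeffDer Groth.Agent.H55

universe u v w

section one
variable {k : Type u} {K : Type v} {F : Type w} [Field k] [Field K] [Algebra k K] [Field F]
  [Algebra k F]

/-- every `k`-derivation of the coefficient field of an expansion vanishes, as soon as the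
differentials are spanned by the differential of a local parameter -/
theorem der_eq_zero_of_span (P : Place k K)
    (φ : K →ₐ[k] F⸨X⸩) (hφ : LocRes.IsExpansionAt P.1 φ) {t : K}
    (ht : P.1 t = WithZero.exp (-1 : ℤ))
    (hspan : ∀ f : K, ∃ a : K, KaehlerDifferential.D k K f = a • KaehlerDifferential.D k K t)
    (η : Derivation k F F) : η = 0 := by
  have hDt : Valued.v (LocRes.D F (φ t)) = 1 :=
    Groth.Agent.H63.MinpolyDiff.v_D_unif _ (by rw [hφ.1, ht])
  have htcoef : ∀ q : ℤ, q < 1 → (coeffDer η (φ t)).coeff q = 0 := by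
    intro q hq
    have hv : Valued.v (φ t) ≤ WithZero.exp (-(1 : ℤ)) := by rw [hφ.1, ht]
    rw [coeffDer_coeff, (valuation_le_iff_coeff_lt_eq_zero F).mp hv q hq, map_zero]
  ext b
  obtain ⟨f, hf, hfb⟩ := hφ.2.1 b
  obtain ⟨a, ha⟩ := hspan f
  have hPa : P.1 a ≤ 1 := by
    have h1 : Valued.v (LocRes.D F (φ f)) ≤ 1 :=
      Groth.Agent.H63.MinpolyDiff.v_D_le_one _ (by rw [hφ.1]; exact hf)
    rwa [Groth.Agent.H63.KaehlerFF.D_map_eq_of_D_eq φ ha, map_mul, hDt, mul_one, hφ.1] at h1
  have hacoef : ∀ p : ℤ, p < 0 → (φ a).coeff p = 0 := by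
    have hv : Valued.v (φ a) ≤ WithZero.exp (-(0 : ℤ)) := by
      rw [hφ.1]; simpa using hPa
    exact (valuation_le_iff_coeff_lt_eq_zero F).mp hv
  have h1 := congrArg (fun g : F⸨X⸩ => g.coeff 0)
    (Groth.Agent.H63.ResidueSep.coeffDer_map_eq φ η ha)
  rw [coeffDer_coeff, hfb, coeff_mul_eq_sum _ _ 0 0 1 hacoef htcoef] at h1
  rw [h1]
  have : Finset.Icc (0 : ℤ) (0 - 1) = ∅ := by
    rw [Finset.Icc_eq_empty]; omega
  rw [this, Finset.sum_empty]
  rfl

theorem isSeparable_of_span (P : Place k K)
    (φ : K →ₐ[k] F⸨X⸩) (hφ : LocRes.IsExpansionAt P.1 φ) {t : K}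
    (ht : P.1 t = WithZero.exp (-1 : ℤ))
    (hspan : ∀ f : K, ∃ a : K, KaehlerDifferential.D k K f = a • KaehlerDifferential.D k K t)
    [FiniteDimensional k F] : Algebra.IsSeparable k F := by
  have hsub : Subsingleton (Ω[F⁄k]) := by
    by_contra hns
    rw [not_subsingleton_iff_nontrivial] at hns
    obtain ⟨ω, hω⟩ := exists_ne (0 : Ω[F⁄k])
    obtain ⟨ℓ, hℓ⟩ := Module.Projective.exists_dual_eq_one F hω
    have hη := der_eq_zero_of_span P φ hφ ht hspan (ℓ.compDer (KaehlerDifferential.D k F))
    have hℓ0 : ℓ = 0 := by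
      apply LinearMap.ext_on_range (KaehlerDifferential.span_range_derivation k F)
      intro z
      have := congrArg (fun d : Derivation k F F => d z) hη
      simpa using this
    rw [hℓ0] at hℓ
    exact zero_ne_one hℓ
  haveI : Algebra.FormallyUnramified k F := ⟨hsub⟩
  exact Algebra.FormallyUnramified.isSeparable k F

end one

section two
variable {k : Type u} {K K' : Type v} [Field k] [Field K] [Field K'] [Algebra k K] [Algebra K K']
  [Algebra k K'] [IsScalarTower k K K']

/-- differentials of a separable algebraic extension are spanned by those of the base -/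
theorem span_above [Algebra.IsSeparable K K'] {t : K}
    (h : ∀ ω : Ω[K⁄k], ∃ a : K, ω = a • KaehlerDifferential.D k K t) (ω' : Ω[K'⁄k]) :
    ∃ b : K', ω' = b • KaehlerDifferential.D k K' (algebraMap K K' t) := by
  haveI : Algebra.FormallyUnramified K K' := Algebra.FormallyUnramified.of_isSeparable K K'
  have hr := KaehlerDifferential.range_mapBaseChange k K K'
  have hker : LinearMap.ker (KaehlerDifferential.map k K K' K') = ⊤ := by
    rw [eq_top_iff]
    intro x _
    rw [LinearMap.mem_ker]
    exact Subsingleton.elim _ _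
  rw [hker] at hr
  have hω : ω' ∈ LinearMap.range (KaehlerDifferential.mapBaseChange k K K') := by
    rw [hr]; trivial
  obtain ⟨x, rfl⟩ := hω
  induction x using TensorProduct.induction_on with
  | zero => exact ⟨0, by rw [map_zero, zero_smul]⟩
  | tmul b ω =>
    obtain ⟨a, rfl⟩ := h ω
    refine ⟨b * algebraMap K K' a, ?_⟩
    rw [KaehlerDifferential.mapBaseChange_tmul, map_smul, KaehlerDifferential.map_D, mul_smul,
      algebraMap_smul]
  | add x y hx hy =>
    obtain ⟨b1, h1⟩ := hx
    obtain ⟨b2, h2⟩ := hy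
    exact ⟨b1 + b2, by rw [map_add, h1, h2, add_smul]⟩

end two

section three
variable {k : Type u} {K K' : Type v} [Field k] [Field K] [Field K'] [Algebra k K] [Algebra K K']
  [Algebra k K'] [IsScalarTower k K K']
variable {F F' : Type w} [Field F] [Algebra k F] [Field F'] [Algebra k F']

/-- the differentials of a finite separable extension of a geometric function field are spanned
by the differential of any local parameter at a place with an expansion -/
theorem span_local_parameter [FiniteDimensional K K'] [Algebra.IsSeparable K K']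
    (hK : IsFunctionField k K) (hg : IsGeometric k K)
    (P : Place k K) (φ : K →ₐ[k] LaurentSeries F) (hφ : LocRes.IsExpansionAt P.1 φ)
    (Q : Place k K') (ψ : K' →ₐ[k] LaurentSeries F') (hψ : LocRes.IsExpansionAt Q.1 ψ)
    {s : K'} (hs : Q.1 s = WithZero.exp (-1 : ℤ)) (f : K') :
    ∃ a : K', KaehlerDifferential.D k K' f = a • KaehlerDifferential.D k K' s := by
  obtain ⟨t, ht⟩ := hφ.2.2
  have hDt : Valued.v (LocRes.D F (φ t)) = 1 :=
    Groth.Agent.H63.MinpolyDiff.v_D_unif _ (by rw [hφ.1, ht])
  have hdt : KaehlerDifferential.D k K t ≠ 0 := by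
    intro h0'
    have := Groth.Agent.H63.KaehlerFF.D_map_eq_of_D_eq φ (x := t) (z := t) (a := 0)
      (by rw [h0', zero_smul])
    rw [this, map_zero, zero_mul, map_zero] at hDt
    exact zero_ne_one hDt
  have h1 : ∀ ω' : Ω[K'⁄k], ∃ b : K', ω' = b • KaehlerDifferential.D k K' (algebraMap K K' t) :=
    span_above (fun ω => Groth.Agent.H63.SepGen.exists_smul_D_eq hK hg hdt ω)
  obtain ⟨bs, hbs⟩ := h1 (KaehlerDifferential.D k K' s)
  have hDs : Valued.v (LocRes.D F' (ψ s)) = 1 :=
    Groth.Agent.H63.MinpolyDiff.v_D_unif _ (by rw [hψ.1, hs])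
  have hbs0 : bs ≠ 0 := by
    rintro rfl
    rw [zero_smul] at hbs
    have := Groth.Agent.H63.KaehlerFF.D_map_eq_of_D_eq ψ (x := s) (z := s) (a := 0)
      (by rw [hbs, zero_smul])
    rw [this, map_zero, zero_mul, map_zero] at hDs
    exact zero_ne_one hDs
  obtain ⟨bf, hbf⟩ := h1 (KaehlerDifferential.D k K' f)
  refine ⟨bf * bs⁻¹, ?_⟩
  rw [hbs, smul_smul, mul_assoc, inv_mul_cancel₀ hbs0, mul_one, hbf]

/-- the coefficient field of an expansion at a place of a finite separable extension of a
geometric function field is finite and separable over the constants -/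
theorem isSeparable_coeff_above [FiniteDimensional K K'] [Algebra.IsSeparable K K']
    (hK : IsFunctionField k K) (hg : IsGeometric k K)
    (P : Place k K) (φ : K →ₐ[k] LaurentSeries F) (hφ : LocRes.IsExpansionAt P.1 φ)
    (Q : Place k K') (ψ : K' →ₐ[k] LaurentSeries F') (hψ : LocRes.IsExpansionAt Q.1 ψ) :
    FiniteDimensional k F' ∧ Algebra.IsSeparable k F' := by
  haveI hfin : FiniteDimensional k F' :=
    Groth.Agent.H63.TraceDual.finiteDimensional_coeff (W.weak_of_finite hK.weak) Q ψ hψ
  obtain ⟨s, hs⟩ := hψ.2.2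
  exact ⟨hfin, isSeparable_of_span Q ψ hψ hs
    (fun f => span_local_parameter hK hg P φ hφ Q ψ hψ hs f)⟩

end three

end Groth.Agent.H63.Hilb
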