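import Mathlib
import Groth.Agent.H63.HilbSep

set_option autoImplicit false
set_option linter.style.haveILetI false
set_option linter.unusedSectionVars false

namespace Groth.Agent.H63.Hilb
open FunFld LocRes HahnSeries LaurentSeries Groth.Agent.H63.LaurentTaylor Groth.Agent.H55 Polynomial

universe u v w

variable {k : Type u} {K' : Type v} {F' : Type w} [Field k] [Field K'] [Algebra k K'] [Field F']
  [Algebra k F']

theorem coeff_neg_eq_zero (Q : Place k K') (ψ : K' →ₐ[k] F'⸨X⸩) (hψ : LocRes.IsExpansionAt Q.1 ψ)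
    {z : K'} (hz : Q.1 z ≤ 1) : ∀ p : ℤ, p < 0 → (ψ z).coeff p = 0 := by
  have hv : Valued.v (ψ z) ≤ WithZero.exp (-(0 : ℤ)) := by
    rw [hψ.1]; simpa using hz
  exact (valuation_le_iff_coeff_lt_eq_zero F').mp hv

/-- the constant coefficient of the expansion on the valuation ring -/
noncomputable def resCoeff (Q : Place k K') (ψ : K' →ₐ[k] F'⸨X⸩)
    (hψ : LocRes.IsExpansionAt Q.1 ψ) : Q.O →ₐ[k] F' where
  toFun z := (ψ (z : K')).coeff 0
  map_one' := by
    change (ψ (1 : K')).coeff 0 = 1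
    rw [map_one, HahnSeries.coeff_one, if_pos rfl]
  map_mul' z w := by
    change (ψ ((z : K') * (w : K'))).coeff 0 = (ψ (z : K')).coeff 0 * (ψ (w : K')).coeff 0
    rw [map_mul, coeff_mul_eq_sum _ _ 0 0 0 (coeff_neg_eq_zero Q ψ hψ z.2)
      (coeff_neg_eq_zero Q ψ hψ w.2)]
    simp
  map_zero' := by
    change (ψ (0 : K')).coeff 0 = 0
    rw [map_zero, HahnSeries.coeff_zero]
  map_add' z w := by
    change (ψ ((z : K') + (w : K'))).coeff 0 = _
    rw [map_add, HahnSeries.coeff_add]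
  commutes' c := by
    change (ψ (algebraMap k K' c)).coeff 0 = _
    rw [LocRes.map_algebraMap, HahnSeries.C_apply, HahnSeries.coeff_single_same]

theorem resCoeff_apply (Q : Place k K') (ψ : K' →ₐ[k] F'⸨X⸩)
    (hψ : LocRes.IsExpansionAt Q.1 ψ) (z : Q.O) : resCoeff Q ψ hψ z = (ψ (z : K')).coeff 0 := rfl

theorem resCoeff_eq_zero_iff (Q : Place k K') (ψ : K' →ₐ[k] F'⸨X⸩)
    (hψ : LocRes.IsExpansionAt Q.1 ψ) (z : Q.O) : resCoeff Q ψ hψ z = 0 ↔ Q.1 (z : K') < 1 := by
  rw [resCoeff_apply]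
  constructor
  · intro h0
    have hv : Valued.v (ψ (z : K')) ≤ WithZero.exp (-(1 : ℤ)) := by
      rw [valuation_le_iff_coeff_lt_eq_zero]
      intro p hp
      rcases lt_or_eq_of_le (show p ≤ 0 by omega) with h | h
      · exact coeff_neg_eq_zero Q ψ hψ z.2 p h
      · rw [h]; exact h0
    rw [hψ.1] at hv
    exact hv.trans_lt (by rw [← WithZero.exp_zero, WithZero.exp_lt_exp]; omega)
  · intro h
    have hv : Valued.v (ψ (z : K')) ≤ WithZero.exp (-(1 : ℤ)) := by
      rw [hψ.1]; exact le_exp_neg_one_of_lt_one h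
    exact (valuation_le_iff_coeff_lt_eq_zero F').mp hv 0 (by omega)

theorem resCoeff_surjective (Q : Place k K') (ψ : K' →ₐ[k] F'⸨X⸩)
    (hψ : LocRes.IsExpansionAt Q.1 ψ) : Function.Surjective (resCoeff Q ψ hψ) := by
  intro b
  obtain ⟨f, hf, hfb⟩ := hψ.2.1 b
  exact ⟨⟨f, hf⟩, hfb⟩

/-- the residue field maps to the coefficient field -/
noncomputable def resField (Q : Place k K') (ψ : K' →ₐ[k] F'⸨X⸩)
    (hψ : LocRes.IsExpansionAt Q.1 ψ) : IsLocalRing.ResidueField Q.O →ₐ[k] F' where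
  toRingHom := Ideal.Quotient.lift (IsLocalRing.maximalIdeal Q.O) (resCoeff Q ψ hψ).toRingHom
    (fun z hz => by
      change resCoeff Q ψ hψ z = 0
      rw [resCoeff_eq_zero_iff]
      exact (Valuation.mem_maximalIdeal_iff _ _).mp hz)
  commutes' c := by
    change Ideal.Quotient.lift (IsLocalRing.maximalIdeal Q.O) (resCoeff Q ψ hψ).toRingHom _
      (Ideal.Quotient.mk _ (algebraMap k Q.O c)) = _
    rw [Ideal.Quotient.lift_mk]
    exact (resCoeff Q ψ hψ).commutes c

theorem isSeparable_residue (Q : Place k K') (ψ : K' →ₐ[k] F'⸨X⸩)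
    (hψ : LocRes.IsExpansionAt Q.1 ψ) [Algebra.IsSeparable k F'] :
    Algebra.IsSeparable k (IsLocalRing.ResidueField Q.O) :=
  Algebra.IsSeparable.of_algHom k F' (resField Q ψ hψ)

/-- the inclusion of the valuation ring as an algebra homomorphism -/
def valIncl (Q : Place k K') : Q.O →ₐ[k] K' where
  toRingHom := Q.O.subtype
  commutes' _ := rfl

/-- a separable polynomial over the constants killing the residue of an integral element -/
theorem exists_sep_poly (Q : Place k K') (ψ : K' →ₐ[k] F'⸨X⸩)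
    (hψ : LocRes.IsExpansionAt Q.1 ψ) [FiniteDimensional k F'] [Algebra.IsSeparable k F']
    (a : K') (ha : Q.1 a ≤ 1) :
    ∃ m : k[X], Q.1 (aeval a m) < 1 ∧ Q.1 (aeval a (derivative m)) = 1 := by
  set b : F' := resCoeff Q ψ hψ ⟨a, ha⟩ with hb
  have hsep : (minpoly k b).Separable := Algebra.IsSeparable.isSeparable k b
  refine ⟨minpoly k b, ?_, ?_⟩
  · have h1 : aeval a (minpoly k b) = ((aeval (⟨a, ha⟩ : Q.O) (minpoly k b) : Q.O) : K') :=
      (Polynomial.aeval_algHom_apply (valIncl Q) (⟨a, ha⟩ : Q.O) (minpoly k b))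
    rw [h1, ← resCoeff_eq_zero_iff Q ψ hψ, ← Polynomial.aeval_algHom_apply, ← hb, minpoly.aeval]
  · have h1 : aeval a (derivative (minpoly k b)) =
        ((aeval (⟨a, ha⟩ : Q.O) (derivative (minpoly k b)) : Q.O) : K') :=
      (Polynomial.aeval_algHom_apply (valIncl Q) (⟨a, ha⟩ : Q.O) (derivative (minpoly k b)))
    have h2 : ¬ Q.1 ((aeval (⟨a, ha⟩ : Q.O) (derivative (minpoly k b)) : Q.O) : K') < 1 := by
      rw [← resCoeff_eq_zero_iff Q ψ hψ, ← Polynomial.aeval_algHom_apply, ← hb]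
      exact hsep.aeval_derivative_ne_zero (minpoly.aeval k b)
    rw [h1]
    exact le_antisymm (aeval (⟨a, ha⟩ : Q.O) (derivative (minpoly k b))).2 (not_lt.mp h2)

end Groth.Agent.H63.Hilb
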