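import Mathlib
import Groth.Agent.H63.HilbRes
import Groth.Agent.H63.DerAeval

set_option autoImplicit false
set_option linter.style.haveILetI false
set_option linter.unusedSectionVars false

namespace Groth.Agent.H63.Hilb
open FunFld LocRes HahnSeries LaurentSeries Groth.Agent.H63.LaurentTaylor Groth.Agent.H55 Polynomial
open Groth.Agent.H63.MinpolyDiff

universe u v w

variable {k : Type u} {K' : Type v} {F' : Type w} [Field k] [Field K'] [Algebra k K'] [Field F']
  [Algebra k F']

/-- the derivative of the expansion of a polynomial expression with coefficients in the field -/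
theorem D_eval (ψ : K' →ₐ[k] F'⸨X⸩) (x : K') (p : K'[X]) :
    LocRes.D F' (ψ (eval x p)) = ψ (eval x (derivative p)) * LocRes.D F' (ψ x) +
      p.sum (fun i a => ψ x ^ i * LocRes.D F' (ψ a)) := by
  letI := ψ.toRingHom.toAlgebra
  have h := Groth.Agent.H63.DerAeval.der_aeval (K := K') (LocRes.dExp ψ) x p
  have h2 : ∀ (c : K') (g : F'⸨X⸩), c • g = ψ c * g := fun c g => rfl
  have h3 : ∀ a : K', LocRes.dExp ψ a = LocRes.D F' (ψ a) := fun a => rfl
  rw [h3, h3, h2] at h
  rw [Polynomial.coe_aeval_eq_eval] at h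
  rw [h]
  congr 1
  unfold Polynomial.sum
  refine Finset.sum_congr rfl (fun i _ => ?_)
  change x ^ i • (LocRes.dExp ψ) ((algebraMap K' K') (p.coeff i)) = _
  rw [h2, map_pow]
  rfl

/-- the chain rule for polynomials with constant coefficients -/
theorem D_aeval_const (ψ : K' →ₐ[k] F'⸨X⸩) (x : K') (m : k[X]) :
    LocRes.D F' (ψ (aeval x m)) = ψ (aeval x (derivative m)) * LocRes.D F' (ψ x) := by
  letI := ψ.toRingHom.toAlgebra
  have h := (LocRes.dExp ψ).map_aeval m x
  exact h

section integrality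
variable (Q : Place k K') (ψ : K' →ₐ[k] F'⸨X⸩) (hψ : LocRes.IsExpansionAt Q.1 ψ)
  [FiniteDimensional k F'] [Algebra.IsSeparable k F']
  (E : IntermediateField k K') (e : ℕ) (he0 : 0 < e)
  (hE : ∀ a ∈ E, a ≠ 0 → ∃ n : ℤ, Q.1 a = WithZero.exp ((e : ℤ) * n))
  (t' : K') (ht'E : t' ∈ E) (ht' : Q.1 t' = WithZero.exp (-(e : ℤ)))

include hψ he0 hE ht'E ht' in
theorem v_D_le_step (n : ℕ) : ∀ a ∈ E, Q.1 a ≤ 1 →
    Valued.v (LocRes.D F' (ψ a)) ≤
      max (Valued.v (LocRes.D F' (ψ t'))) (WithZero.exp (-(n : ℤ))) := by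
  induction n with
  | zero =>
    intro a _ ha
    refine le_max_of_le_right ?_
    simpa using v_D_le_one (ψ a) (by rw [hψ.1]; exact ha)
  | succ n ih =>
    intro a haE ha
    obtain ⟨m, hm1, hm2⟩ := exists_sep_poly Q ψ hψ a ha
    set c : K' := aeval a m with hc
    have hcE : c ∈ E := by
      have h1 := Polynomial.aeval_subalgebra_coe m E.toSubalgebra ⟨a, haE⟩
      rw [hc]
      change aeval a m ∈ E.toSubalgebra
      rw [show aeval a m = aeval ((⟨a, haE⟩ : E.toSubalgebra) : K') m from rfl, ← h1]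
      exact (aeval (⟨a, haE⟩ : E.toSubalgebra) m).2
    have hchain := D_aeval_const ψ a m
    have hva : Valued.v (LocRes.D F' (ψ a)) = Valued.v (LocRes.D F' (ψ c)) := by
      rw [hc, hchain, map_mul, hψ.1, hm2, one_mul]
    rw [hva]
    by_cases hc0 : c = 0
    · rw [hc0, map_zero, map_zero, map_zero]
      exact zero_le
    obtain ⟨j, hj⟩ := hE c hcE hc0
    have hj1 : (e : ℤ) * j ≤ -(e : ℤ) := by
      have h1 : Q.1 c < 1 := hm1
      rw [hj, ← WithZero.exp_zero, WithZero.exp_lt_exp] at h1
      have he' : (0 : ℤ) < e := by exact_mod_cast he0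
      have : j < 0 := by
        by_contra h
        push Not at h
        have := mul_nonneg he'.le h
        omega
      nlinarith
    have ht0 : t' ≠ 0 := by
      intro h
      rw [h, map_zero] at ht'
      exact WithZero.exp_ne_zero ht'.symm
    set b : K' := c * t'⁻¹ with hb
    have hbE : b ∈ E := E.mul_mem hcE (E.inv_mem ht'E)
    have hb1 : Q.1 b ≤ 1 := by
      rw [hb, map_mul, map_inv₀, hj, ht', ← WithZero.exp_neg, ← WithZero.exp_add,
        ← WithZero.exp_zero, WithZero.exp_le_exp]
      omega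
    have hcb : c = t' * b := by
      rw [hb, mul_comm c, ← mul_assoc, mul_inv_cancel₀ ht0, one_mul]
    have hleib : LocRes.D F' (ψ c) =
        ψ t' * LocRes.D F' (ψ b) + ψ b * LocRes.D F' (ψ t') := by
      rw [hcb, map_mul, Derivation.leibniz, smul_eq_mul, smul_eq_mul]
    rw [hleib]
    refine (Valuation.map_add _ _ _).trans (max_le ?_ ?_)
    · rw [map_mul, hψ.1, ht']
      rcases le_max_iff.mp (ih b hbE hb1) with h | h
      · refine le_max_of_le_left ?_
        calc WithZero.exp (-(e : ℤ)) * Valued.v (LocRes.D F' (ψ b))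
            ≤ 1 * Valued.v (LocRes.D F' (ψ t')) := by
              refine mul_le_mul' ?_ h
              rw [← WithZero.exp_zero, WithZero.exp_le_exp]
              omega
          _ = _ := one_mul _
      · refine le_max_of_le_right ?_
        calc WithZero.exp (-(e : ℤ)) * Valued.v (LocRes.D F' (ψ b))
            ≤ WithZero.exp (-(e : ℤ)) * WithZero.exp (-(n : ℤ)) := mul_le_mul' le_rfl h
          _ ≤ _ := by
              rw [← WithZero.exp_add, WithZero.exp_le_exp]
              push_cast
              omega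
    · rw [map_mul, hψ.1]
      refine le_max_of_le_left ?_
      calc Q.1 b * Valued.v (LocRes.D F' (ψ t')) ≤ 1 * Valued.v (LocRes.D F' (ψ t')) :=
            mul_le_mul' hb1 le_rfl
        _ = _ := one_mul _

include hψ he0 hE ht'E ht' in
/-- the derivative of the expansion of an integral element of the unramified subfield is
divisible by that of the local parameter below -/
theorem v_D_le (hd : Valued.v (LocRes.D F' (ψ t')) ≠ 0) (a : K') (haE : a ∈ E) (ha : Q.1 a ≤ 1) :
    Valued.v (LocRes.D F' (ψ a)) ≤ Valued.v (LocRes.D F' (ψ t')) := by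
  have h := v_D_le_step Q ψ hψ E e he0 hE t' ht'E ht'
    (-(WithZero.log (Valued.v (LocRes.D F' (ψ t'))))).toNat a haE ha
  rwa [max_eq_left] at h
  rw [← WithZero.exp_log hd, WithZero.exp_le_exp, WithZero.log_exp]
  have := Int.self_le_toNat (-(WithZero.log (Valued.v (LocRes.D F' (ψ t')))))
  omega

include hψ he0 hE ht'E ht' in
/-- the valuation of the derivative of a polynomial over the unramified subfield with integral
coefficients and constant term of valuation `e`, at a root which is a local parameter -/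
theorem val_eval_derivative (hd : Valued.v (LocRes.D F' (ψ t')) ≠ 0) (s : K')
    (hs : Q.1 s = WithZero.exp (-1 : ℤ)) (f : K'[X]) (hfE : ∀ i, f.coeff i ∈ E)
    (hfint : ∀ i, Q.1 (f.coeff i) ≤ 1) (hf0 : Q.1 (f.coeff 0) = WithZero.exp (-(e : ℤ)))
    (hroot : eval s f = 0) :
    Q.1 (eval s (derivative f)) = Valued.v (LocRes.D F' (ψ t')) := by
  classical
  have hid := D_eval ψ s f
  rw [hroot, map_zero, map_zero] at hid
  have hDs : Valued.v (LocRes.D F' (ψ s)) = 1 := v_D_unif _ (by rw [hψ.1, hs])
  set d := Valued.v (LocRes.D F' (ψ t')) with hdd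
  obtain ⟨D, hD⟩ : ∃ D : ℤ, d = WithZero.exp D := ⟨_, (WithZero.exp_log hd).symm⟩
  have hle := v_D_le Q ψ hψ E e he0 hE t' ht'E ht' hd
  have ht0 : t' ≠ 0 := by
    intro h
    rw [h, map_zero] at ht'
    exact WithZero.exp_ne_zero ht'.symm
  have he' : (0 : ℤ) < e := by exact_mod_cast he0
  -- the constant term
  have hc0 : f.coeff 0 ≠ 0 := by
    intro h
    rw [h, map_zero] at hf0
    exact WithZero.exp_ne_zero hf0.symm
  have h0supp : 0 ∈ f.support := Polynomial.mem_support_iff.2 hc0
  have hterm0 : Valued.v (LocRes.D F' (ψ (f.coeff 0))) = d := by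
    set u : K' := f.coeff 0 * t'⁻¹ with hu
    have huE : u ∈ E := E.mul_mem (hfE 0) (E.inv_mem ht'E)
    have hu1 : Q.1 u = 1 := by
      rw [hu, map_mul, map_inv₀, hf0, ht', mul_inv_cancel₀ WithZero.exp_ne_zero]
    have hau : f.coeff 0 = t' * u := by
      rw [hu, mul_comm (f.coeff 0), ← mul_assoc, mul_inv_cancel₀ ht0, one_mul]
    rw [hau, map_mul, Derivation.leibniz, smul_eq_mul, smul_eq_mul]
    have h2 : Valued.v (ψ u * LocRes.D F' (ψ t')) = d := by
      rw [map_mul, hψ.1, hu1, one_mul]
    rw [Valuation.map_add_eq_of_lt_right, h2]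
    rw [h2, map_mul, hψ.1, ht']
    calc WithZero.exp (-(e : ℤ)) * Valued.v (LocRes.D F' (ψ u))
        ≤ WithZero.exp (-(e : ℤ)) * d := mul_le_mul' le_rfl (hle u huE hu1.le)
      _ < d := by
          rw [hD, ← WithZero.exp_add, WithZero.exp_lt_exp]
          omega
  have hT : Valued.v (f.sum (fun i a => ψ s ^ i * LocRes.D F' (ψ a))) = d := by
    rw [Polynomial.sum_def, Valuation.map_sum_eq_of_lt _ h0supp]
    · rw [pow_zero, one_mul, hterm0]
    · intro i hi
      rw [Finset.mem_sdiff, Finset.mem_singleton] at hi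
      rw [pow_zero, one_mul, hterm0, map_mul, map_pow, hψ.1, hs]
      have hipos : 0 < i := Nat.pos_of_ne_zero hi.2
      calc WithZero.exp (-1 : ℤ) ^ i * Valued.v (LocRes.D F' (ψ (f.coeff i)))
          ≤ WithZero.exp (-1 : ℤ) ^ i * d := mul_le_mul' le_rfl (hle _ (hfE i) (hfint i))
        _ < d := by
            rw [hD, ← WithZero.exp_nsmul, ← WithZero.exp_add, WithZero.exp_lt_exp]
            simp only [nsmul_eq_mul]
            have : (0 : ℤ) < i := by exact_mod_cast hipos
            omega
  have h1 : ψ (eval s (derivative f)) * LocRes.D F' (ψ s) =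
      -(f.sum (fun i a => ψ s ^ i * LocRes.D F' (ψ a))) :=
    eq_neg_of_add_eq_zero_left hid.symm
  have h2 := congrArg Valued.v h1
  rw [map_mul, hDs, mul_one, Valuation.map_neg, hT, hψ.1] at h2
  exact h2

end integrality

end Groth.Agent.H63.Hilb
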