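import Mathlib
import Groth.Agent.H63.Eisenstein

set_option autoImplicit false
set_option linter.style.haveILetI false
set_option linter.unusedSectionVars false

namespace Groth.Agent.H63.Hilb
open FunFld Groth.Agent.H63.Eisenstein

universe u v

variable {k : Type u} {K K' : Type v} [Field k] [Field K] [Field K'] [Algebra k K] [Algebra K K']
  [Algebra k K'] [IsScalarTower k K K']

/-- at a totally ramified place the powers of a local parameter form a basis, integral elements
having integral coordinates -/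
theorem exists_repr [FiniteDimensional K K'] (P : Place k K) (Q : Place k K') (e : ℕ)
    (he : IsOverWith Q P e) (hn : e = Module.finrank K K') (s : K')
    (hs : Q.1 s = WithZero.exp (-1 : ℤ)) (z : K') :
    ∃ c : ℕ → K, z = ∑ i ∈ Finset.range e, algebraMap K K' (c i) * s ^ i ∧
      (Q.1 z ≤ 1 → ∀ i < e, P.1 (c i) ≤ 1) := by
  classical
  have hli : LinearIndependent K (fun j : Fin e => s ^ (j : ℕ)) := by
    rw [Fintype.linearIndependent_iff]
    intro g hg
    by_contra hne
    push Not at hne
    obtain ⟨i0, hi0⟩ := hne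
    let c : ℕ → K := fun i => if h : i < e then g ⟨i, h⟩ else 0
    have hsum : ∑ i ∈ Finset.range e, algebraMap K K' (c i) * s ^ i = 0 := by
      rw [← hg, ← Fin.sum_univ_eq_sum_range (fun i => algebraMap K K' (c i) * s ^ i) e]
      refine Finset.sum_congr rfl (fun i _ => ?_)
      simp only [c, dif_pos i.2, Fin.eta, Algebra.smul_def]
    obtain ⟨j, _, hcj, hval, -⟩ := exists_max_term P Q e he s hs c
      ⟨i0, i0.2, by simpa only [c, dif_pos i0.2, Fin.eta] using hi0⟩
    rw [hsum, map_zero] at hval
    have hs0 : s ≠ 0 := by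
      rintro rfl
      rw [map_zero] at hs
      exact WithZero.exp_ne_zero hs.symm
    have : algebraMap K K' (c j) * s ^ j ≠ 0 :=
      mul_ne_zero (by rwa [Ne, map_eq_zero]) (pow_ne_zero _ hs0)
    exact this ((Valuation.zero_iff _).mp hval.symm)
  have hspan := hli.span_eq_top_of_card_eq_finrank' (by rw [Fintype.card_fin, hn])
  have hz : z ∈ Submodule.span K (Set.range (fun j : Fin e => s ^ (j : ℕ))) := by
    rw [hspan]; trivial
  obtain ⟨g, hg⟩ := (Submodule.mem_span_range_iff_exists_fun K).mp hz
  let c : ℕ → K := fun i => if h : i < e then g ⟨i, h⟩ else 0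
  have hsum : z = ∑ i ∈ Finset.range e, algebraMap K K' (c i) * s ^ i := by
    rw [← hg, ← Fin.sum_univ_eq_sum_range (fun i => algebraMap K K' (c i) * s ^ i) e]
    refine Finset.sum_congr rfl (fun i _ => ?_)
    simp only [c, dif_pos i.2, Fin.eta, Algebra.smul_def]
  refine ⟨c, hsum, fun hz1 i hi => ?_⟩
  by_cases hci : c i = 0
  · rw [hci, map_zero]; exact zero_le
  obtain ⟨j, _, _, hval, hmax⟩ := exists_max_term P Q e he s hs c ⟨i, hi, hci⟩
  have h1 : Q.1 (algebraMap K K' (c i) * s ^ i) ≤ 1 := by
    refine (hmax i hi).trans ?_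
    rw [← hval, ← hsum]
    exact hz1
  rw [term_val P Q e he s hs (c i) hci i] at h1
  have h1' : (e : ℤ) * WithZero.log (P.1 (c i)) - i ≤ 0 :=
    WithZero.exp_le_exp.mp (h1.trans_eq WithZero.exp_zero.symm)
  have hPc : P.1 (c i) ≠ 0 := (Valuation.ne_zero_iff _).2 hci
  refine (WithZero.exp_log hPc).symm.trans_le ?_
  refine le_of_le_of_eq ?_ WithZero.exp_zero
  rw [WithZero.exp_le_exp]
  by_contra hpos
  push Not at hpos
  have hie : (i : ℤ) < e := by exact_mod_cast hi
  have : (e : ℤ) * 1 ≤ (e : ℤ) * WithZero.log (P.1 (c i)) :=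
    mul_le_mul_of_nonneg_left (by omega) (by omega)
  omega

end Groth.Agent.H63.Hilb
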