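import Mathlib
import Groth.Agent.H63.HilbInt
import Groth.Agent.H63.HilbRepr
import Groth.Agent.H63.TameDiff
import Groth.Agent.H62.FFInertiaField
import Groth.Agent.H62.FFInertia3

set_option autoImplicit false
set_option linter.style.haveILetI false
set_option linter.unusedSectionVars false

namespace Groth.Agent.H63.Hilb
open FunFld LocRes Groth.Agent.H55 Polynomial IntermediateField
open Groth.Agent.H62.FFInertiaField Groth.Agent.H62.FFInertia
open Groth.Agent.H63.TameDiff Groth.Agent.H63.DiffExp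

universe u v w

variable {k : Type u} {K K' : Type v} [Field k] [Field K] [Field K'] [Algebra k K] [Algebra K K']
  [Algebra k K'] [IsScalarTower k K K'] [FiniteDimensional K K']
variable {F F' : Type w} [Field F] [Algebra k F] [Field F'] [Algebra k F']

open Classical in
/-- the inertia group as a finset -/
noncomputable def IF (K : Type v) [Field K] [Algebra K K'] [FiniteDimensional K K']
    (Q : Place k K') : Finset (K' ≃ₐ[K] K') :=
  Finset.univ.filter (fun σ => σ ∈ IG K Q)

theorem mem_IF (Q : Place k K') (σ : K' ≃ₐ[K] K') : σ ∈ IF K Q ↔ σ ∈ IG K Q := by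
  classical
  rw [IF, Finset.mem_filter]
  exact ⟨fun h => h.2, fun h => ⟨Finset.mem_univ _, h⟩⟩

theorem card_IF (Q : Place k K') : (IF K Q).card = Nat.card (IG K Q) := by
  classical
  rw [Nat.card_eq_fintype_card, Fintype.card_subtype]
  rfl

theorem one_mem_IF (Q : Place k K') : (1 : K' ≃ₐ[K] K') ∈ IF K Q :=
  (mem_IF Q 1).mpr (IG K Q).one_mem

theorem val_apply_of_mem_IG (Q : Place k K') {σ : K' ≃ₐ[K] K'} (hσ : σ ∈ IG K Q) (z : K') :
    Q.1 (σ z) = Q.1 z := by
  have h := ((mem_IG_iff Q σ).mp hσ).1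
  have h2 := Place.comapK_val Q σ z
  rw [h] at h2
  exact h2.symm

/-- the polynomial whose roots are the conjugates of `s` under the inertia group -/
noncomputable def inertiaPoly (Q : Place k K') (s : K') : K'[X] :=
  ∏ τ ∈ IF K Q, (X - C (τ s))

theorem inertiaPoly_map (Q : Place k K') (s : K') {σ : K' ≃ₐ[K] K'} (hσ : σ ∈ IG K Q) :
    (inertiaPoly (K := K) Q s).map (σ : K' →+* K') = inertiaPoly (K := K) Q s := by
  unfold inertiaPoly
  rw [Polynomial.map_prod]
  refine Finset.prod_equiv (Equiv.mulLeft σ) (fun τ => ?_) (fun τ _ => ?_)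
  · rw [mem_IF, mem_IF, Equiv.coe_mulLeft]
    exact ((IG K Q).mul_mem_cancel_left hσ).symm
  · rw [Polynomial.map_sub, Polynomial.map_X, Polynomial.map_C, Equiv.coe_mulLeft]
    rfl

theorem inertiaPoly_coeff_mem (Q : Place k K') (s : K') (i : ℕ) :
    (inertiaPoly (K := K) Q s).coeff i ∈ fixedField (IG K Q) := by
  rw [IntermediateField.mem_fixedField_iff]
  intro σ hσ
  have h := congrArg (fun p : K'[X] => p.coeff i) (inertiaPoly_map Q s hσ)
  simp only [Polynomial.coeff_map] at h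
  exact h

theorem inertiaPoly_coeff_int (Q : Place k K') (s : K') (hs : Q.1 s ≤ 1) (i : ℕ) :
    Q.1 ((inertiaPoly (K := K) Q s).coeff i) ≤ 1 := by
  have hmem : inertiaPoly (K := K) Q s ∈ Polynomial.lifts Q.O.subtype := by
    unfold inertiaPoly
    refine Subsemiring.prod_mem _ (fun τ hτ => ?_)
    rw [Polynomial.mem_lifts]
    have hτs : Q.1 (τ s) ≤ 1 := by
      rw [val_apply_of_mem_IG Q ((mem_IF Q τ).mp hτ)]; exact hs
    refine ⟨X - C (⟨τ s, hτs⟩ : Q.O), ?_⟩
    rw [Polynomial.map_sub, Polynomial.map_X, Polynomial.map_C]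
    rfl
  rw [Polynomial.mem_lifts] at hmem
  obtain ⟨q, hq⟩ := hmem
  rw [← hq, Polynomial.coeff_map]
  exact (q.coeff i).2

theorem inertiaPoly_coeff_zero (Q : Place k K') (s : K') (hs : Q.1 s = WithZero.exp (-1 : ℤ)) :
    Q.1 ((inertiaPoly (K := K) Q s).coeff 0) = WithZero.exp (-((IF K Q).card : ℤ)) := by
  rw [Polynomial.coeff_zero_eq_eval_zero]
  unfold inertiaPoly
  rw [Polynomial.eval_prod, map_prod]
  have : ∀ τ ∈ IF K Q, Q.1 (eval 0 (X - C (τ s))) = WithZero.exp (-1 : ℤ) := by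
    intro τ hτ
    rw [eval_sub, eval_X, eval_C, zero_sub, Valuation.map_neg,
      val_apply_of_mem_IG Q ((mem_IF Q τ).mp hτ), hs]
  rw [Finset.prod_congr rfl this, Finset.prod_const, ← WithZero.exp_nsmul]
  congr 1
  simp

theorem inertiaPoly_root (Q : Place k K') (s : K') : eval s (inertiaPoly (K := K) Q s) = 0 := by
  unfold inertiaPoly
  rw [Polynomial.eval_prod]
  refine Finset.prod_eq_zero (one_mem_IF Q) ?_
  rw [eval_sub, eval_X, eval_C, AlgEquiv.one_apply, sub_self]

open Classical in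
theorem inertiaPoly_derivative (Q : Place k K') (s : K') :
    eval s (derivative (inertiaPoly (K := K) Q s)) = ∏ τ ∈ (IF K Q).erase 1, (s - τ s) := by
  unfold inertiaPoly
  rw [Polynomial.derivative_prod_finset, Polynomial.eval_finsetSum,
    Finset.sum_eq_single_of_mem 1 (one_mem_IF Q)]
  · rw [eval_mul, Polynomial.eval_prod, derivative_sub, derivative_X, Polynomial.derivative_C, sub_zero,
      eval_one, mul_one]
    refine Finset.prod_congr rfl (fun τ _ => ?_)
    rw [eval_sub, eval_X, eval_C]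
  · intro τ hτ hτ1
    rw [eval_mul, Polynomial.eval_prod]
    have h1 : (1 : K' ≃ₐ[K] K') ∈ (IF K Q).erase τ :=
      Finset.mem_erase.mpr ⟨fun h => hτ1 h.symm, one_mem_IF Q⟩
    rw [Finset.prod_eq_zero h1, zero_mul]
    rw [eval_sub, eval_X, eval_C, AlgEquiv.one_apply, sub_self]

section galois
variable [IsGalois K K']

/-- the place of the inertia field below `Q`, over which `Q` is totally ramified of index `e` -/
theorem exists_inertia_place (hK : IsFunctionField k K) {P : Place k K} {Q : Place k K'} {e : ℕ}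
    (he : IsOverWith Q P e) [Algebra.IsSeparable k (IsLocalRing.ResidueField Q.O)] :
    ∃ Q₁ : Place k (fixedField (IG K Q)), IsOverWith Q Q₁ e ∧
      e = Module.finrank (fixedField (IG K Q)) K' ∧ (IF K Q).card = e := by
  have hcard : Nat.card (IG K Q) = e := by rw [card_IG]; exact card_inertia hK he
  obtain ⟨Q₁, he₁⟩ := totallyRamified_inertiaField hK Q
  have hfr : Module.finrank (fixedField (IG K Q)) K' = e := by
    rw [finrank_fixedField_eq_card, hcard]
  rw [hfr] at he₁
  exact ⟨Q₁, he₁, hfr.symm, by rw [card_IF, hcard]⟩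

open Classical in
/-- the valuation of `∏ (s - σ s)` over the nontrivial elements of the inertia group is the
different exponent -/
theorem ord_prod_eq_diffExp (hK : IsFunctionField k K) (hg : IsGeometric k K)
    (P : Place k K) (Q : Place k K') (e : ℕ) (he : IsOverWith Q P e)
    (φ : K →ₐ[k] LaurentSeries F) (hφ : LocRes.IsExpansionAt P.1 φ)
    (ψ : K' →ₐ[k] LaurentSeries F') (hψ : LocRes.IsExpansionAt Q.1 ψ)
    (x : K) (hx : LocRes.vDiff φ 1 x ≠ 0) (hx' : LocRes.vDiff ψ 1 (algebraMap K K' x) ≠ 0)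
    (s : K') (hs : Q.1 s = WithZero.exp (-1 : ℤ)) :
    Q.ord (∏ τ ∈ (IF K Q).erase 1, (s - τ s)) = LocRes.diffExp φ ψ e x := by
  obtain ⟨hfin, hsepF⟩ := isSeparable_coeff_above hK hg P φ hφ Q ψ hψ
  haveI := hfin
  haveI := hsepF
  haveI : Algebra.IsSeparable k (IsLocalRing.ResidueField Q.O) := isSeparable_residue Q ψ hψ
  obtain ⟨t, ht, hvt2, hd⟩ := diffExp_param hK hg P Q e he φ hφ ψ hψ x hx hx'
  obtain ⟨Q₁, he₁, -, hcardF⟩ := exists_inertia_place hK he
  let E : IntermediateField k K' := (fixedField (IG K Q)).restrictScalars k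
  have hE : ∀ a ∈ E, a ≠ 0 → ∃ n : ℤ, Q.1 a = WithZero.exp ((e : ℤ) * n) := by
    intro a ha ha0
    have h1 := he₁ ⟨a, ha⟩
    have h2 : Q₁.1 ⟨a, ha⟩ ≠ 0 := by
      rw [Valuation.ne_zero_iff]
      intro h
      exact ha0 (congrArg Subtype.val h)
    refine ⟨WithZero.log (Q₁.1 ⟨a, ha⟩), ?_⟩
    have h3 : Q.1 a = Q₁.1 ⟨a, ha⟩ ^ e := h1
    rw [h3, ← WithZero.exp_log h2, ← WithZero.exp_nsmul, WithZero.log_exp]
    simp
  have he0 : 0 < e := isOverWith_pos he
  have ht'E : algebraMap K K' t ∈ E := (fixedField (IG K Q)).algebraMap_mem t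
  have ht' : Q.1 (algebraMap K K' t) = WithZero.exp (-(e : ℤ)) := by
    rw [he t, ht, ← WithZero.exp_nsmul]
    simp
  have hd0 : Valued.v (LocRes.D F' (ψ (algebraMap K K' t))) ≠ 0 := by
    rwa [vDiff_one] at hvt2
  have hmain := val_eval_derivative Q ψ hψ E e he0 hE (algebraMap K K' t) ht'E ht' hd0 s hs
    (inertiaPoly (K := K) Q s) (fun i => inertiaPoly_coeff_mem Q s i)
    (fun i => inertiaPoly_coeff_int Q s (by rw [hs, ← WithZero.exp_zero, WithZero.exp_le_exp]; omega) i)
    (by rw [inertiaPoly_coeff_zero Q s hs, hcardF]) (inertiaPoly_root Q s)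
  rw [inertiaPoly_derivative] at hmain
  rw [hd]
  unfold Place.ord LocRes.ordDiff
  rw [vDiff_one, hmain]

/-- elements of the inertia group move integral elements at most as much as they move a local
parameter -/
theorem val_sub_le (hK : IsFunctionField k K) {P : Place k K} {Q : Place k K'} {e : ℕ}
    (he : IsOverWith Q P e) [Algebra.IsSeparable k (IsLocalRing.ResidueField Q.O)]
    (s : K') (hs : Q.1 s = WithZero.exp (-1 : ℤ)) {σ : K' ≃ₐ[K] K'} (hσ : σ ∈ IG K Q)
    (z : K') (hz : Q.1 z ≤ 1) : Q.1 (σ z - z) ≤ Q.1 (σ s - s) := by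
  obtain ⟨Q₁, he₁, hn, -⟩ := exists_inertia_place hK he
  obtain ⟨c, hsum, hint⟩ := exists_repr Q₁ Q e he₁ hn s hs z
  have hfix : ∀ i, σ (algebraMap (fixedField (IG K Q)) K' (c i)) =
      algebraMap (fixedField (IG K Q)) K' (c i) := fun i =>
    (IntermediateField.mem_fixedField_iff _ _).mp (c i).2 σ hσ
  have hs1 : Q.1 s ≤ 1 := by
    rw [hs, ← WithZero.exp_zero, WithZero.exp_le_exp]; omega
  have hσs1 : Q.1 (σ s) ≤ 1 := by rw [val_apply_of_mem_IG Q hσ]; exact hs1
  have hdiff : σ z - z = ∑ i ∈ Finset.range e,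
      algebraMap (fixedField (IG K Q)) K' (c i) *
        ((∑ j ∈ Finset.range i, σ s ^ j * s ^ (i - 1 - j)) * (σ s - s)) := by
    conv_lhs => rw [hsum]
    rw [map_sum, ← Finset.sum_sub_distrib]
    refine Finset.sum_congr rfl (fun i _ => ?_)
    rw [map_mul, map_pow, hfix, geom_sum₂_mul, mul_sub]
  rw [hdiff]
  refine Valuation.map_sum_le _ (fun i hi => ?_)
  rw [map_mul, map_mul]
  have h1 : Q.1 (algebraMap (fixedField (IG K Q)) K' (c i)) ≤ 1 := by
    rw [he₁ (c i)]
    exact pow_le_one₀ zero_le (hint hz i (Finset.mem_range.mp hi))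
  have h2 : Q.1 (∑ j ∈ Finset.range i, σ s ^ j * s ^ (i - 1 - j)) ≤ 1 := by
    refine Valuation.map_sum_le _ (fun j _ => ?_)
    rw [map_mul, map_pow, map_pow]
    exact mul_le_one' (pow_le_one₀ zero_le hσs1) (pow_le_one₀ zero_le hs1)
  calc Q.1 (algebraMap (fixedField (IG K Q)) K' (c i)) *
        (Q.1 (∑ j ∈ Finset.range i, σ s ^ j * s ^ (i - 1 - j)) * Q.1 (σ s - s))
      ≤ 1 * (1 * Q.1 (σ s - s)) := mul_le_mul' h1 (mul_le_mul' h2 le_rfl)
    _ = Q.1 (σ s - s) := by rw [one_mul, one_mul]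

/-- the ramification groups in terms of a local parameter -/
theorem mem_ramGroup_iff (hK : IsFunctionField k K) {P : Place k K} {Q : Place k K'} {e : ℕ}
    (he : IsOverWith Q P e) [Algebra.IsSeparable k (IsLocalRing.ResidueField Q.O)]
    (s : K') (hs : Q.1 s = WithZero.exp (-1 : ℤ)) (i : ℕ) (hi : 1 ≤ i) (σ : K' ≃ₐ[K] K') :
    (∀ z : K', Q.1 z ≤ 1 → Q.1 (σ z - z) ≤ WithZero.exp (-(i : ℤ))) ↔
      σ ∈ IG K Q ∧ Q.1 (σ s - s) ≤ WithZero.exp (-(i : ℤ)) := by
  have hs1 : Q.1 s ≤ 1 := by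
    rw [hs, ← WithZero.exp_zero, WithZero.exp_le_exp]; omega
  have hlt : WithZero.exp (-(i : ℤ)) < (1 : WithZero (Multiplicative ℤ)) := by
    rw [← WithZero.exp_zero, WithZero.exp_lt_exp]
    have : (1 : ℤ) ≤ i := by exact_mod_cast hi
    omega
  constructor
  · intro h
    refine ⟨?_, h s hs1⟩
    rw [mem_IG_iff]
    refine ⟨(Place.eq_of_le Q (Place.comapK Q σ) (fun x hx => ?_)).symm,
      fun x hx => (h x hx).trans_lt hlt⟩
    rw [Place.comapK_val]
    have : σ x = (σ x - x) + x := by ring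
    rw [this]
    exact (Q.1.map_add _ _).trans (max_le ((h x hx).trans hlt.le) hx)
  · rintro ⟨hσ, hle⟩ z hz
    exact (val_sub_le hK he s hs hσ z hz).trans hle

/-- a nontrivial element of the inertia group moves the local parameter -/
theorem apply_ne_of_mem_IG (hK : IsFunctionField k K) {P : Place k K} {Q : Place k K'} {e : ℕ}
    (he : IsOverWith Q P e) [Algebra.IsSeparable k (IsLocalRing.ResidueField Q.O)]
    (s : K') (hs : Q.1 s = WithZero.exp (-1 : ℤ)) {σ : K' ≃ₐ[K] K'} (hσ : σ ∈ IG K Q)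
    (hσ1 : σ ≠ 1) : σ s - s ≠ 0 := by
  intro h0
  apply hσ1
  have hfix : ∀ z : K', Q.1 z ≤ 1 → σ z = z := by
    intro z hz
    have := val_sub_le hK he s hs hσ z hz
    rw [h0, map_zero] at this
    exact sub_eq_zero.mp ((Valuation.zero_iff _).mp (le_antisymm this zero_le))
  ext z
  rw [AlgEquiv.one_apply]
  rcases le_total (Q.1 z) 1 with hz | hz
  · exact hfix z hz
  · have hz0 : z ≠ 0 := by
      rintro rfl
      rw [map_zero] at hz
      exact absurd hz (not_le.mpr zero_lt_one)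
    have hinv : Q.1 z⁻¹ ≤ 1 := by
      rw [map_inv₀]
      exact inv_le_one_of_one_le₀ hz
    have h1 := hfix z⁻¹ hinv
    rw [map_inv₀] at h1
    exact inv_injective h1

end galois

end Groth.Agent.H63.Hilb
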