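import Mathlib
import Groth.Agent.H63.HilbGal

set_option autoImplicit false
set_option linter.style.haveILetI false
set_option linter.unusedSectionVars false

namespace Groth.Agent.H63.Hilb
open FunFld LocRes Groth.Agent.H55 Polynomial IntermediateField
open Groth.Agent.H62.FFInertiaField Groth.Agent.H62.FFInertia

universe u v w

theorem sum_card_filter_eq {ι : Type*} (J : Finset ι) (n : ι → ℕ) (M : ℕ)
    (hM : ∀ τ ∈ J, n τ ≤ M) :
    ∑ i ∈ Finset.Icc 1 M, ((J.filter (fun τ => i ≤ n τ)).card : ℤ) = ∑ τ ∈ J, (n τ : ℤ) := by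
  classical
  simp_rw [Finset.card_filter]
  push_cast
  rw [Finset.sum_comm]
  refine Finset.sum_congr rfl (fun τ hτ => ?_)
  rw [← Finset.natCast_card_filter]
  have : (Finset.Icc 1 M).filter (fun i => i ≤ n τ) = Finset.Icc 1 (n τ) := by
    ext i
    rw [Finset.mem_filter, Finset.mem_Icc, Finset.mem_Icc]
    have := hM τ hτ
    omega
  rw [this, Nat.card_Icc]
  simp

theorem prod_exp {ι : Type*} (J : Finset ι) (a : ι → ℤ) :
    ∏ τ ∈ J, (WithZero.exp (a τ) : WithZero (Multiplicative ℤ)) = WithZero.exp (∑ τ ∈ J, a τ) := by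
  classical
  induction J using Finset.induction_on with
  | empty => simp
  | insert τ J hτ ih => rw [Finset.prod_insert hτ, Finset.sum_insert hτ, ih, WithZero.exp_add]

variable {k : Type u} {K K' : Type v} [Field k] [Field K] [Field K'] [Algebra k K] [Algebra K K']
  [Algebra k K'] [IsScalarTower k K K'] [FiniteDimensional K K'] [IsGalois K K']
variable {F F' : Type w} [Field F] [Algebra k F] [Field F'] [Algebra k F']

open Classical in
/-- **Hilbert's different formula** -/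
theorem hilbert_formula (hK : IsFunctionField k K) (hg : IsGeometric k K)
    (P : Place k K) (Q : Place k K') (e : ℕ) (he : IsOverWith Q P e)
    (φ : K →ₐ[k] LaurentSeries F) (hφ : LocRes.IsExpansionAt P.1 φ)
    (ψ : K' →ₐ[k] LaurentSeries F') (hψ : LocRes.IsExpansionAt Q.1 ψ)
    (x : K) (hx : LocRes.vDiff φ 1 x ≠ 0) (hx' : LocRes.vDiff ψ 1 (algebraMap K K' x) ≠ 0) :
    (Function.support fun i : ℕ => (Nat.card {σ : K' ≃ₐ[K] K' //
        ∀ z : K', Q.1 z ≤ 1 → Q.1 (σ z - z) ≤ WithZero.exp (-(i : ℤ))} : ℤ) - 1).Finite ∧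
    LocRes.diffExp φ ψ e x = ∑ᶠ i : ℕ, if 1 ≤ i then
      (Nat.card {σ : K' ≃ₐ[K] K' // ∀ z : K', Q.1 z ≤ 1 → Q.1 (σ z - z) ≤ WithZero.exp (-(i : ℤ))} : ℤ) - 1
      else 0 := by
  obtain ⟨hfin, hsepF⟩ := isSeparable_coeff_above hK hg P φ hφ Q ψ hψ
  haveI := hfin
  haveI := hsepF
  haveI : Algebra.IsSeparable k (IsLocalRing.ResidueField Q.O) := isSeparable_residue Q ψ hψ
  obtain ⟨s, hs⟩ := hψ.2.2
  have hs1 : Q.1 s ≤ 1 := by
    rw [hs, ← WithZero.exp_zero, WithZero.exp_le_exp]; omega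
  set J : Finset (K' ≃ₐ[K] K') := (IF K Q).erase 1 with hJdef
  let n : (K' ≃ₐ[K] K') → ℕ := fun τ => (Q.ord (τ s - s)).toNat
  have hJ : ∀ τ ∈ J, τ ∈ IG K Q ∧ τ ≠ 1 := by
    intro τ hτ
    rw [hJdef, Finset.mem_erase, mem_IF] at hτ
    exact ⟨hτ.2, hτ.1⟩
  have hval : ∀ τ ∈ J, Q.1 (τ s - s) = WithZero.exp (-(n τ : ℤ)) := by
    intro τ hτ
    obtain ⟨hτI, hτ1⟩ := hJ τ hτ
    have hne := apply_ne_of_mem_IG hK he s hs hτI hτ1
    have hlt : Q.1 (τ s - s) < 1 := ((mem_IG_iff Q τ).mp hτI).2 s hs1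
    have hv0 : Q.1 (τ s - s) ≠ 0 := (Valuation.ne_zero_iff _).mpr hne
    have hlog : WithZero.log (Q.1 (τ s - s)) < 0 := by
      have h2 : WithZero.exp (WithZero.log (Q.1 (τ s - s))) < WithZero.exp 0 := by
        rw [WithZero.exp_log hv0, WithZero.exp_zero]; exact hlt
      exact WithZero.exp_lt_exp.mp h2
    have hn : ((n τ : ℕ) : ℤ) = -WithZero.log (Q.1 (τ s - s)) := by
      change ((Q.ord (τ s - s)).toNat : ℤ) = _
      unfold Place.ord
      rw [Int.toNat_of_nonneg (by omega)]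
    rw [hn, neg_neg, WithZero.exp_log hv0]
  -- the count of the ramification groups
  have hN : ∀ i : ℕ, 1 ≤ i → (Nat.card {σ : K' ≃ₐ[K] K' //
      ∀ z : K', Q.1 z ≤ 1 → Q.1 (σ z - z) ≤ WithZero.exp (-(i : ℤ))} : ℤ) - 1 =
      ((J.filter (fun τ => i ≤ n τ)).card : ℤ) := by
    intro i hi
    rw [Nat.card_eq_fintype_card, Fintype.card_subtype]
    have hset : (Finset.univ.filter (fun σ : K' ≃ₐ[K] K' =>
        ∀ z : K', Q.1 z ≤ 1 → Q.1 (σ z - z) ≤ WithZero.exp (-(i : ℤ)))) =
        insert 1 (J.filter (fun τ => i ≤ n τ)) := by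
      ext σ
      rw [Finset.mem_filter, mem_ramGroup_iff hK he s hs i hi σ, Finset.mem_insert,
        Finset.mem_filter]
      constructor
      · rintro ⟨-, hσI, hle⟩
        by_cases hσ1 : σ = 1
        · exact Or.inl hσ1
        · right
          have hσJ : σ ∈ J := by
            rw [hJdef, Finset.mem_erase, mem_IF]; exact ⟨hσ1, hσI⟩
          refine ⟨hσJ, ?_⟩
          rw [hval σ hσJ, WithZero.exp_le_exp] at hle
          omega
      · rintro (rfl | ⟨hσJ, hle⟩)
        · refine ⟨Finset.mem_univ _, (IG K Q).one_mem, ?_⟩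
          rw [AlgEquiv.one_apply, sub_self, map_zero]
          exact zero_le
        · refine ⟨Finset.mem_univ _, (hJ σ hσJ).1, ?_⟩
          rw [hval σ hσJ, WithZero.exp_le_exp]
          omega
    rw [hset, Finset.card_insert_of_notMem]
    · push_cast; ring
    · intro h
      rw [Finset.mem_filter] at h
      exact (hJ 1 h.1).2 rfl
  set M : ℕ := ∑ τ ∈ J, n τ with hM
  have hnM : ∀ τ ∈ J, n τ ≤ M := fun τ hτ => Finset.single_le_sum (fun _ _ => Nat.zero_le _) hτ
  have hzero : ∀ i : ℕ, M < i → ((J.filter (fun τ => i ≤ n τ)).card : ℤ) = 0 := by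
    intro i hi
    rw [Finset.filter_eq_empty_iff.mpr, Finset.card_empty, Nat.cast_zero]
    intro τ hτ
    have := hnM τ hτ
    omega
  refine ⟨?_, ?_⟩
  · refine Set.Finite.subset (Finset.finite_toSet (Finset.range (M + 1))) ?_
    intro i hi
    rw [Function.mem_support] at hi
    rw [Finset.coe_range, Set.mem_Iio]
    by_contra hlt
    push Not at hlt
    exact hi ((hN i (by omega)).trans (hzero i (by omega)))
  · rw [finsum_eq_sum_of_support_subset (s := Finset.Icc 1 M)]
    · have h1 : ∀ i ∈ Finset.Icc 1 M, (if 1 ≤ i then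
          (Nat.card {σ : K' ≃ₐ[K] K' // ∀ z : K', Q.1 z ≤ 1 →
            Q.1 (σ z - z) ≤ WithZero.exp (-(i : ℤ))} : ℤ) - 1 else 0) =
          ((J.filter (fun τ => i ≤ n τ)).card : ℤ) := by
        intro i hi
        rw [Finset.mem_Icc] at hi
        rw [if_pos hi.1, hN i hi.1]
      rw [Finset.sum_congr rfl h1, sum_card_filter_eq J n M hnM,
        ← ord_prod_eq_diffExp hK hg P Q e he φ hφ ψ hψ x hx hx' s hs]
      unfold Place.ord
      rw [map_prod]
      have h2 : ∀ τ ∈ J, Q.1 (s - τ s) = WithZero.exp (-(n τ : ℤ)) := by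
        intro τ hτ
        rw [Valuation.map_sub_swap, hval τ hτ]
      rw [Finset.prod_congr rfl h2, prod_exp, WithZero.log_exp, Finset.sum_neg_distrib, neg_neg]
    · intro i hi
      rw [Function.mem_support] at hi
      rw [Finset.coe_Icc, Set.mem_Icc]
      by_contra hcon
      apply hi
      by_cases h1 : 1 ≤ i
      · rw [if_pos h1, hN i h1]
        exact hzero i (by omega)
      · rw [if_neg h1]

end Groth.Agent.H63.Hilb
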