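import Groth.Agent.H63.PSMaps
import Groth.Agent.H63.ArtFormal
import Groth.Agent.H63.ArtVersal
import Groth.Agent.H61.FormalFamily

/-!
# A family over a power series ring with bijective tangent map is miniversal (given a hull)
-/

set_option autoImplicit false
set_option linter.style.haveILetI false
set_option linter.unusedSectionVars false
universe u v
open CategoryTheory

namespace Groth.Agent.H63
open ArtFun ArtFun.Art MvPowerSeries Groth.Agent.H61

variable {Λ : Type u} {k : Type u} [CommRing Λ] [Field k] [Algebra Λ k]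

/-- A family which is bijective on tangent vectors forces `F(k)` to be a point. -/
theorem H0_of_tangent_bijective {R : Type u} [CommRing R] [Algebra Λ R] {resR : R →ₐ[Λ] k}
    {F : Art Λ k ⥤ Type v} (ζ : Family R resR F) (hb : Function.Surjective (ζ.app (dual Λ k))) :
    H0 F := by
  have key : ∀ x : F.obj (base Λ k), x = ζ.app (base Λ k) (Groth.Agent.H63.homSetBase R resR) := by
    intro x
    obtain ⟨ψ, hψ⟩ := hb (F.map baseToDual x)
    have h1 : (baseToDual ≫ toBase (dual Λ k) : base Λ k ⟶ base Λ k) = 𝟙 _ := by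
      rw [eq_toBase (baseToDual ≫ toBase (dual Λ k)), eq_toBase (𝟙 (base Λ k))]
    have h2 : x = F.map (toBase (dual Λ k)) (F.map baseToDual x) := by
      rw [← Groth.Agent.H63.map_comp_apply, h1, Groth.Agent.H63.map_id_apply]
    rw [h2, ← hψ, ← ζ.natural, Groth.Agent.H63.homSet_base_eq (HomSet.map (toBase (dual Λ k)) ψ)]
  refine ⟨⟨ζ.app (base Λ k) (Groth.Agent.H63.homSetBase R resR)⟩, ⟨fun x y => ?_⟩⟩
  rw [key x, key y]

/-- Transport of versality along an isomorphism of coefficient algebras. -/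
theorem isVersal_along_of_bijective {H R : Type u} [CommRing H] [Algebra Λ H] [CommRing R] [Algebra Λ R]
    {resH : H →ₐ[Λ] k} {resR : R →ₐ[Λ] k} {F : Art Λ k ⥤ Type v}
    (ζ : Family H resH F) (hv : IsVersal ζ) (α : H →ₐ[Λ] R) (hα : resR.comp α = resH)
    (β : R →ₐ[Λ] H) (hαβ : ∀ r, α (β r) = r) (hβα : ∀ h, β (α h) = h) :
    IsVersal (ζ.along α hα) := by
  have hβ : resH.comp β = resR := by
    apply AlgHom.ext
    intro r
    have := congrArg (fun t : H →ₐ[Λ] k => t (β r)) hα
    change resR (α (β r)) = resH (β r) at this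
    rw [hαβ] at this
    exact this.symm
  intro B A μ hμ φ y hy
  obtain ⟨χ, hχ1, hχ2⟩ := hv μ hμ ⟨φ.1.comp α, by rw [← AlgHom.comp_assoc, φ.2, hα]⟩ y hy
  refine ⟨⟨χ.1.comp β, by rw [← AlgHom.comp_assoc, χ.2, hβ]⟩, ?_, ?_⟩
  · apply Subtype.ext
    apply AlgHom.ext
    intro r
    have := congrArg (fun t : HomSet H resH A => t.1 (β r)) hχ1
    change μ (χ.1 (β r)) = φ.1 (α (β r)) at this
    rw [hαβ] at this
    exact this
  · rw [← hχ2]
    change ζ.app B _ = ζ.app B χ
    congr 1
    apply Subtype.ext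
    apply AlgHom.ext
    intro h
    change χ.1 (β (α h)) = χ.1 h
    rw [hβα]

/-- Given a hull, a family over a power series ring with bijective tangent map is miniversal. -/
theorem isMiniversal_of_ps_of_tangent_bijective [IsLocalRing Λ] [IsNoetherianRing Λ] (hk : Function.Surjective (algebraMap Λ k))
    {F : Art Λ k ⥤ Type v} (hF : HasHull F) (R : CRing Λ k) (n : ℕ)
    (e : R.carrier ≃ₐ[Λ] MvPowerSeries (Fin n) Λ) (ξ : Family R.carrier R.res F)
    (hξ : Function.Bijective (ξ.app (dual Λ k))) : IsMiniversal ξ := by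
  obtain ⟨Hl⟩ := hF
  set H := Hl.ring with hH
  set ζ := Hl.family with hζ
  have hv : IsVersal ζ := Hl.miniversal.1
  have hb : Function.Bijective (ζ.app (dual Λ k)) := Hl.miniversal.2
  have h0 : H0 F := H0_of_tangent_bijective ζ hb.2
  obtain ⟨α, hα, hαeq⟩ := exists_along_of_isVersal h0 H ζ hv R ξ.toFormalElt
  have hfam : ζ.along α hα = ξ := toFormalElt_injective hαeq
  have happ : ∀ (A : Art Λ k) (φ : HomSet R.carrier R.res A),
      ξ.app A φ = ζ.app A ⟨φ.1.comp α, by rw [← AlgHom.comp_assoc, φ.2, hα]⟩ := by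
    intro A φ
    rw [← hfam]
    rfl
  -- α* is bijective on tangent vectors
  have hαinj : ∀ ψ₁ ψ₂ : HomSet R.carrier R.res (dual Λ k), ψ₁.1.comp α = ψ₂.1.comp α → ψ₁ = ψ₂ := by
    intro ψ₁ ψ₂ h
    apply hξ.1
    rw [happ, happ]
    congr 1
    exact Subtype.ext h
  have hαsurj' : ∀ χ : HomSet H.carrier H.res (dual Λ k),
      ∃ ψ : HomSet R.carrier R.res (dual Λ k), ψ.1.comp α = χ.1 := by
    intro χ
    obtain ⟨ψ, hψ⟩ := hξ.2 (ζ.app (dual Λ k) χ)
    rw [happ] at hψ
    exact ⟨ψ, congrArg Subtype.val (hb.1 hψ)⟩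
  have hαs : Function.Surjective α := CR.surjective_of_tangent_injective hk H R α hα hαinj
  -- the section β
  have hres : (psRes Λ k n).comp e.toAlgHom = R.res := CR.res_unique hk R _
  have hres' : R.res.comp e.symm.toAlgHom = psRes Λ k n := by
    rw [← hres]
    apply AlgHom.ext
    intro x
    simp
  choose h hh using fun i : Fin n => hαs (e.symm (X i))
  have hhm : ∀ i, h i ∈ IsLocalRing.maximalIdeal H.carrier := by
    intro i
    rw [CR.mem_maximalIdeal_iff, ← hα]
    change R.res (α (h i)) = 0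
    rw [hh]
    have := congrArg (fun t : MvPowerSeries (Fin n) Λ →ₐ[Λ] k => t (X i)) hres'
    change R.res (e.symm (X i)) = psRes Λ k n (X i) at this
    rw [this, psRes_X]
  obtain ⟨β₀, hβ₀res, hβ₀X⟩ := exists_ps_hom H n h hhm
  have hαβ₀ : α.comp β₀ = e.symm.toAlgHom := by
    apply ps_hom_ext R n
    · rw [← AlgHom.comp_assoc, hα, hβ₀res]
    · exact hres'
    · intro i
      change α (β₀ (X i)) = e.symm (X i)
      rw [hβ₀X, hh]
  let β : R.carrier →ₐ[Λ] H.carrier := β₀.comp e.toAlgHom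
  have hαβ : ∀ r, α (β r) = r := by
    intro r
    have := congrArg (fun t : MvPowerSeries (Fin n) Λ →ₐ[Λ] R.carrier => t (e r)) hαβ₀
    change α (β₀ (e r)) = e.symm (e r) at this
    rw [e.symm_apply_apply] at this
    exact this
  have hβres : H.res.comp β = R.res := by
    apply AlgHom.ext
    intro r
    have := congrArg (fun t : H.carrier →ₐ[Λ] k => t (β r)) hα
    change R.res (α (β r)) = H.res (β r) at this
    rw [hαβ] at this
    exact this.symm
  have hβs : Function.Surjective β := by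
    apply CR.surjective_of_tangent_injective hk R H β hβres
    intro χ₁ χ₂ hχ
    obtain ⟨ψ₁, hψ₁⟩ := hαsurj' χ₁
    obtain ⟨ψ₂, hψ₂⟩ := hαsurj' χ₂
    have h12 : ψ₁ = ψ₂ := by
      apply Subtype.ext
      apply AlgHom.ext
      intro r
      have := congrArg (fun t : R.carrier →ₐ[Λ] (dual Λ k) => t r) hχ
      change χ₁.1 (β r) = χ₂.1 (β r) at this
      rw [← hψ₁, ← hψ₂] at this
      change ψ₁.1 (α (β r)) = ψ₂.1 (α (β r)) at this
      rwa [hαβ] at this
    apply Subtype.ext
    rw [← hψ₁, ← hψ₂, h12]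
  have hβα : ∀ x, β (α x) = x := by
    intro x
    obtain ⟨r, rfl⟩ := hβs x
    rw [hαβ]
  refine ⟨?_, hξ⟩
  rw [← hfam]
  exact isVersal_along_of_bijective ζ hv α hα β hαβ hβα

end Groth.Agent.H63
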