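import Groth.Agent.H63.ComplSmooth
import Groth.Agent.H61.Chevalley
import Groth.Agent.H61.CRingQuot
import Groth.Agent.H61.HomSetQuot

set_option autoImplicit false
set_option linter.style.haveILetI false
set_option linter.unusedSectionVars false
universe u v
open CategoryTheory

namespace Groth.Agent.H63

open ArtFun ArtFun.Art Groth.Agent.H61

variable {Λ : Type u} {k : Type u} [CommRing Λ] [Field k] [Algebra Λ k]

/-- The limit of a tower of Artinian quotients of a fixed coefficient ring. -/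
theorem limit_of_surjections (P : CRing Λ k) (A : ℕ → Art Λ k) (f : ∀ n, A (n + 1) ⟶ A n)
    (q : ∀ n, HomSet P.carrier P.res (A n)) (hq : ∀ n, Function.Surjective (q n).1)
    (hcompat : ∀ n, HomSet.map (f n) (q (n + 1)) = q n) :
    ∃ (S : CRing Λ k) (π : ∀ n, HomSet S.carrier S.res (A n)),
      (∀ n, HomSet.map (f n) (π (n + 1)) = π n) ∧
      (∀ n, Function.Surjective (π n).1) ∧
      (∀ a : ∀ n, A n, (∀ n, f n (a (n + 1)) = a n) → ∃! s : S.carrier, ∀ n, (π n).1 s = a n) ∧
      (∀ n, ∃ N, RingHom.ker (π N).1 ≤ IsLocalRing.maximalIdeal S.carrier ^ n) ∧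
      (∀ n, ∃ N, IsLocalRing.maximalIdeal S.carrier ^ N ≤ RingHom.ker (π n).1) := by
  classical
  haveI : IsAdicComplete (IsLocalRing.maximalIdeal P.carrier) P.carrier := P.isAdicComplete
  have hres := P.res_surjective
  let J : ℕ → Ideal P.carrier := fun n => RingHom.ker (q n).1
  have hqf : ∀ n (x : P.carrier), f n ((q (n + 1)).1 x) = (q n).1 x := fun n x =>
    congrArg (fun t : HomSet P.carrier P.res (A n) => t.1 x) (hcompat n)
  have hJanti : Antitone J := by
    apply antitone_nat_of_succ_le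
    intro n x hx
    change (q n).1 x = 0
    rw [← hqf, (RingHom.mem_ker).1 hx, map_zero]
  have hJN : ∀ n, ∃ N, IsLocalRing.maximalIdeal P.carrier ^ N ≤ J n := fun n =>
    exists_pow_le_ker_homSet hres (q n)
  have hJ0 : (⨅ n, J n) ≤ IsLocalRing.maximalIdeal P.carrier :=
    (iInf_le J 0).trans (ker_homSet_le_maximalIdeal hres (q 0))
  obtain ⟨S, π₀, hπ₀, hπ₀s, hker⟩ := exists_cring_quot (Λ := Λ) (k := k) hres (⨅ n, J n) hJ0
  have hfac : ∀ n, ∃ φ : HomSet S.carrier S.res (A n), homSetComp π₀ hπ₀ φ = q n := by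
    intro n
    apply exists_homSet_of_ker_le π₀ hπ₀ hπ₀s (q n)
    rw [hker]
    exact iInf_le J n
  choose π hπ using hfac
  have hπapp : ∀ n (x : P.carrier), (π n).1 (π₀ x) = (q n).1 x := fun n x =>
    congrArg (fun t : HomSet P.carrier P.res (A n) => t.1 x) (hπ n)
  have h1 : ∀ n, HomSet.map (f n) (π (n + 1)) = π n := by
    intro n
    apply homSetComp_injective π₀ hπ₀ hπ₀s
    rw [homSetComp_map, hπ, hπ, hcompat]
  have hπf : ∀ n (s : S.carrier), f n ((π (n + 1)).1 s) = (π n).1 s := fun n s =>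
    congrArg (fun t : HomSet S.carrier S.res (A n) => t.1 s) (h1 n)
  have h2 : ∀ n, Function.Surjective (π n).1 := by
    intro n a
    obtain ⟨x, rfl⟩ := hq n a
    exact ⟨π₀ x, hπapp n x⟩
  have h5 : ∀ n, ∃ N, IsLocalRing.maximalIdeal S.carrier ^ N ≤ RingHom.ker (π n).1 := by
    intro n
    obtain ⟨N, hN⟩ := CR.exists_pow_le_ker S (A n) (π n)
    exact ⟨N, fun x hx => (RingHom.mem_ker).2 (hN x hx)⟩
  -- the image of `J N` in `S` is small
  have hmap : ∀ n, (IsLocalRing.maximalIdeal P.carrier ^ n).map π₀ ≤ IsLocalRing.maximalIdeal S.carrier ^ n := by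
    intro n
    rw [Ideal.map_pow]
    exact Ideal.pow_right_mono (CR.map_maximalIdeal_le P S π₀ hπ₀) n
  have hsmall : ∀ n, ∃ N, ∀ x ∈ J N, π₀ x ∈ IsLocalRing.maximalIdeal S.carrier ^ n := by
    intro n
    obtain ⟨N, hN⟩ := chevalley J hJanti hJN n
    refine ⟨N, fun x hx => ?_⟩
    obtain ⟨j, hj, t, ht, rfl⟩ := Submodule.mem_sup.1 (hN hx)
    have hj0 : π₀ j = 0 := by
      rw [← hker] at hj
      exact (RingHom.mem_ker).1 hj
    rw [map_add, hj0, zero_add]
    exact hmap n (Ideal.mem_map_of_mem _ ht)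
  have h4 : ∀ n, ∃ N, RingHom.ker (π N).1 ≤ IsLocalRing.maximalIdeal S.carrier ^ n := by
    intro n
    obtain ⟨N, hN⟩ := hsmall n
    refine ⟨N, fun s hs => ?_⟩
    obtain ⟨x, rfl⟩ := hπ₀s s
    apply hN
    change (q N).1 x = 0
    rw [← hπapp]
    exact (RingHom.mem_ker).1 hs
  refine ⟨S, π, h1, h2, ?_, h4, h5⟩
  intro a ha
  -- compatibility of `π` along the tower
  have hdown : ∀ (n j : ℕ) (s : S.carrier), (π (n + j)).1 s = a (n + j) → (π n).1 s = a n := by
    intro n j
    induction j with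
    | zero => intro s hs; exact hs
    | succ j ih =>
      intro s hs
      apply ih
      rw [← hπf (n + j), ← ha (n + j)]
      exact congrArg (f (n + j)) hs
  have huniq : ∀ s s' : S.carrier, (∀ n, (π n).1 s = (π n).1 s') → s = s' := by
    intro s s' hss
    haveI : IsHausdorff (IsLocalRing.maximalIdeal S.carrier) S.carrier := S.isAdicComplete.toIsHausdorff
    rw [← sub_eq_zero]
    apply IsHausdorff.haus' (I := IsLocalRing.maximalIdeal S.carrier)
    intro n
    rw [SModEq.zero, smul_eq_mul, Ideal.mul_top]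
    obtain ⟨N, hN⟩ := h4 n
    apply hN
    rw [RingHom.mem_ker, map_sub, hss N, sub_self]
  -- existence
  choose x hx using fun n => hq n (a n)
  let y : ℕ → S.carrier := fun n => π₀ (x n)
  have hy : ∀ n, (π n).1 (y n) = a n := fun n => by rw [hπapp, hx]
  have hyJ : ∀ n j, x (n + j) - x n ∈ J n := by
    intro n j
    change (q n).1 (x (n + j) - x n) = 0
    rw [map_sub, hx, sub_eq_zero, ← hπapp]
    exact hdown n j (y (n + j)) (hy (n + j))
  choose N₀ hN₀ using hsmall
  let N : ℕ → ℕ := fun i => (Finset.range (i + 1)).sup N₀ + i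
  have hNmono : Monotone N := by
    intro i j hij
    apply Nat.add_le_add _ hij
    apply Finset.sup_mono
    intro t ht
    rw [Finset.mem_range] at ht ⊢
    omega
  have hNge : ∀ i, N₀ i ≤ N i := fun i =>
    (Finset.le_sup (f := N₀) (Finset.mem_range.2 (Nat.lt_succ_self i))).trans (Nat.le_add_right _ _)
  have hNge' : ∀ i, i ≤ N i := fun i => Nat.le_add_left _ _
  have hstep : ∀ i j, i ≤ j → y (N j) - y (N i) ∈ IsLocalRing.maximalIdeal S.carrier ^ i := by
    intro i j hij
    obtain ⟨d, hd⟩ := Nat.exists_eq_add_of_le (hNmono hij)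
    have h3 : x (N j) - x (N i) ∈ J (N₀ i) := by
      rw [hd]
      exact hJanti (hNge i) (hyJ (N i) d)
    have := hN₀ i _ h3
    rw [map_sub] at this
    exact this
  haveI : IsPrecomplete (IsLocalRing.maximalIdeal S.carrier) S.carrier := S.isAdicComplete.toIsPrecomplete
  obtain ⟨L, hL⟩ := exists_limit_of_succ (IsLocalRing.maximalIdeal S.carrier) (fun i => y (N i))
    (fun i => hstep i (i + 1) (Nat.le_succ i))
  have hLa : ∀ n, (π n).1 L = a n := by
    intro n
    obtain ⟨M, hM⟩ := h5 n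
    -- pick `i ≥ M` with `N i ≥ n`
    let i := M + n
    have hi1 : y (N i) - L ∈ RingHom.ker (π n).1 :=
      hM (Ideal.pow_le_pow_right (Nat.le_add_right M n) (hL i))
    rw [RingHom.mem_ker, map_sub, sub_eq_zero] at hi1
    rw [← hi1]
    obtain ⟨d, hd⟩ := Nat.exists_eq_add_of_le ((Nat.le_add_left n M).trans (hNge' i))
    apply hdown n d
    rw [← hd]
    exact hy (N i)
  exact ⟨L, hLa, fun s hs => huniq s L (fun n => by rw [hs, hLa])⟩

end Groth.Agent.H63
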