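import Groth.Agent.H63.LimitTower
import Groth.Agent.H63.SpanFinrankLocal

set_option autoImplicit false
set_option linter.style.haveILetI false
set_option linter.unusedSectionVars false
universe u v
open CategoryTheory

namespace Groth.Agent.H63

open ArtFun ArtFun.Art Groth.Agent.H61

variable {Λ : Type u} {k : Type u} [CommRing Λ] [Field k] [Algebra Λ k]

theorem exists_argmax_of_bounded (e : ℕ → ℕ) (d : ℕ) (h : ∀ n, e n ≤ d) : ∃ n₀, ∀ n, e n ≤ e n₀ := by
  classical
  have hP : ∃ n, e n = Nat.findGreatest (fun v => ∃ n, e n = v) d :=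
    Nat.findGreatest_spec (P := fun v => ∃ n, e n = v) (h 0) ⟨0, rfl⟩
  obtain ⟨n₀, hn₀⟩ := hP
  refine ⟨n₀, fun n => ?_⟩
  rw [hn₀]
  exact Nat.le_findGreatest (h n) ⟨n, rfl⟩

/-- In a tower of surjections with bounded embedding dimension the kernels eventually lie in the square of
the maximal ideal. -/
theorem exists_stable_cotangent (A : ℕ → Art Λ k) (f : ∀ n, A (n + 1) ⟶ A n) (hf : ∀ n, Function.Surjective (f n))
    (d : ℕ) (hd : ∀ n, Module.finrank (IsLocalRing.ResidueField (A n)) (IsLocalRing.CotangentSpace (A n)) ≤ d) :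
    ∃ n₀, ∀ n, n₀ ≤ n → RingHom.ker (f n).toAlgHom ≤ IsLocalRing.maximalIdeal (A (n + 1)) ^ 2 := by
  let e : ℕ → ℕ := fun n => (IsLocalRing.maximalIdeal (A n)).spanFinrank
  have he : ∀ n, e n ≤ d := fun n => by
    change (IsLocalRing.maximalIdeal (A n)).spanFinrank ≤ d
    rw [IsLocalRing.spanFinrank_maximalIdeal_eq_finrank_cotangentSpace (A n)]
    exact hd n
  have hfg : ∀ n, (IsLocalRing.maximalIdeal (A n)).FG := fun n =>
    (isNoetherianRing_iff_ideal_fg (A n)).1 inferInstance _
  have hmono : Monotone e := by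
    apply monotone_nat_of_le_succ
    intro n
    exact spanFinrank_maximalIdeal_le_of_surjective ((f n).toAlgHom : A (n + 1) →+* A n) (hf n) (hfg (n + 1))
  obtain ⟨n₀, hn₀⟩ := exists_argmax_of_bounded e d he
  refine ⟨n₀, fun n hn => ?_⟩
  by_contra hker
  have h1 := spanFinrank_maximalIdeal_lt_of_surjective ((f n).toAlgHom : A (n + 1) →+* A n) (hf n)
    (hfg (n + 1)) hker
  have h2 : e n₀ ≤ e n := hmono hn
  have h3 : e (n + 1) ≤ e n₀ := hn₀ (n + 1)
  change e n + 1 ≤ e (n + 1) at h1
  omega

/-- a lift of a surjection along a map whose kernel lies in the square of the maximal ideal is surjective -/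
theorem surjective_of_map_surjective (P : CRing Λ k) {B A : Art Λ k} (f : B ⟶ A)
    (hker : RingHom.ker f.toAlgHom ≤ IsLocalRing.maximalIdeal B ^ 2)
    (q' : HomSet P.carrier P.res B) (h : Function.Surjective (HomSet.map f q').1) :
    Function.Surjective q'.1 := by
  have key : ∀ b : B, b ∈ IsLocalRing.maximalIdeal B →
      b ∈ Ideal.map (q'.1 : P.carrier →+* B) (IsLocalRing.maximalIdeal P.carrier) ⊔ IsLocalRing.maximalIdeal B ^ 2 := by
    intro b hb
    obtain ⟨x, hx⟩ := h (f b)
    have hx' : f (q'.1 x) = f b := hx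
    have hxm : x ∈ IsLocalRing.maximalIdeal P.carrier := by
      rw [CR.mem_maximalIdeal_iff]
      have e1 : B.res (q'.1 x) = P.res x := AlgHom.congr_fun q'.2 x
      rw [← e1, ← res_app f, hx', res_app f]
      exact (Art.mem_maximalIdeal_iff B b).1 hb
    have hdiff : b - q'.1 x ∈ RingHom.ker f.toAlgHom := by
      rw [RingHom.mem_ker, map_sub]
      change f b - f (q'.1 x) = 0
      rw [hx', sub_self]
    have : b = q'.1 x + (b - q'.1 x) := by ring
    rw [this]
    exact Submodule.add_mem_sup (Ideal.mem_map_of_mem _ hxm) (hker hdiff)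
  apply CR.surjective_of_cotangent P (artCRing B) q'.1 q'.2
  apply le_antisymm
  · refine sup_le (CR.map_maximalIdeal_le P (artCRing B) q'.1 q'.2) ?_
    exact Ideal.pow_le_self two_ne_zero
  · exact fun b hb => key b hb

section Down

variable (A : ℕ → Art Λ k) (f : ∀ n, A (n + 1) ⟶ A n)

/-- the composite transition maps of a tower -/
noncomputable def down {n m : ℕ} (h : n ≤ m) : A m ⟶ A n :=
  Nat.leRecOn (C := fun j => A j ⟶ A n) h (fun {j} g => f j ≫ g) (𝟙 (A n))

theorem down_self (n : ℕ) : down A f (le_refl n) = 𝟙 (A n) :=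
  Nat.leRecOn_self _

theorem down_succ {n m : ℕ} (h : n ≤ m) : down A f (Nat.le_succ_of_le h) = f m ≫ down A f h :=
  Nat.leRecOn_succ (C := fun j => A j ⟶ A n) h _

theorem down_comp {n m : ℕ} (h : n + 1 ≤ m) : down A f h ≫ f n = down A f (Nat.le_of_succ_le h) := by
  induction m, h using Nat.le_induction with
  | base =>
    rw [down_self, Category.id_comp]
    have := down_succ A f (le_refl n)
    rw [down_self, Category.comp_id] at this
    exact this.symm
  | succ m hm ih =>
    rw [down_succ A f hm, Category.assoc, ih, ← down_succ A f (Nat.le_of_succ_le hm)]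

theorem down_surjective (hf : ∀ n, Function.Surjective (f n)) {n m : ℕ} (h : n ≤ m) :
    Function.Surjective (down A f h) := by
  induction m, h using Nat.le_induction with
  | base =>
    rw [down_self]
    exact fun a => ⟨a, rfl⟩
  | succ m hm ih =>
    rw [down_succ A f hm]
    intro a
    obtain ⟨b, rfl⟩ := ih a
    obtain ⟨c, rfl⟩ := hf m b
    exact ⟨c, rfl⟩

end Down

/-- a tower of surjections with bounded embedding dimension is dominated by one coefficient ring -/
theorem exists_tower_cover [IsNoetherianRing Λ] [Module.Finite Λ k]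
    (A : ℕ → Art Λ k) (f : ∀ n, A (n + 1) ⟶ A n) (hf : ∀ n, Function.Surjective (f n))
    (d : ℕ) (hd : ∀ n, Module.finrank (IsLocalRing.ResidueField (A n)) (IsLocalRing.CotangentSpace (A n)) ≤ d) :
    ∃ (P : CRing Λ k) (q : ∀ n, HomSet P.carrier P.res (A n)),
      (∀ n, Function.Surjective (q n).1) ∧ ∀ n, HomSet.map (f n) (q (n + 1)) = q n := by
  classical
  obtain ⟨n₀, hn₀⟩ := exists_stable_cotangent A f hf d hd
  obtain ⟨P, hP, p₀, hp₀⟩ := exists_smooth_cover (A n₀)
  have step : ∀ j (q : {q : HomSet P.carrier P.res (A (n₀ + j)) // Function.Surjective q.1}),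
      ∃ q' : {q' : HomSet P.carrier P.res (A (n₀ + (j + 1))) // Function.Surjective q'.1},
        HomSet.map (f (n₀ + j)) q'.1 = q.1 := by
    intro j q
    obtain ⟨ψ, hψ⟩ := hP (f (n₀ + j)) (hf (n₀ + j)) q.1
    refine ⟨⟨ψ, ?_⟩, hψ⟩
    apply surjective_of_map_surjective P (f (n₀ + j)) (hn₀ (n₀ + j) (Nat.le_add_right _ _)) ψ
    rw [hψ]
    exact q.2
  choose nxt hnxt using step
  let up : ∀ j, {q : HomSet P.carrier P.res (A (n₀ + j)) // Function.Surjective q.1} := fun j =>
    Nat.rec (motive := fun j => {q : HomSet P.carrier P.res (A (n₀ + j)) // Function.Surjective q.1})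
      ⟨p₀, hp₀⟩ (fun j q => nxt j q) j
  have hup : ∀ j, HomSet.map (f (n₀ + j)) (up (j + 1)).1 = (up j).1 := fun j => hnxt j (up j)
  refine ⟨P, fun n => HomSet.map (down A f (Nat.le_add_left n n₀)) (up n).1, ?_, ?_⟩
  · intro n a
    obtain ⟨b, rfl⟩ := down_surjective A f hf (Nat.le_add_left n n₀) a
    obtain ⟨x, rfl⟩ := (up n).2 b
    exact ⟨x, rfl⟩
  · intro n
    rw [← homSet_map_comp]
    have e1 : down A f (Nat.le_add_left (n + 1) n₀) ≫ f n =
        f (n₀ + n) ≫ down A f (Nat.le_add_left n n₀) := by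
      rw [down_comp A f (Nat.le_add_left (n + 1) n₀)]
      exact down_succ A f (Nat.le_add_left n n₀)
    rw [e1, homSet_map_comp, hup]

end Groth.Agent.H63
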