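import Mathlib

set_option autoImplicit false
set_option linter.unusedSectionVars false
set_option linter.deprecated false
universe u
open CategoryTheory MonoidalCategory

namespace Groth.Agent.H63.LinFunctor

variable (K : Type u) [Field K]

/-- the map `K → V`, `c ↦ c • v`, as a morphism -/
noncomputable def pt (V : FGModuleCat.{u} K) (v : V) : FGModuleCat.of K K ⟶ V :=
  ObjectProperty.homMk (ModuleCat.ofHom (LinearMap.toSpanSingleton K V v))

theorem pt_apply (V : FGModuleCat.{u} K) (v : V) (c : K) : (pt K V v).hom.hom c = c • v := rfl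

theorem pt_add (V : FGModuleCat.{u} K) (v w : V) : pt K V (v + w) = pt K V v + pt K V w := by
  apply FGModuleCat.hom_ext
  apply LinearMap.ext
  intro c
  change c • (v + w) = c • v + c • w
  rw [smul_add]

theorem pt_smul (V : FGModuleCat.{u} K) (a : K) (v : V) : pt K V (a • v) = a • pt K V v := by
  apply FGModuleCat.hom_ext
  apply LinearMap.ext
  intro c
  change c • (a • v) = a • (c • v)
  rw [smul_comm]

theorem pt_comp (V W : FGModuleCat.{u} K) (g : V ⟶ W) (v : V) :
    pt K V v ≫ g = pt K W (g.hom.hom v) := by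
  apply FGModuleCat.hom_ext
  apply LinearMap.ext
  intro c
  change g.hom.hom (c • v) = c • g.hom.hom v
  rw [map_smul]

variable {K}
variable (L : FGModuleCat.{u} K ⥤ ModuleCat.{u} K) [L.Additive] [Functor.Linear K L]

/-- the bilinear map `(x, v) ↦ L(pt v) x` -/
noncomputable def bil (V : FGModuleCat.{u} K) :
    L.obj (FGModuleCat.of K K) →ₗ[K] V →ₗ[K] L.obj V :=
  LinearMap.mk₂ K (fun x v => (L.map (pt K V v)).hom x)
    (fun x y v => map_add _ x y)
    (fun c x v => map_smul _ c x)
    (fun x v w => by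
      rw [pt_add, Functor.map_add, ModuleCat.hom_add, LinearMap.add_apply])
    (fun c x v => by
      rw [pt_smul, Functor.map_smul, ModuleCat.hom_smul, LinearMap.smul_apply])

theorem bil_apply (V : FGModuleCat.{u} K) (x : L.obj (FGModuleCat.of K K)) (v : V) :
    bil L V x v = (L.map (pt K V v)).hom x := rfl

/-- the comparison map `L(K) ⊗ V → L(V)` -/
noncomputable def alpha (V : FGModuleCat.{u} K) :
    TensorProduct K (L.obj (FGModuleCat.of K K)) V →ₗ[K] L.obj V :=
  TensorProduct.lift (bil L V)

theorem alpha_tmul (V : FGModuleCat.{u} K) (x : L.obj (FGModuleCat.of K K)) (v : V) :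
    alpha L V (x ⊗ₜ v) = (L.map (pt K V v)).hom x := rfl

/-- the coordinate morphisms of a basis -/
noncomputable def coordHom (V : FGModuleCat.{u} K) {n : ℕ} (b : Module.Basis (Fin n) K V) (i : Fin n) :
    V ⟶ FGModuleCat.of K K :=
  ObjectProperty.homMk (ModuleCat.ofHom (b.coord i))

theorem sum_coordHom_pt (V : FGModuleCat.{u} K) {n : ℕ} (b : Module.Basis (Fin n) K V) :
    ∑ i, coordHom V b i ≫ pt K V (b i) = 𝟙 V := by
  apply FGModuleCat.hom_ext
  apply LinearMap.ext
  intro v
  have h1 : (∑ i, coordHom V b i ≫ pt K V (b i)).hom = ∑ i, (coordHom V b i ≫ pt K V (b i)).hom :=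
    map_sum (InducedCategory.homAddEquiv (F := ObjectProperty.FullSubcategory.obj)) _ Finset.univ
  rw [h1, ModuleCat.hom_sum, LinearMap.sum_apply]
  change ∑ i, (b.coord i v) • b i = v
  simp only [Module.Basis.coord_apply]
  exact b.sum_repr v

theorem pt_coordHom (V : FGModuleCat.{u} K) {n : ℕ} (b : Module.Basis (Fin n) K V) (i : Fin n) (v : V) :
    pt K V v ≫ coordHom V b i = (b.coord i v) • 𝟙 (FGModuleCat.of K K) := by
  apply FGModuleCat.hom_ext
  apply LinearMap.ext
  intro c
  change b.coord i (c • v) = (b.coord i v) • c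
  rw [map_smul, smul_eq_mul, smul_eq_mul, mul_comm]

/-- the inverse map `L(V) → L(K) ⊗ V` attached to a basis -/
noncomputable def beta (V : FGModuleCat.{u} K) {n : ℕ} (b : Module.Basis (Fin n) K V) :
    L.obj V →ₗ[K] TensorProduct K (L.obj (FGModuleCat.of K K)) V :=
  ∑ i, (TensorProduct.mk K (L.obj (FGModuleCat.of K K)) V).flip (b i) ∘ₗ (L.map (coordHom V b i)).hom

theorem beta_apply (V : FGModuleCat.{u} K) {n : ℕ} (b : Module.Basis (Fin n) K V) (y : L.obj V) :
    beta L V b y = ∑ i, ((L.map (coordHom V b i)).hom y) ⊗ₜ[K] (b i) := by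
  unfold beta
  rw [LinearMap.sum_apply]
  rfl

theorem alpha_beta (V : FGModuleCat.{u} K) {n : ℕ} (b : Module.Basis (Fin n) K V) (y : L.obj V) :
    alpha L V (beta L V b y) = y := by
  rw [beta_apply, map_sum]
  simp only [alpha_tmul]
  have h : ∀ i, (L.map (pt K V (b i))).hom ((L.map (coordHom V b i)).hom y) =
      (L.map (coordHom V b i ≫ pt K V (b i))).hom y := by
    intro i
    rw [L.map_comp]
    rfl
  simp only [h]
  rw [← LinearMap.sum_apply, ← ModuleCat.hom_sum, ← Functor.map_sum, sum_coordHom_pt, L.map_id]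
  rfl

theorem beta_alpha (V : FGModuleCat.{u} K) {n : ℕ} (b : Module.Basis (Fin n) K V)
    (z : TensorProduct K (L.obj (FGModuleCat.of K K)) V) :
    beta L V b (alpha L V z) = z := by
  induction z using TensorProduct.induction_on with
  | zero => rw [map_zero, map_zero]
  | add z w hz hw => rw [map_add, map_add, hz, hw]
  | tmul x v =>
    rw [alpha_tmul, beta_apply]
    have h : ∀ i, (L.map (coordHom V b i)).hom ((L.map (pt K V v)).hom x) = (b.coord i v) • x := by
      intro i
      have h1 : (L.map (coordHom V b i)).hom ((L.map (pt K V v)).hom x) =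
          (L.map (pt K V v ≫ coordHom V b i)).hom x := by
        rw [L.map_comp]
        rfl
      rw [h1, pt_coordHom, Functor.map_smul, L.map_id]
      rfl
    simp only [h, TensorProduct.smul_tmul, ← TensorProduct.tmul_sum]
    congr 1
    simp only [Module.Basis.coord_apply]
    exact b.sum_repr v

/-- the comparison as a linear equivalence -/
noncomputable def equiv (V : FGModuleCat.{u} K) :
    TensorProduct K (L.obj (FGModuleCat.of K K)) V ≃ₗ[K] L.obj V :=
  LinearEquiv.ofLinear (alpha L V) (beta L V (Module.finBasis K V))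
    (LinearMap.ext fun y => alpha_beta L V _ y) (LinearMap.ext fun z => beta_alpha L V _ z)

theorem main :
    Nonempty (L ≅ (ModuleCat.isFG.{u} K).ι ⋙ MonoidalCategory.tensorLeft (L.obj (FGModuleCat.of K K))) := by
  refine ⟨(NatIso.ofComponents (fun V => (equiv L V).toModuleIso) ?_).symm⟩
  intro V W g
  apply ModuleCat.MonoidalCategory.tensor_ext
  intro x v
  change alpha L W (x ⊗ₜ (g.hom.hom v)) = (L.map g).hom (alpha L V (x ⊗ₜ v))
  rw [alpha_tmul, alpha_tmul, ← pt_comp, L.map_comp]
  rfl

end Groth.Agent.H63.LinFunctor
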