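import Groth.Prelude.Def_LocRes
import Mathlib.RingTheory.LaurentSeries

set_option autoImplicit false
universe u v w

namespace Groth.Agent.H63

open LaurentSeries HahnSeries LocRes

variable {F : Type w} [Field F]

/-- residue of a power series is zero -/
theorem res_coe (G : PowerSeries F) : res F (G : F⸨X⸩) = 0 := by
  rw [res_apply, PowerSeries.coeff_coe, if_pos (by decide)]

theorem res_coe_mul_D_coe (Y G : PowerSeries F) : res F ((Y : F⸨X⸩) * D F (G : F⸨X⸩)) = 0 := by
  rw [D_coe, ← PowerSeries.coe_mul]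
  exact res_coe _

/-- the logarithmic derivative of a Laurent series of valuation `exp (-n)` has residue `n` -/
theorem res_inv_mul_D (g : F⸨X⸩) (n : ℤ) (hg : Valued.v g = WithZero.exp (-n)) :
    res F (g⁻¹ * D F g) = (n : F) := by
  have hg0 : g ≠ 0 := by
    intro h0
    rw [h0, map_zero] at hg
    exact WithZero.exp_ne_zero hg.symm
  set h : F⸨X⸩ := single (-n) (1 : F) * g with hh
  have hs0 : (single (-n) (1 : F) : F⸨X⸩) ≠ 0 := by
    rw [Ne, HahnSeries.single_eq_zero_iff]; exact one_ne_zero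
  have hh0 : h ≠ 0 := mul_ne_zero hs0 hg0
  have hvh : Valued.v h = 1 := by
    rw [hh, map_mul, LaurentSeries.valuation_single_zpow, hg, neg_neg, ← WithZero.exp_add,
      add_neg_cancel, WithZero.exp_zero]
  have hvh' : Valued.v h⁻¹ = 1 := by rw [map_inv₀, hvh, inv_one]
  obtain ⟨H, hH⟩ := (LaurentSeries.val_le_one_iff_eq_coe F h).1 hvh.le
  obtain ⟨H', hH'⟩ := (LaurentSeries.val_le_one_iff_eq_coe F h⁻¹).1 hvh'.le
  have hgH : g = single n (1 : F) * (H : F⸨X⸩) := by
    rw [hH, hh, ← mul_assoc, HahnSeries.single_mul_single, add_neg_cancel, one_mul]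
    exact (one_mul g).symm
  have hginv : g⁻¹ = single (-n) (1 : F) * (H' : F⸨X⸩) := by
    rw [hH', hh, mul_inv, ← mul_assoc, mul_inv_cancel₀ hs0, one_mul]
  have hHH' : (H' : F⸨X⸩) * (H : F⸨X⸩) = 1 := by
    rw [hH, hH']; exact inv_mul_cancel₀ hh0
  have hD : D F g = single n (1 : F) * D F (H : F⸨X⸩) + single (n - 1) (n • (1 : F)) * (H : F⸨X⸩) := by
    rw [hgH, D_apply, derivative_single_mul, D_apply]
  have key : g⁻¹ * D F g = (H' : F⸨X⸩) * D F (H : F⸨X⸩) + single (-1) (n • (1 : F)) := by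
    rw [hD, hginv, mul_add]
    have e1 : single (-n) (1 : F) * (H' : F⸨X⸩) * (single n (1 : F) * D F (H : F⸨X⸩)) =
        (single (-n) (1 : F) * single n (1 : F)) * ((H' : F⸨X⸩) * D F (H : F⸨X⸩)) := by ring
    have e2 : single (-n) (1 : F) * (H' : F⸨X⸩) * (single (n - 1) (n • (1 : F)) * (H : F⸨X⸩)) =
        (single (-n) (1 : F) * single (n - 1) (n • (1 : F))) * ((H' : F⸨X⸩) * (H : F⸨X⸩)) := by ring
    rw [e1, e2, hHH', mul_one, HahnSeries.single_mul_single, HahnSeries.single_mul_single, neg_add_cancel, one_mul,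
      one_mul]
    have : -n + (n - 1) = -1 := by ring
    rw [this]
    exact congrArg₂ (· + ·) (one_mul _) rfl
  rw [key, map_add, res_coe_mul_D_coe, zero_add, res_apply, HahnSeries.coeff_single_same]
  simp

end Groth.Agent.H63
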