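import Mathlib
import Groth.Agent.H55.FFPlane1

set_option autoImplicit false
set_option linter.style.haveILetI false

namespace Groth.Agent.H63.MapDiv2
open FunFld Groth.Agent.H55

variable {k K : Type*} [Field k] [Field K] [Algebra k K]

/-- the maximum of the valuations of the entries -/
noncomputable def M (P : Place k K) {n : ℕ} (w : Fin (n + 1) → K) : WithZero (Multiplicative ℤ) :=
  Finset.univ.sup' Finset.univ_nonempty (fun i => P.1 (w i))

theorem le_M (P : Place k K) {n : ℕ} (w : Fin (n + 1) → K) (i : Fin (n + 1)) : P.1 (w i) ≤ M P w :=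
  Finset.le_sup' (fun i => P.1 (w i)) (Finset.mem_univ i)

theorem exists_eq_M (P : Place k K) {n : ℕ} (w : Fin (n + 1) → K) : ∃ i, M P w = P.1 (w i) := by
  obtain ⟨i, -, hi⟩ := Finset.exists_mem_eq_sup' Finset.univ_nonempty (fun i => P.1 (w i))
  exact ⟨i, hi⟩

theorem M_le_iff (P : Place k K) {n : ℕ} (w : Fin (n + 1) → K) (a : WithZero (Multiplicative ℤ)) :
    M P w ≤ a ↔ ∀ i, P.1 (w i) ≤ a := by
  unfold M
  rw [Finset.sup'_le_iff]
  simp

theorem M_ne_zero (P : Place k K) {n : ℕ} (w : Fin (n + 1) → K) {i : Fin (n + 1)} (hi : w i ≠ 0) :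
    M P w ≠ 0 := by
  intro h0
  have := le_M P w i
  rw [h0, le_zero_iff] at this
  exact hi ((map_eq_zero _).1 this)

theorem mapDiv_apply_of_one (hK : IsFunctionField k K) (P : Place k K) {n : ℕ}
    (w : Fin (n + 1) → K) (h1 : ∃ i, w i = 1) : mapDiv k w P = WithZero.log (M P w) := by
  rw [mapDiv_apply hK]
  obtain ⟨i1, hi1⟩ := h1
  have hM1 : 1 ≤ M P w := by
    have := le_M P w i1
    rwa [hi1, map_one] at this
  have hM0 : M P w ≠ 0 := fun h => by rw [h] at hM1; exact absurd hM1 (by simp)
  obtain ⟨i0, hi0⟩ := exists_eq_M P w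
  have key : Finset.univ.inf' Finset.univ_nonempty (fun i => P.ord (w i)) = -WithZero.log (M P w) := by
    apply le_antisymm
    · refine (Finset.inf'_le _ (Finset.mem_univ i0)).trans_eq ?_
      unfold Place.ord
      rw [hi0]
    · apply Finset.le_inf'
      intro i _
      unfold Place.ord
      rw [neg_le_neg_iff]
      by_cases hwi : w i = 0
      · rw [hwi, map_zero, WithZero.log_zero]
        have := (WithZero.log_le_log one_ne_zero hM0).2 hM1
        rwa [WithZero.log_one] at this
      · exact (WithZero.log_le_log ((Valuation.ne_zero_iff _).2 hwi) hM0).2 (le_M P w i)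
  rw [key, neg_neg]

theorem M_comb_le (P : Place k K) {n : ℕ} (w : Fin (n + 1) → K)
    (B : Matrix (Fin (n + 1)) (Fin (n + 1)) k) :
    M P (fun i => ∑ j, algebraMap k K (B i j) * w j) ≤ M P w := by
  rw [M_le_iff]
  intro i
  apply Valuation.map_sum_le
  intro j _
  rw [map_mul]
  exact (mul_le_of_le_one_left' (P.2.1 (B i j))).trans (le_M P w j)

theorem M_comb (P : Place k K) {n : ℕ} (w : Fin (n + 1) → K)
    (A : Matrix (Fin (n + 1)) (Fin (n + 1)) k) (hA : A.det ≠ 0) :
    M P (fun i => ∑ j, algebraMap k K (A i j) * w j) = M P w := by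
  apply le_antisymm (M_comb_le P w A)
  have hinv : ∀ i, ∑ j, algebraMap k K (A⁻¹ i j) * (∑ l, algebraMap k K (A j l) * w l) = w i := by
    intro i
    simp only [Finset.mul_sum, ← mul_assoc, ← map_mul]
    rw [Finset.sum_comm]
    simp only [← Finset.sum_mul, ← map_sum]
    have : ∀ l, ∑ j, A⁻¹ i j * A j l = (1 : Matrix _ _ k) i l := by
      intro l
      rw [← Matrix.mul_apply, Matrix.nonsing_inv_mul _ (isUnit_iff_ne_zero.2 hA)]
    simp only [this, Matrix.one_apply]
    rw [Finset.sum_eq_single i]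
    · simp
    · intro l _ hl
      rw [if_neg (Ne.symm hl), map_zero, zero_mul]
    · intro h
      exact absurd (Finset.mem_univ i) h
  have h := M_comb_le P (fun j => ∑ l, algebraMap k K (A j l) * w l) A⁻¹
  simp only [hinv] at h
  exact h

theorem M_mul (P : Place k K) {n : ℕ} (c : K) (w : Fin (n + 1) → K) :
    M P (fun i => c * w i) = P.1 c * M P w := by
  apply le_antisymm
  · rw [M_le_iff]
    intro i
    rw [map_mul]
    exact mul_le_mul' le_rfl (le_M P w i)
  · obtain ⟨i0, hi0⟩ := exists_eq_M P w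
    rw [hi0, ← map_mul]
    exact le_M P (fun i => c * w i) i0

end Groth.Agent.H63.MapDiv2
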