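import Groth.Agent.H62.FFNSTower3
import Groth.Agent.H55.FFNS4

/-!
# Base change of traces, discriminants and bases along a constant field extension

`K/k(x)` finite, `L = k'K`: a `k(x)`-basis of `K` is a `k'(x')`-basis of `L`, and traces and
discriminants are compatible.
-/

set_option autoImplicit false
set_option linter.unusedSectionVars false

open Module IntermediateField
open scoped TensorProduct

namespace Groth.Agent.H63.NSDiscr1

section semilinear

variable {F F' K L : Type*} [Field F] [Field F'] [Field K] [Field L] [Algebra F K] [Algebra F' L]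
  (φ : F →+* F') (ι : K →+* L) (hφι : ∀ (a : F) (u : K), ι (a • u) = φ a • ι u)
  {n : Type*} [Fintype n] [DecidableEq n] (b : Basis n F K) (b' : Basis n F' L)
  (hb : ∀ i, b' i = ι (b i))

include hφι hb in
theorem repr_map (u : K) (i : n) : b'.repr (ι u) i = φ (b.repr u i) := by
  have h1 : ι u = ∑ j, φ (b.repr u j) • b' j := by
    conv_lhs => rw [← b.sum_repr u]
    rw [map_sum]
    apply Finset.sum_congr rfl
    intro j _
    rw [hφι, hb]
  rw [h1, b'.repr_sum_self]

include hφι hb in
theorem leftMulMatrix_map (u : K) :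
    Algebra.leftMulMatrix b' (ι u) = (Algebra.leftMulMatrix b u).map φ := by
  ext i j
  rw [Matrix.map_apply, Algebra.leftMulMatrix_eq_repr_mul, Algebra.leftMulMatrix_eq_repr_mul, hb,
    ← map_mul, repr_map φ ι hφι b b' hb]

include hφι hb in
theorem trace_map (u : K) : Algebra.trace F' L (ι u) = φ (Algebra.trace F K u) := by
  rw [Algebra.trace_eq_matrix_trace b', Algebra.trace_eq_matrix_trace b,
    leftMulMatrix_map φ ι hφι b b' hb, Matrix.trace, Matrix.trace, map_sum]
  rfl

include hφι hb in
theorem discr_map : Algebra.discr F' b' = φ (Algebra.discr F b) := by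
  rw [Algebra.discr_def, Algebra.discr_def, RingHom.map_det]
  congr 1
  ext i j
  rw [RingHom.mapMatrix_apply, Matrix.map_apply, Algebra.traceMatrix_apply, Algebra.traceMatrix_apply,
    Algebra.traceForm_apply, Algebra.traceForm_apply, hb, hb, ← map_mul,
    trace_map φ ι hφι b b' hb]

end semilinear

section clean
open scoped IntermediateField.algebraAdjoinAdjoin
variable {k' L : Type*} [Field k'] [Field L] [Algebra k' L]

theorem exists_common_denom (x' : L) {n : Type*} [Fintype n] (g : n → k'⟮x'⟯) :
    ∃ δ ∈ Algebra.adjoin k' {x'}, δ ≠ 0 ∧ ∀ i, δ * (g i : L) ∈ Algebra.adjoin k' {x'} := by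
  classical
  obtain ⟨δ, hδ⟩ := IsLocalization.exist_integer_multiples (nonZeroDivisors (Algebra.adjoin k' {x'}))
    (Finset.univ : Finset n) g
  refine ⟨(δ : Algebra.adjoin k' {x'}), (δ : Algebra.adjoin k' {x'}).2, ?_, ?_⟩
  · have := nonZeroDivisors.ne_zero δ.2
    intro h0
    apply this
    exact Subtype.ext h0
  · intro i
    obtain ⟨β, hβ⟩ := hδ i (Finset.mem_univ i)
    have h1 : ((algebraMap (Algebra.adjoin k' {x'}) k'⟮x'⟯ β : k'⟮x'⟯) : L) = (β : L) := rfl
    have h2 := congrArg (fun w : k'⟮x'⟯ => (w : L)) hβ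
    rw [h1] at h2
    have h3 : (((δ : Algebra.adjoin k' {x'}) • g i : k'⟮x'⟯) : L) = (δ : L) * (g i : L) := rfl
    rw [h3] at h2
    rw [← h2]
    exact β.2

end clean

section concrete

variable {k k' K L : Type*} [Field k] [Field k'] [Field K] [Field L]
  [Algebra k k'] [Algebra k K] [Algebra K L] [Algebra k' L] [Algebra k L]
  [IsScalarTower k k' L] [IsScalarTower k K L]

/-- elements of `k(x)` map into `k'(x')` -/
theorem algebraMap_mem_adjoin (x : K) {a : K} (ha : a ∈ k⟮x⟯) :
    algebraMap K L a ∈ k'⟮algebraMap K L x⟯ := by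
  have h1 : k⟮x⟯ ≤ (k'⟮algebraMap K L x⟯.restrictScalars k).comap (IsScalarTower.toAlgHom k K L) := by
    rw [adjoin_le_iff]
    rintro _ rfl
    exact mem_adjoin_simple_self k' _
  exact h1 ha

/-- the ring homomorphism `k(x) → k'(x')` -/
noncomputable def phi (x : K) : k⟮x⟯ →+* k'⟮algebraMap K L x⟯ :=
  ((algebraMap K L).comp (algebraMap k⟮x⟯ K)).codRestrict k'⟮algebraMap K L x⟯.toSubfield
    (fun a => algebraMap_mem_adjoin x a.2)

theorem phi_coe (x : K) (a : k⟮x⟯) :
    ((phi (k' := k') (L := L) x a : k'⟮algebraMap K L x⟯) : L) = algebraMap K L (a : K) := rfl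

theorem phi_smul (x : K) (a : k⟮x⟯) (u : K) :
    algebraMap K L (a • u) = phi (k' := k') (L := L) x a • algebraMap K L u := by
  rw [IntermediateField.smul_def, IntermediateField.smul_def, smul_eq_mul, smul_eq_mul, map_mul]
  rfl

variable {ι : Type*} [Fintype ι] (c : Basis ι k k') (bL : Basis ι K L)
  (hbL : ∀ i, bL i = algebraMap k' L (c i))

include hbL in
/-- elements of `k'[S']` have coordinates in `k[S]` -/
theorem repr_mem_of_mem_adjoin (S : Set K) {β : L}
    (hβ : β ∈ Algebra.adjoin k' (algebraMap K L '' S)) (j : ι) :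
    bL.repr β j ∈ Algebra.adjoin k S := by
  have hO : ∀ a : k, algebraMap k K a ∈ (Algebra.adjoin k S).toSubring :=
    fun a => (Algebra.adjoin k S).algebraMap_mem a
  have key := H62.FFNSTower.mem_adjoin_iff c bL hbL (Algebra.adjoin k S).toSubring hO
  have h1 : β ∈ Algebra.adjoin ((Algebra.adjoin k S).toSubring.map (algebraMap K L))
      (Set.range (algebraMap k' L)) := by
    induction hβ using Algebra.adjoin_induction with
    | mem y hy =>
      obtain ⟨a, ha, rfl⟩ := hy
      exact Subalgebra.algebraMap_mem _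
        (⟨algebraMap K L a, ⟨a, Algebra.subset_adjoin ha, rfl⟩⟩ :
          (Algebra.adjoin k S).toSubring.map (algebraMap K L))
    | algebraMap r => exact Algebra.subset_adjoin ⟨r, rfl⟩
    | add y z _ _ hy hz => exact Subalgebra.add_mem _ hy hz
    | mul y z _ _ hy hz => exact Subalgebra.mul_mem _ hy hz
  exact (key β).mp h1 j

include hbL in
/-- a `k(x)`-basis of `K` maps to a `k'(x')`-basis of `L = k'K` -/
theorem exists_basis_map (x : K) {n : Type*} [Fintype n] (b : Basis n k⟮x⟯ K) :
    ∃ b' : Basis n k'⟮algebraMap K L x⟯ L, ∀ i, b' i = algebraMap K L (b i) := by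
  classical
  set v : n → L := fun i => algebraMap K L (b i) with hv
  have hli : LinearIndependent k'⟮algebraMap K L x⟯ v := by
    rw [Fintype.linearIndependent_iff]
    intro g hg i₀
    obtain ⟨δ, hδmem, hδ0, hδ⟩ := exists_common_denom (algebraMap K L x) g
    have hsum : ∑ i, (δ * (g i : L)) * v i = 0 := by
      have h1 : ∑ i, (δ * (g i : L)) * v i = δ * ∑ i, g i • v i := by
        rw [Finset.mul_sum]
        apply Finset.sum_congr rfl
        intro i _
        rw [IntermediateField.smul_def, smul_eq_mul, mul_assoc]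
      rw [h1, hg, mul_zero]
    have hcoord : ∀ j, ∑ i, bL.repr (δ * (g i : L)) j * b i = 0 := by
      intro j
      have h1 := congrArg (fun w => bL.repr w j) hsum
      simp only [map_sum, Finsupp.coe_finsetSum, Finset.sum_apply, map_zero,
        Finsupp.zero_apply] at h1
      rw [← h1]
      apply Finset.sum_congr rfl
      intro i _
      have h2 : δ * (g i : L) * v i = b i • (δ * (g i : L)) := by
        rw [Algebra.smul_def, mul_comm]
      rw [h2, map_smul, Finsupp.smul_apply, smul_eq_mul, mul_comm]
    have hzero : ∀ j i, bL.repr (δ * (g i : L)) j = 0 := by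
      intro j
      have hmem : ∀ i, bL.repr (δ * (g i : L)) j ∈ k⟮x⟯ := fun i =>
        algebra_adjoin_le_adjoin k _ (repr_mem_of_mem_adjoin c bL hbL {x}
          (by rw [Set.image_singleton]; exact hδ i) j)
      have h2 : ∑ i, (⟨_, hmem i⟩ : k⟮x⟯) • b i = 0 := by
        rw [← hcoord j]
        rfl
      have h3 := Fintype.linearIndependent_iff.mp b.linearIndependent _ h2
      intro i
      exact congrArg Subtype.val (h3 i)
    have h4 : δ * (g i₀ : L) = 0 := by
      apply bL.repr.injective
      ext j
      rw [hzero j i₀]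
      simp
    have h5 : (g i₀ : L) = 0 := (mul_eq_zero.mp h4).resolve_left hδ0
    exact Subtype.ext h5
  have hsp : ⊤ ≤ Submodule.span k'⟮algebraMap K L x⟯ (Set.range v) := by
    intro z _
    rw [← bL.sum_repr z]
    apply Submodule.sum_mem
    intro j _
    have hmem : ∀ i, algebraMap K L ((b.repr (bL.repr z j) i : k⟮x⟯) : K) * algebraMap k' L (c j) ∈
        k'⟮algebraMap K L x⟯ := fun i =>
      mul_mem (algebraMap_mem_adjoin x (b.repr (bL.repr z j) i).2)
        (k'⟮algebraMap K L x⟯.algebraMap_mem (c j))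
    have h1 : bL.repr z j • bL j = ∑ i, (⟨_, hmem i⟩ : k'⟮algebraMap K L x⟯) • v i := by
      conv_lhs => rw [← b.sum_repr (bL.repr z j)]
      rw [Finset.sum_smul]
      apply Finset.sum_congr rfl
      intro i _
      rw [Algebra.smul_def, IntermediateField.smul_def, IntermediateField.smul_def, smul_eq_mul,
        smul_eq_mul, map_mul, hbL]
      show _ = (algebraMap K L _ * algebraMap k' L (c j)) * algebraMap K L (b i)
      ring
    rw [h1]
    apply Submodule.sum_mem
    intro i _
    exact Submodule.smul_mem _ _ (Submodule.subset_span ⟨i, rfl⟩)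
  exact ⟨Basis.mk hli hsp, fun i => Basis.mk_apply hli hsp i⟩

end concrete

end Groth.Agent.H63.NSDiscr1
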