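import Groth.Agent.H63.NSDiscr1
import Groth.Agent.H55.WExist
import Groth.Agent.H55.FFStrong
import Groth.Agent.H55.IntCl1
import Groth.Agent.H55.Sep1
import Groth.Agent.H62.FFSepPlaces2

/-!
# Finiteness of the singular places of a geometric function field

At a place where a separating variable `x` is regular and the discriminant of `K/k(x)` is a unit,
`O_P ⊗ k'` is integrally closed in `k'K` for every finite `k'/k`.
-/

set_option autoImplicit false
set_option linter.unusedSectionVars false

open FunFld WithZero Module IntermediateField Polynomial Groth.Agent.H55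
open scoped TensorProduct

namespace Groth.Agent.H63.NSDiscr2

section integral

variable {k k' L : Type*} [Field k] [Field k'] [Field L] [Algebra k k'] [Algebra k' L] [Algebra k L]
  [IsScalarTower k k' L]

/-- an element regular wherever `t` is regular (places over `k`) is integral over `k'[t]` -/
theorem isIntegral_adjoin_of_places' (hL : W.IsWeakFF k L) {t u : L}
    (h : ∀ Q : Place k L, Q.1 t ≤ 1 → Q.1 u ≤ 1) : IsIntegral (Algebra.adjoin k' {t}) u := by
  set s : Set L := Set.range (algebraMap k L) ∪ {t} with hs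
  have key : u ∈ (integralClosure (Subring.closure s) L).toSubring := by
    rw [← iInf_valuationSubring_superset, Subring.mem_iInf]
    rintro ⟨V, hV⟩
    show u ∈ V
    by_cases htop : ∃ y ∈ V, y ≠ 0 ∧ y⁻¹ ∉ V
    · obtain ⟨y, hyV, hy0, hyinv⟩ := htop
      obtain ⟨P, hP⟩ := W.exists_place_of_vs hL V (fun c => hV (Or.inl ⟨c, rfl⟩)) y hyV hy0 hyinv
      rw [← hP]
      apply h
      rw [hP]
      exact hV (Or.inr rfl)
    · push Not at htop
      rcases V.mem_or_inv_mem u with h1 | h1
      · exact h1
      · by_cases hu0 : u = 0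
        · rw [hu0]; exact V.zero_mem
        · have := htop u⁻¹ h1 (inv_ne_zero hu0)
          rwa [inv_inv] at this
  have key' : IsIntegral (Subring.closure s) u := key
  obtain ⟨p, hp, hpu⟩ := key'
  have hle : ∀ x : Subring.closure s, (x : L) ∈ Algebra.adjoin k' {t} := by
    intro x
    have h1 : Subring.closure s ≤ (Algebra.adjoin k' {t}).toSubring := by
      rw [Subring.closure_le]
      rintro z (⟨c, rfl⟩ | hz)
      · rw [IsScalarTower.algebraMap_apply k k' L]
        exact (Algebra.adjoin k' {t}).algebraMap_mem _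
      · rw [Set.mem_singleton_iff] at hz
        rw [hz]
        exact Algebra.subset_adjoin (Set.mem_singleton t)
    exact h1 x.2
  let ι : Subring.closure s →+* Algebra.adjoin k' {t} :=
    (Subring.closure s).subtype.codRestrict (Algebra.adjoin k' {t}) hle
  refine ⟨p.map ι, hp.map ι, ?_⟩
  rw [Polynomial.eval₂_map]
  exact hpu

end integral

section clean
open scoped IntermediateField.algebraAdjoinAdjoin
variable {k' L : Type*} [Field k'] [Field L] [Algebra k' L]

/-- the discriminant of a power basis of `L/k'(x')` with integral generator multiplies the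
integral closure of `k'[x']` into `k'[x', y']` -/
theorem discr_mul_mem {x' : L} (hx' : Transcendental k' x') (B : PowerBasis k'⟮x'⟯ L)
    (hD : Algebra.discr k'⟮x'⟯ B.basis ≠ 0)
    (hint : IsIntegral (Algebra.adjoin k' {x'}) B.gen) {z : L}
    (hz : IsIntegral (Algebra.adjoin k' {x'}) z) :
    ((Algebra.discr k'⟮x'⟯ B.basis : k'⟮x'⟯) : L) * z ∈ Algebra.adjoin k' {x', B.gen} := by
  classical
  have : FiniteDimensional k'⟮x'⟯ L := B.finite
  have : IsIntegrallyClosed (Algebra.adjoin k' {x'}) := isIntegrallyClosed_adjoin hx'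
  have : Algebra.IsSeparable k'⟮x'⟯ L := by
    have h1 : (Algebra.traceForm k'⟮x'⟯ L).Nondegenerate := by
      apply LinearMap.BilinForm.nondegenerate_of_det_ne_zero (Algebra.traceForm k'⟮x'⟯ L) B.basis
      rw [← Algebra.traceMatrix_of_basis, ← Algebra.discr_def]
      exact hD
    exact ((traceForm_nondegenerate_tfae k'⟮x'⟯ L).out 0 2).mpr h1
  have h1 := Algebra.discr_mul_isIntegral_mem_adjoin k'⟮x'⟯ hint hz
  rw [Algebra.smul_def] at h1
  have h2 : ∀ w ∈ Algebra.adjoin (Algebra.adjoin k' {x'}) ({B.gen} : Set L),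
      w ∈ Algebra.adjoin k' {x', B.gen} := by
    intro w hw
    induction hw using Algebra.adjoin_induction with
    | mem y hy =>
      rw [Set.mem_singleton_iff] at hy
      rw [hy]
      exact Algebra.subset_adjoin (by simp)
    | algebraMap r =>
      have : Algebra.adjoin k' {x'} ≤ Algebra.adjoin k' {x', B.gen} :=
        Algebra.adjoin_mono (by simp)
      exact this r.2
    | add y z _ _ hy hz => exact Subalgebra.add_mem _ hy hz
    | mul y z _ _ hy hz => exact Subalgebra.mul_mem _ hy hz
  exact h2 _ h1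

end clean

section clearing

variable {k K L : Type*} [Field k] [Field K] [Field L] [Algebra k K] [Algebra K L] [Algebra k L]
  [IsScalarTower k K L]

/-- clearing the finite poles of `z` away from `P` by a `P`-unit of `K` -/
theorem exists_clearing [FiniteDimensional K L] (hK : IsFunctionField k K) {x : K}
    (hx : Transcendental k x) (P : Place k K) (hPx : P.1 x ≤ 1) (z : L)
    (hz : ∀ Q : Place k L, IsOver Q P → Q.1 z ≤ 1) :
    ∃ s : K, P.1 s = 1 ∧
      ∀ Q : Place k L, Q.1 (algebraMap K L x) ≤ 1 → Q.1 (algebraMap K L s * z) ≤ 1 := by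
  classical
  have halg : Algebra.IsAlgebraic K L := Algebra.IsAlgebraic.of_finite K L
  have hL : W.IsWeakFF k L := W.weak_of_finite hK.weak
  by_cases hz0 : z = 0
  · refine ⟨1, map_one _, fun Q _ => ?_⟩
    rw [hz0, mul_zero, map_zero]
    exact zero_le
  obtain ⟨Pinf, hPinf⟩ := exists_pole hK hx
  have hPne : P ≠ Pinf := by
    rintro rfl
    exact absurd hPx (not_le.mpr hPinf)
  set T : Finset (Place k L) := (W.Place.finite_poles hL hz0).toFinset with hT
  have hTmem : ∀ Q, Q ∈ T ↔ 1 < Q.1 z := by
    intro Q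
    rw [hT, Set.Finite.mem_toFinset]
    rfl
  choose under hunder using fun Q : Place k L => exists_place_under (K := K) hK Q
  choose eu heu using hunder
  obtain ⟨N, hN⟩ := H62.FFNSTower.exists_bound T z
  set S : Finset (Place k K) := (insert P (T.image under)).erase Pinf with hS
  have hPS : P ∈ S := by
    rw [hS, Finset.mem_erase]
    exact ⟨hPne, Finset.mem_insert_self _ _⟩
  have hinfS : Pinf ∉ S := by
    rw [hS]
    exact Finset.notMem_erase _ _
  obtain ⟨s, hs1, hs2⟩ := strong_approx hK Pinf S hinfS (fun P' => if P' = P then 1 else 0)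
    (fun P' => if P' = P then 1 else (N : ℤ))
  have hsP : P.1 s = 1 := by
    have h1 := hs1 P hPS
    simp only [if_true] at h1
    have h2 : P.1 (s - 1) < P.1 1 := by
      rw [h1, map_one]
      exact Place.exp_neg_one_lt_one
    have h3 : s = 1 + (s - 1) := by ring
    rw [h3, Valuation.map_add_eq_of_lt_left _ h2, map_one]
  have hsle : ∀ P' : Place k K, P' ≠ Pinf → P'.1 s ≤ 1 := by
    intro P' hP'
    by_cases hP'S : P' ∈ S
    · by_cases hP'P : P' = P
      · rw [hP'P, hsP]
      · have h1 := hs1 P' hP'S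
        simp only [if_neg hP'P, sub_zero] at h1
        rw [h1, ← exp_zero, exp_le_exp]
        omega
    · exact hs2 P' hP' hP'S
  refine ⟨s, hsP, fun Q hQx => ?_⟩
  have he := heu Q
  have he0 : 0 < eu Q := isOverWith_pos he
  have hux : (under Q).1 x ≤ 1 := by
    have h1 := he x
    rw [h1] at hQx
    exact (pow_le_one_iff_of_nonneg zero_le he0.ne').mp hQx
  have huinf : under Q ≠ Pinf := by
    intro h
    rw [h] at hux
    exact absurd hux (not_le.mpr hPinf)
  rw [map_mul, he s]
  by_cases huP : under Q = P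
  · rw [huP, hsP, one_pow, one_mul]
    exact hz Q ⟨eu Q, huP ▸ he⟩
  · by_cases hQT : Q ∈ T
    · have huS : under Q ∈ S := by
        rw [hS, Finset.mem_erase]
        exact ⟨huinf, Finset.mem_insert_of_mem (Finset.mem_image_of_mem _ hQT)⟩
      have h1 := hs1 (under Q) huS
      simp only [if_neg huP, sub_zero] at h1
      rw [h1]
      calc exp (-(N : ℤ)) ^ eu Q * Q.1 z ≤ exp (-(N : ℤ)) * exp (N : ℤ) := by
            apply mul_le_mul' _ (hN Q hQT)
            calc exp (-(N : ℤ)) ^ eu Q ≤ exp (-(N : ℤ)) ^ 1 :=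
                  pow_le_pow_right_of_le_one' (by rw [← exp_zero, exp_le_exp]; omega) he0
              _ = exp (-(N : ℤ)) := pow_one _
        _ = 1 := by rw [← exp_add]; simp
    · have h1 : Q.1 z ≤ 1 := by
        rw [hTmem] at hQT
        exact not_lt.mp hQT
      exact mul_le_one' (pow_le_one₀ zero_le (hsle _ huinf)) h1

end clearing

section pb
open scoped IntermediateField.algebraAdjoinAdjoin
variable {k K : Type*} [Field k] [Field K] [Algebra k K]

/-- a power basis of `K/k(x)` whose generator is integral over `k[x]` -/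
theorem exists_integral_powerBasis (x : K) [FiniteDimensional k⟮x⟯ K]
    [Algebra.IsSeparable k⟮x⟯ K] :
    ∃ pb : PowerBasis k⟮x⟯ K, IsIntegral (Algebra.adjoin k {x}) pb.gen := by
  obtain ⟨y₀, hy₀⟩ := Field.exists_primitive_element k⟮x⟯ K
  have halg : IsAlgebraic k⟮x⟯ y₀ := Algebra.IsAlgebraic.isAlgebraic y₀
  have halg' : IsAlgebraic (Algebra.adjoin k {x}) y₀ :=
    (IsFractionRing.isAlgebraic_iff (Algebra.adjoin k {x}) k⟮x⟯ K).mpr halg
  obtain ⟨a, ha0, ha⟩ := halg'.exists_integral_multiple
  set y := a • y₀ with hy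
  have hyK : IsIntegral k⟮x⟯ y := Algebra.IsIntegral.isIntegral y
  have ha' : ((a : K)) ≠ 0 := fun h => ha0 (Subtype.ext h)
  have hy₀mem : y₀ ∈ k⟮x⟯⟮y⟯ := by
    have h1 : y₀ = (a : K)⁻¹ * y := by
      rw [hy, Algebra.smul_def]
      show y₀ = (a : K)⁻¹ * ((a : K) * y₀)
      rw [← mul_assoc, inv_mul_cancel₀ ha', one_mul]
    rw [h1]
    apply mul_mem
    · apply inv_mem
      exact IntermediateField.algebraMap_mem _
        (⟨(a : K), algebra_adjoin_le_adjoin k _ a.2⟩ : k⟮x⟯)
    · exact mem_adjoin_simple_self _ y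
  have htop : k⟮x⟯⟮y⟯ = ⊤ := by
    rw [eq_top_iff, ← hy₀]
    exact adjoin_le_iff.mpr (by rintro _ rfl; exact hy₀mem)
  have htop' : Algebra.adjoin k⟮x⟯ {y} = ⊤ := by
    rw [← IntermediateField.adjoin_simple_toSubalgebra_of_isAlgebraic hyK.isAlgebraic, htop]
    rfl
  refine ⟨PowerBasis.ofAdjoinEqTop hyK htop', ?_⟩
  rw [PowerBasis.ofAdjoinEqTop_gen]
  exact ha

end pb

section main

variable {k k' K L : Type*} [Field k] [Field k'] [Field K] [Field L]
  [Algebra k k'] [Algebra k K] [Algebra K L] [Algebra k' L] [Algebra k L]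
  [IsScalarTower k k' L] [IsScalarTower k K L]

theorem adjoin_le_O (P : Place k K) {S : Set K} (hS : ∀ a ∈ S, P.1 a ≤ 1) {a : K}
    (ha : a ∈ Algebra.adjoin k S) : P.1 a ≤ 1 := by
  induction ha using Algebra.adjoin_induction with
  | mem y hy => exact hS y hy
  | algebraMap r => exact P.2.1 r
  | add y z _ _ hy hz => exact (P.1.map_add y z).trans (max_le hy hz)
  | mul y z _ _ hy hz => rw [map_mul]; exact mul_le_one' hy hz

theorem isIntegral_map {x y : K} (hy : IsIntegral (Algebra.adjoin k {x}) y) :
    IsIntegral (Algebra.adjoin k' {algebraMap K L x}) (algebraMap K L y) := by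
  have hmem' : ∀ a : K, a ∈ Algebra.adjoin k {x} → algebraMap K L a ∈
      Algebra.adjoin k' {algebraMap K L x} := by
    intro a ha
    induction ha using Algebra.adjoin_induction with
    | mem y hy =>
      rw [Set.mem_singleton_iff] at hy
      rw [hy]
      exact Algebra.self_mem_adjoin_singleton k' _
    | algebraMap r =>
      rw [← IsScalarTower.algebraMap_apply k K L, IsScalarTower.algebraMap_apply k k' L]
      exact Subalgebra.algebraMap_mem _ _
    | add y z _ _ hy hz => rw [map_add]; exact Subalgebra.add_mem _ hy hz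
    | mul y z _ _ hy hz => rw [map_mul]; exact Subalgebra.mul_mem _ hy hz
  let ψ : Algebra.adjoin k {x} →+* Algebra.adjoin k' {algebraMap K L x} :=
    ((algebraMap K L).comp (algebraMap (Algebra.adjoin k {x}) K)).codRestrict
      (Algebra.adjoin k' {algebraMap K L x}) (fun a => hmem' a.1 a.2)
  obtain ⟨p, hp, hpy⟩ := hy
  refine ⟨p.map ψ, hp.map ψ, ?_⟩
  rw [Polynomial.eval₂_map]
  have h1 : (algebraMap (Algebra.adjoin k' {algebraMap K L x}) L).comp ψ =
      (algebraMap K L).comp (algebraMap (Algebra.adjoin k {x}) K) := by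
    ext a
    rfl
  rw [h1, ← Polynomial.hom_eval₂, hpy, map_zero]

/-- at a place where `x` is regular and the discriminant is a unit, integral elements of `k'K`
have coordinates in `O_P` -/
theorem coord_mem_of_good [Algebra.IsAlgebraic k k']
    (hK : IsFunctionField k K) {x : K} (hx : Transcendental k x)
    (pb : PowerBasis k⟮x⟯ K) (hD : Algebra.discr k⟮x⟯ pb.basis ≠ 0)
    (hy : IsIntegral (Algebra.adjoin k {x}) pb.gen)
    (P : Place k K) (hPx : P.1 x ≤ 1)
    (hPD : P.1 ((Algebra.discr k⟮x⟯ pb.basis : k⟮x⟯) : K) = 1)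
    {ι : Type*} [Fintype ι] (c : Basis ι k k') (bL : Basis ι K L)
    (hbL : ∀ i, bL i = algebraMap k' L (c i))
    {z : L} (hz : z ∈ integralClosure (P.O.toSubring.map (algebraMap K L)) L) (j : ι) :
    P.1 (bL.repr z j) ≤ 1 := by
  classical
  have hfin : FiniteDimensional K L := Module.Finite.of_basis bL
  have hL : W.IsWeakFF k L := W.weak_of_finite hK.weak
  have hzQ : ∀ Q : Place k L, IsOver Q P → Q.1 z ≤ 1 := fun Q ⟨e, he⟩ =>
    H62.FFNSTower.val_le_one_of_mem_integralClosure P he hz
  obtain ⟨s, hsP, hs⟩ := exists_clearing hK hx P hPx z hzQ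
  set x' := algebraMap K L x with hx'
  have hsz : IsIntegral (Algebra.adjoin k' {x'}) (algebraMap K L s * z) :=
    isIntegral_adjoin_of_places' hL hs
  obtain ⟨b', hb'⟩ := NSDiscr1.exists_basis_map c bL hbL x pb.basis
  let B : PowerBasis k'⟮x'⟯ L :=
    { gen := algebraMap K L pb.gen
      dim := pb.dim
      basis := b'
      basis_eq_pow := fun i => by rw [hb', pb.basis_eq_pow, map_pow] }
  have hdiscr : Algebra.discr k'⟮x'⟯ B.basis =
      NSDiscr1.phi (k' := k') (L := L) x (Algebra.discr k⟮x⟯ pb.basis) :=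
    NSDiscr1.discr_map (NSDiscr1.phi x) (algebraMap K L) (NSDiscr1.phi_smul x) pb.basis b' hb'
  have hD' : Algebra.discr k'⟮x'⟯ B.basis ≠ 0 := by
    rw [hdiscr]
    exact (_root_.map_ne_zero _).mpr hD
  have hx'tr : Transcendental k' x' := by
    intro halg
    have h1 : IsAlgebraic k x' := halg.restrictScalars k
    exact (transcendental_algebraMap_iff (algebraMap K L).injective).mpr hx h1
  have hyint : IsIntegral (Algebra.adjoin k' {x'}) B.gen := isIntegral_map hy
  have h1 := discr_mul_mem hx'tr B hD' hyint hsz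
  rw [hdiscr, NSDiscr1.phi_coe] at h1
  set d : K := ((Algebra.discr k⟮x⟯ pb.basis : k⟮x⟯) : K) with hd
  have h2 : ({x', B.gen} : Set L) = algebraMap K L '' {x, pb.gen} := by
    rw [Set.image_pair]
  rw [h2] at h1
  have h3 := NSDiscr1.repr_mem_of_mem_adjoin c bL hbL {x, pb.gen} h1 j
  have h4 : algebraMap K L d * (algebraMap K L s * z) = (d * s) • z := by
    rw [Algebra.smul_def, map_mul, mul_assoc]
  rw [h4, map_smul, Finsupp.smul_apply, smul_eq_mul] at h3
  have hgen : P.1 pb.gen ≤ 1 :=
    val_le_one_of_isIntegral P.1 (fun r => adjoin_le_O P (S := {x})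
      (by intro a ha; rw [Set.mem_singleton_iff] at ha; rw [ha]; exact hPx) r.2) hy
  have h5 : P.1 (d * s * bL.repr z j) ≤ 1 := by
    apply adjoin_le_O P _ h3
    intro a ha
    rcases ha with rfl | ha
    · exact hPx
    · rw [Set.mem_singleton_iff] at ha
      rw [ha]
      exact hgen
  rwa [map_mul, map_mul, hPD, hsP, one_mul, one_mul] at h5

end main

end Groth.Agent.H63.NSDiscr2
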