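import Groth.Agent.H63.NSDiscr2

/-!
# Finiteness of the singular places of a geometric function field: the global statement
-/

set_option autoImplicit false
set_option linter.unusedSectionVars false

open FunFld WithZero Module IntermediateField Polynomial Groth.Agent.H55
open scoped TensorProduct

namespace Groth.Agent.H63.NSDiscr3

universe u v u₁ u₂

variable {k : Type u} {K : Type v} [Field k] [Field K] [Algebra k K]

/-- outside a finite set of places, `O_P ⊗ k'` is integrally closed for every finite `k'/k` -/
theorem exists_finite_bad (hK : IsFunctionField k K) (hg : IsGeometric k K) :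
    ∃ S : Set (Place k K), S.Finite ∧ ∀ P : Place k K, P ∉ S →
      ∀ (k' : Type u₁) (L : Type u₂) [Field k'] [Field L] [Algebra k k'] [Algebra K L]
        [Algebra k' L] [Algebra k L] [IsScalarTower k k' L] [IsScalarTower k K L]
        [FiniteDimensional k k'],
        Function.Bijective (Algebra.TensorProduct.productMap
          (IsScalarTower.toAlgHom k k' L) (IsScalarTower.toAlgHom k K L)) →
        integralClosure (P.O.toSubring.map (algebraMap K L)) L =
          Algebra.adjoin (P.O.toSubring.map (algebraMap K L)) (Set.range (algebraMap k' L)) := by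
  classical
  obtain ⟨x, hx, hsep⟩ := exists_separating hK hg
  haveI hfd : FiniteDimensional k⟮x⟯ K := finiteDimensional_adjoin_of_transcendental hK hx
  obtain ⟨pb, hpb⟩ := NSDiscr2.exists_integral_powerBasis (k := k) x
  have hD : Algebra.discr k⟮x⟯ pb.basis ≠ 0 := Algebra.discr_not_zero_of_basis k⟮x⟯ pb.basis
  set d : K := ((Algebra.discr k⟮x⟯ pb.basis : k⟮x⟯) : K) with hd
  have hd0 : d ≠ 0 := fun h => hD (Subtype.ext h)
  have hx0 : x ≠ 0 := fun h => hx (h ▸ isAlgebraic_zero)
  refine ⟨{P | 1 < P.1 x} ∪ {P | P.1 d ≠ 1},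
    (Place.finite_poles hK hx0).union (H62.FFSepPlaces.finite_ne_one hK hd0), ?_⟩
  intro P hP k' L _ _ _ _ _ _ _ _ _ h
  have hPx : P.1 x ≤ 1 := not_lt.mp fun h1 => hP (Or.inl h1)
  have hPd : P.1 d = 1 := by
    by_contra h1
    exact hP (Or.inr h1)
  set c := Module.finBasis k k' with hc
  obtain ⟨bL, hbL⟩ := H62.FFNSTower.exists_basis_of_basis c h
  have hO : ∀ a : k, algebraMap k K a ∈ P.O.toSubring := fun a =>
    (Valuation.mem_valuationSubring_iff P.1 _).mpr (P.2.1 a)
  apply (H62.FFNSTower.eq_iff_coord c bL hbL P.O.toSubring hO).mpr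
  intro z hz i
  exact (Valuation.mem_valuationSubring_iff P.1 _).mpr
    (NSDiscr2.coord_mem_of_good hK hx pb hD hpb P hPx hPd c bL hbL hz i)

end Groth.Agent.H63.NSDiscr3
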