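import Mathlib

set_option autoImplicit false
set_option linter.style.haveILetI false
open Module IntermediateField Polynomial

namespace Groth.Agent.H63.NSField

universe u

/-- every finite extension `k''/k` embeds in a finite extension `M/k` which is separable over a
finite purely inseparable extension `k₃/k` -/
theorem exists_pi_sep (k k'' : Type u) [Field k] [Field k''] [Algebra k k'']
    [FiniteDimensional k k''] :
    ∃ (k₃ M : Type u) (_ : Field k₃) (_ : Field M) (_ : Algebra k k₃) (_ : Algebra k₃ M)
      (_ : Algebra k M) (_ : Algebra k'' M) (_ : IsScalarTower k k₃ M)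
      (_ : IsScalarTower k k'' M),
      FiniteDimensional k k₃ ∧ IsPurelyInseparable k k₃ ∧ FiniteDimensional k₃ M ∧
        Algebra.IsSeparable k₃ M := by
  classical
  let Ω := AlgebraicClosure k''
  haveI : Algebra.IsAlgebraic k Ω := Algebra.IsAlgebraic.trans k k'' Ω
  let T : IntermediateField k Ω := perfectClosure k Ω
  haveI : PerfectField T := perfectClosure.perfectField k Ω
  haveI : Algebra.IsAlgebraic T Ω := Algebra.IsAlgebraic.tower_top (K := k) T
  haveI : Algebra.IsSeparable T Ω := Algebra.IsAlgebraic.isSeparable_of_perfectField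
  let b := Module.finBasis k k''
  let α : Fin (finrank k k'') → Ω := fun i => algebraMap k'' Ω (b i)
  let f : Fin (finrank k k'') → T[X] := fun i => minpoly T (α i)
  have hfsep : ∀ i, (f i).Separable := fun i => Algebra.IsSeparable.isSeparable T (α i)
  let C : Finset Ω := Finset.univ.biUnion (fun i => (f i).coeffs.image (algebraMap T Ω))
  let k₃ : IntermediateField k Ω := IntermediateField.adjoin k (C : Set Ω)
  have hk₃T : k₃ ≤ T := by
    apply adjoin_le_iff.mpr
    intro x hx
    obtain ⟨i, -, hx⟩ := Finset.mem_biUnion.mp hx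
    obtain ⟨c, -, rfl⟩ := Finset.mem_image.mp hx
    exact c.2
  haveI hfin₃ : FiniteDimensional k k₃ :=
    IntermediateField.finiteDimensional_adjoin (fun x _ => Algebra.IsIntegral.isIntegral x)
  haveI hpi : IsPurelyInseparable k k₃ := (le_perfectClosure_iff k Ω k₃).mp hk₃T
  let M : IntermediateField k₃ Ω := IntermediateField.adjoin k₃ (Set.range α)
  haveI hfinM : FiniteDimensional k₃ M :=
    IntermediateField.finiteDimensional_adjoin (fun x _ => Algebra.IsIntegral.isIntegral x)
  have hsepα : ∀ i, IsSeparable k₃ (α i) := by
    intro i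
    have hlift : (f i).map (algebraMap T Ω) ∈ Polynomial.lifts (algebraMap k₃ Ω) := by
      rw [Polynomial.lifts_iff_coeff_lifts]
      intro n
      rw [Polynomial.coeff_map]
      by_cases h0 : (f i).coeff n = 0
      · rw [h0, map_zero]
        exact ⟨0, map_zero _⟩
      · have hmem : algebraMap T Ω ((f i).coeff n) ∈ k₃ := by
          apply IntermediateField.subset_adjoin
          apply Finset.mem_biUnion.mpr
          exact ⟨i, Finset.mem_univ _, Finset.mem_image_of_mem _ (Polynomial.coeff_mem_coeffs h0)⟩
        exact ⟨⟨_, hmem⟩, rfl⟩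
    obtain ⟨g, hg⟩ := (Polynomial.mem_lifts _).mp hlift
    have hgsep : g.Separable := by
      rw [← Polynomial.separable_map (algebraMap k₃ Ω), hg]
      exact (hfsep i).map
    have hgα : aeval (α i) g = 0 := by
      rw [Polynomial.aeval_def, ← Polynomial.eval_map, hg, Polynomial.eval_map,
        ← Polynomial.aeval_def]
      exact minpoly.aeval T (α i)
    exact hgsep.of_dvd (minpoly.dvd k₃ (α i) hgα)
  haveI hsepM : Algebra.IsSeparable k₃ M :=
    (IntermediateField.isSeparable_adjoin_iff_isSeparable k₃ Ω).mpr (by
      rintro _ ⟨i, rfl⟩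
      exact hsepα i)
  have hrange : ∀ x : k'', algebraMap k'' Ω x ∈ M := by
    intro x
    have h1 : x = ∑ i, b.repr x i • b i := (b.sum_repr x).symm
    rw [h1, map_sum]
    apply sum_mem
    intro i _
    rw [Algebra.smul_def, map_mul]
    apply mul_mem
    · rw [← IsScalarTower.algebraMap_apply k k'' Ω]
      have : algebraMap k Ω (b.repr x i) = algebraMap k₃ Ω (algebraMap k k₃ (b.repr x i)) := rfl
      rw [this]
      exact M.algebraMap_mem _
    · exact IntermediateField.subset_adjoin _ _ ⟨i, rfl⟩
  letI : Algebra k'' M := ((algebraMap k'' Ω).codRestrict M.toSubfield hrange).toAlgebra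
  haveI : IsScalarTower k k'' M := IsScalarTower.of_algebraMap_eq (fun c => by
    apply Subtype.ext
    rfl)
  exact ⟨k₃, M, inferInstance, inferInstance, inferInstance, inferInstance, inferInstance,
    inferInstance, inferInstance, inferInstance, hfin₃, hpi, hfinM, hsepM⟩

end Groth.Agent.H63.NSField
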