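import Groth.Agent.H63.NSDiscr1
import Groth.Agent.H62.FFNSTower3

set_option autoImplicit false
set_option linter.unusedSectionVars false
set_option linter.style.haveILetI false

open Module

namespace Groth.Agent.H63.NSSep

section trace

variable {F F' : Type*} [Field F] [Field F'] [Algebra F F'] [FiniteDimensional F F']

/-- coordinates of integral elements w.r.t. an integral basis of unit discriminant -/
theorem repr_mem_of_isIntegral (O : Subring F) (hO : ∀ x : F, IsIntegral O x → x ∈ O)
    {ι : Type*} [Fintype ι] [DecidableEq ι] (b : Basis ι F F') (hb : ∀ i, IsIntegral O (b i))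
    (d : F) (hd : d ∈ O) (hdd : d * Algebra.discr F b = 1)
    {z : F'} (hz : IsIntegral O z) (j : ι) : b.repr z j ∈ O := by
  set T : Matrix ι ι F := Algebra.traceMatrix F b with hT
  have hTmem : ∀ i j, T i j ∈ O := by
    intro i j
    rw [hT, Algebra.traceMatrix_apply, Algebra.traceForm_apply]
    exact hO _ (Algebra.isIntegral_trace ((hb i).mul (hb j)))
  set v : ι → F := fun i => Algebra.trace F F' (b i * z) with hv
  have hvmem : ∀ i, v i ∈ O := fun i => hO _ (Algebra.isIntegral_trace ((hb i).mul hz))
  have h1 : T.mulVec (b.repr z) = v := by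
    ext i
    rw [hv]
    simp only [Matrix.mulVec, dotProduct]
    conv_rhs => rw [← b.sum_repr z, Finset.mul_sum, map_sum]
    apply Finset.sum_congr rfl
    intro l _
    rw [hT, Algebra.traceMatrix_apply, Algebra.traceForm_apply, mul_smul_comm, map_smul,
      smul_eq_mul, mul_comm]
  let T₀ : Matrix ι ι O := fun i j => ⟨T i j, hTmem i j⟩
  have hT₀ : O.subtype.mapMatrix T₀ = T := by
    ext i j
    rfl
  have hadj : ∀ i j, T.adjugate i j ∈ O := by
    intro i j
    rw [← hT₀, ← RingHom.map_adjugate]
    exact (T₀.adjugate i j).2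
  have h2 : b.repr z = d • T.adjugate.mulVec v := by
    rw [← h1, Matrix.mulVec_mulVec, Matrix.adjugate_mul, Matrix.smul_mulVec, Matrix.one_mulVec,
      smul_smul, ← Algebra.discr_def, hdd, one_smul]
  have h3 : b.repr z j = d * ∑ i, T.adjugate j i * v i := by
    rw [h2]
    rfl
  rw [h3]
  exact O.mul_mem hd (O.sum_mem fun i _ => O.mul_mem (hadj j i) (hvmem i))

end trace

section lift

variable {K L : Type*} [Field K] [Field L] [Algebra K L]

theorem isIntegral_of_mem_integralClosure_map (O : Subring K) {z : L}
    (hz : z ∈ integralClosure (O.map (algebraMap K L)) L) : IsIntegral O z := by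
  obtain ⟨p, hp, hpz⟩ := hz
  let g : O →+* O.map (algebraMap K L) :=
    ((algebraMap K L).comp O.subtype).codRestrict _ (fun a => ⟨a, a.2, rfl⟩)
  have hg : Function.Surjective g := by
    rintro ⟨_, a, ha, rfl⟩
    exact ⟨⟨a, ha⟩, rfl⟩
  obtain ⟨q, rfl⟩ := Polynomial.map_surjective g hg p
  obtain ⟨q', hq', -, hq'm⟩ := Polynomial.lifts_and_natDegree_eq_and_monic
    ((Polynomial.mem_lifts _).mpr ⟨q, rfl⟩) hp
  refine ⟨q', hq'm, ?_⟩
  rw [← hq', Polynomial.eval₂_map] at hpz
  exact hpz

end lift

section sepStep

variable {k k' K L : Type*} [Field k] [Field k'] [Field K] [Field L]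
  [Algebra k k'] [Algebra k K] [Algebra K L] [Algebra k' L] [Algebra k L]
  [IsScalarTower k k' L] [IsScalarTower k K L]
  [FiniteDimensional k k'] [Algebra.IsSeparable k k']

theorem coord_mem_of_isSeparable (O : Subring K) (hO : ∀ x : K, IsIntegral O x → x ∈ O)
    (hOk : ∀ a : k, algebraMap k K a ∈ O)
    {ι : Type*} [Fintype ι] (c : Basis ι k k') (bL : Basis ι K L)
    (hbL : ∀ i, bL i = algebraMap k' L (c i))
    {z : L} (hz : z ∈ integralClosure (O.map (algebraMap K L)) L) (j : ι) :
    bL.repr z j ∈ O := by
  classical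
  haveI : FiniteDimensional K L := Module.Finite.of_basis bL
  have hφι : ∀ (a : k) (u : k'), algebraMap k' L (a • u) = algebraMap k K a • algebraMap k' L u := by
    intro a u
    rw [Algebra.smul_def, map_mul, ← IsScalarTower.algebraMap_apply k k' L,
      IsScalarTower.algebraMap_apply k K L, Algebra.smul_def]
  have hdiscr : Algebra.discr K bL = algebraMap k K (Algebra.discr k c) :=
    NSDiscr1.discr_map (algebraMap k K) (algebraMap k' L) hφι c bL hbL
  have hne : Algebra.discr k c ≠ 0 := Algebra.discr_not_zero_of_basis k c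
  have hbint : ∀ i, IsIntegral O (bL i) := by
    intro i
    rw [hbL]
    obtain ⟨p, hp, hpc⟩ := Algebra.IsIntegral.isIntegral (R := k) (c i)
    let φ : k →+* O := (algebraMap k K).codRestrict O hOk
    refine ⟨p.map φ, hp.map φ, ?_⟩
    rw [Polynomial.eval₂_map]
    have h1 : (algebraMap O L).comp φ = (algebraMap k' L).comp (algebraMap k k') := by
      ext a
      show algebraMap K L (algebraMap k K a) = algebraMap k' L (algebraMap k k' a)
      rw [← IsScalarTower.algebraMap_apply, ← IsScalarTower.algebraMap_apply]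
    rw [h1, ← Polynomial.hom_eval₂, hpc, map_zero]
  refine repr_mem_of_isIntegral O hO bL hbint (algebraMap k K (Algebra.discr k c)⁻¹) (hOk _) ?_
    (isIntegral_of_mem_integralClosure_map O hz) j
  rw [hdiscr, ← map_mul, inv_mul_cancel₀ hne, map_one]

end sepStep

end Groth.Agent.H63.NSSep
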