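import Groth.Agent.H63.NSModel
import Groth.Agent.H63.NSField
import Groth.Agent.H63.NSSep
import Groth.Agent.H55.IntCl1

set_option autoImplicit false
set_option linter.unusedSectionVars false
set_option linter.style.haveILetI false

open FunFld WithZero Module IntermediateField Groth.Agent.H55
open scoped TensorProduct

namespace Groth.Agent.H63.NSDrop

section sep

variable {k k' K L : Type*} [Field k] [Field k'] [Field K] [Field L]
  [Algebra k k'] [Algebra k K] [Algebra K L] [Algebra k' L] [Algebra k L]
  [IsScalarTower k k' L] [IsScalarTower k K L]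
  [FiniteDimensional k k'] [Algebra.IsSeparable k k']

/-- valuation rings containing the constants are nonsingular with respect to finite separable
constant field extensions -/
theorem nonsingular_of_isSeparable {Γ : Type*} [LinearOrderedCommGroupWithZero Γ]
    (v : Valuation K Γ) (hv : ∀ a : k, v (algebraMap k K a) ≤ 1)
    (h : Function.Bijective (Algebra.TensorProduct.productMap
      (IsScalarTower.toAlgHom k k' L) (IsScalarTower.toAlgHom k K L))) :
    integralClosure (v.valuationSubring.toSubring.map (algebraMap K L)) L =
      Algebra.adjoin (v.valuationSubring.toSubring.map (algebraMap K L))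
        (Set.range (algebraMap k' L)) := by
  classical
  set c := Module.finBasis k k'
  obtain ⟨b, hb⟩ := H62.FFNSTower.exists_basis_of_basis (K := K) (L := L) c h
  have hO : ∀ a : k, algebraMap k K a ∈ v.valuationSubring.toSubring := hv
  refine (H62.FFNSTower.eq_iff_coord c b hb v.valuationSubring.toSubring hO).mpr ?_
  intro z hz i
  refine NSSep.coord_mem_of_isSeparable v.valuationSubring.toSubring ?_ hO c b hb hz i
  intro x hx
  exact val_le_one_of_isIntegral v (fun r => r.2) hx

end sep

section lemmaY

universe u v w

variable {k : Type u} {K : Type v} [Field k] [Field K] [Algebra k K]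

/-- a place which is singular with respect to some finite constant field extension is singular
with respect to a finite purely inseparable one -/
theorem exists_pi_singular (hK : IsFunctionField k K) (hg : IsGeometric k K) (Q : Place k K)
    (k'' : Type u) [Field k''] [Algebra k k''] [FiniteDimensional k k'']
    (K'' : Type w) [Field K''] [Algebra K K''] [Algebra k'' K''] [Algebra k K'']
    [IsScalarTower k k'' K''] [IsScalarTower k K K'']
    (h'' : Function.Bijective (Algebra.TensorProduct.productMap
      (IsScalarTower.toAlgHom k k'' K'') (IsScalarTower.toAlgHom k K K'')))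
    (hsing : integralClosure (Q.O.toSubring.map (algebraMap K K'')) K'' ≠
      Algebra.adjoin (Q.O.toSubring.map (algebraMap K K'')) (Set.range (algebraMap k'' K''))) :
    ∃ (k₃ : Type u) (_ : Field k₃) (_ : Algebra k k₃) (K₃ : Type (max u v)) (_ : Field K₃)
      (_ : Algebra K K₃) (_ : Algebra k₃ K₃) (_ : Algebra k K₃) (_ : IsScalarTower k k₃ K₃)
      (_ : IsScalarTower k K K₃),
      FiniteDimensional k k₃ ∧ IsPurelyInseparable k k₃ ∧
      Function.Bijective (Algebra.TensorProduct.productMap
        (IsScalarTower.toAlgHom k k₃ K₃) (IsScalarTower.toAlgHom k K K₃)) ∧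
      integralClosure (Q.O.toSubring.map (algebraMap K K₃)) K₃ ≠
        Algebra.adjoin (Q.O.toSubring.map (algebraMap K K₃)) (Set.range (algebraMap k₃ K₃)) := by
  obtain ⟨k₃, M, _, _, _, _, _, _, _, _, hfin₃, hpi, hfinM, hsepM⟩ := NSField.exists_pi_sep k k''
  haveI : FiniteDimensional k M := Module.Finite.trans k₃ M
  haveI : FiniteDimensional k'' M := FiniteDimensional.right k k'' M
  obtain ⟨K₃, _, _, _, _, _, _, h₃⟩ := NSModel.exists_model hg k₃
  obtain ⟨KM, _, _, _, _, _, _, hM⟩ := NSModel.exists_model hg M
  letI : Algebra k₃ KM := ((algebraMap M KM).comp (algebraMap k₃ M)).toAlgebra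
  haveI : IsScalarTower k₃ M KM := IsScalarTower.of_algebraMap_eq (fun _ => rfl)
  letI : Algebra k'' KM := ((algebraMap M KM).comp (algebraMap k'' M)).toAlgebra
  haveI : IsScalarTower k'' M KM := IsScalarTower.of_algebraMap_eq (fun _ => rfl)
  obtain ⟨_, _, _, _, h₃M⟩ := NSModel.exists_algebra_model (E₁ := k₃) (E₂ := M) (L₁ := K₃)
    (L₂ := KM) hg h₃ hM
  obtain ⟨_, _, _, _, h''M⟩ := NSModel.exists_algebra_model (E₁ := k'') (E₂ := M) (L₁ := K'')
    (L₂ := KM) hg h'' hM
  refine ⟨k₃, inferInstance, inferInstance, K₃, inferInstance, inferInstance, inferInstance,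
    inferInstance, inferInstance, inferInstance, hfin₃, hpi, h₃, ?_⟩
  intro hns
  have hA := H62.FFNSTower.tower_iff (k := k) (k' := k'') (k'' := M) (K := K) (K' := K'')
    (K'' := KM) h'' h''M hK Q
  have hB := H62.FFNSTower.tower_iff (k := k) (k' := k₃) (k'' := M) (K := K) (K' := K₃)
    (K'' := KM) h₃ h₃M hK Q
  apply hsing
  refine (hA.mp (hB.mpr ⟨hns, ?_⟩)).1
  intro R _
  refine nonsingular_of_isSeparable (k := k₃) (k' := M) (K := K₃) (L := KM) R.1 ?_ h₃M
  intro a
  apply H62.FFConstField.val_le_one_of_isAlgebraic R
  exact (Algebra.IsAlgebraic.isAlgebraic (R := k) a).algebraMap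

end lemmaY

end Groth.Agent.H63.NSDrop
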