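import Groth.Agent.H62.FFNSTower3
import Groth.Agent.H62.FFConormL
import Groth.Agent.H62.FFSepPlaces1
import Groth.Agent.H55.Geom2
import Groth.Agent.H55.FFRiemannRoch

/-!
# Genus and constant field extensions: transfer of places and divisors
-/

set_option autoImplicit false
set_option linter.unusedSectionVars false
set_option linter.style.haveILetI false

open FunFld WithZero Module IntermediateField Groth.Agent.H55
open scoped TensorProduct

namespace Groth.Agent.H63.NSGenus1

section transfer

variable {k k' K' : Type*} [Field k] [Field k'] [Field K']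
  [Algebra k k'] [Algebra k' K'] [Algebra k K'] [IsScalarTower k k' K']

/-- a place of `K'/k'` is a place of `K'/k` -/
def resPlace (Q : Place k' K') : Place k K' :=
  ⟨Q.1, fun c => by rw [IsScalarTower.algebraMap_apply k k' K']; exact Q.2.1 _, Q.2.2⟩

@[simp] theorem resPlace_val (Q : Place k' K') : (resPlace (k := k) Q).1 = Q.1 := rfl

theorem finrank_tower_aux (F : Type*) [AddCommGroup F] [Module k F] [Module k' F]
    [IsScalarTower k k' F] : finrank k F = finrank k k' * finrank k' F :=
  (Module.finrank_mul_finrank k k' F).symm

theorem deg_resPlace (Q : Place k' K') :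
    (resPlace (k := k) Q).deg = finrank k k' * Q.deg := by
  unfold Place.deg
  have htower : @IsScalarTower k k' (IsLocalRing.ResidueField Q.O) _
      (Place.algRes Q).toSMul (Place.algRes (resPlace (k := k) Q)).toSMul := by
    letI a1 : Algebra k (IsLocalRing.ResidueField Q.O) := Place.algRes (resPlace (k := k) Q)
    letI a2 : Algebra k' (IsLocalRing.ResidueField Q.O) := Place.algRes Q
    exact IsScalarTower.of_algebraMap_eq (fun c => by
      show IsLocalRing.residue _ (algebraMap k (resPlace (k := k) Q).O c) =
        IsLocalRing.residue _ (algebraMap k' Q.O (algebraMap k k' c))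
      congr 1
      apply Subtype.ext
      exact IsScalarTower.algebraMap_apply k k' K' c)
  exact @finrank_tower_aux k k' _ _ _ (IsLocalRing.ResidueField Q.O) _
    (Place.algRes (resPlace (k := k) Q)).toModule (Place.algRes Q).toModule htower

variable [Algebra.IsAlgebraic k k']

/-- places of `K'/k'` and of `K'/k` coincide -/
def placeEquiv : Place k' K' ≃ Place k K' where
  toFun := resPlace
  invFun := H62.FFConstField.extendConst k'
  left_inv _ := Subtype.ext rfl
  right_inv _ := Subtype.ext rfl

variable (k') in
/-- transfer of a divisor of `K'/k` to `K'/k'` -/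
noncomputable def liftDiv (D : Divisor k K') : Divisor k' K' :=
  Finsupp.equivMapDomain (placeEquiv (k := k) (k' := k') (K' := K')).symm D

theorem liftDiv_apply (D : Divisor k K') (Q : Place k' K') :
    liftDiv k' D Q = D (resPlace Q) := by
  unfold liftDiv
  rw [Finsupp.equivMapDomain_apply]
  rfl

theorem mem_L_liftDiv (D : Divisor k K') (z : K') : z ∈ L (liftDiv k' D) ↔ z ∈ L D := by
  rw [mem_L, mem_L]
  constructor
  · intro h P
    have := h (H62.FFConstField.extendConst k' P)
    rw [liftDiv_apply] at this
    exact this
  · intro h Q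
    rw [liftDiv_apply]
    exact h (resPlace Q)

theorem deg_liftDiv (D : Divisor k K') :
    D.deg = finrank k k' * (liftDiv k' D).deg := by
  unfold Divisor.deg liftDiv
  rw [Finsupp.sum_equivMapDomain, Finsupp.sum, Finsupp.sum, Finset.mul_sum]
  apply Finset.sum_congr rfl
  intro P _
  have h1 : P.deg = finrank k k' * ((placeEquiv (k := k) (k' := k') (K' := K')).symm P).deg := by
    have := deg_resPlace (k := k) ((placeEquiv (k := k) (k' := k') (K' := K')).symm P)
    rw [← this]
    congr 1
  rw [h1]
  push_cast
  ring

theorem ell_liftDiv (D : Divisor k K') :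
    ell D = finrank k k' * ell (liftDiv k' D) := by
  unfold ell
  rw [← finrank_tower_aux (k := k) (k' := k') (L (liftDiv k' D))]
  let e : L D ≃ₗ[k] L (liftDiv k' D) :=
    { toFun := fun x => ⟨x.1, (mem_L_liftDiv D x.1).mpr x.2⟩
      invFun := fun x => ⟨x.1, (mem_L_liftDiv D x.1).mp x.2⟩
      map_add' := fun _ _ => rfl
      map_smul' := fun c x => rfl
      left_inv := fun _ => rfl
      right_inv := fun _ => rfl }
  exact e.finrank_eq

end transfer

section linalg

variable {k k' K L : Type*} [Field k] [Field k'] [Field K] [Field L]
  [Algebra k k'] [Algebra k K] [Algebra K L] [Algebra k' L] [Algebra k L]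
  [IsScalarTower k k' L] [IsScalarTower k K L]
  {ι : Type*} [Fintype ι] (c : Basis ι k k') (bL : Basis ι K L)
  (hbL : ∀ i, bL i = algebraMap k' L (c i))

include hbL in
theorem repr_mul_algebraMap (w : K) (a : k') (j : ι) :
    bL.repr (algebraMap k' L a * algebraMap K L w) j = algebraMap k K (c.repr a j) * w := by
  have h1 : algebraMap k' L a * algebraMap K L w = w • algebraMap k' L a := by
    rw [Algebra.smul_def, mul_comm]
  rw [h1, map_smul, Finsupp.smul_apply, smul_eq_mul, H62.FFNSTower.repr_algebraMap c bL hbL,
    mul_comm]

include hbL in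
theorem repr_const_mul (a : k') (z : L) (j : ι) :
    bL.repr (algebraMap k' L a * z) j =
      ∑ l, algebraMap k K (c.repr (a * c l) j) * bL.repr z l := by
  have h1 : algebraMap k' L a * z = ∑ l, bL.repr z l • algebraMap k' L (a * c l) := by
    conv_lhs => rw [← bL.sum_repr z]
    rw [Finset.mul_sum]
    apply Finset.sum_congr rfl
    intro l _
    rw [Algebra.smul_def, Algebra.smul_def, hbL, map_mul]
    ring
  rw [h1, map_sum, Finsupp.coe_finsetSum, Finset.sum_apply]
  apply Finset.sum_congr rfl
  intro l _
  rw [map_smul, Finsupp.smul_apply, smul_eq_mul, H62.FFNSTower.repr_algebraMap c bL hbL, mul_comm]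

include hbL in
/-- `k`-linearly independent elements of `K` stay `k'`-linearly independent in `L = k'K` -/
theorem linearIndependent_map {n : Type*} [Fintype n] {w : n → K} (hw : LinearIndependent k w) :
    LinearIndependent k' (fun i => algebraMap K L (w i)) := by
  rw [Fintype.linearIndependent_iff]
  intro g hg i₀
  have h1 : ∀ j, ∑ i, c.repr (g i) j • w i = 0 := by
    intro j
    have h2 := congrArg (fun z => bL.repr z j) hg
    simp only [map_sum, Finsupp.coe_finsetSum, Finset.sum_apply, map_zero,
      Finsupp.zero_apply] at h2
    rw [← h2]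
    apply Finset.sum_congr rfl
    intro i _
    rw [Algebra.smul_def (g i), repr_mul_algebraMap c bL hbL, Algebra.smul_def]
  have h3 : ∀ j, c.repr (g i₀) j = 0 := fun j =>
    Fintype.linearIndependent_iff.mp hw _ (h1 j) i₀
  apply c.repr.injective
  ext j
  rw [h3 j]
  simp

end linalg

end Groth.Agent.H63.NSGenus1
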