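import Groth.Agent.H63.NSGenus1
import Groth.Agent.H55.WExt2
import Groth.Agent.H63.GeomU

/-!
# Genus and constant field extensions: the genus drops exactly at singular places
-/

set_option autoImplicit false
set_option linter.unusedSectionVars false
set_option linter.style.haveILetI false

open FunFld WithZero Module IntermediateField Groth.Agent.H55
open scoped TensorProduct

namespace Groth.Agent.H63.NSGenus2

open NSGenus1

section divisor

variable {k K K' : Type*} [Field k] [Field K] [Field K'] [Algebra k K] [Algebra K K']
  [Algebra k K'] [IsScalarTower k K K']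

theorem under_unique' {Q : Place k K'} {P P' : Place k K} {e e' : ℕ} (h : IsOverWith Q P e)
    (h' : IsOverWith Q P' e') : P = P' := by
  apply Place.eq_of_le
  intro x hx
  exact (isOverWith_le_one_iff h' x).mp ((isOverWith_le_one_iff h x).mpr hx)

/-- a divisor of `K`, of large degree and avoiding `P`, whose conorm bounds the poles of `z` -/
theorem exists_divisor_bound [FiniteDimensional K K'] (hK : IsFunctionField k K)
    (P : Place k K) (z : K') (hz : ∀ Q : Place k K', IsOver Q P → Q.1 z ≤ 1) (M : ℤ) :
    ∃ D : Divisor k K, D P = 0 ∧ M ≤ D.deg ∧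
      ∀ (Q : Place k K') (P' : Place k K) (e : ℕ), IsOverWith Q P' e →
        Q.1 z ≤ exp (D P') ^ e := by
  classical
  have halg : Algebra.IsAlgebraic K K' := Algebra.IsAlgebraic.of_finite K K'
  have hL : W.IsWeakFF k K' := W.weak_of_finite hK.weak
  haveI := H62.FFSepPlaces.infinite_places hK
  obtain ⟨Paux, hPaux⟩ := Infinite.exists_notMem_finset ({P} : Finset (Place k K))
  have hPaux' : Paux ≠ P := fun h => hPaux (by rw [h]; exact Finset.mem_singleton_self _)
  by_cases hz0 : z = 0
  · refine ⟨M.toNat • Finsupp.single Paux 1, ?_, ?_, ?_⟩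
    · rw [Finsupp.smul_apply, Finsupp.single_apply, if_neg hPaux', smul_zero]
    · rw [Divisor.deg_nsmul, Divisor.deg_single]
      have h1 : (1 : ℤ) ≤ Paux.deg := by exact_mod_cast Place.deg_pos hK Paux
      have h2 : M ≤ M.toNat := Int.self_le_toNat M
      nlinarith [Int.natCast_nonneg M.toNat]
    · intro Q P' e _
      rw [hz0, map_zero]
      exact zero_le
  set T : Finset (Place k K') := (W.Place.finite_poles hL hz0).toFinset with hT
  have hTmem : ∀ Q, Q ∈ T ↔ 1 < Q.1 z := by
    intro Q
    rw [hT, Set.Finite.mem_toFinset]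
    rfl
  choose under hunder using fun Q : Place k K' => exists_place_under (K := K) hK Q
  choose eu heu using hunder
  obtain ⟨N, hN⟩ := H62.FFNSTower.exists_bound T z
  set S : Finset (Place k K) := T.image under with hS
  have hPS : P ∉ S := by
    intro h
    obtain ⟨Q, hQT, hQP⟩ := Finset.mem_image.mp h
    have h1 := hz Q ⟨eu Q, hQP ▸ heu Q⟩
    exact absurd ((hTmem Q).mp hQT) (not_lt.mpr h1)
  set D : Divisor k K := N • (∑ P' ∈ S, Finsupp.single P' (1 : ℤ)) +
    M.toNat • Finsupp.single Paux 1 with hD
  have hsum : ∀ P', (∑ P'' ∈ S, Finsupp.single P'' (1 : ℤ) : Divisor k K) P' =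
      if P' ∈ S then 1 else 0 := by
    intro P'
    rw [Finsupp.finsetSum_apply]
    simp only [Finsupp.single_apply]
    rw [Finset.sum_ite_eq' S P']
  have hDapp : ∀ P', D P' = (N : ℤ) * (if P' ∈ S then 1 else 0) +
      (M.toNat : ℤ) * (if Paux = P' then 1 else 0) := by
    intro P'
    rw [hD, Finsupp.add_apply, Finsupp.smul_apply, Finsupp.smul_apply, hsum,
      Finsupp.single_apply]
    simp
  refine ⟨D, ?_, ?_, ?_⟩
  · rw [hDapp, if_neg hPS, if_neg hPaux']
    simp
  · rw [hD, Divisor.deg_add, Divisor.deg_nsmul, Divisor.deg_nsmul, Divisor.deg_sum,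
      Divisor.deg_single]
    have h1 : (1 : ℤ) ≤ Paux.deg := by exact_mod_cast Place.deg_pos hK Paux
    have h2 : M ≤ M.toNat := Int.self_le_toNat M
    have h3 : (0 : ℤ) ≤ ∑ P' ∈ S, FunFld.Divisor.deg (Finsupp.single P' (1 : ℤ) : Divisor k K) := by
      apply Finset.sum_nonneg
      intro P' _
      rw [Divisor.deg_single]
      positivity
    nlinarith [Int.natCast_nonneg M.toNat, Int.natCast_nonneg N]
  · intro Q P' e he
    have he0 : 0 < e := isOverWith_pos he
    have hDnn : 0 ≤ D P' := by
      rw [hDapp]
      split_ifs <;> positivity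
    by_cases hQT : Q ∈ T
    · have hP' : P' = under Q := under_unique' he (heu Q)
      have hP'S : P' ∈ S := by
        rw [hP', hS]
        exact Finset.mem_image_of_mem _ hQT
      have hDge : (N : ℤ) ≤ D P' := by
        rw [hDapp, if_pos hP'S]
        split_ifs <;> nlinarith [Int.natCast_nonneg M.toNat]
      calc Q.1 z ≤ exp (N : ℤ) := hN Q hQT
        _ ≤ exp (D P') := exp_le_exp.mpr hDge
        _ = exp (D P') ^ 1 := (pow_one _).symm
        _ ≤ exp (D P') ^ e := pow_le_pow_right₀ (by rw [← exp_zero, exp_le_exp]; exact hDnn) he0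
    · have h1 : Q.1 z ≤ 1 := not_lt.mp fun h => hQT ((hTmem Q).mpr h)
      exact h1.trans (one_le_pow₀ (by rw [← exp_zero, exp_le_exp]; exact hDnn))

end divisor

section genus

universe u v w

variable {k k' : Type u} {K : Type v} {K' : Type w} [Field k] [Field k'] [Field K] [Field K']
  [Algebra k k'] [Algebra k K] [Algebra K K'] [Algebra k' K'] [Algebra k K']
  [IsScalarTower k k' K'] [IsScalarTower k K K'] [FiniteDimensional k k']

variable (k' K') in
/-- the conorm of a divisor of `K/k` in the constant field extension `K'/k'` -/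
noncomputable def conormC (D : Divisor k K) : Divisor k' K' := liftDiv k' (conorm K' D)

theorem finrank_constExt
    (h : Function.Bijective (Algebra.TensorProduct.productMap
      (IsScalarTower.toAlgHom k k' K') (IsScalarTower.toAlgHom k K K'))) :
    finrank K K' = finrank k k' := by
  obtain ⟨bL, -⟩ := H62.FFNSTower.exists_basis_of_basis (Module.finBasis k k') h
  rw [Module.finrank_eq_card_basis bL, Fintype.card_fin]

theorem deg_conormC
    (h : Function.Bijective (Algebra.TensorProduct.productMap
      (IsScalarTower.toAlgHom k k' K') (IsScalarTower.toAlgHom k K K')))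
    (hK : IsFunctionField k K) (D : Divisor k K) : (conormC k' K' D).deg = D.deg := by
  haveI : FiniteDimensional K K' := GeomU.finite_constExt h
  have h1 := H62.FFConormL.deg_conorm (K' := K') hK D
  have h2 := deg_liftDiv (k' := k') (conorm K' D)
  rw [h1, finrank_constExt h] at h2
  have hpos : (0 : ℤ) < finrank k k' := by exact_mod_cast Module.finrank_pos
  unfold conormC
  exact (mul_left_cancel₀ hpos.ne' h2).symm

theorem mem_L_conormC
    (h : Function.Bijective (Algebra.TensorProduct.productMap
      (IsScalarTower.toAlgHom k k' K') (IsScalarTower.toAlgHom k K K')))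
    (hK : IsFunctionField k K) (D : Divisor k K) (z : K') :
    z ∈ L (conormC k' K' D) ↔
      ∀ (Q : Place k K') (P : Place k K) (e : ℕ), IsOverWith Q P e → Q.1 z ≤ exp (D P) ^ e := by
  haveI : FiniteDimensional K K' := GeomU.finite_constExt h
  unfold conormC
  rw [mem_L_liftDiv, H62.FFConormL.mem_L_conorm_iff hK]

theorem algebraMap_mem_L_conormC
    (h : Function.Bijective (Algebra.TensorProduct.productMap
      (IsScalarTower.toAlgHom k k' K') (IsScalarTower.toAlgHom k K K')))
    (hK : IsFunctionField k K) (D : Divisor k K) {w : K} (hw : w ∈ L D) :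
    algebraMap K K' w ∈ L (conormC k' K' D) := by
  haveI : FiniteDimensional K K' := GeomU.finite_constExt h
  unfold conormC
  rw [mem_L_liftDiv]
  exact (H62.FFConormL.algebraMap_mem_L_conorm_iff hK D).mpr hw

/-- the `k'`-span of `L(D)` inside `K'` -/
noncomputable def spanL (D : Divisor k K) : Submodule k' K' :=
  Submodule.span k' (algebraMap K K' '' (L D : Set K))

theorem spanL_le
    (h : Function.Bijective (Algebra.TensorProduct.productMap
      (IsScalarTower.toAlgHom k k' K') (IsScalarTower.toAlgHom k K K')))
    (hK : IsFunctionField k K) (D : Divisor k K) :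
    spanL (k' := k') (K' := K') D ≤ L (conormC k' K' D) := by
  apply Submodule.span_le.mpr
  rintro _ ⟨w, hw, rfl⟩
  exact algebraMap_mem_L_conormC h hK D hw

theorem finrank_spanL
    (h : Function.Bijective (Algebra.TensorProduct.productMap
      (IsScalarTower.toAlgHom k k' K') (IsScalarTower.toAlgHom k K K')))
    (hK : IsFunctionField k K) (D : Divisor k K) :
    finrank k' (spanL (k' := k') (K' := K') D) = ell D := by
  classical
  haveI : Module.Finite k (L D) := L_finite hK D
  set c := Module.finBasis k k' with hc
  obtain ⟨bL, hbL⟩ := H62.FFNSTower.exists_basis_of_basis c h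
  set w := Module.finBasis k (L D) with hw
  have hwli : LinearIndependent k (fun i => ((w i : L D) : K)) := by
    have := w.linearIndependent
    exact this.map' (L D).subtype (Submodule.ker_subtype _)
  have hli := linearIndependent_map c bL hbL hwli
  have hspan : spanL (k' := k') (K' := K') D =
      Submodule.span k' (Set.range fun i => algebraMap K K' ((w i : L D) : K)) := by
    unfold spanL
    apply le_antisymm
    · apply Submodule.span_le.mpr
      rintro _ ⟨x, hx, rfl⟩
      have h1 : x = ∑ i, w.repr ⟨x, hx⟩ i • ((w i : L D) : K) := by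
        have h2 := w.sum_repr ⟨x, hx⟩
        have h3 := congrArg (fun y : L D => (y : K)) h2
        simp only [Submodule.coe_sum, Submodule.coe_smul] at h3
        exact h3.symm
      rw [h1, map_sum]
      apply Submodule.sum_mem
      intro i _
      have h4 : algebraMap K K' (w.repr ⟨x, hx⟩ i • ((w i : L D) : K)) =
          algebraMap k k' (w.repr ⟨x, hx⟩ i) • algebraMap K K' ((w i : L D) : K) := by
        rw [Algebra.smul_def, map_mul, Algebra.smul_def, ← IsScalarTower.algebraMap_apply k K K',
          IsScalarTower.algebraMap_apply k k' K']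
      rw [h4]
      exact Submodule.smul_mem _ _ (Submodule.subset_span ⟨i, rfl⟩)
    · apply Submodule.span_le.mpr
      rintro _ ⟨i, rfl⟩
      exact Submodule.subset_span ⟨(w i : K), (w i).2, rfl⟩
  rw [hspan, finrank_span_eq_card hli, Fintype.card_fin]
  rfl

theorem ell_le_ell_conormC
    (h : Function.Bijective (Algebra.TensorProduct.productMap
      (IsScalarTower.toAlgHom k k' K') (IsScalarTower.toAlgHom k K K')))
    (hK : IsFunctionField k K) (hg : IsGeometric k K) (D : Divisor k K) :
    ell D ≤ ell (conormC k' K' D) := by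
  have hK' : IsFunctionField k' K' := (GeomU.isFunctionField_and_isGeometric_constExt h hK hg).1
  haveI : Module.Finite k' (L (conormC k' K' D)) := L_finite hK' _
  rw [← finrank_spanL h hK D]
  exact Submodule.finrank_mono (spanL_le h hK D)

/-- **(G1)** the genus does not increase under constant field extension -/
theorem genus_le
    (h : Function.Bijective (Algebra.TensorProduct.productMap
      (IsScalarTower.toAlgHom k k' K') (IsScalarTower.toAlgHom k K K')))
    (hK : IsFunctionField k K) (hg : IsGeometric k K) : genus k' K' ≤ genus k K := by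
  have hK' : IsFunctionField k' K' := (GeomU.isFunctionField_and_isGeometric_constExt h hK hg).1
  obtain ⟨N, hN⟩ := riemann hK'
  obtain ⟨P₀⟩ := exists_place hK
  set D : Divisor k K := N.toNat • Finsupp.single P₀ 1 with hD
  have hdeg : N ≤ D.deg := by
    rw [hD, Divisor.deg_nsmul, Divisor.deg_single]
    have h1 : (1 : ℤ) ≤ P₀.deg := by exact_mod_cast Place.deg_pos hK P₀
    have h2 : N ≤ N.toNat := Int.self_le_toNat N
    nlinarith [Int.natCast_nonneg N.toNat]
  have h1 := hN (conormC k' K' D) (by rw [deg_conormC h hK]; exact hdeg)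
  rw [deg_conormC h hK] at h1
  have h2 := le_genus hK D
  have h3 : (ell D : ℤ) ≤ ell (conormC k' K' D) := by exact_mod_cast ell_le_ell_conormC h hK hg D
  have : (genus k' K' : ℤ) ≤ genus k K := by linarith
  exact_mod_cast this


/-- **(G2)** if the genus does not drop, every place is nonsingular with respect to `k'` -/
theorem coord_mem_of_genus_eq
    (h : Function.Bijective (Algebra.TensorProduct.productMap
      (IsScalarTower.toAlgHom k k' K') (IsScalarTower.toAlgHom k K K')))
    (hK : IsFunctionField k K) (hg : IsGeometric k K) (heq : genus k' K' = genus k K)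
    (P : Place k K) {ι : Type*} [Fintype ι] (c : Basis ι k k') (bL : Basis ι K K')
    (hbL : ∀ i, bL i = algebraMap k' K' (c i))
    {z : K'} (hz : ∀ Q : Place k K', IsOver Q P → Q.1 z ≤ 1) (j : ι) :
    P.1 (bL.repr z j) ≤ 1 := by
  classical
  haveI : FiniteDimensional K K' := GeomU.finite_constExt h
  have hK' : IsFunctionField k' K' := (GeomU.isFunctionField_and_isGeometric_constExt h hK hg).1
  obtain ⟨N₁, hN₁⟩ := riemann hK'
  obtain ⟨N₀, hN₀⟩ := riemann hK
  obtain ⟨D, hDP, hDdeg, hDz⟩ := exists_divisor_bound hK P z hz (max N₀ N₁)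
  have hzL : z ∈ L (conormC k' K' D) := (mem_L_conormC h hK D z).mpr hDz
  have h1 := hN₁ (conormC k' K' D) (by rw [deg_conormC h hK]; exact (le_max_right _ _).trans hDdeg)
  rw [deg_conormC h hK] at h1
  have h0 := hN₀ D ((le_max_left _ _).trans hDdeg)
  have hell : ell (conormC k' K' D) = ell D := by
    have : (ell (conormC k' K' D) : ℤ) = ell D := by
      have h2 : (genus k' K' : ℤ) = genus k K := by exact_mod_cast heq
      linarith
    exact_mod_cast this
  haveI : Module.Finite k' (L (conormC k' K' D)) := L_finite hK' _
  have hspan : spanL (k' := k') (K' := K') D = L (conormC k' K' D) := by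
    apply Submodule.eq_of_le_of_finrank_eq (spanL_le h hK D)
    rw [finrank_spanL h hK D]
    exact hell.symm
  rw [← hspan] at hzL
  have key : ∀ z' ∈ spanL (k' := k') (K' := K') D, ∀ j, bL.repr z' j ∈ L D := by
    intro z' hz'
    unfold spanL at hz'
    induction hz' using Submodule.span_induction with
    | mem y hy =>
      obtain ⟨w, hw, rfl⟩ := hy
      intro j
      have h3 : algebraMap K K' w = algebraMap k' K' 1 * algebraMap K K' w := by
        rw [map_one, one_mul]
      rw [h3, repr_mul_algebraMap c bL hbL, ← Algebra.smul_def]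
      exact (L D).smul_mem _ hw
    | zero =>
      intro j
      rw [map_zero, Finsupp.zero_apply]
      exact (L D).zero_mem
    | add y y' _ _ hy hy' =>
      intro j
      rw [map_add, Finsupp.add_apply]
      exact (L D).add_mem (hy j) (hy' j)
    | smul a y _ hy =>
      intro j
      rw [Algebra.smul_def, repr_const_mul c bL hbL]
      apply Submodule.sum_mem
      intro l _
      rw [← Algebra.smul_def]
      exact (L D).smul_mem _ (hy l)
  have h4 := key z hzL j
  rw [mem_L] at h4
  have h5 := h4 P
  rwa [hDP, exp_zero] at h5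

end genus

end Groth.Agent.H63.NSGenus2
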