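import Groth.Agent.H63.NSDrop

/-!
# A purely inseparable constant field extension of minimal genus is nonsingular
-/

set_option autoImplicit false
set_option linter.unusedSectionVars false
set_option linter.style.haveILetI false

open FunFld WithZero Module IntermediateField Groth.Agent.H55
open scoped TensorProduct

namespace Groth.Agent.H63.NSMin

section genusEq

universe u v w

variable {k k' : Type u} {K : Type v} {K' : Type w} [Field k] [Field k'] [Field K] [Field K']
  [Algebra k k'] [Algebra k K] [Algebra K K'] [Algebra k' K'] [Algebra k K']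
  [IsScalarTower k k' K'] [IsScalarTower k K K'] [FiniteDimensional k k']

/-- if the genus does not drop, every place is nonsingular with respect to `k'` -/
theorem nonsingular_of_genus_eq
    (h : Function.Bijective (Algebra.TensorProduct.productMap
      (IsScalarTower.toAlgHom k k' K') (IsScalarTower.toAlgHom k K K')))
    (hK : IsFunctionField k K) (hg : IsGeometric k K) (heq : genus k' K' = genus k K)
    (P : Place k K) :
    integralClosure (P.O.toSubring.map (algebraMap K K')) K' =
      Algebra.adjoin (P.O.toSubring.map (algebraMap K K')) (Set.range (algebraMap k' K')) := by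
  classical
  set c := Module.finBasis k k'
  obtain ⟨b, hb⟩ := H62.FFNSTower.exists_basis_of_basis (K := K) (L := K') c h
  have hO : ∀ a : k, algebraMap k K a ∈ P.O.toSubring := fun a => P.2.1 a
  refine (H62.FFNSTower.eq_iff_coord c b hb P.O.toSubring hO).mpr ?_
  intro z hz i
  exact NSGenus2.coord_mem_of_genus_eq h hK hg heq P c b hb
    (fun Q ⟨e, he⟩ => H62.FFNSTower.val_le_one_of_mem_integralClosure P he hz) i

end genusEq

section thmA

universe u v w

variable {k : Type u} {K : Type v} [Field k] [Field K] [Algebra k K]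

/-- **Theorem A**: if no finite purely inseparable constant field extension lowers the genus,
then every place is nonsingular with respect to every finite constant field extension -/
theorem nonsingular_of_minimal (hK : IsFunctionField k K) (hg : IsGeometric k K)
    (hmin : ∀ (k₃ : Type u) [Field k₃] [Algebra k k₃] (K₃ : Type (max u v)) [Field K₃]
      [Algebra K K₃] [Algebra k₃ K₃] [Algebra k K₃] [IsScalarTower k k₃ K₃]
      [IsScalarTower k K K₃], FiniteDimensional k k₃ → IsPurelyInseparable k k₃ →
      Function.Bijective (Algebra.TensorProduct.productMap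
        (IsScalarTower.toAlgHom k k₃ K₃) (IsScalarTower.toAlgHom k K K₃)) →
      genus k K ≤ genus k₃ K₃)
    (Q : Place k K)
    (k'' : Type u) [Field k''] [Algebra k k''] [FiniteDimensional k k'']
    (K'' : Type w) [Field K''] [Algebra K K''] [Algebra k'' K''] [Algebra k K'']
    [IsScalarTower k k'' K''] [IsScalarTower k K K'']
    (h'' : Function.Bijective (Algebra.TensorProduct.productMap
      (IsScalarTower.toAlgHom k k'' K'') (IsScalarTower.toAlgHom k K K''))) :
    integralClosure (Q.O.toSubring.map (algebraMap K K'')) K'' =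
      Algebra.adjoin (Q.O.toSubring.map (algebraMap K K'')) (Set.range (algebraMap k'' K'')) := by
  by_contra hsing
  obtain ⟨k₃, _, _, K₃, _, _, _, _, _, _, hfin₃, hpi, h₃, hs₃⟩ :=
    NSDrop.exists_pi_singular hK hg Q k'' K'' h'' hsing
  have h1 := hmin k₃ K₃ hfin₃ hpi h₃
  have h2 := NSGenus2.genus_le h₃ hK hg
  exact hs₃ (nonsingular_of_genus_eq h₃ hK hg (le_antisymm h2 h1) Q)

end thmA

section models

universe u v w₁ w₂

variable {k E : Type u} {K : Type v} {L₁ : Type w₁} {L₂ : Type w₂}
  [Field k] [Field E] [Field K] [Field L₁] [Field L₂]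
  [Algebra k K] [Algebra k E]
  [Algebra K L₁] [Algebra E L₁] [Algebra k L₁] [IsScalarTower k E L₁] [IsScalarTower k K L₁]
  [Algebra K L₂] [Algebra E L₂] [Algebra k L₂] [IsScalarTower k E L₂] [IsScalarTower k K L₂]
  [FiniteDimensional k E]

/-- two models of `E ⊗ K` have the same genus -/
theorem genus_model_le (hK : IsFunctionField k K) (hg : IsGeometric k K)
    (h₁ : Function.Bijective (Algebra.TensorProduct.productMap
      (IsScalarTower.toAlgHom k E L₁) (IsScalarTower.toAlgHom k K L₁)))
    (h₂ : Function.Bijective (Algebra.TensorProduct.productMap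
      (IsScalarTower.toAlgHom k E L₂) (IsScalarTower.toAlgHom k K L₂))) :
    genus E L₂ ≤ genus E L₁ := by
  obtain ⟨_, _, _, _, h⟩ := NSModel.exists_algebra_model (E₁ := E) (E₂ := E) (L₁ := L₁)
    (L₂ := L₂) hg h₁ h₂
  have hFG := GeomU.isFunctionField_and_isGeometric_constExt h₁ hK hg
  exact NSGenus2.genus_le h hFG.1 hFG.2

end models

section thmB

universe u v w w'

variable {k : Type u} {K : Type v} [Field k] [Field K] [Algebra k K]

/-- **Theorem B**: a finite purely inseparable constant field extension of minimal genus -/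
theorem exists_minimal (hK : IsFunctionField k K) (hg : IsGeometric k K) :
    ∃ (k₁ : Type u) (_ : Field k₁) (_ : Algebra k k₁), FiniteDimensional k k₁ ∧
      IsPurelyInseparable k k₁ ∧
      ∀ (K₁ : Type w) [Field K₁] [Algebra K K₁] [Algebra k₁ K₁] [Algebra k K₁]
        [IsScalarTower k k₁ K₁] [IsScalarTower k K K₁],
        Function.Bijective (Algebra.TensorProduct.productMap
          (IsScalarTower.toAlgHom k k₁ K₁) (IsScalarTower.toAlgHom k K K₁)) →
        ∀ (k₃ : Type u) [Field k₃] [Algebra k₁ k₃] (K₃ : Type w') [Field K₃] [Algebra K₁ K₃]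
          [Algebra k₃ K₃] [Algebra k₁ K₃] [IsScalarTower k₁ k₃ K₃] [IsScalarTower k₁ K₁ K₃],
          FiniteDimensional k₁ k₃ → IsPurelyInseparable k₁ k₃ →
          Function.Bijective (Algebra.TensorProduct.productMap
            (IsScalarTower.toAlgHom k₁ k₃ K₃) (IsScalarTower.toAlgHom k₁ K₁ K₃)) →
          genus k₁ K₁ ≤ genus k₃ K₃ := by
  classical
  let S : Set ℕ := {g | ∃ (k₁ : Type u) (_ : Field k₁) (_ : Algebra k k₁) (K₁ : Type (max u v))
    (_ : Field K₁) (_ : Algebra K K₁) (_ : Algebra k₁ K₁) (_ : Algebra k K₁)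
    (_ : IsScalarTower k k₁ K₁) (_ : IsScalarTower k K K₁),
    FiniteDimensional k k₁ ∧ IsPurelyInseparable k k₁ ∧
    Function.Bijective (Algebra.TensorProduct.productMap
      (IsScalarTower.toAlgHom k k₁ K₁) (IsScalarTower.toAlgHom k K K₁)) ∧ genus k₁ K₁ = g}
  have hSne : S.Nonempty := by
    obtain ⟨K₁, iF, iKL, iEL, ikL, t1, t2, h₁⟩ := NSModel.exists_model hg k
    exact ⟨@genus k K₁ _ iF iEL, k, inferInstance, inferInstance, K₁, iF, iKL, iEL, ikL, t1, t2,
      inferInstance, inferInstance, h₁, rfl⟩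
  obtain ⟨k₁, _, _, K₁z, _, _, _, _, _, _, hfin₁, hpi₁, h₁z, hg₀⟩ := Nat.sInf_mem hSne
  refine ⟨k₁, inferInstance, inferInstance, hfin₁, hpi₁, ?_⟩
  intro K₁ _ _ _ _ _ _ h₁ k₃ _ _ K₃ _ _ _ _ _ _ hfin₃ hpi₃ h₃
  have hle1 : genus k₁ K₁ ≤ genus k₁ K₁z := genus_model_le hK hg h₁z h₁
  letI : Algebra k k₃ := ((algebraMap k₁ k₃).comp (algebraMap k k₁)).toAlgebra
  haveI : IsScalarTower k k₁ k₃ := IsScalarTower.of_algebraMap_eq (fun _ => rfl)
  haveI : FiniteDimensional k k₃ := Module.Finite.trans k₁ k₃
  haveI : IsPurelyInseparable k k₃ := IsPurelyInseparable.trans k k₁ k₃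
  letI : Algebra K K₃ := ((algebraMap K₁ K₃).comp (algebraMap K K₁)).toAlgebra
  haveI : IsScalarTower K K₁ K₃ := IsScalarTower.of_algebraMap_eq (fun _ => rfl)
  letI : Algebra k K₃ := ((algebraMap K₁ K₃).comp (algebraMap k K₁)).toAlgebra
  haveI : IsScalarTower k K₁ K₃ := IsScalarTower.of_algebraMap_eq (fun _ => rfl)
  haveI : IsScalarTower k K K₃ := IsScalarTower.of_algebraMap_eq (fun c => by
    show algebraMap K₁ K₃ (algebraMap k K₁ c) = algebraMap K₁ K₃ (algebraMap K K₁ (algebraMap k K c))
    rw [← IsScalarTower.algebraMap_apply k K K₁])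
  haveI : IsScalarTower k k₃ K₃ := IsScalarTower.of_algebraMap_eq (fun c => by
    show algebraMap K₁ K₃ (algebraMap k K₁ c) = algebraMap k₃ K₃ (algebraMap k₁ k₃ (algebraMap k k₁ c))
    rw [← IsScalarTower.algebraMap_apply k₁ k₃ K₃, IsScalarTower.algebraMap_apply k₁ K₁ K₃,
      ← IsScalarTower.algebraMap_apply k k₁ K₁])
  have h₃' := NSModel.bijective_comp (k := k) (k' := k₁) (k'' := k₃) (K := K) (K' := K₁)
    (K'' := K₃) h₁ h₃
  obtain ⟨K₃z, _, _, _, _, _, _, h₃z⟩ := NSModel.exists_model hg k₃
  have hle2 : genus k₃ K₃z ≤ genus k₃ K₃ := genus_model_le hK hg h₃' h₃z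
  have hmem : genus k₃ K₃z ∈ S := ⟨k₃, inferInstance, inferInstance, K₃z, inferInstance,
    inferInstance, inferInstance, inferInstance, inferInstance, inferInstance, inferInstance,
    inferInstance, h₃z, rfl⟩
  have hle3 : sInf S ≤ genus k₃ K₃z := Nat.sInf_le hmem
  rw [← hg₀] at hle3
  exact hle1.trans (hle3.trans hle2)

end thmB

end Groth.Agent.H63.NSMin
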