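import Groth.Agent.H63.NSGenus2

/-!
# Models of constant field extensions `E ⊗ K`: existence, composition, functoriality
-/

set_option autoImplicit false
set_option linter.unusedSectionVars false
set_option linter.style.haveILetI false

open FunFld WithZero Module IntermediateField Groth.Agent.H55
open scoped TensorProduct

namespace Groth.Agent.H63.NSModel

section basis

variable {k k' K L : Type*} [Field k] [Field k'] [Field K] [Field L]
  [Algebra k k'] [Algebra k K] [Algebra K L] [Algebra k' L] [Algebra k L]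
  [IsScalarTower k k' L] [IsScalarTower k K L]

/-- if a `k`-basis of `k'` is a `K`-basis of `L` then `L` is a model of `k' ⊗ K` -/
theorem bijective_of_basis {ι : Type*} (c : Basis ι k k') (bL : Basis ι K L)
    (hbL : ∀ i, bL i = algebraMap k' L (c i)) :
    Function.Bijective (Algebra.TensorProduct.productMap
      (IsScalarTower.toAlgHom k k' L) (IsScalarTower.toAlgHom k K L)) := by
  let f : K ⊗[k] k' →ₐ[K] L := Algebra.TensorProduct.productLeftAlgHom (Algebra.ofId K L)
    (IsScalarTower.toAlgHom k k' L)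
  have hf : ∀ z : K ⊗[k] k', f z = Algebra.TensorProduct.productMap
      (IsScalarTower.toAlgHom k k' L) (IsScalarTower.toAlgHom k K L)
      (Algebra.TensorProduct.comm k K k' z) := by
    intro z
    induction z using TensorProduct.induction_on with
    | zero => simp
    | tmul a b =>
      show algebraMap K L a * algebraMap k' L b = _
      rw [Algebra.TensorProduct.comm_tmul, Algebra.TensorProduct.productMap_apply_tmul]
      exact mul_comm _ _
    | add x y hx hy => rw [map_add, map_add, map_add, hx, hy]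
  let B₀ : Basis ι K (K ⊗[k] k') := Algebra.TensorProduct.basis K c
  let e : (K ⊗[k] k') ≃ₗ[K] L := B₀.equiv bL (Equiv.refl ι)
  have hfe : f.toLinearMap = e.toLinearMap := by
    apply B₀.ext
    intro i
    show f (B₀ i) = e (B₀ i)
    rw [Basis.equiv_apply, Algebra.TensorProduct.basis_apply, Equiv.refl_apply, hbL]
    show algebraMap K L 1 * algebraMap k' L (c i) = algebraMap k' L (c i)
    rw [map_one, one_mul]
  have hfbij : Function.Bijective f := by
    have : (f : K ⊗[k] k' → L) = e := by
      ext z
      exact LinearMap.congr_fun hfe z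
    rw [this]
    exact e.bijective
  have hcomp : (Algebra.TensorProduct.productMap
      (IsScalarTower.toAlgHom k k' L) (IsScalarTower.toAlgHom k K L) : k' ⊗[k] K → L) =
      f ∘ (Algebra.TensorProduct.comm k K k').symm := by
    ext z
    rw [Function.comp_apply, hf, AlgEquiv.apply_symm_apply]
  rw [hcomp]
  exact hfbij.comp (Algebra.TensorProduct.comm k K k').symm.bijective

end basis

section comp

variable {k k' k'' K K' K'' : Type*} [Field k] [Field k'] [Field k''] [Field K] [Field K']
  [Field K'']
  [Algebra k k'] [Algebra k' k''] [Algebra k k''] [IsScalarTower k k' k'']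
  [Algebra k K] [Algebra K K'] [Algebra k' K'] [Algebra k K'] [IsScalarTower k k' K']
  [IsScalarTower k K K']
  [Algebra K' K''] [Algebra k'' K''] [Algebra k' K''] [Algebra k K''] [Algebra K K'']
  [IsScalarTower k' k'' K''] [IsScalarTower k' K' K''] [IsScalarTower K K' K'']
  [IsScalarTower k K K''] [IsScalarTower k K' K''] [IsScalarTower k k'' K'']
  [FiniteDimensional k k'] [FiniteDimensional k' k'']

/-- a model of a model is a model -/
theorem bijective_comp
    (h1 : Function.Bijective (Algebra.TensorProduct.productMap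
      (IsScalarTower.toAlgHom k k' K') (IsScalarTower.toAlgHom k K K')))
    (h2 : Function.Bijective (Algebra.TensorProduct.productMap
      (IsScalarTower.toAlgHom k' k'' K'') (IsScalarTower.toAlgHom k' K' K''))) :
    Function.Bijective (Algebra.TensorProduct.productMap
      (IsScalarTower.toAlgHom k k'' K'') (IsScalarTower.toAlgHom k K K'')) := by
  set c' := Module.finBasis k k'
  set c'' := Module.finBasis k' k''
  obtain ⟨b', hb'⟩ := H62.FFNSTower.exists_basis_of_basis c' h1
  obtain ⟨b'', hb''⟩ := H62.FFNSTower.exists_basis_of_basis c'' h2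
  exact bijective_of_basis (c'.smulTower c'') (b'.smulTower b'')
    (H62.FFNSTower.smulTower_eq c' b' hb' c'' b'' hb'')

end comp

section model

universe u v

variable {k : Type u} {K : Type v} [Field k] [Field K] [Algebra k K]

/-- models of `E ⊗ K` exist -/
theorem exists_model (hg : IsGeometric k K) (E : Type u) [Field E] [Algebra k E]
    [FiniteDimensional k E] :
    ∃ (L : Type (max u v)) (_ : Field L) (_ : Algebra K L) (_ : Algebra E L) (_ : Algebra k L)
      (_ : IsScalarTower k E L) (_ : IsScalarTower k K L),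
      Function.Bijective (Algebra.TensorProduct.productMap
        (IsScalarTower.toAlgHom k E L) (IsScalarTower.toAlgHom k K L)) := by
  letI : Field (E ⊗[k] K) := (hg E inferInstance).toField
  letI : Algebra K (E ⊗[k] K) := Algebra.TensorProduct.rightAlgebra
  refine ⟨E ⊗[k] K, inferInstance, inferInstance, inferInstance, inferInstance, inferInstance,
    inferInstance, ?_⟩
  have h1 : Algebra.TensorProduct.productMap
      (IsScalarTower.toAlgHom k E (E ⊗[k] K)) (IsScalarTower.toAlgHom k K (E ⊗[k] K)) =
      AlgHom.id k (E ⊗[k] K) := by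
    apply Algebra.TensorProduct.ext'
    intro a b
    rw [Algebra.TensorProduct.productMap_apply_tmul]
    show a ⊗ₜ[k] (1 : K) * (1 : E) ⊗ₜ[k] b = a ⊗ₜ[k] b
    rw [Algebra.TensorProduct.tmul_mul_tmul, mul_one, one_mul]
  rw [h1]
  exact Function.bijective_id

end model

section functorial

universe u v w₁ w₂

variable {k E₁ E₂ : Type u} {K : Type v} {L₁ : Type w₁} {L₂ : Type w₂}
  [Field k] [Field E₁] [Field E₂] [Field K] [Field L₁] [Field L₂]
  [Algebra k K] [Algebra k E₁] [Algebra k E₂] [Algebra E₁ E₂] [IsScalarTower k E₁ E₂]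
  [Algebra K L₁] [Algebra E₁ L₁] [Algebra k L₁] [IsScalarTower k E₁ L₁] [IsScalarTower k K L₁]
  [Algebra K L₂] [Algebra E₂ L₂] [Algebra k L₂] [IsScalarTower k E₂ L₂] [IsScalarTower k K L₂]
  [Algebra E₁ L₂] [IsScalarTower E₁ E₂ L₂]
  [FiniteDimensional k E₁] [FiniteDimensional E₁ E₂]

/-- a model of `E₂ ⊗ K` is a model of `E₂ ⊗_{E₁} L₁` for any model `L₁` of `E₁ ⊗ K` -/
theorem exists_algebra_model (hg : IsGeometric k K)
    (h₁ : Function.Bijective (Algebra.TensorProduct.productMap
      (IsScalarTower.toAlgHom k E₁ L₁) (IsScalarTower.toAlgHom k K L₁)))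
    (h₂ : Function.Bijective (Algebra.TensorProduct.productMap
      (IsScalarTower.toAlgHom k E₂ L₂) (IsScalarTower.toAlgHom k K L₂))) :
    ∃ (_ : Algebra L₁ L₂)
      (_ : IsScalarTower E₁ L₁ L₂) (_ : IsScalarTower K L₁ L₂) (_ : IsScalarTower k L₁ L₂),
      Function.Bijective (Algebra.TensorProduct.productMap
        (IsScalarTower.toAlgHom E₁ E₂ L₂) (IsScalarTower.toAlgHom E₁ L₁ L₂)) := by
  let e₁ : E₁ ⊗[k] K ≃ₐ[k] L₁ := AlgEquiv.ofBijective _ h₁
  let ψ : L₁ →ₐ[k] L₂ :=
    ((Algebra.TensorProduct.productMap (IsScalarTower.toAlgHom k E₂ L₂)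
      (IsScalarTower.toAlgHom k K L₂)).comp
      (Algebra.TensorProduct.map (IsScalarTower.toAlgHom k E₁ E₂) (AlgHom.id k K))).comp
      e₁.symm.toAlgHom
  have he₁a : ∀ a : E₁, e₁.symm (algebraMap E₁ L₁ a) = a ⊗ₜ[k] (1 : K) := by
    intro a
    rw [AlgEquiv.symm_apply_eq]
    show algebraMap E₁ L₁ a = Algebra.TensorProduct.productMap (IsScalarTower.toAlgHom k E₁ L₁)
      (IsScalarTower.toAlgHom k K L₁) (a ⊗ₜ[k] (1 : K))
    rw [Algebra.TensorProduct.productMap_apply_tmul, map_one, mul_one]
    rfl
  have he₁x : ∀ x : K, e₁.symm (algebraMap K L₁ x) = (1 : E₁) ⊗ₜ[k] x := by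
    intro x
    rw [AlgEquiv.symm_apply_eq]
    show algebraMap K L₁ x = Algebra.TensorProduct.productMap (IsScalarTower.toAlgHom k E₁ L₁)
      (IsScalarTower.toAlgHom k K L₁) ((1 : E₁) ⊗ₜ[k] x)
    rw [Algebra.TensorProduct.productMap_apply_tmul, map_one, one_mul]
    rfl
  have hψa : ∀ a : E₁, ψ (algebraMap E₁ L₁ a) = algebraMap E₂ L₂ (algebraMap E₁ E₂ a) := by
    intro a
    show Algebra.TensorProduct.productMap _ _ (Algebra.TensorProduct.map _ _
      (e₁.symm (algebraMap E₁ L₁ a))) = _
    rw [he₁a, Algebra.TensorProduct.map_tmul, Algebra.TensorProduct.productMap_apply_tmul, map_one,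
      map_one, mul_one]
    rfl
  have hψx : ∀ x : K, ψ (algebraMap K L₁ x) = algebraMap K L₂ x := by
    intro x
    show Algebra.TensorProduct.productMap _ _ (Algebra.TensorProduct.map _ _
      (e₁.symm (algebraMap K L₁ x))) = _
    rw [he₁x, Algebra.TensorProduct.map_tmul, Algebra.TensorProduct.productMap_apply_tmul, map_one,
      map_one, one_mul]
    rfl
  letI iL : Algebra L₁ L₂ := ψ.toRingHom.toAlgebra
  haveI t2 : IsScalarTower E₁ L₁ L₂ := IsScalarTower.of_algebraMap_eq (fun a => by
    rw [IsScalarTower.algebraMap_apply E₁ E₂ L₂]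
    exact (hψa a).symm)
  haveI t3 : IsScalarTower K L₁ L₂ := IsScalarTower.of_algebraMap_eq (fun x => (hψx x).symm)
  haveI t4 : IsScalarTower k L₁ L₂ := IsScalarTower.of_algebraMap_eq (fun c => (ψ.commutes c).symm)
  refine ⟨iL, t2, t3, t4, ?_, ?_⟩
  · -- injective: the source is a field
    have hg₁ : IsGeometric E₁ L₁ := GeomU.isGeometric_constExt h₁ hg
    have hF : IsField (E₂ ⊗[E₁] L₁) := hg₁ E₂ inferInstance
    letI := hF.toField
    exact (Algebra.TensorProduct.productMap
        (IsScalarTower.toAlgHom E₁ E₂ L₂) (IsScalarTower.toAlgHom E₁ L₁ L₂)).toRingHom.injective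
  · -- surjective
    intro z
    obtain ⟨t, rfl⟩ := h₂.2 z
    induction t using TensorProduct.induction_on with
    | zero => exact ⟨0, by rw [map_zero, map_zero]⟩
    | tmul a x =>
      refine ⟨a ⊗ₜ[E₁] algebraMap K L₁ x, ?_⟩
      rw [Algebra.TensorProduct.productMap_apply_tmul, Algebra.TensorProduct.productMap_apply_tmul]
      show algebraMap E₂ L₂ a * algebraMap L₁ L₂ (algebraMap K L₁ x) =
        algebraMap E₂ L₂ a * algebraMap K L₂ x
      rw [← IsScalarTower.algebraMap_apply K L₁ L₂]
    | add s t hs ht =>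
      obtain ⟨s', hs'⟩ := hs
      obtain ⟨t', ht'⟩ := ht
      exact ⟨s' + t', by rw [map_add, map_add, hs', ht']⟩

end functorial

end Groth.Agent.H63.NSModel
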