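import Groth.Agent.H63.NSMin
import Groth.Agent.H62.FFResConst
import Groth.Agent.H55.FFZeros

/-!
# Splitting fields of places (S12591)
-/

set_option autoImplicit false
set_option linter.unusedSectionVars false
set_option linter.style.haveILetI false

open FunFld WithZero Module IntermediateField Groth.Agent.H55
open scoped TensorProduct

namespace Groth.Agent.H63.NSSplit

section convert

variable {k K K' k' : Type*} [Field k] [Field K] [Field K'] [Field k'] [Algebra k K]
  [Algebra K K'] [Algebra k' K']

theorem hasExtension_of_isOverWith [Algebra k K'] [IsScalarTower k K K'] {Q : Place k K'}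
    {P : Place k K} {e : ℕ} (he : IsOverWith Q P e) : P.1.HasExtension Q.1 := by
  have he0 : e ≠ 0 := (isOverWith_pos he).ne'
  refine ⟨fun r s => ?_⟩
  show P.1 r ≤ P.1 s ↔ Q.1 (algebraMap K K' r) ≤ Q.1 (algebraMap K K' s)
  rw [he r, he s]
  exact (pow_le_pow_iff_left₀ zero_le zero_le he0).symm

/-- the two ways of writing nonsingularity -/
theorem ns_convert (P : Place k K)
    (hns : integralClosure (P.O.toSubring.map (algebraMap K K')) K' =
      Algebra.adjoin (P.O.toSubring.map (algebraMap K K')) (Set.range (algebraMap k' K'))) :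
    (integralClosure P.O K').toSubring =
      (Algebra.adjoin P.O (Set.range (algebraMap k' K'))).toSubring := by
  have hsub1 : ∀ z : K', z ∈ Algebra.adjoin (P.O.toSubring.map (algebraMap K K'))
      (Set.range (algebraMap k' K')) → z ∈ Algebra.adjoin P.O (Set.range (algebraMap k' K')) := by
    intro z h1
    induction h1 using Algebra.adjoin_induction with
    | mem y hy => exact Algebra.subset_adjoin hy
    | algebraMap r =>
      obtain ⟨r, a, ha, rfl⟩ := r
      exact Subalgebra.algebraMap_mem _ (⟨a, ha⟩ : P.O)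
    | add y z _ _ hy hz => exact Subalgebra.add_mem _ hy hz
    | mul y z _ _ hy hz => exact Subalgebra.mul_mem _ hy hz
  have hsub2 : ∀ z : K', z ∈ Algebra.adjoin P.O (Set.range (algebraMap k' K')) →
      z ∈ Algebra.adjoin (P.O.toSubring.map (algebraMap K K'))
        (Set.range (algebraMap k' K')) := by
    intro z h1
    induction h1 using Algebra.adjoin_induction with
    | mem y hy => exact Algebra.subset_adjoin hy
    | algebraMap r =>
      exact Subalgebra.algebraMap_mem _
        (⟨algebraMap K K' (r : K), (r : K), r.2, rfl⟩ : P.O.toSubring.map (algebraMap K K'))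
    | add y z _ _ hy hz => exact Subalgebra.add_mem _ hy hz
    | mul y z _ _ hy hz => exact Subalgebra.mul_mem _ hy hz
  ext z
  constructor
  · intro hz
    have h1 : z ∈ integralClosure (P.O.toSubring.map (algebraMap K K')) K' := by
      let φ : P.O →+* (P.O.toSubring.map (algebraMap K K')) :=
        ((algebraMap K K').comp P.O.subtype).codRestrict _ (fun a => ⟨(a : K), a.2, rfl⟩)
      exact H62.FFNSTower.mem_integralClosure_of_ringHom _ φ (fun a => rfl) hz
    rw [hns] at h1
    exact hsub1 z h1
  · intro hz
    have h1 := hsub2 z hz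
    rw [← hns] at h1
    exact NSSep.isIntegral_of_mem_integralClosure_map P.O.toSubring h1

end convert

section degOne

variable {k k' K K' : Type*} [Field k] [Field k'] [Field K] [Field K']
  [Algebra k k'] [Algebra k K] [Algebra K K'] [Algebra k' K'] [Algebra k K']
  [IsScalarTower k k' K'] [IsScalarTower k K K'] [FiniteDimensional k k']

open NSGenus1 in
/-- a place above a nonsingular place `P` has degree one as soon as the constant field splits
the residue field of `P` -/
theorem deg_eq_one_of_splits
    (h : Function.Bijective (Algebra.TensorProduct.productMap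
      (IsScalarTower.toAlgHom k k' K') (IsScalarTower.toAlgHom k K K')))
    (hK : IsFunctionField k K) (P : Place k K)
    (hns : integralClosure (P.O.toSubring.map (algebraMap K K')) K' =
      Algebra.adjoin (P.O.toSubring.map (algebraMap K K')) (Set.range (algebraMap k' K')))
    (s : Set (IsLocalRing.ResidueField P.O)) (hs : Submodule.span k s = ⊤)
    (hsplit : ∀ α ∈ s, ((minpoly k α).map (algebraMap k k')).Splits)
    (hint : ∀ α ∈ s, IsIntegral k α)
    (Q : Place k' K') {e : ℕ} (he : IsOverWith (resPlace (k := k) Q) P e) : Q.deg = 1 := by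
  set Q₀ : Place k K' := resPlace (k := k) Q with hQ₀
  haveI : P.1.HasExtension Q₀.1 := hasExtension_of_isOverWith he
  have hk' : ∀ c : k', Q₀.1 (algebraMap k' K' c) ≤ 1 := fun c => Q.2.1 c
  have htop := H62.FFResConst.residue_adjoin_eq_top h hK P (ns_convert P hns) Q₀ hk'
  -- notation
  let FP := IsLocalRing.ResidueField P.O
  let FQ := IsLocalRing.ResidueField Q.O
  let φ : FP →+* FQ := algebraMap (IsLocalRing.ResidueField P.O) (IsLocalRing.ResidueField Q₀.O)
  let B : Subring FQ := (algebraMap k' FQ).range
  -- compatibility on constants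
  have hcompat : ∀ c : k, φ (algebraMap k FP c) = algebraMap k' FQ (algebraMap k k' c) := by
    intro c
    show IsLocalRing.residue Q₀.O (algebraMap P.O Q₀.O (algebraMap k P.O c)) =
      IsLocalRing.residue Q.O (algebraMap k' Q.O (algebraMap k k' c))
    congr 1
    apply Subtype.ext
    show algebraMap K K' (algebraMap k K c) = algebraMap k' K' (algebraMap k k' c)
    rw [← IsScalarTower.algebraMap_apply, ← IsScalarTower.algebraMap_apply]
  have hcomp : (algebraMap k' FQ).comp (algebraMap k k') = φ.comp (algebraMap k FP) := by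
    ext c
    exact (hcompat c).symm
  -- the image of `F_P` lies in `B`
  have hFP : ∀ r : FP, φ r ∈ B := by
    intro r
    have hr : r ∈ Submodule.span k s := by rw [hs]; trivial
    induction hr using Submodule.span_induction with
    | mem α hα =>
      have hm0 : (minpoly k α).map (algebraMap k k') ≠ 0 :=
        (Polynomial.map_ne_zero_iff (algebraMap k k').injective).mpr (minpoly.ne_zero (hint α hα))
      refine (hsplit α hα).mem_range_of_isRoot hm0 (i := algebraMap k' FQ) (x := φ α) ?_
      rw [Polynomial.IsRoot.def, Polynomial.eval_map, Polynomial.eval₂_map, hcomp,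
        ← Polynomial.hom_eval₂]
      have : Polynomial.eval₂ (algebraMap k FP) α (minpoly k α) = 0 := minpoly.aeval k α
      rw [this, map_zero]
    | zero => rw [map_zero]; exact B.zero_mem
    | add x y _ _ hx hy => rw [map_add]; exact B.add_mem hx hy
    | smul c x _ hx =>
      have hcx : φ (c • x) = algebraMap k' FQ (algebraMap k k' c) * φ x := by
        rw [← hcompat, ← map_mul]
        exact congrArg φ (Algebra.smul_def c x)
      exact (congrArg (· ∈ B) hcx).mpr (B.mul_mem ⟨_, rfl⟩ hx)
  have hall : ∀ w : FQ, w ∈ B := by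
    intro w
    have hw : w ∈ Algebra.adjoin (IsLocalRing.ResidueField P.O)
        (Set.range fun c : k' => IsLocalRing.residue Q₀.O ⟨algebraMap k' K' c, hk' c⟩) := by
      rw [htop]; trivial
    induction hw using Algebra.adjoin_induction with
    | mem y hy =>
      obtain ⟨c, rfl⟩ := hy
      exact ⟨c, rfl⟩
    | algebraMap r => exact hFP r
    | add y z _ _ hy hz => exact B.add_mem hy hz
    | mul y z _ _ hy hz => exact B.mul_mem hy hz
  unfold Place.deg
  rw [finrank_eq_one_iff_of_nonzero' (1 : IsLocalRing.ResidueField Q.O) one_ne_zero]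
  intro w
  obtain ⟨c, hc⟩ := hall w
  refine ⟨c, ?_⟩
  have h1 := Algebra.smul_def c (1 : IsLocalRing.ResidueField Q.O)
  rw [mul_one] at h1
  exact h1.trans hc

end degOne

section main

universe u v w

variable {k : Type u} {K : Type v} [Field k] [Field K] [Algebra k K]

open NSGenus1 in
/-- **S12591**, with the model of `k' ⊗ K` in an arbitrary universe -/
theorem exists_splitting (hK : IsFunctionField k K) (hg : IsGeometric k K) (P : Place k K) :
    ∃ (k' : Type u) (_ : Field k') (_ : Algebra k k'), FiniteDimensional k k' ∧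
      ∀ (K' : Type w) [Field K'] [Algebra K K'] [Algebra k' K'] [Algebra k K']
        [IsScalarTower k k' K'] [IsScalarTower k K K'],
        Function.Bijective (Algebra.TensorProduct.productMap
          (IsScalarTower.toAlgHom k k' K') (IsScalarTower.toAlgHom k K K')) →
        ∀ Q : Place k' K', P.1.HasExtension Q.1 → Q.deg = 1 := by
  classical
  -- a purely inseparable extension making `K` nonsingular
  obtain ⟨k₀, _, _, hfin₀, hpi₀, hmin⟩ :=
    NSMin.exists_minimal.{u, v, max u v, max u v} hK hg
  obtain ⟨K₀, _, _, _, _, _, _, h₀⟩ := NSModel.exists_model hg k₀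
  have hFG₀ := GeomU.isFunctionField_and_isGeometric_constExt h₀ hK hg
  have hK₀ := hFG₀.1
  have hg₀ := hFG₀.2
  -- the places of `K₀` above `P`
  obtain ⟨t, ht⟩ := Place.exists_uniformizer P
  have ht1 : P.1 t < 1 := by rw [ht]; exact Place.exp_neg_one_lt_one
  have ht0 : t ≠ 0 := by
    rintro rfl
    rw [map_zero] at ht
    exact WithZero.exp_ne_zero ht.symm
  have ht0' : algebraMap K K₀ t ≠ 0 := (_root_.map_ne_zero _).mpr ht0
  have hfinP : {P₀ : Place k₀ K₀ | P₀.1 (algebraMap K K₀ t) < 1}.Finite :=
    Place.finite_zeros hK₀ ht0'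
  -- generators of the residue fields
  have hfinres : ∀ P₀ : Place k₀ K₀, Module.Finite k₀ (IsLocalRing.ResidueField P₀.O) :=
    fun P₀ => Module.finite_of_finrank_pos (Place.deg_pos hK₀ P₀)
  choose s hs using fun P₀ : Place k₀ K₀ => (hfinres P₀).fg_top
  have hint : ∀ (P₀ : Place k₀ K₀) (α : IsLocalRing.ResidueField P₀.O), IsIntegral k₀ α := by
    intro P₀ α
    haveI : @Module.Finite k₀ (IsLocalRing.ResidueField P₀.O) _ _ Algebra.toModule := hfinres P₀
    exact IsIntegral.of_finite k₀ α
  set f : Polynomial k₀ := ∏ P₀ ∈ hfinP.toFinset, ∏ α ∈ s P₀, minpoly k₀ α with hf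
  have hf0 : f ≠ 0 := by
    rw [hf, Finset.prod_ne_zero_iff]
    intro P₀ _
    rw [Finset.prod_ne_zero_iff]
    intro α _
    exact minpoly.ne_zero (hint P₀ α)
  let k' := f.SplittingField
  haveI : FiniteDimensional k₀ k' := Polynomial.IsSplittingField.finiteDimensional k' f
  haveI : FiniteDimensional k k' := Module.Finite.trans k₀ k'
  have hsplit : ∀ P₀ ∈ hfinP.toFinset, ∀ α ∈ s P₀,
      ((minpoly k₀ α).map (algebraMap k₀ k')).Splits := by
    intro P₀ hP₀ α hα
    have hdvd : minpoly k₀ α ∣ f :=
      (Finset.dvd_prod_of_mem _ hα).trans (Finset.dvd_prod_of_mem _ hP₀)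
    exact (Polynomial.SplittingField.splits f).of_dvd
      ((Polynomial.map_ne_zero_iff (algebraMap k₀ k').injective).mpr hf0)
      (Polynomial.map_dvd _ hdvd)
  refine ⟨k', inferInstance, inferInstance, inferInstance, ?_⟩
  intro K' _ _ _ _ _ _ h' Q hQ
  letI : Algebra k₀ K' := ((algebraMap k' K').comp (algebraMap k₀ k')).toAlgebra
  haveI : IsScalarTower k₀ k' K' := IsScalarTower.of_algebraMap_eq (fun _ => rfl)
  obtain ⟨_, _, _, _, h₀'⟩ := NSModel.exists_algebra_model (E₁ := k₀) (E₂ := k') (L₁ := K₀)
    (L₂ := K') hg h₀ h'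
  haveI : FiniteDimensional K₀ K' := GeomU.finite_constExt h₀'
  obtain ⟨P₀, e, he⟩ := exists_place_under (K := K₀) hK₀ (resPlace (k := k₀) Q)
  have he0 : e ≠ 0 := (isOverWith_pos he).ne'
  have hP₀ : P₀ ∈ hfinP.toFinset := by
    rw [Set.Finite.mem_toFinset]
    show P₀.1 (algebraMap K K₀ t) < 1
    have h1 : Q.1 (algebraMap K K' t) < 1 :=
      (Valuation.HasExtension.val_map_lt_one_iff P.1 Q.1 t).mpr ht1
    rw [IsScalarTower.algebraMap_apply K K₀ K'] at h1
    have h2 := he (algebraMap K K₀ t)
    rw [resPlace_val] at h2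
    rw [h2] at h1
    by_contra hge
    exact absurd h1 (not_lt.mpr (one_le_pow₀ (not_lt.mp hge)))
  have hns := NSMin.nonsingular_of_minimal hK₀ hg₀
    (fun k₃ _ _ K₃ _ _ _ _ _ _ hf hp hb => hmin K₀ h₀ k₃ K₃ hf hp hb) P₀ k' K' h₀'
  refine deg_eq_one_of_splits h₀' hK₀ P₀ hns (s P₀ : Set _) (hs P₀)
    (fun α hα => hsplit P₀ hP₀ α hα) (fun α _ => hint P₀ α) Q he

end main

end Groth.Agent.H63.NSSplit
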