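import Mathlib

set_option autoImplicit false
set_option linter.style.haveILetI false
universe u

namespace Groth.Agent.H63.NodeDer

open TensorProduct KaehlerDifferential Polynomial

/-- Derivations extend to localizations. -/
theorem exists_derivation_of_isLocalization (V A A' : Type u) [CommRing V] [CommRing A]
    [CommRing A'] [Algebra V A] [Algebra V A'] [Algebra A A'] [IsScalarTower V A A']
    (M : Submonoid A) [IsLocalization M A'] (d : Derivation V A A) :
    ∃ d' : Derivation V A' A', ∀ a, d' (algebraMap A A' a) = algebraMap A A' (d a) := by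
  haveI : Algebra.FormallyEtale A A' := Algebra.FormallyEtale.of_isLocalization M
  let g : Ω[A⁄V] →ₗ[A] A' := (Algebra.linearMap A A') ∘ₗ d.liftKaehlerDifferential
  let l : Ω[A'⁄V] →ₗ[A'] A' := (KaehlerDifferential.isBaseChange_of_formallyEtale V A A').lift g
  refine ⟨l.compDer (D V A'), fun a => ?_⟩
  change l (D V A' (algebraMap A A' a)) = _
  rw [← map_D V V A A', IsBaseChange.lift_eq]
  change algebraMap A A' (d.liftKaehlerDifferential (D V A a)) = _
  rw [Derivation.liftKaehlerDifferential_comp_D]

section stepA

variable (V B : Type u) [CommRing V] [CommRing B] [Algebra V B] (f : B)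

/-- With `B` a `V[T]`-algebra via `T ↦ f`, the kernel of `Ω[B⁄V] → Ω[B⁄V[T]]` is spanned by
`d f`. -/
theorem ker_map_polynomial [Algebra V[X] B] [IsScalarTower V V[X] B]
    (hf : ∀ g : V[X], algebraMap V[X] B g = aeval f g) :
    LinearMap.ker (map V V[X] B B) ≤ Submodule.span B {D V B f} := by
  rw [← range_mapBaseChange]
  rintro _ ⟨z, rfl⟩
  induction z with
  | zero => simp
  | tmul r ω =>
    rw [mapBaseChange_tmul]
    refine Submodule.smul_mem _ _ ?_
    have hω : ω ∈ Submodule.span V[X] (Set.range (D V V[X])) := by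
      rw [span_range_derivation]; trivial
    induction hω using Submodule.span_induction with
    | mem y hy =>
      obtain ⟨g, rfl⟩ := hy
      rw [map_D, hf, Derivation.map_aeval]
      exact Submodule.smul_mem _ _ (Submodule.mem_span_singleton_self _)
    | zero => simp
    | add y z _ _ hy hz => rw [map_add]; exact Submodule.add_mem _ hy hz
    | smul g y _ hy =>
      rw [LinearMap.map_smul, ← algebraMap_smul B g]
      exact Submodule.smul_mem _ _ hy
  | add y z hy hz => rw [map_add]; exact Submodule.add_mem _ hy hz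

/-- If `B[1/ϖ]` is étale over `V[T]` via `T ↦ f` then every differential of `B` over `V`
becomes a multiple of `d f` after multiplication by a power of `ϖ`. -/
theorem exists_pow_smul_D_eq (w : B)
    (het : ((algebraMap B (Localization.Away w)).comp
      (aeval f : V[X] →ₐ[V] B).toRingHom).Etale) (g : B) :
    ∃ (N : ℕ) (c : B), w ^ N • D V B g = c • D V B f := by
  letI alg : Algebra V[X] B := (aeval f : V[X] →ₐ[V] B).toRingHom.toAlgebra
  haveI : IsScalarTower V V[X] B :=
    IsScalarTower.of_algebraMap_eq' (aeval f : V[X] →ₐ[V] B).comp_algebraMap.symm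
  have hfg : ∀ g : V[X], algebraMap V[X] B g = aeval f g := fun _ => rfl
  have het' : Algebra.Etale V[X] (Localization.Away w) := by
    have : (algebraMap B (Localization.Away w)).comp (aeval f : V[X] →ₐ[V] B).toRingHom =
        algebraMap V[X] (Localization.Away w) := by
      rw [IsScalarTower.algebraMap_eq V[X] B (Localization.Away w)]
      rfl
    rw [this, RingHom.etale_algebraMap] at het
    exact het
  have hsub : Subsingleton (Ω[Localization.Away w⁄V[X]]) := inferInstance
  obtain ⟨r, ⟨N, rfl⟩, hr⟩ := (IsLocalizedModule.subsingleton_iff (Submonoid.powers w)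
    (map V[X] V[X] B (Localization.Away w))).mp hsub (D V[X] B g)
  have hmem : w ^ N • D V B g ∈ LinearMap.ker (map V V[X] B B) := by
    rw [LinearMap.mem_ker, LinearMap.map_smul, map_D]
    exact hr
  obtain ⟨c, hc⟩ := Submodule.mem_span_singleton.mp (ker_map_polynomial V B f hfg hmem)
  exact ⟨N, c, hc.symm⟩

end stepA

section descent

variable {B : Type u} [CommRing B]

theorem descent (x y δ : B) (hx : (Ideal.span {x}).IsPrime) (hy : (Ideal.span {y}).IsPrime)
    (hxr : ∀ u : B, x * u = 0 → u = 0) (hyr : ∀ u : B, y * u = 0 → u = 0)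
    (hδ : ¬ IsUnit δ) (hxδ : ¬ x ∣ δ) (hyδ : ¬ y ∣ δ) :
    ∀ (i j : ℕ) (c : B), δ * c = x ^ i * y ^ j → False := by
  have hxd : ∀ u v : B, x ∣ u * v → x ∣ u ∨ x ∣ v := fun u v h => by
    have := hx.mem_or_mem (Ideal.mem_span_singleton.mpr h)
    simpa [Ideal.mem_span_singleton] using this
  have hyd : ∀ u v : B, y ∣ u * v → y ∣ u ∨ y ∣ v := fun u v h => by
    have := hy.mem_or_mem (Ideal.mem_span_singleton.mpr h)
    simpa [Ideal.mem_span_singleton] using this
  intro i
  induction i with
  | zero =>
    intro j
    induction j with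
    | zero =>
      intro c hc
      rw [pow_zero, pow_zero, mul_one] at hc
      exact hδ (IsUnit.of_mul_eq_one c hc)
    | succ j ih =>
      intro c hc
      have h1 : y ∣ δ * c := ⟨x ^ 0 * y ^ j, by rw [hc]; ring⟩
      rcases hyd _ _ h1 with h | ⟨c', rfl⟩
      · exact hyδ h
      · refine ih c' ?_
        have : y * (δ * c' - x ^ 0 * y ^ j) = 0 := by
          have : y * (δ * c') = δ * (y * c') := by ring
          rw [mul_sub, this, hc]; ring
        exact sub_eq_zero.mp (hyr _ this)
  | succ i ih =>
    intro j c hc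
    have h1 : x ∣ δ * c := ⟨x ^ i * y ^ j, by rw [hc]; ring⟩
    rcases hxd _ _ h1 with h | ⟨c', rfl⟩
    · exact hxδ h
    · refine ih j c' ?_
      have : x * (δ * c' - x ^ i * y ^ j) = 0 := by
        have : x * (δ * c') = δ * (x * c') := by ring
        rw [mul_sub, this, hc]; ring
      exact sub_eq_zero.mp (hxr _ this)

end descent

end Groth.Agent.H63.NodeDer
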