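import Mathlib
import Groth.Agent.H63.NodeDerA

set_option autoImplicit false
set_option linter.style.haveILetI false
universe u

namespace Groth.Agent.H63.NodeDer

open TensorProduct KaehlerDifferential Polynomial

section abstractNode

variable (V B : Type u) [CommRing V] [CommRing B] [Algebra V B]
  (x y : B) (d : Derivation V B B) (hdx : d x = x) (hdy : d y = -y)
  (hspan : ∀ g : B, D V B g ∈ Submodule.span B {D V B x, D V B y})

include hdx hdy hspan in
theorem exists_der_eq (g : B) : ∃ a b : B, D V B g = a • D V B x + b • D V B y ∧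
    d g = a * x - b * y := by
  obtain ⟨a, b, hab⟩ := Submodule.mem_span_pair.mp (hspan g)
  refine ⟨a, b, hab.symm, ?_⟩
  have h1 := congrArg d.liftKaehlerDifferential hab
  rw [map_add, LinearMap.map_smul, LinearMap.map_smul, Derivation.liftKaehlerDifferential_comp_D,
    Derivation.liftKaehlerDifferential_comp_D, Derivation.liftKaehlerDifferential_comp_D,
    hdx, hdy] at h1
  rw [← h1]
  simp only [smul_eq_mul]
  ring

include hdx hdy hspan in
theorem der_mem_span (g : B) : d g ∈ Ideal.span {x, y} := by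
  obtain ⟨a, b, -, h⟩ := exists_der_eq V B x y d hdx hdy hspan g
  rw [h, Ideal.mem_span_pair]
  exact ⟨a, -b, by ring⟩

include hdx hdy hspan in
theorem dvd_or_dvd (hx : (Ideal.span {x}).IsPrime) (hy : (Ideal.span {y}).IsPrime)
    (hxr : ∀ u : B, x * u = 0 → u = 0) (hyr : ∀ u : B, y * u = 0 → u = 0)
    (hne : Ideal.span {x, y} ≠ ⊤) (f : B) (w : B) (hw : w = x * y)
    (het : ((algebraMap B (Localization.Away w)).comp
      (aeval f : V[X] →ₐ[V] B).toRingHom).Etale) :
    x ∣ d f ∨ y ∣ d f := by
  by_contra hcon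
  rw [not_or] at hcon
  obtain ⟨N, c, hc⟩ := exists_pow_smul_D_eq V B f w het x
  subst hw
  have h1 := congrArg d.liftKaehlerDifferential hc
  rw [LinearMap.map_smul, LinearMap.map_smul, Derivation.liftKaehlerDifferential_comp_D,
    Derivation.liftKaehlerDifferential_comp_D, hdx, smul_eq_mul, smul_eq_mul] at h1
  have hunit : ¬ IsUnit (d f) := fun hu => by
    apply hne
    exact Ideal.eq_top_of_isUnit_mem _ (der_mem_span V B x y d hdx hdy hspan f) hu
  refine descent x y (d f) hx hy hxr hyr hunit hcon.1 hcon.2 (N + 1) N c ?_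
  rw [mul_comm, ← h1]
  ring

include hdx hdy hspan in
theorem D_mk_eq_zero (hx : (Ideal.span {x}).IsPrime) (hyx : y ∉ Ideal.span {x}) (f : B)
    (h : x ∣ d f) :
    D V (B ⧸ Ideal.span {x}) (Ideal.Quotient.mk (Ideal.span {x}) f) = 0 := by
  obtain ⟨a, b, hab, hd⟩ := exists_der_eq V B x y d hdx hdy hspan f
  have hb : b ∈ Ideal.span {x} := by
    have h1 : b * y ∈ Ideal.span {x} := by
      have : b * y = a * x - d f := by rw [hd]; ring
      rw [this]
      refine Ideal.sub_mem _ (Ideal.mul_mem_left _ _ (Ideal.mem_span_singleton_self x))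
        (Ideal.mem_span_singleton.mpr h)
    rcases hx.mem_or_mem h1 with h2 | h2
    · exact h2
    · exact absurd h2 hyx
  have h2 := congrArg (map V V B (B ⧸ Ideal.span {x})) hab
  rw [map_D, map_add, LinearMap.map_smul, LinearMap.map_smul, map_D, map_D] at h2
  have hx0 : algebraMap B (B ⧸ Ideal.span {x}) x = 0 :=
    Ideal.Quotient.eq_zero_iff_mem.mpr (Ideal.mem_span_singleton_self x)
  have hb0 : algebraMap B (B ⧸ Ideal.span {x}) b = 0 := Ideal.Quotient.eq_zero_iff_mem.mpr hb
  rw [hx0, map_zero, smul_zero, zero_add, ← algebraMap_smul (B ⧸ Ideal.span {x}) b, hb0,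
    zero_smul] at h2
  exact h2

end abstractNode

end Groth.Agent.H63.NodeDer
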