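import Mathlib
import Groth.Agent.H63.NodeDerB

set_option autoImplicit false
set_option linter.style.haveILetI false
universe u

namespace Groth.Agent.H63.NodeDer

open TensorProduct KaehlerDifferential Polynomial

/-- A derivation of a field of characteristic zero which kills a subfield over which the field
is algebraic is zero. -/
theorem derivation_eq_zero_of_algebraic (V L : Type u) [CommRing V] [Field L] [CharZero L]
    [Algebra V L] (dL : Derivation V L L) (F : Subfield L) (hF : ∀ z ∈ F, dL z = 0)
    [Algebra.IsAlgebraic F L] (z : L) : dL z = 0 := by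
  let δ' : Derivation F L L :=
    Derivation.mk'
      ({ toFun := dL
         map_add' := fun a b => map_add dL a b
         map_smul' := fun c a => by
           change dL ((c : L) * a) = (c : L) * dL a
           rw [Derivation.leibniz, hF c c.2, smul_zero, add_zero, smul_eq_mul] } : L →ₗ[F] L)
      (fun a b => by
        change dL (a * b) = a • dL b + b • dL a
        exact dL.leibniz a b)
  haveI : CharZero F := RingHom.charZero (algebraMap F L)
  haveI : Algebra.IsSeparable F L := Algebra.IsAlgebraic.isSeparable_of_perfectField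
  haveI : Algebra.FormallyUnramified F L := Algebra.FormallyUnramified.of_isSeparable F L
  have h1 := Derivation.liftKaehlerDifferential_comp_D δ' z
  have h2 : KaehlerDifferential.D F L z = 0 := Subsingleton.elim _ _
  rw [h2, map_zero] at h1
  exact h1.symm

section notQF

variable (V B : Type u) [CommRing V] [CommRing B] [Algebra V B]
  (x y : B) (d : Derivation V B B) (hdx : d x = x) (hdy : d y = -y)

include hdx hdy in
theorem not_quasiFinite (hx : (Ideal.span {x}).IsPrime) (hyx : y ∉ Ideal.span {x})
    (hchar : ∀ n : ℕ, n ≠ 0 → IsUnit ((n : ℕ) : B)) (f : B) (h : x ∣ d f)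
    (hqf : (aeval f : V[X] →ₐ[V] B).toRingHom.QuasiFinite) : False := by
  haveI : IsDomain (B ⧸ Ideal.span {x}) := Ideal.Quotient.isDomain _
  -- derivation on the quotient
  have hd : ∀ b : B, Ideal.Quotient.mkₐ V (Ideal.span {x}) b = 0 →
      Ideal.Quotient.mkₐ V (Ideal.span {x}) (d b) = 0 := by
    intro b hb
    rw [Ideal.Quotient.mkₐ_eq_mk, Ideal.Quotient.eq_zero_iff_mem, Ideal.mem_span_singleton]
      at hb ⊢
    obtain ⟨b', rfl⟩ := hb
    rw [Derivation.leibniz, hdx]
    exact ⟨d b' + b', by simp only [smul_eq_mul]; ring⟩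
  let dC : Derivation V (B ⧸ Ideal.span {x}) (B ⧸ Ideal.span {x}) :=
    Derivation.liftOfSurjective (f := Ideal.Quotient.mkₐ V (Ideal.span {x}))
      (Ideal.Quotient.mkₐ_surjective V _) hd
  have hdC : ∀ b, dC (Ideal.Quotient.mk (Ideal.span {x}) b) =
      Ideal.Quotient.mk (Ideal.span {x}) (d b) := fun b =>
    Derivation.liftOfSurjective_apply (f := Ideal.Quotient.mkₐ V (Ideal.span {x}))
      (Ideal.Quotient.mkₐ_surjective V _) hd b
  -- extension to the fraction field
  obtain ⟨dL, hdL⟩ := exists_derivation_of_isLocalization V (B ⧸ Ideal.span {x})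
    (FractionRing (B ⧸ Ideal.span {x})) (nonZeroDivisors (B ⧸ Ideal.span {x})) dC
  -- characteristic zero
  haveI : CharZero (B ⧸ Ideal.span {x}) := by
    refine ⟨fun m n hmn => ?_⟩
    by_contra hne
    wlog hlt : m < n generalizing m n
    · exact this n m hmn.symm (Ne.symm hne) (lt_of_le_of_ne (not_lt.mp hlt) (Ne.symm hne))
    obtain ⟨k, rfl⟩ := Nat.exists_eq_add_of_lt hlt
    have hk : ((k + 1 : ℕ) : B ⧸ Ideal.span {x}) = 0 := by
      have : ((m + k + 1 : ℕ) : B ⧸ Ideal.span {x}) = (m : B ⧸ Ideal.span {x}) +
          ((k + 1 : ℕ) : B ⧸ Ideal.span {x}) := by push_cast; ring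
      rw [this] at hmn
      exact (add_eq_left.mp hmn.symm)
    have hu := (hchar (k + 1) (Nat.succ_ne_zero k)).map (Ideal.Quotient.mk (Ideal.span {x}))
    rw [map_natCast, hk] at hu
    exact not_isUnit_zero hu
  haveI : CharZero (FractionRing (B ⧸ Ideal.span {x})) :=
    charZero_of_injective_algebraMap (IsFractionRing.injective (B ⧸ Ideal.span {x}) _)
  -- kernel subfield
  let F : Subfield (FractionRing (B ⧸ Ideal.span {x})) :=
    { carrier := {z | dL z = 0}
      mul_mem' := fun {a b} ha hb => by
        change dL (a * b) = 0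
        rw [Derivation.leibniz, show dL a = 0 from ha, show dL b = 0 from hb, smul_zero,
          smul_zero, add_zero]
      one_mem' := dL.map_one_eq_zero
      add_mem' := fun {a b} ha hb => by
        change dL (a + b) = 0
        rw [map_add, show dL a = 0 from ha, show dL b = 0 from hb, add_zero]
      zero_mem' := map_zero dL
      neg_mem' := fun {a} ha => by
        change dL (-a) = 0
        rw [map_neg, show dL a = 0 from ha, neg_zero]
      inv_mem' := fun a ha => by
        change dL a⁻¹ = 0
        rw [Derivation.leibniz_inv, show dL a = 0 from ha, smul_zero] }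
  -- algebra structures over `V[X]`
  letI alg : Algebra V[X] B := (aeval f : V[X] →ₐ[V] B).toRingHom.toAlgebra
  haveI : IsScalarTower V V[X] B :=
    IsScalarTower.of_algebraMap_eq' (aeval f : V[X] →ₐ[V] B).comp_algebraMap.symm
  haveI : Algebra.QuasiFinite V[X] B := hqf
  haveI : Algebra.QuasiFinite V[X] (B ⧸ Ideal.span {x}) := inferInstance
  haveI : Algebra.QuasiFinite V[X] (FractionRing (B ⧸ Ideal.span {x})) := inferInstance
  have hmem : ∀ g : V[X], algebraMap V[X] (FractionRing (B ⧸ Ideal.span {x})) g ∈ F := by
    intro g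
    change dL _ = 0
    rw [IsScalarTower.algebraMap_apply V[X] (B ⧸ Ideal.span {x}) (FractionRing _),
      IsScalarTower.algebraMap_apply V[X] B (B ⧸ Ideal.span {x}), hdL]
    change algebraMap _ _ (dC (Ideal.Quotient.mk _ (aeval f g))) = 0
    rw [hdC, Derivation.map_aeval]
    have : aeval f (derivative g) • d f ∈ Ideal.span {x} :=
      Ideal.mul_mem_left _ _ (Ideal.mem_span_singleton.mpr h)
    rw [Ideal.Quotient.eq_zero_iff_mem.mpr this, map_zero]
  letI algF : Algebra V[X] F :=
    (RingHom.codRestrict (algebraMap V[X] (FractionRing (B ⧸ Ideal.span {x}))) F hmem).toAlgebra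
  haveI : IsScalarTower V[X] F (FractionRing (B ⧸ Ideal.span {x})) :=
    IsScalarTower.of_algebraMap_eq (fun _ => rfl)
  haveI : Algebra.QuasiFinite F (FractionRing (B ⧸ Ideal.span {x})) :=
    Algebra.QuasiFinite.of_restrictScalars V[X] F _
  haveI : Module.Finite F (FractionRing (B ⧸ Ideal.span {x})) := Module.Finite.of_quasiFinite
  haveI : Algebra.IsAlgebraic F (FractionRing (B ⧸ Ideal.span {x})) :=
    Algebra.IsAlgebraic.of_finite F _
  have hzero := derivation_eq_zero_of_algebraic V (FractionRing (B ⧸ Ideal.span {x})) dL F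
    (fun z hz => hz) (algebraMap _ _ (Ideal.Quotient.mk (Ideal.span {x}) y))
  rw [hdL, hdC, hdy, map_neg, map_neg, neg_eq_zero,
    map_eq_zero_iff _ (IsFractionRing.injective (B ⧸ Ideal.span {x}) _),
    Ideal.Quotient.eq_zero_iff_mem] at hzero
  exact hyx hzero

end notQF

end Groth.Agent.H63.NodeDer
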