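import Mathlib
import Groth.Agent.H63.NodeDerC
import Groth.Agent.H63.EtaEtC

set_option autoImplicit false
set_option linter.style.haveILetI false
universe u

namespace Groth.Agent.H63.NodeDer

open TensorProduct KaehlerDifferential

section poly

variable {σ : Type*} {R : Type*} [CommRing R]

theorem sub_C_constantCoeff_mem (G : MvPolynomial σ R) :
    G - MvPolynomial.C (MvPolynomial.constantCoeff G) ∈
      Ideal.span (Set.range (MvPolynomial.X : σ → MvPolynomial σ R)) := by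
  induction G using MvPolynomial.induction_on with
  | C a => simp
  | add f g hf hg =>
    have : f + g - MvPolynomial.C (MvPolynomial.constantCoeff (f + g)) =
        (f - MvPolynomial.C (MvPolynomial.constantCoeff f)) +
          (g - MvPolynomial.C (MvPolynomial.constantCoeff g)) := by
      rw [map_add, map_add]; ring
    rw [this]
    exact Ideal.add_mem _ hf hg
  | mul_X f i _ =>
    have : MvPolynomial.constantCoeff (f * MvPolynomial.X i) = 0 := by simp
    rw [this, map_zero, sub_zero]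
    exact Ideal.mul_mem_left _ _ (Ideal.subset_span ⟨i, rfl⟩)

end poly

section concrete

variable (V : Type u) [CommRing V] (ϖ : V)

/-- the ideal `(xy - ϖ)` -/
noncomputable abbrev nodeIdeal : Ideal (MvPolynomial (Fin 2) V) :=
  Ideal.span {(MvPolynomial.X 0 * MvPolynomial.X 1 - MvPolynomial.C ϖ : MvPolynomial (Fin 2) V)}

/-- the coordinate functions of the node -/
noncomputable abbrev xi (i : Fin 2) : MvPolynomial (Fin 2) V ⧸ nodeIdeal V ϖ :=
  Ideal.Quotient.mk (nodeIdeal V ϖ) (MvPolynomial.X i)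

theorem xi_mul : xi V ϖ 0 * xi V ϖ 1 = algebraMap V (MvPolynomial (Fin 2) V ⧸ nodeIdeal V ϖ) ϖ := by
  rw [IsScalarTower.algebraMap_apply V (MvPolynomial (Fin 2) V) _, MvPolynomial.algebraMap_eq,
    Ideal.Quotient.algebraMap_eq]
  change Ideal.Quotient.mk _ _ * Ideal.Quotient.mk _ _ = _
  rw [← map_mul, Ideal.Quotient.eq]
  exact Ideal.mem_span_singleton_self _

theorem mk_C_eq (i j : Fin 2) (hij : i ≠ j) (v : V) :
    Ideal.Quotient.mk (nodeIdeal V ϖ) (MvPolynomial.C (ϖ * v)) =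
      xi V ϖ i * (xi V ϖ j * Ideal.Quotient.mk (nodeIdeal V ϖ) (MvPolynomial.C v)) := by
  have h := xi_mul V ϖ
  rw [IsScalarTower.algebraMap_apply V (MvPolynomial (Fin 2) V) _, MvPolynomial.algebraMap_eq,
    Ideal.Quotient.algebraMap_eq] at h
  rw [map_mul, map_mul, ← h, ← mul_assoc]
  congr 1
  fin_cases i <;> fin_cases j
  · exact absurd rfl hij
  · rfl
  · exact mul_comm _ _
  · exact absurd rfl hij

/-- the Euler derivation `x ∂/∂x - y ∂/∂y` on the polynomial ring -/
noncomputable def eulerP : Derivation V (MvPolynomial (Fin 2) V) (MvPolynomial (Fin 2) V) :=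
  (MvPolynomial.X 0 : MvPolynomial (Fin 2) V) • MvPolynomial.pderiv 0 -
    (MvPolynomial.X 1 : MvPolynomial (Fin 2) V) • MvPolynomial.pderiv 1

theorem eulerP_X0 : eulerP V (MvPolynomial.X 0) = MvPolynomial.X 0 := by
  simp [eulerP, MvPolynomial.pderiv_X]

theorem eulerP_X1 : eulerP V (MvPolynomial.X 1) = -MvPolynomial.X 1 := by
  simp [eulerP, MvPolynomial.pderiv_X]

theorem eulerP_rel : eulerP V (MvPolynomial.X 0 * MvPolynomial.X 1 - MvPolynomial.C ϖ) = 0 := by
  rw [map_sub, Derivation.leibniz, eulerP_X0, eulerP_X1]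
  have : eulerP V (MvPolynomial.C ϖ) = 0 := by
    rw [← MvPolynomial.algebraMap_eq]; exact Derivation.map_algebraMap _ _
  rw [this]
  simp only [smul_eq_mul]
  ring

theorem eulerP_mem (G : MvPolynomial (Fin 2) V)
    (hG : Ideal.Quotient.mkₐ V (nodeIdeal V ϖ) G = 0) :
    Ideal.Quotient.mkₐ V (nodeIdeal V ϖ) (eulerP V G) = 0 := by
  rw [Ideal.Quotient.mkₐ_eq_mk, Ideal.Quotient.eq_zero_iff_mem, Ideal.mem_span_singleton] at hG ⊢
  obtain ⟨W, rfl⟩ := hG
  rw [Derivation.leibniz, eulerP_rel, smul_zero, add_zero]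
  exact ⟨eulerP V W, by simp only [smul_eq_mul]⟩

/-- the Euler derivation on the node -/
noncomputable def eulerQ : Derivation V (MvPolynomial (Fin 2) V ⧸ nodeIdeal V ϖ)
    (MvPolynomial (Fin 2) V ⧸ nodeIdeal V ϖ) :=
  Derivation.liftOfSurjective (f := Ideal.Quotient.mkₐ V (nodeIdeal V ϖ))
    (Ideal.Quotient.mkₐ_surjective V _) (d := eulerP V) (eulerP_mem V ϖ)

theorem eulerQ_mk (G : MvPolynomial (Fin 2) V) :
    eulerQ V ϖ (Ideal.Quotient.mk (nodeIdeal V ϖ) G) =
      Ideal.Quotient.mk (nodeIdeal V ϖ) (eulerP V G) :=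
  Derivation.liftOfSurjective_apply (f := Ideal.Quotient.mkₐ V (nodeIdeal V ϖ))
    (Ideal.Quotient.mkₐ_surjective V _) (eulerP_mem V ϖ) G

theorem eulerQ_x : eulerQ V ϖ (xi V ϖ 0) = xi V ϖ 0 := by
  rw [eulerQ_mk, eulerP_X0]

theorem eulerQ_y : eulerQ V ϖ (xi V ϖ 1) = -xi V ϖ 1 := by
  rw [eulerQ_mk, eulerP_X1, map_neg]

theorem D_mem_span_Q (q : MvPolynomial (Fin 2) V ⧸ nodeIdeal V ϖ) :
    D V _ q ∈ Submodule.span (MvPolynomial (Fin 2) V ⧸ nodeIdeal V ϖ)
      {D V _ (xi V ϖ 0), D V _ (xi V ϖ 1)} := by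
  obtain ⟨G, rfl⟩ := Ideal.Quotient.mk_surjective q
  have := Groth.Agent.H63.EtaEt.D_algebraMap_mem V (MvPolynomial (Fin 2) V ⧸ nodeIdeal V ϖ) 2
    (fun i => xi V ϖ i) (fun i => rfl) G
  refine Submodule.span_mono ?_ this
  rintro _ ⟨i, rfl⟩
  fin_cases i
  · exact Set.mem_insert _ _
  · exact Set.mem_insert_of_mem _ rfl

end concrete

end Groth.Agent.H63.NodeDer
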