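import Mathlib
import Groth.Agent.H63.NodeDerD

set_option autoImplicit false
set_option linter.style.haveILetI false
universe u

namespace Groth.Agent.H63.NodeDer

open TensorProduct KaehlerDifferential

section concrete2

variable (V : Type u) [CommRing V] [IsDomain V] [IsDiscreteValuationRing V] (ϖ : V)
  (hϖ : Irreducible ϖ)

include hϖ in
theorem residue_unif : IsLocalRing.residue V ϖ = 0 := by
  rw [IsLocalRing.residue_eq_zero_iff, hϖ.maximalIdeal_eq]
  exact Ideal.mem_span_singleton_self ϖ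

include hϖ in
theorem ker_map_residue :
    RingHom.ker (MvPolynomial.map (σ := Fin 2) (IsLocalRing.residue V)) =
      Ideal.span {(MvPolynomial.C ϖ : MvPolynomial (Fin 2) V)} := by
  rw [MvPolynomial.ker_map, IsLocalRing.ker_residue, hϖ.maximalIdeal_eq, Ideal.map_span,
    Set.image_singleton]

/-- the map from the node to `k[x,y]/(x_i)` -/
noncomputable def thetaP (i : Fin 2) : MvPolynomial (Fin 2) V →+*
    MvPolynomial (Fin 2) (IsLocalRing.ResidueField V) ⧸
      Ideal.span {(MvPolynomial.X i : MvPolynomial (Fin 2) (IsLocalRing.ResidueField V))} :=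
  (Ideal.Quotient.mk _).comp (MvPolynomial.map (IsLocalRing.residue V))

include hϖ in
theorem thetaP_rel (i : Fin 2) :
    thetaP V i (MvPolynomial.X 0 * MvPolynomial.X 1 - MvPolynomial.C ϖ) = 0 := by
  simp only [thetaP, RingHom.comp_apply, map_sub, map_mul, MvPolynomial.map_X, MvPolynomial.map_C,
    residue_unif V ϖ hϖ, map_zero, sub_zero]
  rw [← map_mul, Ideal.Quotient.eq_zero_iff_mem, Ideal.mem_span_singleton]
  fin_cases i
  · exact ⟨MvPolynomial.X 1, rfl⟩
  · exact ⟨MvPolynomial.X 0, mul_comm _ _⟩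

/-- the induced map on the node -/
noncomputable def theta (i : Fin 2) : (MvPolynomial (Fin 2) V ⧸ nodeIdeal V ϖ) →+*
    MvPolynomial (Fin 2) (IsLocalRing.ResidueField V) ⧸
      Ideal.span {(MvPolynomial.X i : MvPolynomial (Fin 2) (IsLocalRing.ResidueField V))} :=
  Ideal.Quotient.lift (nodeIdeal V ϖ) (thetaP V i) (fun a ha => by
    obtain ⟨W, rfl⟩ := Ideal.mem_span_singleton.mp ha
    rw [map_mul, thetaP_rel V ϖ hϖ i, zero_mul])

include hϖ in
theorem ker_theta (i j : Fin 2) (hij : i ≠ j) :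
    RingHom.ker (theta V ϖ hϖ i) = Ideal.span {xi V ϖ i} := by
  apply le_antisymm
  · intro q hq
    obtain ⟨G, rfl⟩ := Ideal.Quotient.mk_surjective q
    rw [RingHom.mem_ker] at hq
    change thetaP V i G = 0 at hq
    rw [thetaP, RingHom.comp_apply, Ideal.Quotient.eq_zero_iff_mem, Ideal.mem_span_singleton] at hq
    obtain ⟨H, hH⟩ := hq
    obtain ⟨H', rfl⟩ := MvPolynomial.map_surjective (IsLocalRing.residue V)
      IsLocalRing.residue_surjective H
    have hker : G - MvPolynomial.X i * H' ∈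
        RingHom.ker (MvPolynomial.map (σ := Fin 2) (IsLocalRing.residue V)) := by
      rw [RingHom.mem_ker, map_sub, hH, map_mul, MvPolynomial.map_X, sub_self]
    rw [ker_map_residue V ϖ hϖ, Ideal.mem_span_singleton] at hker
    obtain ⟨G'', hG''⟩ := hker
    have hG : G = MvPolynomial.X i * H' + MvPolynomial.C ϖ * G'' := by
      rw [← hG'']; ring
    rw [hG, map_add, map_mul, map_mul]
    have h1 := mk_C_eq V ϖ i j hij 1
    rw [mul_one] at h1
    rw [h1]
    refine Ideal.add_mem _ (Ideal.mul_mem_right _ _ (Ideal.mem_span_singleton_self _)) ?_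
    rw [mul_assoc]
    exact Ideal.mul_mem_right _ _ (Ideal.mem_span_singleton_self _)
  · rw [Ideal.span_le, Set.singleton_subset_iff, SetLike.mem_coe, RingHom.mem_ker]
    change thetaP V i (MvPolynomial.X i) = 0
    rw [thetaP, RingHom.comp_apply, MvPolynomial.map_X, Ideal.Quotient.eq_zero_iff_mem]
    exact Ideal.mem_span_singleton_self _

include hϖ in
theorem span_xi_isPrime (i j : Fin 2) (hij : i ≠ j) : (Ideal.span {xi V ϖ i}).IsPrime := by
  rw [← ker_theta V ϖ hϖ i j hij]
  haveI : (Ideal.span {(MvPolynomial.X i : MvPolynomial (Fin 2)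
      (IsLocalRing.ResidueField V))}).IsPrime :=
    (Ideal.span_singleton_prime (MvPolynomial.X_ne_zero i)).mpr MvPolynomial.X_prime
  exact RingHom.ker_isPrime _

include hϖ in
theorem xi_notMem (i j : Fin 2) (hij : i ≠ j) : xi V ϖ j ∉ Ideal.span {xi V ϖ i} := by
  rw [← ker_theta V ϖ hϖ i j hij, RingHom.mem_ker]
  change ¬ thetaP V i (MvPolynomial.X j) = 0
  rw [thetaP, RingHom.comp_apply, MvPolynomial.map_X, Ideal.Quotient.eq_zero_iff_mem,
    Ideal.mem_span_singleton, MvPolynomial.X_dvd_X]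
  exact hij

/-- the augmentation of the node: `x, y ↦ 0`, `V → k` -/
noncomputable def theta0 : (MvPolynomial (Fin 2) V ⧸ nodeIdeal V ϖ) →+*
    IsLocalRing.ResidueField V :=
  Ideal.Quotient.lift (nodeIdeal V ϖ)
    ((IsLocalRing.residue V).comp MvPolynomial.constantCoeff) (fun a ha => by
    obtain ⟨W, rfl⟩ := Ideal.mem_span_singleton.mp ha
    rw [map_mul, RingHom.comp_apply, map_sub, map_mul, MvPolynomial.constantCoeff_X,
      MvPolynomial.constantCoeff_C, zero_mul, zero_sub, map_neg, residue_unif V ϖ hϖ, neg_zero,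
      zero_mul])

include hϖ in
theorem ker_theta0 : RingHom.ker (theta0 V ϖ hϖ) = Ideal.span {xi V ϖ 0, xi V ϖ 1} := by
  apply le_antisymm
  · intro q hq
    obtain ⟨G, rfl⟩ := Ideal.Quotient.mk_surjective q
    rw [RingHom.mem_ker] at hq
    change IsLocalRing.residue V (MvPolynomial.constantCoeff G) = 0 at hq
    rw [IsLocalRing.residue_eq_zero_iff, hϖ.maximalIdeal_eq, Ideal.mem_span_singleton] at hq
    obtain ⟨v, hv⟩ := hq
    have hG : G = (G - MvPolynomial.C (MvPolynomial.constantCoeff G)) +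
        MvPolynomial.C (ϖ * v) := by rw [← hv]; ring
    rw [hG, map_add]
    refine Ideal.add_mem _ ?_ ?_
    · have h1 := Ideal.mem_map_of_mem (Ideal.Quotient.mk (nodeIdeal V ϖ))
        (sub_C_constantCoeff_mem G)
      rw [Ideal.map_span] at h1
      refine Ideal.span_mono ?_ h1
      rintro _ ⟨_, ⟨i, rfl⟩, rfl⟩
      fin_cases i
      · exact Set.mem_insert _ _
      · exact Set.mem_insert_of_mem _ rfl
    · rw [mk_C_eq V ϖ 0 1 (by decide) v]
      exact Ideal.mul_mem_right _ _ (Ideal.subset_span (Set.mem_insert _ _))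
  · rw [Ideal.span_le]
    rintro _ (rfl | rfl)
    · change IsLocalRing.residue V (MvPolynomial.constantCoeff (MvPolynomial.X 0)) = 0
      rw [MvPolynomial.constantCoeff_X, map_zero]
    · change IsLocalRing.residue V (MvPolynomial.constantCoeff (MvPolynomial.X 1)) = 0
      rw [MvPolynomial.constantCoeff_X, map_zero]

include hϖ in
theorem span_xi_pair_isPrime : (Ideal.span {xi V ϖ 0, xi V ϖ 1}).IsPrime := by
  rw [← ker_theta0 V ϖ hϖ]
  exact RingHom.ker_isPrime _

include hϖ in
theorem xi_regular (i : Fin 2) (u : MvPolynomial (Fin 2) V ⧸ nodeIdeal V ϖ)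
    (hu : xi V ϖ i * u = 0) : u = 0 := by
  obtain ⟨G, rfl⟩ := Ideal.Quotient.mk_surjective u
  change Ideal.Quotient.mk _ _ * _ = 0 at hu
  rw [← map_mul, Ideal.Quotient.eq_zero_iff_mem, Ideal.mem_span_singleton] at hu
  obtain ⟨W, hW⟩ := hu
  have hprime : Prime (MvPolynomial.X i : MvPolynomial (Fin 2) V) := MvPolynomial.X_prime
  have hdvd : (MvPolynomial.X i : MvPolynomial (Fin 2) V) ∣
      (MvPolynomial.X 0 * MvPolynomial.X 1 - MvPolynomial.C ϖ) * W := ⟨G, hW.symm⟩
  rcases hprime.dvd_or_dvd hdvd with h | ⟨W', rfl⟩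
  · exfalso
    have h2 : (MvPolynomial.X i : MvPolynomial (Fin 2) V) ∣ MvPolynomial.X 0 * MvPolynomial.X 1 := by
      fin_cases i
      · exact Dvd.intro _ rfl
      · exact Dvd.intro_left _ rfl
    have h3 : (MvPolynomial.X i : MvPolynomial (Fin 2) V) ∣ MvPolynomial.C ϖ := by
      have := dvd_sub h2 h
      simpa using this
    obtain ⟨H, hH⟩ := h3
    have := congrArg MvPolynomial.constantCoeff hH
    rw [MvPolynomial.constantCoeff_C, map_mul, MvPolynomial.constantCoeff_X, zero_mul] at this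
    exact hϖ.ne_zero this
  · have hcancel : G = (MvPolynomial.X 0 * MvPolynomial.X 1 - MvPolynomial.C ϖ) * W' := by
      have : MvPolynomial.X i * G = MvPolynomial.X i *
          ((MvPolynomial.X 0 * MvPolynomial.X 1 - MvPolynomial.C ϖ) * W') := by
        rw [hW]; ring
      exact mul_left_cancel₀ (MvPolynomial.X_ne_zero i) this
    rw [Ideal.Quotient.eq_zero_iff_mem, hcancel]
    exact Ideal.mul_mem_right _ _ (Ideal.mem_span_singleton_self _)

end concrete2

end Groth.Agent.H63.NodeDer
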