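import Mathlib
import Groth.Agent.H63.NodeDerE

set_option autoImplicit false
set_option linter.style.haveILetI false
universe u

namespace Groth.Agent.H63.NodeDer

open TensorProduct KaehlerDifferential

section locB

variable (V : Type u) [CommRing V] [IsDomain V] [IsDiscreteValuationRing V] (ϖ : V)
  (hϖ : Irreducible ϖ) (h : MvPolynomial (Fin 2) V ⧸ nodeIdeal V ϖ)
  (hh : h ∉ Ideal.span {xi V ϖ 0, xi V ϖ 1})

include hϖ hh in
theorem disj_single (i j : Fin 2) (hij : i ≠ j) :
    Disjoint (Submonoid.powers h : Set (MvPolynomial (Fin 2) V ⧸ nodeIdeal V ϖ))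
      (Ideal.span {xi V ϖ i} : Set (MvPolynomial (Fin 2) V ⧸ nodeIdeal V ϖ)) := by
  rw [Set.disjoint_left]
  rintro _ ⟨n, rfl⟩ hn
  have hprime := span_xi_isPrime V ϖ hϖ i j hij
  have h1 : h ∈ Ideal.span {xi V ϖ i} := hprime.mem_of_pow_mem n hn
  apply hh
  refine Ideal.span_mono ?_ h1
  rintro _ rfl
  fin_cases i
  · exact Set.mem_insert _ _
  · exact Set.mem_insert_of_mem _ rfl

include hϖ hh in
theorem disj_pair :
    Disjoint (Submonoid.powers h : Set (MvPolynomial (Fin 2) V ⧸ nodeIdeal V ϖ))
      (Ideal.span {xi V ϖ 0, xi V ϖ 1} : Set (MvPolynomial (Fin 2) V ⧸ nodeIdeal V ϖ)) := by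
  rw [Set.disjoint_left]
  rintro _ ⟨n, rfl⟩ hn
  exact hh ((span_xi_pair_isPrime V ϖ hϖ).mem_of_pow_mem n hn)

include hϖ hh in
theorem spanB_isPrime (i j : Fin 2) (hij : i ≠ j) :
    (Ideal.span {algebraMap _ (Localization.Away h) (xi V ϖ i)}).IsPrime := by
  have := IsLocalization.isPrime_of_isPrime_disjoint (Submonoid.powers h) (Localization.Away h)
    (Ideal.span {xi V ϖ i}) (span_xi_isPrime V ϖ hϖ i j hij) (disj_single V ϖ hϖ h hh i j hij)
  rwa [Ideal.map_span, Set.image_singleton] at this

include hϖ hh in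
theorem xiB_notMem (i j : Fin 2) (hij : i ≠ j) :
    algebraMap _ (Localization.Away h) (xi V ϖ j) ∉
      Ideal.span {algebraMap _ (Localization.Away h) (xi V ϖ i)} := by
  intro hmem
  have hc := IsLocalization.under_map_of_isPrime_disjoint (Submonoid.powers h)
    (Localization.Away h) (I := Ideal.span {xi V ϖ i})
    (span_xi_isPrime V ϖ hϖ i j hij) (disj_single V ϖ hϖ h hh i j hij)
  rw [Ideal.map_span, Set.image_singleton] at hc
  have : xi V ϖ j ∈ Ideal.under (MvPolynomial (Fin 2) V ⧸ nodeIdeal V ϖ)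
      (Ideal.span {algebraMap _ (Localization.Away h) (xi V ϖ i)}) := hmem
  rw [hc] at this
  exact xi_notMem V ϖ hϖ i j hij this

include hϖ in
theorem xiB_regular (i : Fin 2) (u : Localization.Away h)
    (hu : algebraMap _ (Localization.Away h) (xi V ϖ i) * u = 0) : u = 0 := by
  have hmem : xi V ϖ i ∈ nonZeroDivisors (MvPolynomial (Fin 2) V ⧸ nodeIdeal V ϖ) := by
    rw [mem_nonZeroDivisors_iff_right]
    intro z hz
    exact xi_regular V ϖ hϖ i z (by rw [mul_comm]; exact hz)
  have h2 := IsLocalization.map_nonZeroDivisors_le (Submonoid.powers h) (Localization.Away h)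
    (Submonoid.mem_map_of_mem _ hmem)
  rw [mem_nonZeroDivisors_iff_right] at h2
  exact h2 u (by rw [mul_comm]; exact hu)

include hϖ hh in
theorem spanB_pair_ne_top :
    Ideal.span {algebraMap _ (Localization.Away h) (xi V ϖ 0),
      algebraMap _ (Localization.Away h) (xi V ϖ 1)} ≠ ⊤ := by
  have := IsLocalization.isPrime_of_isPrime_disjoint (Submonoid.powers h) (Localization.Away h)
    (Ideal.span {xi V ϖ 0, xi V ϖ 1}) (span_xi_pair_isPrime V ϖ hϖ) (disj_pair V ϖ hϖ h hh)
  rw [Ideal.map_span, Set.image_pair] at this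
  exact this.ne_top

omit [IsDomain V] [IsDiscreteValuationRing V] in
theorem D_mem_span_B (g : Localization.Away h) :
    D V (Localization.Away h) g ∈ Submodule.span (Localization.Away h)
      {D V (Localization.Away h) (algebraMap _ (Localization.Away h) (xi V ϖ 0)),
        D V (Localization.Away h) (algebraMap _ (Localization.Away h) (xi V ϖ 1))} := by
  have hspan := KaehlerDifferential.span_range_map_derivation_of_isLocalization V
    (MvPolynomial (Fin 2) V ⧸ nodeIdeal V ϖ) (Localization.Away h) (Submonoid.powers h)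
  have hg : D V (Localization.Away h) g ∈ (⊤ : Submodule (Localization.Away h) _) := trivial
  rw [← hspan] at hg
  refine (Submodule.span_le.mpr ?_) hg
  rintro _ ⟨q, rfl⟩
  obtain ⟨a, b, hab⟩ := Submodule.mem_span_pair.mp (D_mem_span_Q V ϖ q)
  change map V V _ (Localization.Away h) (D V _ q) ∈ _
  rw [← hab, map_add, LinearMap.map_smul, LinearMap.map_smul, map_D, map_D,
    ← algebraMap_smul (Localization.Away h) a, ← algebraMap_smul (Localization.Away h) b]
  exact Submodule.add_mem _
    (Submodule.smul_mem _ _ (Submodule.subset_span (Set.mem_insert _ _)))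
    (Submodule.smul_mem _ _ (Submodule.subset_span (Set.mem_insert_of_mem _ rfl)))

omit [IsDomain V] [IsDiscreteValuationRing V] in
theorem exists_eulerB : ∃ d : Derivation V (Localization.Away h) (Localization.Away h),
    d (algebraMap _ (Localization.Away h) (xi V ϖ 0)) =
      algebraMap _ (Localization.Away h) (xi V ϖ 0) ∧
    d (algebraMap _ (Localization.Away h) (xi V ϖ 1)) =
      -algebraMap _ (Localization.Away h) (xi V ϖ 1) := by
  obtain ⟨d, hd⟩ := exists_derivation_of_isLocalization V
    (MvPolynomial (Fin 2) V ⧸ nodeIdeal V ϖ) (Localization.Away h) (Submonoid.powers h)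
    (eulerQ V ϖ)
  refine ⟨d, ?_, ?_⟩
  · rw [hd, eulerQ_x]
  · rw [hd, eulerQ_y, map_neg]

omit [IsDomain V] [IsDiscreteValuationRing V] in
theorem unif_eq : algebraMap V (Localization.Away h) ϖ =
    algebraMap _ (Localization.Away h) (xi V ϖ 0) *
      algebraMap _ (Localization.Away h) (xi V ϖ 1) := by
  rw [← map_mul, xi_mul, ← IsScalarTower.algebraMap_apply]

omit [IsDomain V] [IsDiscreteValuationRing V] in
theorem natCast_isUnit [IsLocalRing V] [CharZero (IsLocalRing.ResidueField V)] (n : ℕ)
    (hn : n ≠ 0) : IsUnit ((n : ℕ) : Localization.Away h) := by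
  have h1 : IsUnit ((n : ℕ) : V) := by
    by_contra hcon
    have : ((n : ℕ) : V) ∈ IsLocalRing.maximalIdeal V := (IsLocalRing.mem_maximalIdeal _).mpr hcon
    rw [← IsLocalRing.residue_eq_zero_iff, map_natCast] at this
    exact hn (Nat.cast_eq_zero.mp this)
  have := h1.map (algebraMap V (Localization.Away h))
  rwa [map_natCast] at this

end locB

end Groth.Agent.H63.NodeDer
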