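import Mathlib
import Groth.Agent.H63.OrdDiff
import Groth.Agent.H63.KaehlerFF

set_option autoImplicit false
set_option linter.style.haveILetI false

namespace Groth.Agent.H63.OrdDiff2
open FunFld LocRes LaurentSeries Groth.Agent.H55 Groth.Agent.H63.OrdDiff Groth.Agent.H63.KaehlerFF

variable {k K : Type*} [Field k] [Field K] [Algebra k K] [IsAlgClosed k]

theorem v_D_ne_zero (hK : IsFunctionField k K) {x : K} (hx : KaehlerDifferential.D k K x ≠ 0)
    (P : Place k K) (Φ : K →ₐ[k] LaurentSeries k) (hΦ : LocRes.IsExpansionAt P.1 Φ) :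
    Valued.v (LocRes.D k (Φ x)) ≠ 0 := by
  obtain ⟨π, hπ⟩ := Place.exists_uniformizer P
  obtain ⟨a, ha⟩ := exists_smul_D_eq hK hx (KaehlerDifferential.D k K π)
  have h1 := v_D_param P Φ hΦ π hπ
  rw [D_map_eq_of_D_eq Φ ha, map_mul] at h1
  intro h0
  rw [h0, mul_zero] at h1
  exact zero_ne_one h1

theorem finite_support_ordDiff (hK : IsFunctionField k K) {x : K}
    (hx : KaehlerDifferential.D k K x ≠ 0) (Φ : Place k K → (K →ₐ[k] LaurentSeries k))
    (hΦ : ∀ P : Place k K, LocRes.IsExpansionAt P.1 (Φ P)) :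
    (Function.support fun P : Place k K => LocRes.ordDiff (Φ P) 1 x).Finite := by
  obtain ⟨δ, hδ⟩ := exists_der hK hx
  have hfin := (Groth.Agent.H86.FF.finite_poles' hK x).union
    (Groth.Agent.H63.DerGood.finite_der_bad hK δ)
  refine hfin.subset ?_
  intro P hP
  rw [Function.mem_support] at hP
  by_contra hbad
  rw [Set.mem_union, not_or] at hbad
  obtain ⟨hpole, hgood⟩ := hbad
  apply hP
  have hs1 : P.1 x ≤ 1 := not_lt.1 hpole
  obtain ⟨π, hπ⟩ := Place.exists_uniformizer P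
  have hδπ : P.1 (δ π) ≤ 1 := by
    by_contra hlt
    rw [not_le] at hlt
    exact hgood ⟨π, by rw [hπ]; exact (WithZero.exp_le_exp.2 (by omega)).trans_eq WithZero.exp_zero, hlt⟩
  have h1 := v_D_param P (Φ P) (hΦ P) π hπ
  rw [D_map_eq_of_D_eq (Φ P) (hδ π), map_mul, (hΦ P).1] at h1
  have h2 : Valued.v (LocRes.D k (Φ P x)) ≤ 1 := v_D_le_one _ (by rw [(hΦ P).1]; exact hs1)
  have h3 : Valued.v (LocRes.D k (Φ P x)) = 1 := by
    apply le_antisymm h2
    rw [← h1]
    exact mul_le_of_le_one_left' hδπ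
  change LocRes.ordDiff (Φ P) 1 x = 0
  unfold LocRes.ordDiff
  rw [vDiff_one, h3]
  simp

theorem ordDiff_smul (hK : IsFunctionField k K) {x : K} (hx : KaehlerDifferential.D k K x ≠ 0)
    (P : Place k K) (Φ : K →ₐ[k] LaurentSeries k) (hΦ : LocRes.IsExpansionAt P.1 Φ) (g : K)
    (hg : g ≠ 0) : LocRes.ordDiff Φ g x = P.ord g + LocRes.ordDiff Φ 1 x := by
  unfold LocRes.ordDiff
  rw [vDiff_one]
  unfold LocRes.vDiff
  rw [map_mul, hΦ.1, WithZero.log_mul ((Valuation.ne_zero_iff _).mpr hg) (v_D_ne_zero hK hx P Φ hΦ)]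
  unfold Place.ord
  ring

theorem divDiff_apply (hK : IsFunctionField k K) {x : K} (hx : KaehlerDifferential.D k K x ≠ 0)
    (g : K) (hg : g ≠ 0) (Φ : Place k K → (K →ₐ[k] LaurentSeries k))
    (hΦ : ∀ P : Place k K, LocRes.IsExpansionAt P.1 (Φ P)) (P : Place k K) :
    divDiff Φ g x P = LocRes.ordDiff (Φ P) g x := by
  have hfin : (Function.support fun P : Place k K => LocRes.ordDiff (Φ P) g x).Finite := by
    refine ((Place.finite_support_ord hK g).union (finite_support_ordDiff hK hx Φ hΦ)).subset ?_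
    intro Q hQ
    rw [Function.mem_support] at hQ
    by_contra hnot
    rw [Set.mem_union, not_or, Function.mem_support, Function.mem_support, not_not, not_not] at hnot
    apply hQ
    rw [ordDiff_smul hK hx Q (Φ Q) (hΦ Q) g hg, hnot.1, hnot.2, add_zero]
  unfold divDiff
  rw [dif_pos hfin]
  rfl

end Groth.Agent.H63.OrdDiff2
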