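import Groth.Prelude.Def_W4bk4bump814p2PDiff
import Mathlib.RingTheory.Kaehler.Polynomial
import Mathlib.RingTheory.WittVector.StructurePolynomial
import Mathlib.RingTheory.WittVector.Defs
import Mathlib.FieldTheory.Perfect
import Mathlib.Algebra.CharP.Lemmas
import Mathlib.Algebra.CharP.Algebra

/-!
# The filtration `Σ^i` of Kähler differentials by `p^i`-th power differentials (helper63)

`delta i x = x^(p^i-1) dx`.  We prove, using the Witt addition polynomials of Mathlib
(differentiated in `Ω_{ℤ[X]/ℤ}`, which is torsion free), that the defect of additivity of `delta n`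
is a sum of lower deltas, and deduce that `sigma n` is a `K`-submodule, the additive closure of the
lower deltas, and stable under `p^n`-th powers.
-/

set_option autoImplicit false
set_option linter.unusedSectionVars false
set_option linter.style.haveILetI false
universe u v

namespace Groth.Agent.H63.PDiff
open W4bk4bump814p2

section General
variable (K : Type u) (A : Type v) [CommRing K] [CommRing A] [Algebra K A] (p : ℕ)

theorem delta_zero_right (m : ℕ) : delta K A p m (0 : A) = 0 := by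
  simp [delta]

theorem mem_sigma_iff (n : ℕ) (ω : Ω[A⁄K]) :
    ω ∈ sigma K A p n ↔ ∃ b : ℕ → A, ω = ∑ m ∈ Finset.range n, delta K A p m (b m) := by
  induction n generalizing ω with
  | zero => simp
  | succ n ih =>
    rw [mem_sigma_succ]
    constructor
    · rintro ⟨x, hx⟩
      obtain ⟨b, hb⟩ := (ih _).1 hx
      refine ⟨fun m => if m = n then x else b m, ?_⟩
      rw [Finset.sum_range_succ]
      dsimp only
      rw [if_pos rfl, ← sub_eq_iff_eq_add, hb]
      refine Finset.sum_congr rfl fun m hm => ?_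
      rw [if_neg (Finset.mem_range.1 hm).ne]
    · rintro ⟨b, hb⟩
      refine ⟨b n, (ih _).2 ⟨b, ?_⟩⟩
      rw [hb, Finset.sum_range_succ, add_sub_cancel_right]

theorem sum_mem_sigma (n : ℕ) (b : ℕ → A) :
    ∑ m ∈ Finset.range n, delta K A p m (b m) ∈ sigma K A p n :=
  (mem_sigma_iff K A p n _).2 ⟨b, rfl⟩

theorem delta_mem_sigma {n j : ℕ} (hj : j < n) (x : A) : delta K A p j x ∈ sigma K A p n := by
  refine (mem_sigma_iff K A p n _).2 ⟨fun m => if m = j then x else 0, ?_⟩
  rw [Finset.sum_eq_single j]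
  · dsimp only
    rw [if_pos rfl]
  · intro m _ hm
    dsimp only
    rw [if_neg hm, delta_zero_right]
  · intro h
    exact absurd (Finset.mem_range.2 hj) h

end General

section Witt
variable (p : ℕ) [hp : Fact p.Prime]
open MvPolynomial

local notation "RR" => MvPolynomial (Fin 2 × ℕ) ℤ

theorem D_C_mul_pow {n j : ℕ} (hj : j ≤ n) (f : RR) :
    KaehlerDifferential.D ℤ RR (C ((p : ℤ) ^ j) * f ^ p ^ (n - j)) =
      ((p : ℤ) ^ n) • delta ℤ RR p (n - j) f := by
  have e : ((p : ℤ) ^ n) = (p : ℤ) ^ j * ((p ^ (n - j) : ℕ) : ℤ) := by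
    push_cast
    rw [← pow_add, Nat.add_sub_cancel' hj]
  rw [C_mul', Derivation.map_smul, Derivation.leibniz_pow, delta, e, mul_smul,
    Nat.cast_smul_eq_nsmul]
  rfl

theorem witt_sum_eq (n : ℕ) :
    ∑ j ∈ Finset.range (n + 1), C ((p : ℤ) ^ j) * (WittVector.wittAdd p j) ^ p ^ (n - j) =
      ∑ j ∈ Finset.range (n + 1), (C ((p : ℤ) ^ j) * (X (0, j) : RR) ^ p ^ (n - j) +
        C ((p : ℤ) ^ j) * (X (1, j) : RR) ^ p ^ (n - j)) := by
  have h := wittStructureInt_prop p (X 0 + X 1 : MvPolynomial (Fin 2) ℤ) n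
  rw [wittPolynomial_eq_sum_C_mul_X_pow] at h
  simp only [map_sum, map_mul, map_pow, bind₁_C_right, bind₁_X_right, map_add, rename_C,
    rename_X] at h
  rw [Finset.sum_add_distrib]
  simp only [C_pow]
  exact h

theorem zsmul_cancel (n : ℕ) {ω η : Ω[RR⁄ℤ]} (h : ((p : ℤ) ^ n) • ω = ((p : ℤ) ^ n) • η) : ω = η := by
  rw [algebra_compatible_smul RR ((p : ℤ) ^ n) ω, algebra_compatible_smul RR ((p : ℤ) ^ n) η] at h
  refine smul_right_injective _ ?_ h
  simp [hp.out.ne_zero]

theorem witt_delta_identity (n : ℕ) :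
    ∑ j ∈ Finset.range (n + 1), delta ℤ RR p (n - j) (WittVector.wittAdd p j) =
      ∑ j ∈ Finset.range (n + 1),
        (delta ℤ RR p (n - j) (X (0, j)) + delta ℤ RR p (n - j) (X (1, j))) := by
  have h := congrArg (KaehlerDifferential.D ℤ RR) (witt_sum_eq p n)
  simp only [map_sum, map_add] at h
  have hL : ∀ (f : ℕ → RR), ∀ j ∈ Finset.range (n + 1),
      KaehlerDifferential.D ℤ RR (C ((p : ℤ) ^ j) * f j ^ p ^ (n - j)) =
        ((p : ℤ) ^ n) • delta ℤ RR p (n - j) (f j) :=
    fun f j hj => D_C_mul_pow p (Nat.lt_succ_iff.1 (Finset.mem_range.1 hj)) _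
  rw [Finset.sum_congr rfl (hL _), Finset.sum_add_distrib,
    Finset.sum_congr rfl (hL fun j => X (0, j)), Finset.sum_congr rfl (hL fun j => X (1, j)),
    ← Finset.smul_sum, ← Finset.smul_sum, ← Finset.smul_sum, ← smul_add] at h
  rw [Finset.sum_add_distrib]
  exact zsmul_cancel p n h

end Witt

section Transfer
variable (K : Type u) (A : Type v) [CommRing K] [CommRing A] [Algebra K A] (p : ℕ) [hp : Fact p.Prime]
open MvPolynomial

local notation "RR" => MvPolynomial (Fin 2 × ℕ) ℤ

theorem exists_witt (x y : A) : ∃ s : ℕ → A, s 0 = x + y ∧ ∀ n,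
    ∑ j ∈ Finset.range (n + 1), delta K A p (n - j) (s j) = delta K A p n x + delta K A p n y := by
  let φ : RR →ₐ[ℤ] A :=
    aeval (fun ij : Fin 2 × ℕ => if ij.2 = 0 then (if ij.1 = 0 then x else y) else 0)
  letI : Algebra RR A := φ.toRingHom.toAlgebra
  have halg : ∀ r : RR, algebraMap RR A r = φ r := fun _ => rfl
  haveI : SMulCommClass K RR A := ⟨fun k r a => by
    rw [Algebra.smul_def r a, Algebra.smul_def r (k • a), mul_smul_comm]⟩
  let Φ : Ω[RR⁄ℤ] →ₗ[RR] Ω[A⁄K] := KaehlerDifferential.map ℤ K RR A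
  have hΦ : ∀ (m : ℕ) (r : RR), Φ (delta ℤ RR p m r) = delta K A p m (φ r) := by
    intro m r
    simp only [delta, Φ, map_smul, KaehlerDifferential.map_D]
    rw [algebra_compatible_smul A (r ^ (p ^ m - 1)), halg, halg, map_pow]
  refine ⟨fun j => φ (WittVector.wittAdd p j), ?_, fun n => ?_⟩
  · simp [WittVector.wittAdd_zero, φ]
  · have h := congrArg Φ (witt_delta_identity p n)
    simp only [map_sum, map_add, hΦ] at h
    rw [h, Finset.sum_range_succ', Finset.sum_eq_zero, zero_add]
    · simp [φ]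
    · intro j _
      simp [φ, delta_zero_right]

end Transfer

section CharPSec
variable (K : Type u) (A : Type v) [Field K] [CommRing A] [Algebra K A] (p : ℕ) [hp : Fact p.Prime]
  [CharP K p]

include K in
theorem natCast_p_eq_zero : (p : A) = 0 := by
  rw [← map_natCast (algebraMap K A), CharP.cast_eq_zero, map_zero]

theorem delta_neg (m : ℕ) (a : A) : delta K A p m (-a) = - delta K A p m a := by
  rcases subsingleton_or_nontrivial A with h | h
  · haveI := Module.subsingleton A Ω[A⁄K]
    exact Subsingleton.elim _ _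
  · haveI : CharP A p := charP_of_injective_algebraMap (algebraMap K A).injective p
    have h1 : (-1 : A) ^ (p ^ m - 1) = 1 := by
      have h2 : (-1 : A) ^ (p ^ m - 1) * (-1) = -1 := by
        rw [← pow_succ, Nat.sub_add_cancel (Nat.one_le_pow _ _ hp.out.pos)]
        exact neg_one_pow_char_pow A p m
      rw [mul_neg, mul_one, neg_inj] at h2
      exact h2
    rw [delta, delta, map_neg, smul_neg, neg_pow, h1, one_mul]

theorem D_pow_p_pow {k : ℕ} (hk : k ≠ 0) (x : A) :
    KaehlerDifferential.D K A (x ^ p ^ k) = 0 := by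
  rw [Derivation.leibniz_pow, ← Nat.cast_smul_eq_nsmul A, Nat.cast_pow, natCast_p_eq_zero K A p,
    zero_pow hk, zero_smul]

theorem pow_smul_delta (c : K) (m : ℕ) (a : A) :
    (c ^ p ^ m) • delta K A p m a = delta K A p m (c • a) := by
  rw [delta, delta, smul_pow, Derivation.map_smul, smul_assoc, smul_comm (a ^ (p ^ m - 1)) c,
    smul_smul, ← pow_succ, Nat.sub_add_cancel (Nat.one_le_pow _ _ hp.out.pos)]

theorem pow_smul_delta' {n m : ℕ} (hm : m < n) (x a : A) :
    (x ^ p ^ n) • delta K A p m a = delta K A p m (x ^ p ^ (n - m) * a) := by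
  have e : x ^ p ^ n = (x ^ p ^ (n - m)) ^ (p ^ m - 1) * x ^ p ^ (n - m) := by
    rw [← pow_succ, Nat.sub_add_cancel (Nat.one_le_pow _ _ hp.out.pos), ← pow_mul, ← pow_add,
      Nat.sub_add_cancel hm.le]
  rw [delta, delta, Derivation.leibniz, D_pow_p_pow K A p (Nat.sub_ne_zero_of_lt hm), smul_zero,
    add_zero, mul_pow, smul_smul, smul_smul, e]
  congr 1
  ring

end CharPSec

section Main
variable (K : Type u) (A : Type v) [Field K] [CommRing A] [Algebra K A] (p : ℕ) [hp : Fact p.Prime]
  [CharP K p]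

theorem add_defect_mem_sigma (n : ℕ) (x y : A) :
    delta K A p n (x + y) - delta K A p n x - delta K A p n y ∈ sigma K A p n := by
  obtain ⟨s, hs0, hs⟩ := exists_witt K A p x y
  have h := hs n
  rw [Finset.sum_range_succ', hs0, Nat.sub_zero] at h
  have e : delta K A p n (x + y) - delta K A p n x - delta K A p n y =
      ∑ m ∈ Finset.range n, delta K A p m (-(s (n - m))) := by
    rw [← Finset.sum_range_reflect, sub_sub, ← h, sub_add_cancel_right, ← Finset.sum_neg_distrib]
    refine Finset.sum_congr rfl fun j hj => ?_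
    have hj' := Finset.mem_range.1 hj
    rw [delta_neg, show n - 1 - j = n - (j + 1) by omega, show n - (n - (j + 1)) = j + 1 by omega]
  rw [e]
  exact sum_mem_sigma K A p n _

theorem zero_mem_sigma (n : ℕ) : (0 : Ω[A⁄K]) ∈ sigma K A p n := by
  refine (mem_sigma_iff K A p n _).2 ⟨fun _ => 0, ?_⟩
  rw [Finset.sum_eq_zero]
  intro m _
  exact delta_zero_right K A p m

theorem neg_mem_sigma {n : ℕ} {ω : Ω[A⁄K]} (h : ω ∈ sigma K A p n) : -ω ∈ sigma K A p n := by
  obtain ⟨b, rfl⟩ := (mem_sigma_iff K A p n _).1 h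
  refine (mem_sigma_iff K A p n _).2 ⟨fun m => -b m, ?_⟩
  rw [← Finset.sum_neg_distrib]
  exact Finset.sum_congr rfl fun m _ => (delta_neg K A p m _).symm

theorem add_mem_sigma {n : ℕ} {ω η : Ω[A⁄K]} (h : ω ∈ sigma K A p n) (h' : η ∈ sigma K A p n) :
    ω + η ∈ sigma K A p n := by
  induction n generalizing ω η with
  | zero =>
    rw [sigma_zero, Set.mem_singleton_iff] at h h' ⊢
    rw [h, h', add_zero]
  | succ n ih =>
    obtain ⟨x, hx⟩ := (mem_sigma_succ K A p n _).1 h
    obtain ⟨y, hy⟩ := (mem_sigma_succ K A p n _).1 h'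
    refine (mem_sigma_succ K A p n _).2 ⟨x + y, ?_⟩
    have e : ω + η - delta K A p n (x + y) = (ω - delta K A p n x) + ((η - delta K A p n y) +
        -(delta K A p n (x + y) - delta K A p n x - delta K A p n y)) := by abel
    rw [e]
    exact ih hx (ih hy (neg_mem_sigma K A p (add_defect_mem_sigma K A p n x y)))

theorem pow_smul_mem_sigma {n : ℕ} (x : A) {ω : Ω[A⁄K]} (h : ω ∈ sigma K A p n) :
    (x ^ p ^ n) • ω ∈ sigma K A p n := by
  obtain ⟨b, rfl⟩ := (mem_sigma_iff K A p n _).1 h
  refine (mem_sigma_iff K A p n _).2 ⟨fun m => x ^ p ^ (n - m) * b m, ?_⟩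
  rw [Finset.smul_sum]
  exact Finset.sum_congr rfl fun m hm => pow_smul_delta' K A p (Finset.mem_range.1 hm) x (b m)

theorem smul_mem_sigma [PerfectField K] {n : ℕ} (c : K) {ω : Ω[A⁄K]} (h : ω ∈ sigma K A p n) :
    c • ω ∈ sigma K A p n := by
  obtain ⟨b, rfl⟩ := (mem_sigma_iff K A p n _).1 h
  refine (mem_sigma_iff K A p n _).2
    ⟨fun m => ((iterateFrobeniusEquiv K p m).symm c) • b m, ?_⟩
  rw [Finset.smul_sum]
  refine Finset.sum_congr rfl fun m _ => ?_
  rw [← pow_smul_delta, ← iterateFrobeniusEquiv_def, RingEquiv.apply_symm_apply]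

/-- `Σ^n` as a `K`-submodule of `Ω[A⁄K]`. -/
def sigmaSubmodule [PerfectField K] (n : ℕ) : Submodule K (Ω[A⁄K]) where
  carrier := sigma K A p n
  add_mem' := add_mem_sigma K A p
  zero_mem' := zero_mem_sigma K A p n
  smul_mem' c _ h := smul_mem_sigma K A p c h

theorem sigma_eq_closure (n : ℕ) :
    sigma K A p n =
      (AddSubgroup.closure (⋃ j ∈ Finset.range n, Set.range (delta K A p j)) : Set (Ω[A⁄K])) := by
  apply Set.Subset.antisymm
  · intro ω hω
    obtain ⟨b, rfl⟩ := (mem_sigma_iff K A p n _).1 hω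
    refine sum_mem fun m hm => AddSubgroup.subset_closure ?_
    exact Set.mem_biUnion hm ⟨b m, rfl⟩
  · let S : AddSubgroup (Ω[A⁄K]) :=
      { carrier := sigma K A p n
        add_mem' := add_mem_sigma K A p
        zero_mem' := zero_mem_sigma K A p n
        neg_mem' := neg_mem_sigma K A p }
    have hS : AddSubgroup.closure (⋃ j ∈ Finset.range n, Set.range (delta K A p j)) ≤ S := by
      rw [AddSubgroup.closure_le]
      intro ω hω
      obtain ⟨j, hj, x, rfl⟩ := Set.mem_iUnion₂.1 hω
      exact delta_mem_sigma K A p (Finset.mem_range.1 hj) x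
    exact hS

end Main

end Groth.Agent.H63.PDiff
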