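import Groth.Agent.H63.PSSmooth
import Groth.Agent.H61.TangentGen

/-!
# Maps of coefficient rings: tangent criterion for surjectivity, maps out of power series rings
-/

set_option autoImplicit false
set_option linter.style.haveILetI false
set_option linter.unusedSectionVars false
universe u v
open CategoryTheory

namespace Groth.Agent.H63
open ArtFun ArtFun.Art MvPowerSeries Groth.Agent.H61

variable {Λ : Type u} {k : Type u} [CommRing Λ] [Field k] [Algebra Λ k]

/-- A map of coefficient rings which is injective on tangent vectors is surjective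
(`Λ → k` surjective). -/
theorem CR.surjective_of_tangent_injective (hk : Function.Surjective (algebraMap Λ k))
    (H R : CRing Λ k) (α : H.carrier →ₐ[Λ] R.carrier) (hα : R.res.comp α = H.res)
    (hinj : ∀ ψ₁ ψ₂ : HomSet R.carrier R.res (dual Λ k), ψ₁.1.comp α = ψ₂.1.comp α → ψ₁ = ψ₂) :
    Function.Surjective α := by
  apply CR.surjective_of_cotangent H R α hα
  set W : Ideal R.carrier := Ideal.map α (IsLocalRing.maximalIdeal H.carrier) ⊔
    IsLocalRing.maximalIdeal R.carrier ^ 2 with hW
  have hWle : W ≤ IsLocalRing.maximalIdeal R.carrier :=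
    sup_le (CR.map_maximalIdeal_le H R α hα) (Ideal.pow_le_self two_ne_zero)
  apply le_antisymm hWle
  intro x hx
  by_contra hxW
  obtain ⟨T, pT, hpTs, hpTk⟩ := exists_artQuot (Λ := Λ) (k := k) (resP := R.res) R.res_surjective W hWle 2
    le_sup_right
  have hmT : IsLocalRing.maximalIdeal T = Ideal.map pT.1 (IsLocalRing.maximalIdeal R.carrier) :=
    (map_maximalIdeal_homSet R.res_surjective pT hpTs).symm
  have hT : IsLocalRing.maximalIdeal T ^ 2 = ⊥ := by
    rw [hmT, ← Ideal.map_pow, Ideal.map_eq_bot_iff_le_ker, hpTk]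
    exact le_sup_right
  have ht : pT.1 x ∈ IsLocalRing.maximalIdeal T := by
    rw [hmT]
    exact Ideal.mem_map_of_mem _ hx
  have hker0 : (RingHom.ker (algebraMap Λ k)).map (algebraMap Λ T) = ⊥ := by
    rw [eq_bot_iff, Ideal.map_le_iff_le_comap]
    intro c hc
    rw [Ideal.mem_comap, Ideal.mem_bot, ← pT.1.commutes c]
    have h1 : algebraMap Λ R.carrier c ∈ W := by
      apply Ideal.mem_sup_left
      rw [← α.commutes c]
      apply Ideal.mem_map_of_mem
      rw [CR.mem_maximalIdeal_iff, AlgHom.commutes]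
      exact hc
    rw [← hpTk] at h1
    exact h1
  have ht0 : pT.1 x ∉ (RingHom.ker (algebraMap Λ k)).map (algebraMap Λ T) := by
    rw [hker0, Ideal.mem_bot]
    intro h0
    apply hxW
    rw [← hpTk]
    exact h0
  obtain ⟨π, hπ⟩ := exists_tangentMapGen_ne T hk hT ht ht0
  let ψ₁ : HomSet R.carrier R.res (dual Λ k) := HomSet.map π pT
  let ψ₂ : HomSet R.carrier R.res (dual Λ k) := HomSet.map (toBase T ≫ baseToDual) pT
  have h12 : ψ₁ = ψ₂ := by
    apply hinj
    apply AlgHom.ext
    intro h
    obtain ⟨c, hc⟩ := hk (H.res h)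
    have hh : h - algebraMap Λ H.carrier c ∈ IsLocalRing.maximalIdeal H.carrier := by
      rw [CR.mem_maximalIdeal_iff, map_sub, AlgHom.commutes, hc, sub_self]
    have h0 : pT.1 (α (h - algebraMap Λ H.carrier c)) = 0 := by
      have : α (h - algebraMap Λ H.carrier c) ∈ W :=
        Ideal.mem_sup_left (Ideal.mem_map_of_mem _ hh)
      rw [← hpTk] at this
      exact this
    have hdec : h = (h - algebraMap Λ H.carrier c) + algebraMap Λ H.carrier c := by ring
    change π (pT.1 (α h)) = (toBase T ≫ baseToDual) (pT.1 (α h))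
    rw [hdec, map_add, map_add, h0, zero_add, AlgHom.commutes, AlgHom.commutes]
    exact (π.toAlgHom.commutes c).trans ((toBase T ≫ baseToDual).toAlgHom.commutes c).symm
  apply hπ
  have h3 := congrArg (fun t : HomSet R.carrier R.res (dual Λ k) => t.1 x) h12
  change π (pT.1 x) = (toBase T ≫ baseToDual) (pT.1 x) at h3
  rw [h3]
  have h4 : T.toBase (pT.1 x) = (0 : (base Λ k).carrier) := (Art.mem_maximalIdeal_iff T _).1 ht
  change baseToDual.toAlgHom (T.toBase (pT.1 x)) = 0
  rw [h4]
  exact map_zero _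

/-- Maps out of the power series ring into a coefficient ring: existence. -/
theorem exists_ps_hom (T : CRing Λ k) (n : ℕ) (t : Fin n → T.carrier)
    (ht : ∀ i, t i ∈ IsLocalRing.maximalIdeal T.carrier) :
    ∃ β : MvPowerSeries (Fin n) Λ →ₐ[Λ] T.carrier, T.res.comp β = psRes Λ k n ∧ ∀ i, β (X i) = t i := by
  have hex : ∀ m : ℕ, ∃ φ : HomSet (MvPowerSeries (Fin n) Λ) (psRes Λ k n) (T.trunc m),
      ∀ i, φ.1 (X i) = (T.truncHom m).1 (t i) := fun m =>
    exists_evalHom n (T.trunc m) (fun i => (T.truncHom m).1 (t i))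
      (fun i => homSet_mem_maximalIdeal T (T.truncHom m) (ht i))
  choose ψ hψ using hex
  have hcompat : ∀ m, HomSet.map (T.truncMap m) (ψ (m + 1)) = ψ m := by
    intro m
    apply homSet_ext_X
    intro i
    change T.truncMap m ((ψ (m + 1)).1 (X i)) = (ψ m).1 (X i)
    rw [hψ, hψ]
    rfl
  obtain ⟨β, hβ⟩ := exists_algHom_of_compatible T ψ hcompat
  refine ⟨β, res_comp_of_trunc_zero T β (ψ 0) (hβ 0), fun i => ?_⟩
  apply cring_eq_of_forall_mem_mpow T
  intro m
  have h1 := congrArg (fun f : MvPowerSeries (Fin n) Λ →ₐ[Λ] (T.trunc m) => f (X i)) (hβ m)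
  change Ideal.Quotient.mk (T.mpow m) (β (X i)) = (ψ m).1 (X i) at h1
  rw [hψ] at h1
  exact Ideal.Quotient.eq.1 h1

/-- Maps out of the power series ring into a coefficient ring: uniqueness. -/
theorem ps_hom_ext (T : CRing Λ k) (n : ℕ) (β β' : MvPowerSeries (Fin n) Λ →ₐ[Λ] T.carrier)
    (hβ : T.res.comp β = psRes Λ k n) (hβ' : T.res.comp β' = psRes Λ k n)
    (h : ∀ i, β (X i) = β' (X i)) : β = β' := by
  apply algHom_eq_of_trunc_eq T
  intro m
  have hc : ∀ γ : MvPowerSeries (Fin n) Λ →ₐ[Λ] T.carrier, T.res.comp γ = psRes Λ k n →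
      (T.trunc m).res.comp ((T.truncHom m).1.comp γ) = psRes Λ k n := by
    intro γ hγ
    rw [← AlgHom.comp_assoc, (T.truncHom m).2, hγ]
  have := homSet_ext_X n (A := T.trunc m) ⟨(T.truncHom m).1.comp β, hc β hβ⟩
    ⟨(T.truncHom m).1.comp β', hc β' hβ'⟩ (fun i => by
      change (T.truncHom m).1 (β (X i)) = (T.truncHom m).1 (β' (X i))
      rw [h])
  exact congrArg Subtype.val this

end Groth.Agent.H63
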