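import Groth.Prelude.Def_LocRes
import Mathlib.RingTheory.LaurentSeries
import Mathlib.RingTheory.PowerSeries.Derivative

/-!
# `res (g^(n-1) dg) = 0` for Laurent series in every characteristic (helper63)

The universal identity `[X^N] (X h^(a-1) h' + m h^a) = 0` (`N = -m a`) for a power series `h` is
proved first over a torsion free ring (multiply by `a`) and then specialised from the generic
power series over `ℤ[a_0, a_1, ...]`.
-/

set_option autoImplicit false
universe u v w

namespace Groth.Agent.H63.ResPow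
open PowerSeries

theorem coeff_X_mul_derivative {R : Type u} [CommRing R] (w : R⟦X⟧) (N : ℕ) :
    coeff N (X * d⁄dX R w) = (N : R) * coeff N w := by
  cases N with
  | zero => simp
  | succ k => rw [coeff_succ_X_mul, coeff_derivative]; push_cast; ring

theorem coeff_key_of_torsionFree {R : Type u} [CommRing R] [IsAddTorsionFree R] (h : R⟦X⟧)
    (a : ℕ) (ha : a ≠ 0) (m : ℤ) (N : ℕ) (hN : (N : ℤ) = - m * a) :
    coeff N (X * h ^ (a - 1) * d⁄dX R h + C (m : R) * h ^ a) = 0 := by
  apply nsmul_right_injective ha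
  dsimp only
  rw [smul_zero, ← map_nsmul, nsmul_eq_mul]
  have e : (a : R⟦X⟧) * (X * h ^ (a - 1) * d⁄dX R h + C (m : R) * h ^ a) =
      X * d⁄dX R (h ^ a) + C ((m : R) * a) * h ^ a := by
    rw [derivative_pow, map_mul, map_natCast]
    ring
  rw [e, map_add, coeff_X_mul_derivative, coeff_C_mul, ← add_mul]
  have : (N : R) + (m : R) * a = 0 := by
    have := congrArg (Int.cast (R := R)) hN
    push_cast at this
    rw [this]; ring
  rw [this, zero_mul]

theorem coeff_key {R : Type u} [CommRing R] (h : R⟦X⟧)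
    (a : ℕ) (ha : a ≠ 0) (m : ℤ) (N : ℕ) (hN : (N : ℤ) = - m * a) :
    coeff N (X * h ^ (a - 1) * d⁄dX R h + C (m : R) * h ^ a) = 0 := by
  let H : (MvPolynomial ℕ ℤ)⟦X⟧ := PowerSeries.mk MvPolynomial.X
  let ψ : MvPolynomial ℕ ℤ →+* R := MvPolynomial.eval₂Hom (Int.castRingHom R) (fun i => coeff i h)
  have hH : PowerSeries.map ψ H = h := by
    ext i
    simp [H, ψ]
  have hd : ∀ w : (MvPolynomial ℕ ℤ)⟦X⟧,
      PowerSeries.map ψ (d⁄dX _ w) = d⁄dX R (PowerSeries.map ψ w) := by
    intro w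
    ext i
    simp [coeff_derivative]
  have h0 := congrArg ψ (coeff_key_of_torsionFree H a ha m N hN)
  rw [← coeff_map, map_zero, map_add, map_mul, map_mul, map_mul, map_pow, map_pow, hd, hH, map_X,
    map_C] at h0
  simpa using h0

open HahnSeries LaurentSeries

theorem pow_mul_D_eq {R : Type u} [CommRing R] (m : ℤ) (u : R⟦X⟧) (b : ℕ) :
    (single m (1 : R) * (u : R⸨X⸩)) ^ b * LocRes.D R (single m (1 : R) * (u : R⸨X⸩)) =
      single (b • m + (m - 1)) (1 : R) *
        ((X * u ^ b * d⁄dX R u + PowerSeries.C (m : R) * u ^ (b + 1) : R⟦X⟧) : R⸨X⸩) := by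
  rw [LocRes.D_apply, LocRes.derivative_single_mul, LocRes.derivative_coe, mul_pow]
  have h1 : (single m (1 : R) : R⸨X⸩) ^ b * single m 1 = single (b • m + (m - 1)) 1 * single 1 1 := by
    rw [single_pow, single_mul_single, single_mul_single,
      show b • m + (m - 1) + 1 = b • m + m by ring]
    simp
  have h2 : (single m (1 : R) : R⸨X⸩) ^ b * single (m - 1) (m • (1 : R)) =
      single (b • m + (m - 1)) 1 * HahnSeries.C (m : R) := by
    rw [single_pow, single_mul_single, HahnSeries.C_apply, single_mul_single, add_zero]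
    simp
  simp only [map_add, map_mul, map_pow, ofPowerSeries_X, ofPowerSeries_C]
  linear_combination ((u : R⸨X⸩) ^ b * ((d⁄dX R u : R⟦X⟧) : R⸨X⸩)) * h1 + ((u : R⸨X⸩) ^ (b + 1)) * h2

theorem res_pow_mul_D {R : Type u} [CommRing R] (g : R⸨X⸩) (b : ℕ) :
    (g ^ b * LocRes.D R g).coeff (-1) = 0 := by
  obtain ⟨m, u, rfl⟩ : ∃ (m : ℤ) (u : R⟦X⟧), g = single m 1 * (u : R⸨X⸩) :=
    ⟨_, _, g.single_order_mul_powerSeriesPart.symm⟩
  rw [pow_mul_D_eq, coeff_single_mul, one_mul, PowerSeries.coeff_coe]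
  split_ifs with h
  · rfl
  · have := coeff_key u (b + 1) (Nat.succ_ne_zero b) m (-1 - (b • m + (m - 1))).natAbs ?_
    · simpa using this
    · rw [not_lt] at h
      rw [Int.natAbs_of_nonneg h]
      push_cast
      simp
      ring

theorem resExp_zpow_sub_one {k : Type u} {K : Type v} {F : Type w} [CommRing k] [Field K] [Field F]
    [Algebra k K] [Algebra k F]
    (φ : K →ₐ[k] LaurentSeries F) (f : K) (n : ℤ) (hn : n ≠ 0) :
    LocRes.resExp φ (f ^ (n - 1)) f = 0 := by
  unfold LocRes.resExp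
  rw [LocRes.res_apply, map_zpow₀]
  rcases lt_or_gt_of_ne hn with h | h
  · by_cases hf : f = 0
    · subst hf
      simp
    · have hg : φ f ≠ 0 := (map_ne_zero φ).2 hf
      obtain ⟨a, rfl⟩ : ∃ a : ℕ, n = -((a : ℤ) + 1) := ⟨(-n - 1).toNat, by omega⟩
      have e : φ f ^ (-((a : ℤ) + 1) - 1) * LocRes.D F (φ f) =
          -((φ f)⁻¹ ^ a * LocRes.D F (φ f)⁻¹) := by
        rw [Derivation.leibniz_inv, smul_eq_mul,
          show -((a : ℤ) + 1) - 1 = -((a + 2 : ℕ) : ℤ) by push_cast; ring, zpow_neg,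
          zpow_natCast, inv_pow, inv_pow]
        ring
      rw [e, HahnSeries.coeff_neg, res_pow_mul_D, neg_zero]
  · obtain ⟨b, rfl⟩ : ∃ b : ℕ, n = (b : ℤ) + 1 := ⟨(n - 1).toNat, by omega⟩
    rw [add_sub_cancel_right, zpow_natCast]
    exact res_pow_mul_D _ b

end Groth.Agent.H63.ResPow
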