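import Mathlib
import Groth.Prelude.Def_C1
import Groth.Agent.H8.QCohStalk
import Groth.Agent.H54.SecOrd
import Groth.Agent.H54.SecOrdGen
import Groth.Agent.H48.StalkLoc
import Groth.Agent.H48.FlatDivAlg

set_option autoImplicit false
set_option linter.style.haveILetI false
set_option linter.unusedSectionVars false
set_option linter.unusedVariables false
universe u
open CategoryTheory CategoryTheory.Limits AlgebraicGeometry TopologicalSpace Opposite Order

namespace Groth.Agent.H63.S42

open Groth.Agent.H8 Groth.Agent.H54.SecOrd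

variable {X : Scheme.{u}} (F : X.Modules) {x ξ : X} (h : ξ ⤳ x)

/-- the `O_{X,x}`-module structure on the stalk at a generization. -/
@[reducible] noncomputable def specModule : Module (X.presheaf.stalk x) (F.presheaf.stalk ξ) :=
  Module.compHom _ (X.presheaf.stalkSpecializes h).hom

/-- the specialization map of stalks as an `O_{X,x}`-linear map. -/
noncomputable def specₗ :
    letI := specModule F h
    F.presheaf.stalk x →ₗ[X.presheaf.stalk x] F.presheaf.stalk ξ :=
  letI := specModule F h
  { toFun := F.presheaf.stalkSpecializes h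
    map_add' := map_add _
    map_smul' := fun r m => stalkSpecializes_smul F h r m }

theorem specₗ_apply (m : F.presheaf.stalk x) :
    specₗ F h m = F.presheaf.stalkSpecializes h m := rfl

theorem mem_primeCompl_ker_specMap_iff (r : X.presheaf.stalk x) :
    r ∈ (RingHom.ker (Cyc.specMap x ξ h)).primeCompl ↔
      IsUnit ((X.presheaf.stalkSpecializes h).hom r) := by
  change ¬ (r ∈ RingHom.ker (Cyc.specMap x ξ h)) ↔ _
  rw [RingHom.mem_ker]
  change ¬ ((X.residue ξ).hom ((X.presheaf.stalkSpecializes h).hom r) = 0) ↔ _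
  constructor
  · intro hne
    by_contra hnu
    apply hne
    exact (Groth.Agent.H54.SecOrdGen.residue_eq_zero_iff ξ _).mpr
      ((IsLocalRing.mem_maximalIdeal _).mpr hnu)
  · intro hu h0
    exact (IsLocalRing.mem_maximalIdeal _).mp
      ((Groth.Agent.H54.SecOrdGen.residue_eq_zero_iff ξ _).mp h0) hu

/-- **the stalk of a quasi-coherent module at a generization is the localization of the stalk.** -/
theorem isLocalizedModule_specₗ [F.IsQuasicoherent] :
    letI := specModule F h
    IsLocalizedModule (RingHom.ker (Cyc.specMap x ξ h)).primeCompl (specₗ F h) := by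
  letI := specModule F h
  obtain ⟨_, ⟨V, hV, rfl⟩, hxV, -⟩ :=
    X.isBasis_affineOpens.exists_subset_of_mem_open (Set.mem_univ x) isOpen_univ
  have hξV : ξ ∈ V := h.mem_open V.2 hxV
  have hspecR : ∀ r : Γ(X, V), (X.presheaf.stalkSpecializes h).hom (X.presheaf.germ V x hxV r) =
      X.presheaf.germ V ξ hξV r := fun r =>
    TopCat.Presheaf.germ_stalkSpecializes_apply _ _ _ _
  have hspecM : ∀ m : Γ(F, V), F.presheaf.stalkSpecializes h (F.presheaf.germ V x hxV m) =
      F.presheaf.germ V ξ hξV m := fun m =>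
    TopCat.Presheaf.germ_stalkSpecializes_apply _ _ _ _
  refine ⟨?_, ?_, ?_⟩
  · rintro ⟨g, hg⟩
    have hu : IsUnit ((X.presheaf.stalkSpecializes h).hom g) :=
      (mem_primeCompl_ker_specMap_iff h g).mp hg
    rw [Module.End.isUnit_iff]
    obtain ⟨u, hu⟩ := hu
    refine ⟨fun a b hab => ?_, fun b => ⟨(↑u⁻¹ : X.presheaf.stalk ξ) • b, ?_⟩⟩
    · have h1 : ((X.presheaf.stalkSpecializes h).hom g) • a =
          ((X.presheaf.stalkSpecializes h).hom g) • b := hab
      rw [← hu] at h1
      have := congrArg (fun z => (↑u⁻¹ : X.presheaf.stalk ξ) • z) h1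
      simpa [smul_smul] using this
    · change ((X.presheaf.stalkSpecializes h).hom g) • ((↑u⁻¹ : X.presheaf.stalk ξ) • b) = b
      rw [← hu, smul_smul]
      simp
  · intro y
    letI := stalkModule F hξV
    have hlm := isLocalizedModule_germₗ F hV hξV
    obtain ⟨⟨m, r⟩, hmr⟩ := IsLocalizedModule.surj
      (hV.primeIdealOf ⟨ξ, hξV⟩).asIdeal.primeCompl (germₗ F hξV) y
    have hmr' : X.presheaf.germ V ξ hξV r.1 • y = F.presheaf.germ V ξ hξV m := hmr
    have hru : IsUnit (X.presheaf.germ V ξ hξV r.1) := by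
      by_contra hnu
      exact r.2 ((mem_primeIdealOf_iff hV hξV r.1).mpr hnu)
    refine ⟨(F.presheaf.germ V x hxV m, ⟨X.presheaf.germ V x hxV r.1, ?_⟩), ?_⟩
    · rw [mem_primeCompl_ker_specMap_iff, hspecR]
      exact hru
    · change (X.presheaf.stalkSpecializes h).hom (X.presheaf.germ V x hxV r.1) • y =
        F.presheaf.stalkSpecializes h (F.presheaf.germ V x hxV m)
      rw [hspecR, hspecM, hmr']
  · intro m₁ m₂ h12
    have h12' : F.presheaf.stalkSpecializes h m₁ = F.presheaf.stalkSpecializes h m₂ := h12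
    letI modx := stalkModule F hxV
    have hlmx := isLocalizedModule_germₗ F hV hxV
    obtain ⟨⟨mV, r₀⟩, hmr⟩ := IsLocalizedModule.surj
      (hV.primeIdealOf ⟨x, hxV⟩).asIdeal.primeCompl (germₗ F hxV) (m₁ - m₂)
    have hmr' : X.presheaf.germ V x hxV r₀.1 • (m₁ - m₂) = F.presheaf.germ V x hxV mV := hmr
    have hr₀u : IsUnit (X.presheaf.germ V x hxV r₀.1) := by
      by_contra hnu
      exact r₀.2 ((mem_primeIdealOf_iff hV hxV r₀.1).mpr hnu)
    have hzero : F.presheaf.germ V ξ hξV mV = 0 := by
      rw [← hspecM, ← hmr', stalkSpecializes_smul, map_sub, h12', sub_self, smul_zero]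
    letI modξ := stalkModule F hξV
    have hlmξ := isLocalizedModule_germₗ F hV hξV
    have hz' : germₗ F hξV mV = germₗ F hξV 0 := by
      rw [germₗ_apply, germₗ_apply, hzero, map_zero]
    obtain ⟨r, hr⟩ := IsLocalizedModule.exists_of_eq
      (S := (hV.primeIdealOf ⟨ξ, hξV⟩).asIdeal.primeCompl) hz'
    rw [smul_zero] at hr
    have hr' : r.1 • mV = 0 := hr
    have hru : IsUnit (X.presheaf.germ V ξ hξV r.1) := by
      by_contra hnu
      exact r.2 ((mem_primeIdealOf_iff hV hξV r.1).mpr hnu)
    refine ⟨⟨X.presheaf.germ V x hxV r.1 * X.presheaf.germ V x hxV r₀.1, ?_⟩, ?_⟩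
    · rw [mem_primeCompl_ker_specMap_iff, map_mul, hspecR]
      exact hru.mul (hr₀u.map _)
    · change (X.presheaf.germ V x hxV r.1 * X.presheaf.germ V x hxV r₀.1) • m₁ =
        (X.presheaf.germ V x hxV r.1 * X.presheaf.germ V x hxV r₀.1) • m₂
      rw [← sub_eq_zero, ← smul_sub, mul_smul, hmr', ← germ_smul, hr', map_zero]

/-- the multiplicity at a generization, computed on the stalk. -/
theorem length_localizedModule_stalk [F.IsQuasicoherent] :
    Module.length (Localization.AtPrime (RingHom.ker (Cyc.specMap x ξ h)))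
        (LocalizedModule (RingHom.ker (Cyc.specMap x ξ h)).primeCompl (F.presheaf.stalk x)) =
      Module.length (X.presheaf.stalk ξ) (F.presheaf.stalk ξ) := by
  letI := (X.presheaf.stalkSpecializes h).hom.toAlgebra
  haveI := Groth.Agent.H48.StalkLoc.isLocalization_stalkSpecializes x ξ h
  letI := specModule F h
  haveI : IsScalarTower (X.presheaf.stalk x) (X.presheaf.stalk ξ) (F.presheaf.stalk ξ) :=
    IsScalarTower.of_algebraMap_smul fun r m => rfl
  haveI := isLocalizedModule_specₗ F h
  exact Groth.Agent.H48.FlatDivAlg.length_localizedModule_eq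
    (RingHom.ker (Cyc.specMap x ξ h)).primeCompl (X.presheaf.stalk ξ) (specₗ F h)

end Groth.Agent.H63.S42
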