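import Mathlib
import Groth.Agent.H10.LengthOrd
import Groth.Agent.H48.StalkDict

set_option autoImplicit false
set_option linter.style.haveILetI false
set_option linter.unusedSectionVars false
set_option linter.unusedVariables false
universe u
open Pointwise IsLocalRing

namespace Groth.Agent.H63.S42

variable {A : Type u} [CommRing A] [IsLocalRing A] [IsNoetherianRing A]
  (M : Type u) [AddCommGroup M] [Module A M] [Module.Finite A M]

/-- the non-maximal primes in the support. -/
abbrev MSet : Type u :=
  {q : PrimeSpectrum A // q ∈ Module.support A M ∧ q.asIdeal ≠ maximalIdeal A}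

theorem finite_MSet
    (H2 : ∀ q q' : PrimeSpectrum A, q ∈ Module.support A M → q.asIdeal ≠ maximalIdeal A →
      q' ∈ Module.support A M → q' ≤ q → q' = q) : Finite (MSet (A := A) M) := by
  have hfin := Ideal.finite_minimalPrimes_of_isNoetherianRing A (Module.annihilator A M)
  haveI : Finite ↥((Module.annihilator A M).minimalPrimes) := hfin.to_subtype
  let F : MSet (A := A) M → ↥((Module.annihilator A M).minimalPrimes) := fun q =>
    ⟨q.1.asIdeal, by
      have hq : q.1 ∈ PrimeSpectrum.zeroLocus (Module.annihilator A M : Set A) := by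
        rw [← Module.support_eq_zeroLocus]
        exact q.2.1
      refine ⟨⟨q.1.isPrime, hq⟩, fun J hJ hle => ?_⟩
      have hJs : (⟨J, hJ.1⟩ : PrimeSpectrum A) ∈ Module.support A M := by
        rw [Module.support_eq_zeroLocus]
        exact hJ.2
      have := H2 q.1 ⟨J, hJ.1⟩ q.2.1 q.2.2 hJs hle
      rw [← this]⟩
  refine Finite.of_injective F ?_
  intro q q' hqq'
  apply Subtype.ext
  apply PrimeSpectrum.ext
  exact congrArg Subtype.val hqq'

theorem length_quot_smul_eq_finsum_toNat (g : A)
    (hg : ∀ m : M, g • m = 0 → m = 0)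
    (H1 : ∀ q : PrimeSpectrum A, q ∈ Module.support A M → q.asIdeal ≠ maximalIdeal A →
      g ∉ q.asIdeal)
    (H2 : ∀ q q' : PrimeSpectrum A, q ∈ Module.support A M → q.asIdeal ≠ maximalIdeal A →
      q' ∈ Module.support A M → q' ≤ q → q' = q) :
    Module.length A (M ⧸ g • (⊤ : Submodule A M)) ≠ ⊤ ∧
    (Module.length A (M ⧸ g • (⊤ : Submodule A M))).toNat =
      ∑ᶠ q : MSet (A := A) M,
        (Ring.ord (A ⧸ q.1.asIdeal) (Ideal.Quotient.mk q.1.asIdeal g)).toNat *
          (Module.length (Localization.AtPrime q.1.asIdeal)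
            (LocalizedModule q.1.asIdeal.primeCompl M)).toNat := by
  have hmaxeq : ∀ q : PrimeSpectrum A, maximalIdeal A ≤ q.asIdeal → q.asIdeal = maximalIdeal A :=
    fun q hq => ((maximalIdeal.isMaximal A).eq_of_le q.isPrime.ne_top hq).symm
  have hsd1 : Module.supportDim A M ≤ 1 := by
    change Order.krullDim (Module.support A M) ≤ 1
    rw [Order.krullDim_le_one_iff]
    rintro ⟨q, hq⟩
    by_cases hqm : q.asIdeal = maximalIdeal A
    · right
      rintro ⟨q', hq'⟩ hle
      have hle' : q.asIdeal ≤ q'.asIdeal := hle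
      have : q'.asIdeal = maximalIdeal A := hmaxeq q' (hqm ▸ hle')
      change q'.asIdeal ≤ q.asIdeal
      rw [this, hqm]
    · left
      rintro ⟨q', hq'⟩ hle
      have := H2 q q' hq hqm hq' hle
      change q ≤ q'
      rw [this]
  have hsupp0 : ∀ q ∈ Module.support A (M ⧸ g • (⊤ : Submodule A M)),
      q.asIdeal = maximalIdeal A := by
    intro q hq
    by_contra hne
    have hqM : q ∈ Module.support A M :=
      Module.support_subset_of_surjective _ (Submodule.mkQ_surjective _) hq
    apply H1 q hqM hne
    rw [Module.support_eq_zeroLocus] at hq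
    apply hq
    rw [SetLike.mem_coe, Module.mem_annihilator]
    intro m
    obtain ⟨m, rfl⟩ := Submodule.Quotient.mk_surjective _ m
    rw [← Submodule.Quotient.mk_smul, Submodule.Quotient.mk_eq_zero]
    exact Submodule.smul_mem_pointwise_smul m g ⊤ Submodule.mem_top
  have hsd0 : Module.supportDim A (M ⧸ g • (⊤ : Submodule A M)) ≤ 0 := by
    change Order.krullDim (Module.support A (M ⧸ g • (⊤ : Submodule A M))) ≤ 0
    haveI : Subsingleton ↥(Module.support A (M ⧸ g • (⊤ : Submodule A M))) := by
      refine ⟨?_⟩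
      rintro ⟨q, hq⟩ ⟨q', hq'⟩
      apply Subtype.ext
      apply PrimeSpectrum.ext
      change q.asIdeal = q'.asIdeal
      rw [hsupp0 q hq, hsupp0 q' hq']
    exact Order.krullDim_nonpos_of_subsingleton
  have hfin : Module.length A (M ⧸ g • (⊤ : Submodule A M)) ≠ ⊤ :=
    ne_of_lt (Groth.Agent.H10.length_lt_top_of_support_subset A _ hsupp0)
  refine ⟨hfin, ?_⟩
  have main := Groth.Agent.H10.length_quot_eq_length_ker_add_sum M g hsd1 hsd0
  have hker : LinearMap.ker (LinearMap.lsmul A M g) = ⊥ := by
    rw [LinearMap.ker_eq_bot']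
    intro y hy
    exact hg y hy
  rw [hker, Module.length_bot, zero_add, ← finsum_subtype_eq_finsum_cond] at main
  haveI := finite_MSet M H2
  have hne : (∑ᶠ q : MSet (A := A) M,
      Ring.ord (A ⧸ q.1.asIdeal) (Ideal.Quotient.mk q.1.asIdeal g) *
        Module.length (Localization.AtPrime q.1.asIdeal)
          (LocalizedModule q.1.asIdeal.primeCompl M)) ≠ ⊤ := by
    rw [← main]; exact hfin
  have hterm := Groth.Agent.H48.StalkDict.forall_ne_top_of_finsum_ne_top _ hne
  rw [main, Groth.Agent.H48.StalkDict.toNat_finsum _ hterm]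
  exact finsum_congr fun q => ENat.toNat_mul _ _

end Groth.Agent.H63.S42
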