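import Mathlib
import Groth.Prelude.Def_C1
import Groth.Agent.H79.PullStalkLength

set_option autoImplicit false
set_option linter.style.haveILetI false
set_option linter.unusedSectionVars false
set_option linter.unusedVariables false
universe u
open CategoryTheory CategoryTheory.Limits AlgebraicGeometry TopologicalSpace Opposite Order
open TensorProduct Pointwise

namespace Groth.Agent.H63.S42

section Alg

variable {A B : Type u} [CommRing A] [CommRing B] [Algebra A B] (M : Type u) [AddCommGroup M]
  [Module A M]

theorem length_tensor_of_surjective (hsurj : Function.Surjective (algebraMap A B)) (g : A)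
    (hker : RingHom.ker (algebraMap A B) = Ideal.span {g}) :
    Module.length B (B ⊗[A] M) = Module.length A (M ⧸ g • (⊤ : Submodule A M)) := by
  rw [← Module.length_eq_of_surjective (S := A) (R := B) (M := B ⊗[A] M) hsurj]
  have hsurj' : Function.Surjective (Algebra.ofId A B) := hsurj
  let e0 : (A ⧸ RingHom.ker (Algebra.ofId A B)) ≃ₐ[A] B :=
    Ideal.quotientKerAlgEquivOfSurjective hsurj'
  have hI : RingHom.ker (Algebra.ofId A B) = Ideal.span {g} := hker
  let e1 : B ⊗[A] M ≃ₗ[A] (A ⧸ RingHom.ker (Algebra.ofId A B)) ⊗[A] M :=
    TensorProduct.congr e0.symm.toLinearEquiv (LinearEquiv.refl A M)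
  let e2 := TensorProduct.quotTensorEquivQuotSMul M (RingHom.ker (Algebra.ofId A B))
  have hsm : (RingHom.ker (Algebra.ofId A B)) • (⊤ : Submodule A M) = g • (⊤ : Submodule A M) := by
    rw [hI, Submodule.ideal_span_singleton_smul]
  exact ((e1.trans e2).trans (Submodule.quotEquivOfEq _ _ hsm)).length_eq

end Alg

variable {X D : Scheme.{u}} (i : D ⟶ X) [IsClosedImmersion i] (F : X.Modules)

/-- the length of the stalk of the pullback of a module to a closed subscheme cut out stalkwise
by one equation. -/
theorem length_pullback_stalk_closed (d : D) (g : X.presheaf.stalk (i d))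
    (hker : RingHom.ker (i.stalkMap d).hom = Ideal.span {g}) :
    Module.length (D.presheaf.stalk d)
        (((Scheme.Modules.pullback i).obj F).presheaf.stalk d) =
      Module.length (X.presheaf.stalk (i d))
        (F.presheaf.stalk (i d) ⧸ g • (⊤ : Submodule (X.presheaf.stalk (i d))
          (F.presheaf.stalk (i d)))) := by
  letI := (i.stalkMap d).hom.toAlgebra
  rw [(Groth.Agent.H79.PullStalkLength.pullbackStalkEquiv i d F).length_eq]
  exact length_tensor_of_surjective (F.presheaf.stalk (i d)) (i.stalkMap_surjective d) g hker

end Groth.Agent.H63.S42
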