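import Mathlib
import Groth.Agent.H63.S42A
import Groth.Agent.H63.S42B
import Groth.Agent.H63.S42C
import Groth.Agent.H63.C1Z
import Groth.Agent.H48.ZeroSecC1
import Groth.Agent.H79.SuppGeneric
import Groth.Agent.H13.QuasiFlat

set_option autoImplicit false
set_option linter.style.haveILetI false
set_option linter.unusedSectionVars false
set_option linter.unusedVariables false
universe u
open CategoryTheory CategoryTheory.Limits AlgebraicGeometry TopologicalSpace Opposite Order
open IsLocalRing Pointwise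

namespace Groth.Agent.H63.S42

open Groth.Agent.H8 Groth.Agent.H54.SecOrd Groth.Agent.H54.C1Indep Groth.Agent.H48
  Groth.Agent.H63.C1

section Alg

theorem isUnit_of_injective_smul {R N : Type*} [CommRing R] [IsLocalRing R] [AddCommGroup N]
    [Module R N] [Nontrivial N] (hfl : IsFiniteLength R N) (r : R)
    (hinj : Function.Injective (fun m : N => r • m)) : IsUnit r := by
  by_contra hnu
  have hr : r ∈ maximalIdeal R := (IsLocalRing.mem_maximalIdeal r).mpr hnu
  obtain ⟨hN, hA⟩ := isFiniteLength_iff_isNoetherian_isArtinian.mp hfl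
  have hsurj : Function.Surjective (LinearMap.lsmul R N r) :=
    IsArtinian.surjective_of_injective_endomorphism (LinearMap.lsmul R N r) hinj
  have hle : (⊤ : Submodule R N) ≤ maximalIdeal R • (⊤ : Submodule R N) := by
    intro n _
    obtain ⟨n', rfl⟩ := hsurj n
    exact Submodule.smul_mem_smul hr Submodule.mem_top
  have hfg : (⊤ : Submodule R N).FG := Module.finite_def.mp inferInstance
  have := Submodule.eq_bot_of_le_smul_of_le_jacobson_bot (maximalIdeal R) ⊤ hfg hle
    (IsLocalRing.maximalIdeal_le_jacobson _)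
  exact top_ne_bot this

end Alg

variable {X D : Scheme.{u}} (δ : X → ℤ) (hX : Cyc.IsSetup X δ) (L : X.Modules)
  (hL : PicF.IsInvertible L) (s : L.presheaf.obj (Opposite.op ⊤)) (i : D ⟶ X)
  [IsClosedImmersion i] (hD : Cyc.IsZeroSchemeOf i L s) (k : ℤ) (F : X.Modules)
  (hF : Coh.IsCoh F) (hdim : ∀ x : X, Nontrivial (F.presheaf.stalk x) → δ x ≤ k + 1)
  (hreg : ∀ (x : X) (t : L.presheaf.stalk x) (f : X.presheaf.stalk x),
    Submodule.span (X.presheaf.stalk x) {t} = ⊤ → (L.presheaf.germ ⊤ x trivial) s = f • t →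
      Function.Injective (fun m : F.presheaf.stalk x => f • m))
  (w : (ξ : X) → Cyc.secFibre L ξ)

include hX hL hD hF hdim hreg in
theorem gysin_sheafFun_pos (d : D) (hx : δ (i d) = k) :
    Cyc.c1CapFun δ L (Cyc.sheafFun δ (k + 1) F) (Cyc.gysinChoice L s w) (i d) =
      ((Module.length (D.presheaf.stalk d)
        (((Scheme.Modules.pullback i).obj F).presheaf.stalk d)).toNat : ℤ) := by
  classical
  haveI : IsLocallyNoetherian X := hX.1
  have hδ := hX.2.2
  haveI : F.IsQuasicoherent := hF.1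
  haveI : Module.Finite (X.presheaf.stalk (i d)) (F.presheaf.stalk (i d)) :=
    Groth.Agent.H13.finite_stalk_of_isCoh F hF (i d)
  obtain ⟨U, hxU, σc, hσc⟩ := exists_isFreeGen_of_isInvertible hL (i d)
  have hbx := hσc.germ_bijective hxU
  obtain ⟨g, hg0⟩ := hbx.2 ((L.presheaf.germ ⊤ (i d) trivial) s)
  have hg : (L.presheaf.germ ⊤ (i d) trivial) s = g • L.presheaf.germ U (i d) hxU σc := hg0.symm
  have hspanx : ∀ (y : X) (hy : y ∈ U),
      Submodule.span (X.presheaf.stalk y) {L.presheaf.germ U y hy σc} = ⊤ := by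
    intro y hy
    rw [eq_top_iff]
    intro m _
    obtain ⟨r, hr⟩ := (hσc.germ_bijective hy).2 m
    exact Submodule.mem_span_singleton.mpr ⟨r, hr⟩
  have hker : RingHom.ker (i.stalkMap d).hom = Ideal.span {g} := by
    obtain ⟨t, f, ht, hf, hk⟩ := hD.2 d
    obtain ⟨v, hv, rfl⟩ := exists_unit_smul_of_span_eq_top hbx ht
    have hfv : f * v = g := by
      apply hbx.1
      change (f * v) • _ = g • _
      rw [mul_smul, ← hf, hg]
    rw [hk, ← hfv, Ideal.span_singleton_mul_right_unit hv]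
  rw [length_pullback_stalk_closed i F d g hker]
  have hgen : ∀ ξ : X, ξ ⤳ i d → ξ ≠ i d → Nontrivial (F.presheaf.stalk ξ) → δ ξ = k + 1 := by
    intro ξ h hne hnt
    have h1 := (hδ ξ (i d) h hne).1
    have h2 := hdim ξ hnt
    omega
  have hgermξ : ∀ (ξ : X) (h : ξ ⤳ i d), (L.presheaf.germ ⊤ ξ trivial) s =
      (X.presheaf.stalkSpecializes h).hom g •
        L.presheaf.germ U ξ (h.mem_open U.2 hxU) σc := by
    intro ξ h
    have h1 : (L.presheaf.stalkSpecializes h) ((L.presheaf.germ ⊤ (i d) trivial) s) =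
        (L.presheaf.germ ⊤ ξ trivial) s :=
      TopCat.Presheaf.germ_stalkSpecializes_apply _ _ _ _
    have h2 : (L.presheaf.stalkSpecializes h) (L.presheaf.germ U (i d) hxU σc) =
        L.presheaf.germ U ξ (h.mem_open U.2 hxU) σc :=
      TopCat.Presheaf.germ_stalkSpecializes_apply _ _ _ _
    rw [← h1, hg, stalkSpecializes_smul, h2]
  have hunit : ∀ (ξ : X) (h : ξ ⤳ i d), δ ξ = k + 1 → Nontrivial (F.presheaf.stalk ξ) →
      IsUnit ((X.presheaf.stalkSpecializes h).hom g) := by
    intro ξ h hd hnt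
    have hfl : IsFiniteLength (X.presheaf.stalk ξ) (F.presheaf.stalk ξ) := by
      apply Groth.Agent.H79.SuppGeneric.isFiniteLength_stalk_of_generic F hF ξ
      intro y hy hyξ
      by_contra hne
      have h1 := (hδ y ξ hyξ hne).1
      have h2 := hdim y hy
      omega
    exact isUnit_of_injective_smul hfl _
      (hreg ξ _ _ (hspanx ξ (h.mem_open U.2 hxU)) (hgermξ ξ h))
  have hspec : ∀ (ξ : X) (h : ξ ⤳ i d), δ ξ = k + 1 → Nontrivial (F.presheaf.stalk ξ) →
      Cyc.specMap (i d) ξ h g ≠ 0 := by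
    intro ξ h hd hnt h0
    have hu := hunit ξ h hd hnt
    have h0' : (X.residue ξ).hom ((X.presheaf.stalkSpecializes h).hom g) = 0 := h0
    exact (IsLocalRing.mem_maximalIdeal _).mp
      ((Groth.Agent.H54.SecOrdGen.residue_eq_zero_iff ξ _).mp h0') hu
  have hqne : ∀ q : PrimeSpectrum (X.presheaf.stalk (i d)),
      q.asIdeal ≠ maximalIdeal (X.presheaf.stalk (i d)) → X.fromSpecStalk (i d) q ≠ i d :=
    fun q hq h => hq ((StalkDict.fromSpecStalk_eq_iff_closedPoint (i d) q).mp h)
  have hqnt : ∀ q : PrimeSpectrum (X.presheaf.stalk (i d)),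
      q ∈ Module.support (X.presheaf.stalk (i d)) (F.presheaf.stalk (i d)) →
        Nontrivial (F.presheaf.stalk (X.fromSpecStalk (i d) q)) :=
    fun q hq => (Groth.Agent.H79.SuppGeneric.mem_support_stalk_iff F (i d) q).mp hq
  have H1 : ∀ q : PrimeSpectrum (X.presheaf.stalk (i d)),
      q ∈ Module.support (X.presheaf.stalk (i d)) (F.presheaf.stalk (i d)) →
      q.asIdeal ≠ maximalIdeal (X.presheaf.stalk (i d)) → g ∉ q.asIdeal := by
    intro q hqs hq hmem
    have h' := StalkDict.specializes_fromSpecStalk (i d) q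
    have hk := StalkDict.ker_specMap_fromSpecStalk (i d) q
    rw [← hk] at hmem
    exact hspec _ h' (hgen _ h' (hqne q hq) (hqnt q hqs)) (hqnt q hqs) (RingHom.mem_ker.mp hmem)
  have H2 : ∀ q q' : PrimeSpectrum (X.presheaf.stalk (i d)),
      q ∈ Module.support (X.presheaf.stalk (i d)) (F.presheaf.stalk (i d)) →
      q.asIdeal ≠ maximalIdeal (X.presheaf.stalk (i d)) →
      q' ∈ Module.support (X.presheaf.stalk (i d)) (F.presheaf.stalk (i d)) →
      q' ≤ q → q' = q := by
    intro q q' hqs hq hq's hle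
    have hq' : q'.asIdeal ≠ maximalIdeal (X.presheaf.stalk (i d)) := by
      intro h
      apply hq
      have hle' : q'.asIdeal ≤ q.asIdeal := hle
      rw [h] at hle'
      exact ((maximalIdeal.isMaximal _).eq_of_le q.isPrime.ne_top hle').symm
    have hd := hgen _ (StalkDict.specializes_fromSpecStalk (i d) q) (hqne q hq) (hqnt q hqs)
    have hd' := hgen _ (StalkDict.specializes_fromSpecStalk (i d) q') (hqne q' hq') (hqnt q' hq's)
    have hsp : X.fromSpecStalk (i d) q' ⤳ X.fromSpecStalk (i d) q :=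
      (StalkDict.fromSpecStalk_specializes_iff (i d) q' q).mpr hle
    by_contra hne
    have hne' : X.fromSpecStalk (i d) q' ≠ X.fromSpecStalk (i d) q :=
      fun h => hne (StalkDict.fromSpecStalk_injective (i d) h)
    have := (hδ _ _ hsp hne').1
    omega
  have hnzd : ∀ m : F.presheaf.stalk (i d), g • m = 0 → m = 0 := by
    intro m hm
    apply hreg (i d) _ g (hspanx (i d) hxU) hg
    change g • m = g • 0
    rw [hm, smul_zero]
  obtain ⟨hfin, key⟩ := length_quot_smul_eq_finsum_toNat (F.presheaf.stalk (i d)) g hnzd H1 H2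
  haveI := finite_MSet (F.presheaf.stalk (i d)) H2
  rw [key, FlatDiv.natCast_finsum]
  unfold Cyc.c1CapFun
  let e : MSet (A := X.presheaf.stalk (i d)) (F.presheaf.stalk (i d)) → X :=
    fun q => X.fromSpecStalk (i d) q.1
  have he : Function.Injective e := by
    intro q q' h
    apply Subtype.ext
    exact StalkDict.fromSpecStalk_injective (i d) h
  have hsupp : Function.support (fun ξ : X => Cyc.sheafFun δ (k + 1) F ξ *
      Cyc.secDivFun δ L ξ (Cyc.gysinChoice L s w ξ) (i d)) ⊆ Set.range e := by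
    intro ξ hξ
    have hne1 : Cyc.sheafFun δ (k + 1) F ξ ≠ 0 := left_ne_zero_of_mul hξ
    have hne2 : Cyc.secDivFun δ L ξ (Cyc.gysinChoice L s w ξ) (i d) ≠ 0 :=
      right_ne_zero_of_mul hξ
    have hsp : ξ ⤳ i d := secDivFun_ne_zero_specializes hne2
    have hdξ : δ (i d) + 1 = δ ξ := secDivFun_dim hne2
    have hnt : Nontrivial (F.presheaf.stalk ξ) := by
      by_contra hnnt
      rw [not_nontrivial_iff_subsingleton] at hnnt
      apply hne1
      unfold Cyc.sheafFun
      split_ifs
      · rw [Module.length_eq_zero]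
        rfl
      · rfl
    obtain ⟨q, hq⟩ := StalkDict.exists_fromSpecStalk_eq (i d) ξ hsp
    have hqs : q ∈ Module.support (X.presheaf.stalk (i d)) (F.presheaf.stalk (i d)) :=
      (Groth.Agent.H79.SuppGeneric.mem_support_stalk_iff F (i d) q).mpr (hq ▸ hnt)
    have hq2 : q.asIdeal ≠ maximalIdeal (X.presheaf.stalk (i d)) := by
      intro h
      have := (StalkDict.fromSpecStalk_eq_iff_closedPoint (i d) q).mpr h
      rw [hq] at this
      rw [this] at hdξ
      omega
    exact ⟨⟨q, hqs, hq2⟩, hq⟩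
  rw [StalkDict.finsum_eq_finsum_comp_of_support_subset e he _ hsupp]
  refine finsum_congr fun q => ?_
  have h' := StalkDict.specializes_fromSpecStalk (i d) q.1
  have hk := StalkDict.ker_specMap_fromSpecStalk (i d) q.1
  have hnt := hqnt q.1 q.2.1
  have hd := hgen _ h' (hqne q.1 q.2.2) hnt
  have hd' : δ (i d) + 1 = δ (X.fromSpecStalk (i d) q.1) := by omega
  have hu := hunit _ h' hd hnt
  have hnm : (X.presheaf.stalkSpecializes h').hom g ∉
      maximalIdeal (X.presheaf.stalk (X.fromSpecStalk (i d) q.1)) :=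
    fun hm => (IsLocalRing.mem_maximalIdeal _).mp hm hu
  have hmk : (Submodule.Quotient.mk ((L.presheaf.germ ⊤ (X.fromSpecStalk (i d) q.1) trivial) s) :
      Cyc.secFibre L (X.fromSpecStalk (i d) q.1)) ≠ 0 := by
    intro h0
    rw [hgermξ _ h'] at h0
    exact hnm ((Groth.Agent.H54.SecOrdGen.mk_smul_eq_zero_iff L _ _
      (hσc.germ_bijective _) _).mp h0)
  change Cyc.sheafFun δ (k + 1) F (X.fromSpecStalk (i d) q.1) *
    Cyc.secDivFun δ L (X.fromSpecStalk (i d) q.1) (Cyc.gysinChoice L s w _) (i d) = _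
  rw [gysinChoice_eq_of_ne L s w _ hmk]
  unfold Cyc.sheafFun Cyc.secDivFun
  rw [if_pos hd, dif_pos ⟨h', hd'⟩,
    secOrdAt_chart L hσc h' hxU _ hnm _ (hgermξ _ h')]
  have hs1 : Cyc.specMap (i d) (X.fromSpecStalk (i d) q.1) h' 1 ≠ 0 := by
    rw [map_one]; exact one_ne_zero
  have hord : Cyc.ordAt (i d) (X.fromSpecStalk (i d) q.1) h'
      ((X.residue (X.fromSpecStalk (i d) q.1)).hom ((X.presheaf.stalkSpecializes h').hom g)) =
      ((Ring.ord (X.presheaf.stalk (i d) ⧸ q.1.asIdeal)
        (Ideal.Quotient.mk q.1.asIdeal g)).toNat : ℤ) := by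
    have h1 := StalkDict.ordAt_specMap_div (i d) δ hδ _ h' hd' g 1 (hspec _ h' hd hnt) hs1
    rw [map_one (Cyc.specMap (i d) (X.fromSpecStalk (i d) q.1) h'), div_one] at h1
    have h2 : Ring.ord (Cyc.LocQuot (i d) (X.fromSpecStalk (i d) q.1) h')
        (Ideal.Quotient.mk _ (1 : X.presheaf.stalk (i d))) = 0 := by
      rw [map_one]
      exact Ring.ord_one _
    rw [h2] at h1
    rw [FlatDivAlg.ord_quotient_congr _ _ hk] at h1
    rw [ENat.toNat_zero, Nat.cast_zero, sub_zero] at h1
    exact h1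
  rw [hord]
  have hlen : Module.length (Localization.AtPrime q.1.asIdeal)
      (LocalizedModule q.1.asIdeal.primeCompl (F.presheaf.stalk (i d))) =
      Module.length (X.presheaf.stalk (X.fromSpecStalk (i d) q.1))
        (F.presheaf.stalk (X.fromSpecStalk (i d) q.1)) := by
    rw [← FlatDivAlg.length_localizedModule_congr _ _ hk]
    exact length_localizedModule_stalk F h'
  rw [hlen]
  push_cast
  ring

include hX hL hD hF hdim hreg in
/-- **`i^*[F]_{k+1} = [i^*F]_k` when `s` is `F`-regular.** -/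
theorem gysin_sheafFun (hw : ∀ ξ, w ξ ≠ 0) (γ : AlgebraicCycle D ℤ)
    (hγ : ∀ d, γ d = Cyc.c1CapFun δ L (Cyc.sheafFun δ (k + 1) F) (Cyc.gysinChoice L s w) (i d))
    (ζ : AlgebraicCycle D ℤ)
    (hζ : ⇑ζ = Cyc.sheafFun (fun d => δ (i d)) k ((Scheme.Modules.pullback i).obj F)) :
    Cyc.RatEquiv (fun d => δ (i d)) k γ ζ := by
  unfold Cyc.RatEquiv
  refine ratEquivZero_of_ratZeroOn (γ - ζ)
    ((ratZeroOn_zero (fun d => δ (i d)) k Set.univ).congr fun d => ?_)
  have hcoe : (γ - ζ) d = γ d - ζ d := rfl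
  rw [hcoe, hγ d, hζ]
  by_cases hx : δ (i d) = k
  · rw [gysin_sheafFun_pos δ hX L hL s i hD k F hF hdim hreg w d hx]
    unfold Cyc.sheafFun
    rw [if_pos hx, sub_self]
  · have h1 : Cyc.sheafFun (fun d => δ (i d)) k ((Scheme.Modules.pullback i).obj F) d = 0 := by
      unfold Cyc.sheafFun
      rw [if_neg hx]
    rw [h1, sub_zero]
    unfold Cyc.c1CapFun
    apply finsum_eq_zero_of_forall_eq_zero
    intro ξ
    by_cases hξ : δ ξ = k + 1
    · have : Cyc.secDivFun δ L ξ (Cyc.gysinChoice L s w ξ) (i d) = 0 := by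
        unfold Cyc.secDivFun
        rw [dif_neg]
        rintro ⟨-, h2⟩
        omega
      rw [this, mul_zero]
    · have : Cyc.sheafFun δ (k + 1) F ξ = 0 := by
        unfold Cyc.sheafFun
        rw [if_neg hξ]
      rw [this, zero_mul]

end Groth.Agent.H63.S42
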