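import Mathlib
import Groth.Prelude.Def_C1

set_option autoImplicit false
set_option linter.style.haveILetI false
set_option linter.unusedSectionVars false
set_option linter.unusedVariables false
universe u
open TensorProduct Pointwise

namespace Groth.Agent.H63.S45

section Flat

variable {R A : Type u} [CommRing R] [CommRing A] [Algebra R A]

/-- regularity on fibres of a relative effective Cartier divisor: if `A/(g)` is `R`-flat and `g`
is a nonzerodivisor of `A`, then `g` is a nonzerodivisor modulo `JA` for every ideal `J` of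
`R`. -/
theorem mem_map_of_mul_mem_of_flat (g : A) (hg : ∀ a : A, g * a = 0 → a = 0)
    [Module.Flat R (A ⧸ Ideal.span {g})] (J : Ideal R) (a : A)
    (ha : g * a ∈ J.map (algebraMap R A)) : a ∈ J.map (algebraMap R A) := by
  let π : A →ₗ[R] (A ⧸ Ideal.span {g}) := (Ideal.Quotient.mkₐ R (Ideal.span {g})).toLinearMap
  let mg : A →ₗ[R] A := LinearMap.mulLeft R g
  have hπ0 : ∀ c : A, π (g * c) = 0 := fun c =>
    Ideal.Quotient.eq_zero_iff_mem.mpr
      (Ideal.mul_mem_right _ _ (Ideal.mem_span_singleton_self g))
  have hex : Function.Exact mg π := by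
    intro y
    constructor
    · intro hy
      have hy' : y ∈ Ideal.span {g} := Ideal.Quotient.eq_zero_iff_mem.mp hy
      obtain ⟨c, rfl⟩ := Ideal.mem_span_singleton'.mp hy'
      exact ⟨c, mul_comm g c⟩
    · rintro ⟨c, rfl⟩
      exact hπ0 c
  have hπ : Function.Surjective π := Ideal.Quotient.mk_surjective
  have hexT : Function.Exact (mg.lTensor J) (π.lTensor J) := lTensor_exact J hex hπ
  let μA : J ⊗[R] A →ₗ[R] A :=
    (TensorProduct.lid R A).toLinearMap ∘ₗ ((Submodule.subtype J).rTensor A)
  let μB : J ⊗[R] (A ⧸ Ideal.span {g}) →ₗ[R] (A ⧸ Ideal.span {g}) :=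
    (TensorProduct.lid R _).toLinearMap ∘ₗ ((Submodule.subtype J).rTensor _)
  have hμB : Function.Injective μB :=
    (TensorProduct.lid R _).injective.comp
      (Module.Flat.rTensor_preserves_injective_linearMap _ Subtype.val_injective)
  have hμA_tmul : ∀ (j : J) (c : A), μA (j ⊗ₜ c) = (j : R) • c := fun j c => by
    simp [μA]
  have hμB_tmul : ∀ (j : J) (c : A ⧸ Ideal.span {g}), μB (j ⊗ₜ c) = (j : R) • c := fun j c => by
    simp [μB]
  have hrange : ∀ y : A, y ∈ J.map (algebraMap R A) ↔ y ∈ LinearMap.range μA := by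
    intro y
    constructor
    · intro hy
      have hy' : y ∈ (J • (⊤ : Submodule R A)) := by
        rw [Ideal.smul_top_eq_map]
        exact hy
      refine Submodule.smul_induction_on hy' ?_ ?_
      · intro r hr n _
        exact ⟨(⟨r, hr⟩ : J) ⊗ₜ n, hμA_tmul _ _⟩
      · intro x z hx hz
        exact Submodule.add_mem _ hx hz
    · rintro ⟨t, rfl⟩
      induction t using TensorProduct.induction_on with
      | zero => rw [map_zero]; exact Ideal.zero_mem _
      | tmul j c =>
        rw [hμA_tmul, Algebra.smul_def]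
        exact Ideal.mul_mem_right _ _ (Ideal.mem_map_of_mem _ j.2)
      | add x z hx hz => rw [map_add]; exact Ideal.add_mem _ hx hz
  have nat1 : ∀ t, μB (π.lTensor J t) = π (μA t) := by
    intro t
    induction t using TensorProduct.induction_on with
    | zero => simp
    | tmul j c => rw [LinearMap.lTensor_tmul, hμB_tmul, hμA_tmul, map_smul]
    | add x z hx hz => rw [map_add, map_add, map_add, map_add, hx, hz]
  have nat2 : ∀ t, μA (mg.lTensor J t) = g * μA t := by
    intro t
    induction t using TensorProduct.induction_on with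
    | zero => simp
    | tmul j c =>
      rw [LinearMap.lTensor_tmul, hμA_tmul, hμA_tmul]
      change (j : R) • (g * c) = g * ((j : R) • c)
      rw [mul_smul_comm]
    | add x z hx hz => rw [map_add, map_add, map_add, hx, hz, mul_add]
  obtain ⟨t, ht⟩ := (hrange _).mp ha
  have h1 : μB (π.lTensor J t) = 0 := by rw [nat1, ht]; exact hπ0 a
  have h2 : π.lTensor J t = 0 := hμB (h1.trans (map_zero _).symm)
  obtain ⟨t', ht'⟩ := (hexT t).mp h2
  have h3 : g * μA t' = g * a := by rw [← nat2, ht', ht]
  have h4 : μA t' = a := by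
    have := hg (μA t' - a) (by rw [mul_sub, h3, sub_self])
    exact sub_eq_zero.mp this
  exact (hrange a).mpr ⟨t', h4⟩

end Flat

section Len

variable {A B : Type u} [CommRing A] [CommRing B]

/-- the length of a quotient of a quotient ring, computed upstairs. -/
theorem length_quotient_map_of_surjective (ψ : A →+* B) (hψ : Function.Surjective ψ)
    (I : Ideal A) :
    Module.length B (B ⧸ I.map ψ) = Module.length A (A ⧸ (I ⊔ RingHom.ker ψ)) := by
  letI := ψ.toAlgebra
  rw [← Module.length_eq_of_surjective (S := A) (R := B) (M := B ⧸ I.map ψ) hψ]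
  let f : A →ₗ[A] (B ⧸ I.map ψ) :=
    ((Submodule.mkQ (I.map ψ)).restrictScalars A) ∘ₗ (Algebra.linearMap A B)
  have hf : Function.Surjective f :=
    (Submodule.mkQ_surjective _).comp hψ
  have hker : LinearMap.ker f = I ⊔ RingHom.ker ψ := by
    ext a
    rw [LinearMap.mem_ker]
    change Submodule.Quotient.mk (ψ a) = (0 : B ⧸ I.map ψ) ↔ _
    rw [Submodule.Quotient.mk_eq_zero, ← Ideal.mem_comap, Ideal.comap_map_of_surjective ψ hψ]
    rfl
  exact ((f.quotKerEquivOfSurjective hf).symm.trans
    (Submodule.quotEquivOfEq _ _ hker)).length_eq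

end Len

end Groth.Agent.H63.S45
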