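import Mathlib

set_option autoImplicit false
universe u

namespace Groth.Agent.H63.SqCurve

open MvPolynomial

variable {k : Type u} [Field k] {σ : Type*}

theorem coeff_mul_cast_eq_zero (i : σ) (p : MvPolynomial σ k) (h : pderiv i p = 0) (m : σ →₀ ℕ) :
    coeff m p * (m i : k) = 0 := by
  classical
  by_cases hm : m i = 0
  · rw [hm, Nat.cast_zero, mul_zero]
  · have h1 := coeff_pderiv (i := i) p (m - Finsupp.single i 1)
    rw [h, coeff_zero] at h1
    have hle : Finsupp.single i 1 ≤ m := by
      rw [Finsupp.single_le_iff]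
      omega
    have h2 : m - Finsupp.single i 1 + Finsupp.single i 1 = m := tsub_add_cancel_of_le hle
    rw [h2] at h1
    have h3 : (((m - Finsupp.single i 1 : σ →₀ ℕ) i : ℕ) : k) + 1 = (m i : k) := by
      rw [Finsupp.tsub_apply, Finsupp.single_eq_same]
      have : m i - 1 + 1 = m i := by omega
      rw [← this]
      push_cast
      simp
    rw [h3] at h1
    exact h1.symm

theorem totalDegree_pderiv_lt (i : σ) (p : MvPolynomial σ k) (h : pderiv i p ≠ 0) :
    (pderiv i p).totalDegree < p.totalDegree := by
  classical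
  obtain ⟨m0, hm0⟩ := (MvPolynomial.support_nonempty.mpr h)
  have key : ∀ m ∈ (pderiv i p).support, (m.sum fun _ e => e) + 1 ≤ p.totalDegree := by
    intro m hm
    rw [mem_support_iff, coeff_pderiv] at hm
    have hmem : m + Finsupp.single i 1 ∈ p.support := by
      rw [mem_support_iff]; exact left_ne_zero_of_mul hm
    have := le_totalDegree hmem
    rwa [Finsupp.sum_add_index' (fun _ => rfl) (fun _ _ _ => rfl),
      Finsupp.sum_single_index rfl] at this
  rw [totalDegree, Finset.sup_lt_iff (lt_of_lt_of_le (Nat.succ_pos _) (key m0 hm0))]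
  intro m hm
  exact Nat.lt_of_succ_le (key m hm)

theorem pderiv_eq_zero_of_dvd (i : σ) (p : MvPolynomial σ k) (h : p ∣ pderiv i p) :
    pderiv i p = 0 := by
  by_contra h0
  obtain ⟨c, hc⟩ := h
  have hp : p ≠ 0 := by
    rintro rfl
    simp at h0
  have hc0 : c ≠ 0 := by
    rintro rfl
    rw [mul_zero] at hc
    exact h0 hc
  have h1 := totalDegree_pderiv_lt i p h0
  rw [hc, totalDegree_mul_of_isDomain hp hc0] at h1
  omega

theorem not_irreducible_of_pderiv_eq_zero [PerfectField k] (p : MvPolynomial σ k)
    (h : ∀ i, pderiv i p = 0) : ¬ Irreducible p := by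
  classical
  obtain ⟨ℓ, hℓ⟩ := ExpChar.exists k
  cases hℓ with
  | zero =>
    have hsupp : ∀ m ∈ p.support, m = 0 := by
      intro m hm
      rw [mem_support_iff] at hm
      ext i
      have := coeff_mul_cast_eq_zero i p (h i) m
      rcases mul_eq_zero.mp this with h1 | h1
      · exact absurd h1 hm
      · simpa using h1
    have hp : p = C (coeff 0 p) := by
      ext m
      rw [coeff_C]
      split_ifs with hm
      · rw [hm]
      · by_contra hne
        exact hm (hsupp m (mem_support_iff.mpr hne)).symm
    intro hirr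
    rw [hp] at hirr
    by_cases hc : coeff 0 p = 0
    · rw [hc, map_zero] at hirr
      exact not_irreducible_zero hirr
    · exact hirr.not_isUnit ((isUnit_iff_ne_zero.mpr hc).map C)
  | prime hprime =>
    have : ExpChar k ℓ := ExpChar.prime hprime
    have hdvd : ∀ m ∈ p.support, ∀ i, ℓ ∣ m i := by
      intro m hm i
      rw [mem_support_iff] at hm
      have := coeff_mul_cast_eq_zero i p (h i) m
      rcases mul_eq_zero.mp this with h1 | h1
      · exact absurd h1 hm
      · exact (CharP.cast_eq_zero_iff k ℓ (m i)).mp h1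
    let q : MvPolynomial σ k := ∑ m ∈ p.support,
      monomial (m.mapRange (· / ℓ) (Nat.zero_div ℓ)) ((frobeniusEquiv k ℓ).symm (coeff m p))
    have hq : p = q ^ ℓ := by
      show p = (∑ m ∈ p.support,
        monomial (m.mapRange (· / ℓ) (Nat.zero_div ℓ)) ((frobeniusEquiv k ℓ).symm (coeff m p))) ^ ℓ
      rw [sum_pow_char]
      conv_lhs => rw [← support_sum_monomial_coeff p]
      apply Finset.sum_congr rfl
      intro m hm
      rw [monomial_pow, frobeniusEquiv_symm_pow_p]
      have hm' : ℓ • m.mapRange (· / ℓ) (Nat.zero_div ℓ) = m := by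
        ext i
        rw [Finsupp.smul_apply, Finsupp.mapRange_apply, smul_eq_mul]
        exact Nat.mul_div_cancel' (hdvd m hm i)
      rw [hm']
    rw [hq]
    exact not_irreducible_pow hprime.ne_one

end Groth.Agent.H63.SqCurve
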