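import Mathlib

set_option autoImplicit false
universe u

namespace Groth.Agent.H63.SqCurve

open MvPolynomial

variable {k : Type u} [Field k]

theorem ringKrullDim_mvPoly_two : ringKrullDim (MvPolynomial (Fin 2) k) = 2 := by
  rw [MvPolynomial.ringKrullDim_of_isNoetherianRing, ringKrullDim_eq_zero_of_field]
  simp

/-- In `k[x,y]`, a prime ideal containing an irreducible `p` and an element not divisible by `p`
is maximal. -/
theorem isMaximal_of_irreducible_mem (𝔭 : Ideal (MvPolynomial (Fin 2) k)) [h𝔭 : 𝔭.IsPrime]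
    (p q : MvPolynomial (Fin 2) k) (hp : Irreducible p) (hp𝔭 : p ∈ 𝔭) (hq𝔭 : q ∈ 𝔭) (hpq : ¬ p ∣ q) :
    𝔭.IsMaximal := by
  have hprime : Prime p := hp.prime
  have h1 : (Ideal.span {p}).IsPrime := (Ideal.span_singleton_prime hp.ne_zero).mpr hprime
  have hlt1 : (⊥ : Ideal (MvPolynomial (Fin 2) k)) < Ideal.span {p} := by
    rw [bot_lt_iff_ne_bot]
    intro h
    rw [Ideal.span_singleton_eq_bot] at h
    exact hp.ne_zero h
  have hlt2 : Ideal.span {p} < 𝔭 := by
    refine lt_of_le_of_ne ((Ideal.span_singleton_le_iff_mem (I := 𝔭)).mpr hp𝔭) ?_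
    intro h
    rw [← h, Ideal.mem_span_singleton] at hq𝔭
    exact hpq hq𝔭
  have : (⊥ : Ideal (MvPolynomial (Fin 2) k)).IsPrime := Ideal.isPrime_bot
  have e1 := Ideal.height_add_one_le_of_lt_of_isPrime hlt1
  have e2 := Ideal.height_add_one_le_of_lt_of_isPrime hlt2
  have e3 : (2 : ℕ∞) ≤ 𝔭.height := by
    calc (2 : ℕ∞) = 0 + 1 + 1 := by norm_num
      _ ≤ (⊥ : Ideal (MvPolynomial (Fin 2) k)).height + 1 + 1 := by gcongr; exact zero_le
      _ ≤ (Ideal.span {p}).height + 1 := by gcongr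
      _ ≤ 𝔭.height := e2
  have e4 := Ideal.height_le_ringKrullDim_of_ne_top h𝔭.ne_top
  rw [ringKrullDim_mvPoly_two] at e4
  have : FiniteRingKrullDim (MvPolynomial (Fin 2) k) := by
    rw [finiteRingKrullDim_iff_ne_bot_and_top, ringKrullDim_mvPoly_two]
    exact ⟨by decide, by decide⟩
  apply Ideal.isMaximal_of_height_eq_ringKrullDim
  rw [ringKrullDim_mvPoly_two]
  apply le_antisymm e4
  have : ((2 : ℕ∞) : WithBot ℕ∞) ≤ (𝔭.height : WithBot ℕ∞) := WithBot.coe_le_coe.mpr e3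
  exact this

end Groth.Agent.H63.SqCurve
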