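import Mathlib
import Groth.Agent.H76.ASingJ
import Groth.Agent.H76.ArSingC
import Groth.Agent.H63.PSSmooth
import Groth.Agent.H63.NoethEndo

set_option autoImplicit false
universe u

namespace Groth.Agent.H63.SqCurve

open MvPowerSeries Groth.Agent.H76 Groth.Agent.H76.ASing Groth.Agent.H61 ArtFun

variable (k : Type u) [Field k]

local notation "P" => MvPowerSeries (Fin 2) k

theorem isDomain_P : IsDomain P := NoZeroDivisors.to_isDomain _

theorem X1_prime : Prime (X 1 : P) := by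
  have h : Prime (ArSing.E k (X 1)) := by
    rw [ArSing.E_X1]
    exact PowerSeries.X_prime
  exact (MulEquiv.prime_iff (ArSing.E k)).mp h

theorem not_X1_dvd_X0 : ¬ ((X 1 : P) ∣ X 0) := by
  intro h
  rw [X_dvd_iff] at h
  have := h (Finsupp.single 0 1) (by simp)
  rw [coeff_X, if_pos rfl] at this
  exact one_ne_zero this

theorem X1_notMem_J_sq : (X 1 : P) ∉ J k ^ 2 := by
  intro h
  have h1 := coeff_eq_zero_of_mem_J_pow k h (d := Finsupp.single 1 1)
    (by rw [Finsupp.degree_single]; norm_num)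
  rw [coeff_X, if_pos rfl] at h1
  exact one_ne_zero h1

theorem maximalIdeal_eq_J : IsLocalRing.maximalIdeal P = J k := by
  ext x
  rw [IsLocalRing.mem_maximalIdeal, mem_nonunits_iff, isUnit_iff_notMem_J, not_not]

theorem iInf_Mq_pow (I : Ideal P) (hI : I ≤ J k) : ⨅ n : ℕ, Mq k I ^ n = ⊥ := by
  have hne : I ≠ ⊤ := fun h => J_ne_top k (top_le_iff.mp (h ▸ hI))
  have : Nontrivial (P ⧸ I) := Ideal.Quotient.nontrivial_iff.mpr hne
  have : IsLocalRing (P ⧸ I) :=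
    IsLocalRing.of_surjective' (Ideal.Quotient.mk I) Ideal.Quotient.mk_surjective
  apply Ideal.iInf_pow_eq_bot_of_isLocalRing
  intro h
  have h1 : (1 : P ⧸ I) ∈ Mq k I := h ▸ Submodule.mem_top
  rw [mem_Mq_iff k I hI] at h1
  exact h1 isUnit_one

/-- an isomorphism of quotients of `k[[x,y]]` lifts to an endomorphism. -/
theorem exists_lift (I₁ I₂ : Ideal P) (h1 : I₁ ≤ J k) (h2 : I₂ ≤ J k)
    (e : (P ⧸ I₁) ≃ₐ[k] (P ⧸ I₂)) :
    ∃ θ : P →ₐ[k] P, ∀ x, Ideal.Quotient.mk I₂ (θ x) = e (Ideal.Quotient.mk I₁ x) := by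
  have hex : ∀ i : Fin 2, ∃ t : P, Ideal.Quotient.mk I₂ t = e (Ideal.Quotient.mk I₁ (X i)) :=
    fun i => Ideal.Quotient.mk_surjective _
  choose t ht using hex
  have hmem : ∀ i, e (Ideal.Quotient.mk I₁ (X i)) ∈ Mq k I₂ := by
    intro i
    rw [← map_Mq k I₁ I₂ h1 h2 e]
    apply Ideal.mem_map_of_mem
    exact Ideal.mem_map_of_mem (Ideal.Quotient.mkₐ k I₁) (X_mem_J k i)
  have htJ : ∀ i, t i ∈ J k := by
    intro i
    by_contra hn
    have hu := (isUnit_iff_notMem_J k (t i)).mpr hn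
    have hu' := hu.map (Ideal.Quotient.mk I₂)
    rw [ht i] at hu'
    exact (mem_Mq_iff k I₂ h2 _).mp (hmem i) hu'
  have ht0 : ∀ i, constantCoeff (t i) = 0 := fun i => (mem_J_iff k _).mp (htJ i)
  refine ⟨lin k t ht0, ?_⟩
  have hcomp : (Ideal.Quotient.mkₐ k I₂).comp (lin k t ht0) =
      (e : (P ⧸ I₁) →ₐ[k] (P ⧸ I₂)).comp (Ideal.Quotient.mkₐ k I₁) := by
    apply ArSing.mvps2_algHom_ext (Mq k I₂) (iInf_Mq_pow k I₂ h2)
    · rw [AlgHom.comp_apply, lin_X, AlgHom.comp_apply]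
      exact ht 0
    · rw [AlgHom.comp_apply, lin_X, AlgHom.comp_apply]
      exact ht 1
    · rw [AlgHom.comp_apply, lin_X]
      exact Ideal.mem_map_of_mem (Ideal.Quotient.mkₐ k I₂) (htJ 0)
    · rw [AlgHom.comp_apply, lin_X]
      exact Ideal.mem_map_of_mem (Ideal.Quotient.mkₐ k I₂) (htJ 1)
  intro x
  exact DFunLike.congr_fun hcomp x

theorem algHom_map_J_le (θ : P →ₐ[k] P) : Ideal.map θ (J k) ≤ J k := by
  have hres : (psCRing k 2).res.comp θ = (psCRing k 2).res :=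
    CR.res_unique (fun c => ⟨c, rfl⟩) (psCRing k 2) _
  have := CR.map_maximalIdeal_le (psCRing k 2) (psCRing k 2) θ hres
  rw [← maximalIdeal_eq_J]
  exact this

theorem algHom_mem_J_pow (θ : P →ₐ[k] P) (n : ℕ) (x : P) (hx : x ∈ J k ^ n) : θ x ∈ J k ^ n := by
  have h1 : θ x ∈ Ideal.map θ (J k ^ n) := Ideal.mem_map_of_mem _ hx
  rw [Ideal.map_pow] at h1
  exact Ideal.pow_right_mono (algHom_map_J_le k θ) n h1

theorem bijective_of_lift (I₁ I₂ : Ideal P) (h2 : I₂ ≤ J k ^ 2) (e : (P ⧸ I₁) ≃ₐ[k] (P ⧸ I₂))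
    (θ : P →ₐ[k] P) (hθ : ∀ x, Ideal.Quotient.mk I₂ (θ x) = e (Ideal.Quotient.mk I₁ x)) :
    Function.Bijective θ := by
  have hres : (psCRing k 2).res.comp θ = (psCRing k 2).res :=
    CR.res_unique (fun c => ⟨c, rfl⟩) (psCRing k 2) _
  have hcot : Ideal.map θ (J k) ⊔ J k ^ 2 = J k := by
    apply le_antisymm (sup_le (algHom_map_J_le k θ) (Ideal.pow_le_self two_ne_zero))
    intro x hx
    obtain ⟨z, hz⟩ := Ideal.Quotient.mk_surjective (e.symm (Ideal.Quotient.mk I₂ x))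
    have h3 : Ideal.Quotient.mk I₂ (θ z) = Ideal.Quotient.mk I₂ x := by
      rw [hθ, hz, AlgEquiv.apply_symm_apply]
    rw [Ideal.Quotient.eq] at h3
    have h4 : θ z - x ∈ J k ^ 2 := h2 h3
    have h5 : θ z ∈ J k := by
      have : θ z = x + (θ z - x) := by ring
      rw [this]
      exact Ideal.add_mem _ hx (Ideal.pow_le_self two_ne_zero h4)
    have hz' : z ∈ J k := by
      by_contra hn
      have hu := (isUnit_iff_notMem_J k z).mpr hn
      exact ((isUnit_iff_notMem_J k _).mp (hu.map θ)) h5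
    have : x = θ z + -(θ z - x) := by ring
    rw [this]
    exact Ideal.add_mem _ (Ideal.mem_sup_left (Ideal.mem_map_of_mem _ hz'))
      (Ideal.mem_sup_right (neg_mem h4))
  have hs : Function.Surjective θ := by
    apply CR.surjective_of_cotangent (psCRing k 2) (psCRing k 2) θ hres
    have := maximalIdeal_eq_J k
    rw [show IsLocalRing.maximalIdeal (psCRing k 2).carrier = J k from this]
    exact hcot
  exact ⟨injective_of_surjective_ringEnd (θ : P →+* P) hs, hs⟩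

/-- If `P/(F) ≃ P/(y²)` then `F = Y² u` for a prime `Y ∉ 𝔪²` and a unit `u`. -/
theorem exists_prime_sq (F : P) (hF : F ∈ J k)
    (e : (P ⧸ Ideal.span {F}) ≃ₐ[k] (P ⧸ Ideal.span {(X 1 : P) ^ 2})) :
    ∃ Y u : P, Prime Y ∧ Y ∉ J k ^ 2 ∧ IsUnit u ∧ F = Y ^ 2 * u := by
  have := isDomain_P k
  have h1 : Ideal.span {F} ≤ J k := (Ideal.span_singleton_le_iff_mem (I := J k)).mpr hF
  have h2 : Ideal.span {(X 1 : P) ^ 2} ≤ J k ^ 2 :=
    (Ideal.span_singleton_le_iff_mem (I := J k ^ 2)).mpr (Ideal.pow_mem_pow (X_mem_J k 1) 2)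
  obtain ⟨θ, hθ⟩ := exists_lift k _ _ h1 (h2.trans (Ideal.pow_le_self two_ne_zero)) e
  have hbij := bijective_of_lift k _ _ h2 e θ hθ
  let Θ : P ≃ₐ[k] P := AlgEquiv.ofBijective θ hbij
  have hΘ : ∀ x, Θ x = θ x := fun x => rfl
  have hmem : ∀ x, x ∈ Ideal.span {F} ↔ θ x ∈ Ideal.span {(X 1 : P) ^ 2} := by
    intro x
    rw [← Ideal.Quotient.eq_zero_iff_mem, ← Ideal.Quotient.eq_zero_iff_mem, hθ]
    exact (map_eq_zero_iff e e.injective).symm
  have hX : (X 1 : P) ^ 2 ≠ 0 := pow_ne_zero 2 (X1_prime k).ne_zero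
  obtain ⟨w, hw⟩ := Ideal.mem_span_singleton.mp ((hmem F).mp (Ideal.mem_span_singleton_self F))
  obtain ⟨z, hz⟩ := hbij.2 ((X 1 : P) ^ 2)
  have hzI : z ∈ Ideal.span {F} := by
    rw [hmem, hz]
    exact Ideal.mem_span_singleton_self _
  obtain ⟨v, hv⟩ := Ideal.mem_span_singleton.mp hzI
  have hwu : IsUnit w := by
    have h3 : (X 1 : P) ^ 2 * 1 = (X 1 : P) ^ 2 * (w * θ v) := by
      rw [mul_one, ← mul_assoc, ← hw, ← map_mul, ← hv, hz]
    exact IsUnit.of_mul_eq_one _ (mul_left_cancel₀ hX h3).symm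
  refine ⟨Θ.symm (X 1), Θ.symm w, (MulEquiv.prime_iff Θ.symm).mpr (X1_prime k), ?_, hwu.map Θ.symm, ?_⟩
  · intro hY
    have h3 := algHom_mem_J_pow k θ 2 _ hY
    rw [← hΘ, AlgEquiv.apply_symm_apply] at h3
    exact X1_notMem_J_sq k h3
  · rw [← map_pow, ← map_mul, ← hw, ← hΘ, AlgEquiv.symm_apply_apply]

end Groth.Agent.H63.SqCurve
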