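import Mathlib
import Groth.Agent.H63.SqCurveA
import Groth.Agent.H63.SqCurveB
import Groth.Agent.H63.SqCurveC

set_option autoImplicit false
universe u

namespace Groth.Agent.H63.SqCurve

open MvPowerSeries Groth.Agent.H76 Groth.Agent.H76.ASing

variable (k : Type u) [Field k]

local notation "P" => MvPowerSeries (Fin 2) k
local notation "R" => MvPolynomial (Fin 2) k

/-- polynomial side: if `F = Y² u` in `k[[x,y]]` with `Y` prime, `Y ∉ 𝔪²`, `u` a unit, then
`F = p² H` in `k[x,y]` with `H(0) ≠ 0` and `p` smooth at `0`. -/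
theorem core [PerfectField k] (F : R) (Y u : P) (hY : Prime Y) (hY2 : Y ∉ J k ^ 2) (hu : IsUnit u)
    (hF : (F : P) = Y ^ 2 * u) :
    ∃ p H : R, F = p ^ 2 * H ∧ IsUnit (H : P) ∧ (p : P) ∈ J k ∧ (p : P) ∉ J k ^ 2 := by
  have := isDomain_P k
  let ι : R →+* P := MvPolynomial.coeToMvPowerSeries.ringHom
  have hYJ : Y ∈ J k := by
    by_contra hn
    exact hY.not_isUnit ((isUnit_iff_notMem_J k Y).mpr hn)
  have hYprime : (Ideal.span {Y}).IsPrime := (Ideal.span_singleton_prime hY.ne_zero).mpr hY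
  let 𝔭 : Ideal R := Ideal.comap ι (Ideal.span {Y})
  have h𝔭 : 𝔭.IsPrime := Ideal.comap_isPrime ι _
  have hmem : ∀ q : R, q ∈ 𝔭 ↔ Y ∣ (q : P) := by
    intro q
    show ι q ∈ Ideal.span {Y} ↔ _
    rw [Ideal.mem_span_singleton]
    rfl
  have hnotmax : ¬ 𝔭.IsMaximal := by
    intro hmax
    let 𝔪 : Ideal R := Ideal.comap ι (J k)
    have hle : 𝔭 ≤ 𝔪 :=
      Ideal.comap_mono ((Ideal.span_singleton_le_iff_mem (I := J k)).mpr hYJ)
    have hne : 𝔪 ≠ ⊤ := by
      intro h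
      have h1 : (1 : R) ∈ 𝔪 := h ▸ Submodule.mem_top
      rw [Ideal.mem_comap, map_one] at h1
      exact J_ne_top k ((Ideal.eq_top_iff_one _).mpr h1)
    have heq : 𝔭 = 𝔪 := hmax.eq_of_le hne hle
    have hX : ∀ i : Fin 2, Y ∣ (X i : P) := by
      intro i
      have h1 : (MvPolynomial.X i : R) ∈ 𝔪 := by
        show ((MvPolynomial.X i : R) : P) ∈ J k
        rw [MvPolynomial.coe_X]
        exact X_mem_J k i
      rw [← heq, hmem, MvPolynomial.coe_X] at h1
      exact h1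
    obtain ⟨c, hc⟩ := hX 1
    rcases (X1_prime k).irreducible.isUnit_or_isUnit hc with h | h
    · exact hY.not_isUnit h
    · obtain ⟨c', hc'⟩ := h.exists_right_inv
      have h1 : (X 1 : P) ∣ Y := ⟨c', by rw [hc, mul_assoc, hc', mul_one]⟩
      exact not_X1_dvd_X0 k (h1.trans (hX 0))
  have hF𝔭 : F ∈ 𝔭 := by
    rw [hmem, hF]
    exact dvd_mul_of_dvd_left (dvd_pow_self Y two_ne_zero) u
  have hF0 : F ≠ 0 := by
    intro h
    rw [h, MvPolynomial.coe_zero] at hF
    exact mul_ne_zero (pow_ne_zero 2 hY.ne_zero) hu.ne_zero hF.symm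
  obtain ⟨p, hpirr, hp𝔭, hpF⟩ : ∃ p : R, Irreducible p ∧ p ∈ 𝔭 ∧ p ∣ F := by
    have hassoc := UniqueFactorizationMonoid.factors_prod hF0
    obtain ⟨v, hv⟩ := hassoc.symm
    have hprod : (UniqueFactorizationMonoid.factors F).prod ∈ 𝔭 := by
      rw [← hv]
      exact Ideal.mul_mem_right _ _ hF𝔭
    obtain ⟨p, hp, hp𝔭⟩ := (h𝔭.multiset_prod_mem_iff_exists_mem _).mp hprod
    exact ⟨p, UniqueFactorizationMonoid.irreducible_of_factor p hp, hp𝔭,
      UniqueFactorizationMonoid.dvd_of_mem_factors hp⟩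
  have hdvd : ∀ q ∈ 𝔭, p ∣ q := by
    intro q hq
    by_contra hn
    exact hnotmax (isMaximal_of_irreducible_mem 𝔭 p q hpirr hp𝔭 hq hn)
  obtain ⟨w, hw⟩ := (hmem p).mp hp𝔭
  have hYw : ¬ Y ∣ w := by
    rintro ⟨w', rfl⟩
    have hder : ∀ i, MvPolynomial.pderiv i p = 0 := by
      intro i
      apply pderiv_eq_zero_of_dvd
      apply hdvd
      rw [hmem, ← MvPowerSeries.pderiv_coe, hw, Derivation.leibniz, Derivation.leibniz]
      simp only [smul_eq_mul]
      refine dvd_add (Dvd.intro _ rfl) (dvd_mul_of_dvd_left (Dvd.intro _ rfl) _)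
    exact not_irreducible_of_pderiv_eq_zero p hder hpirr
  obtain ⟨n, H, hpH, hFH⟩ := WfDvdMonoid.max_power_factor hF0 hpirr
  have hYH : ¬ Y ∣ (H : P) := fun h => hpH (hdvd H ((hmem H).mpr h))
  have hYc : ¬ Y ∣ w ^ n * (H : P) := by
    intro h
    rcases hY.dvd_or_dvd h with h | h
    · exact hYw (hY.dvd_of_dvd_pow h)
    · exact hYH h
  have hYu : ¬ Y ∣ u := fun h => hY.not_isUnit (isUnit_of_dvd_unit h hu)
  have heq : Y ^ n * (w ^ n * (H : P)) = Y ^ 2 * u := by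
    rw [← hF, hFH, MvPolynomial.coe_mul, MvPolynomial.coe_pow, hw, mul_pow, mul_assoc]
  have hn2 : n = 2 := by
    rcases lt_trichotomy n 2 with h | h | h
    · exfalso
      have h1 : Y ^ n * (w ^ n * (H : P)) = Y ^ n * (Y ^ (2 - n) * u) := by
        rw [heq, ← mul_assoc, ← pow_add]
        congr 2
        omega
      have h2 := mul_left_cancel₀ (pow_ne_zero n hY.ne_zero) h1
      apply hYc
      rw [h2]
      exact dvd_mul_of_dvd_left (dvd_pow_self Y (by omega)) u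
    · exact h
    · exfalso
      have h1 : Y ^ 2 * (Y ^ (n - 2) * (w ^ n * (H : P))) = Y ^ 2 * u := by
        rw [← mul_assoc, ← pow_add, show 2 + (n - 2) = n by omega, heq]
      have h2 := mul_left_cancel₀ (pow_ne_zero 2 hY.ne_zero) h1
      apply hYu
      rw [← h2]
      exact dvd_mul_of_dvd_left (dvd_pow_self Y (by omega)) _
  subst hn2
  have hcu : w ^ 2 * (H : P) = u := mul_left_cancel₀ (pow_ne_zero 2 hY.ne_zero) heq
  have hwH : IsUnit (w ^ 2 * (H : P)) := hcu ▸ hu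
  obtain ⟨hw2, hHu⟩ := IsUnit.mul_iff.mp hwH
  have hwu : IsUnit w := (isUnit_pow_iff two_ne_zero).mp hw2
  refine ⟨p, H, hFH, hHu, ?_, ?_⟩
  · rw [hw]
    exact Ideal.mul_mem_right _ _ hYJ
  · intro h
    rw [hw] at h
    apply hY2
    obtain ⟨w', hw'⟩ := hwu.exists_right_inv
    have h1 : Y = Y * w * w' := by rw [mul_assoc, hw', mul_one]
    rw [h1]
    exact Ideal.mul_mem_right _ _ h

end Groth.Agent.H63.SqCurve
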