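import Mathlib
import Groth.Agent.H63.SqCurveD

set_option autoImplicit false
universe u

namespace Groth.Agent.H63.SqCurve

open MvPowerSeries Groth.Agent.H76 Groth.Agent.H76.ASing

variable (k : Type u) [Field k]

local notation "P" => MvPowerSeries (Fin 2) k
local notation "R" => MvPolynomial (Fin 2) k

theorem mem_J_sq_iff (f : P) : f ∈ J k ^ 2 ↔
    coeff 0 f = 0 ∧ coeff (Finsupp.single 0 1) f = 0 ∧ coeff (Finsupp.single 1 1) f = 0 := by
  rw [mem_J_pow_iff]
  constructor
  · intro h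
    refine ⟨h 0 (by simp), h _ (by rw [Finsupp.degree_single]; norm_num),
      h _ (by rw [Finsupp.degree_single]; norm_num)⟩
  · rintro ⟨h0, h1, h2⟩ d hd
    have hdeg : d.degree = d 0 + d 1 := by rw [Finsupp.degree_eq_sum, Fin.sum_univ_two]
    have hd' : d = Finsupp.single 0 (d 0) + Finsupp.single 1 (d 1) := by
      ext i
      fin_cases i <;> simp
    rw [hdeg] at hd
    have h3 : (d 0 = 0 ∧ d 1 = 0) ∨ (d 0 = 1 ∧ d 1 = 0) ∨ (d 0 = 0 ∧ d 1 = 1) := by omega
    rcases h3 with ⟨e0, e1⟩ | ⟨e0, e1⟩ | ⟨e0, e1⟩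
    · rw [e0, e1, Finsupp.single_zero, Finsupp.single_zero, add_zero] at hd'
      rw [hd']; exact h0
    · rw [e0, e1, Finsupp.single_zero, add_zero] at hd'
      rw [hd']; exact h1
    · rw [e0, e1, Finsupp.single_zero, zero_add] at hd'
      rw [hd']; exact h2

theorem bijective_of_cotangent (β : P →ₐ[k] P) (h : J k ≤ Ideal.map β (J k) ⊔ J k ^ 2) :
    Function.Bijective β := by
  have hres : (Groth.Agent.H61.psCRing k 2).res.comp β = (Groth.Agent.H61.psCRing k 2).res :=
    CR.res_unique (fun c => ⟨c, rfl⟩) (Groth.Agent.H61.psCRing k 2) _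
  have hcot : Ideal.map β (J k) ⊔ J k ^ 2 = J k :=
    le_antisymm (sup_le (algHom_map_J_le k β) (Ideal.pow_le_self two_ne_zero)) h
  have hs : Function.Surjective β := by
    apply CR.surjective_of_cotangent (Groth.Agent.H61.psCRing k 2) (Groth.Agent.H61.psCRing k 2) β hres
    rw [show IsLocalRing.maximalIdeal (Groth.Agent.H61.psCRing k 2).carrier = J k from
      maximalIdeal_eq_J k]
    exact hcot
  exact ⟨injective_of_surjective_ringEnd (β : P →+* P) hs, hs⟩

theorem exists_aut_one (G : P) (hG : G ∈ J k) (h1 : coeff (Finsupp.single 1 1) G ≠ 0) :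
    ∃ ψ : P ≃ₐ[k] P, ψ (X 1) = G := by
  have hg : ∀ i : Fin 2, constantCoeff ((![X 0, G] : Fin 2 → P) i) = 0 := by
    intro i
    fin_cases i
    · simp
    · simpa using (mem_J_iff k G).mp hG
  let β : P →ₐ[k] P := lin k ![X 0, G] hg
  have hβ0 : β (X 0) = X 0 := lin_X k _ hg 0
  have hβ1 : β (X 1) = G := lin_X k _ hg 1
  set c₀ : k := coeff (Finsupp.single 0 1) G with hc₀
  set c₁ : k := coeff (Finsupp.single 1 1) G with hc₁
  have hr : G - C c₀ * X 0 - C c₁ * X 1 ∈ J k ^ 2 := by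
    rw [mem_J_sq_iff]
    have hne : (Finsupp.single (0 : Fin 2) 1 : Fin 2 →₀ ℕ) ≠ Finsupp.single 1 1 := by
      intro h
      have := DFunLike.congr_fun h 0
      simp at this
    refine ⟨?_, ?_, ?_⟩
    · rw [map_sub, map_sub, coeff_C_mul, coeff_C_mul, coeff_X, coeff_X, if_neg, if_neg]
      · have : coeff 0 G = 0 := by
          rw [coeff_zero_eq_constantCoeff_apply]; exact (mem_J_iff k G).mp hG
        rw [this]; ring
      · intro h
        have := DFunLike.congr_fun h 1
        simp at this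
      · intro h
        have := DFunLike.congr_fun h 0
        simp at this
    · rw [map_sub, map_sub, coeff_C_mul, coeff_C_mul, coeff_X, coeff_X, if_pos rfl, if_neg hne]
      ring
    · rw [map_sub, map_sub, coeff_C_mul, coeff_C_mul, coeff_X, coeff_X, if_pos rfl, if_neg hne.symm]
      ring
  have hX0 : (X 0 : P) ∈ Ideal.map β (J k) ⊔ J k ^ 2 := by
    apply Ideal.mem_sup_left
    rw [← hβ0]
    exact Ideal.mem_map_of_mem _ (X_mem_J k 0)
  have hGm : G ∈ Ideal.map β (J k) ⊔ J k ^ 2 := by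
    apply Ideal.mem_sup_left
    rw [← hβ1]
    exact Ideal.mem_map_of_mem _ (X_mem_J k 1)
  have hX1 : (X 1 : P) ∈ Ideal.map β (J k) ⊔ J k ^ 2 := by
    have e : (X 1 : P) = C c₁⁻¹ * (G - C c₀ * X 0 - (G - C c₀ * X 0 - C c₁ * X 1)) := by
      have : G - C c₀ * X 0 - (G - C c₀ * X 0 - C c₁ * X 1) = C c₁ * X 1 := by ring
      rw [this, ← mul_assoc, ← map_mul, inv_mul_cancel₀ h1, map_one, one_mul]
    rw [e]
    apply Ideal.mul_mem_left
    exact Ideal.sub_mem _ (Ideal.sub_mem _ hGm (Ideal.mul_mem_left _ _ hX0)) (Ideal.mem_sup_right hr)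
  have hJ : J k ≤ Ideal.map β (J k) ⊔ J k ^ 2 := by
    unfold J
    rw [Ideal.span_le]
    rintro _ ⟨i, rfl⟩
    fin_cases i
    · exact hX0
    · exact hX1
  exact ⟨AlgEquiv.ofBijective β (bijective_of_cotangent k β hJ), hβ1⟩

theorem exists_aut (G : P) (hG : G ∈ J k) (i : Fin 2) (hi : coeff (Finsupp.single i 1) G ≠ 0) :
    ∃ ψ : P ≃ₐ[k] P, ψ (X 1) = G := by
  fin_cases i
  · have hG' : swap k G ∈ J k :=
      algHom_map_J_le k (swap k : P →ₐ[k] P) (Ideal.mem_map_of_mem _ hG)
    have h1 : coeff (Finsupp.single 1 1) (swap k G) ≠ 0 := by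
      rw [coeff_swap]
      exact hi
    obtain ⟨ψ', hψ'⟩ := exists_aut_one k (swap k G) hG' h1
    refine ⟨ψ'.trans (swap k).symm, ?_⟩
    rw [AlgEquiv.trans_apply, hψ', AlgEquiv.symm_apply_apply]
  · exact exists_aut_one k G hG hi

variable {k}

theorem shift_shift_neg (a : Fin 2 → k) (q : R) : shiftHom a (shiftHom (-a) q) = q := by
  have h : (shiftHom a).comp (shiftHom (-a)) = AlgHom.id k R := by
    apply MvPolynomial.algHom_ext
    intro i
    rw [AlgHom.comp_apply]
    have h1 : shiftHom (-a) (MvPolynomial.X i) = MvPolynomial.X i + MvPolynomial.C ((-a) i) := by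
      rw [shiftHom_apply, MvPolynomial.aeval_X]
    have h2 : shiftHom a (MvPolynomial.X i) = MvPolynomial.X i + MvPolynomial.C (a i) := by
      rw [shiftHom_apply, MvPolynomial.aeval_X]
    have h3 : ∀ c : k, shiftHom a (MvPolynomial.C c) = MvPolynomial.C c := by
      intro c
      rw [shiftHom_apply, MvPolynomial.aeval_C]
      rfl
    rw [h1, map_add, h2, h3]
    simp
  exact DFunLike.congr_fun h q

theorem shift_injective (a : Fin 2 → k) : Function.Injective (shiftHom a) := by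
  intro x y hxy
  have := congrArg (shiftHom (-a)) hxy
  have h1 := shift_shift_neg (-a) x
  have h2 := shift_shift_neg (-a) y
  rw [neg_neg] at h1 h2
  rw [h1, h2] at this
  exact this

theorem equiv_of_factor (f g h : R) (a : Fin 2 → k) (hf : f = g ^ 2 * h)
    (hh : MvPolynomial.eval a h ≠ 0) (hg : MvPolynomial.eval a g = 0) (i : Fin 2)
    (hi : MvPolynomial.eval a (MvPolynomial.pderiv i g) ≠ 0) :
    Nonempty ((P ⧸ Ideal.span {((shiftHom a f : R) : P)}) ≃ₐ[k]
      (P ⧸ Ideal.span {(X 1 : P) ^ 2})) := by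
  set G : P := ((shiftHom a g : R) : P) with hGdef
  set Hh : P := ((shiftHom a h : R) : P) with hHdef
  have hG : G ∈ J k := by
    rw [mem_J_iff, ← coeff_zero_eq_constantCoeff_apply, hGdef, MvPolynomial.coeff_coe,
      coeff_zero_shift]
    exact hg
  have hGi : coeff (Finsupp.single i 1) G ≠ 0 := by
    rw [hGdef, MvPolynomial.coeff_coe, coeff_single_shift]
    exact hi
  have hHu : IsUnit Hh := by
    rw [isUnit_iff_notMem_J, mem_J_iff, ← coeff_zero_eq_constantCoeff_apply, hHdef,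
      MvPolynomial.coeff_coe, coeff_zero_shift]
    exact hh
  have hF : ((shiftHom a f : R) : P) = G ^ 2 * Hh := by
    rw [hf, map_mul, map_pow, MvPolynomial.coe_mul, MvPolynomial.coe_pow]
  obtain ⟨ψ, hψ⟩ := exists_aut k G hG i hGi
  have heq : Ideal.span {((shiftHom a f : R) : P)} = Ideal.span {ψ ((X 1 : P) ^ 2)} := by
    rw [hF, map_pow, hψ, Ideal.span_singleton_mul_right_unit hHu]
  exact ⟨(Ideal.quotientEquivAlgOfEq k heq).trans (autQuot k ψ ((X 1 : P) ^ 2)).symm⟩

theorem factor_of_equiv [IsAlgClosed k] (f : R) (a : Fin 2 → k)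
    (e : (P ⧸ Ideal.span {((shiftHom a f : R) : P)}) ≃ₐ[k] (P ⧸ Ideal.span {(X 1 : P) ^ 2})) :
    ∃ g h : R, f = g ^ 2 * h ∧ MvPolynomial.eval a h ≠ 0 ∧ MvPolynomial.eval a g = 0 ∧
      ∃ i : Fin 2, MvPolynomial.eval a (MvPolynomial.pderiv i g) ≠ 0 := by
  have hFJ : ((shiftHom a f : R) : P) ∈ J k := by
    by_contra hn
    have hu := (isUnit_iff_notMem_J k _).mpr hn
    have htop : Ideal.span {((shiftHom a f : R) : P)} = ⊤ := Ideal.span_singleton_eq_top.mpr hu
    have h1 : (1 : P ⧸ Ideal.span {((shiftHom a f : R) : P)}) = 0 := by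
      rw [← map_one (Ideal.Quotient.mk _), Ideal.Quotient.eq_zero_iff_mem, htop]
      exact Submodule.mem_top
    have h2 : (1 : P ⧸ Ideal.span {(X 1 : P) ^ 2}) = 0 := by
      rw [← map_one e, h1, map_zero]
    rw [← map_one (Ideal.Quotient.mk _), Ideal.Quotient.eq_zero_iff_mem,
      Ideal.mem_span_singleton] at h2
    have h3 : IsUnit ((X 1 : P) ^ 2) := isUnit_of_dvd_one h2
    exact (X1_prime k).not_isUnit ((isUnit_pow_iff two_ne_zero).mp h3)
  obtain ⟨Y, u, hY, hY2, hu, hF⟩ := exists_prime_sq k _ hFJ e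
  obtain ⟨p, H, hpH, hHu, hpJ, hpJ2⟩ := core k (shiftHom a f) Y u hY hY2 hu hF
  refine ⟨shiftHom (-a) p, shiftHom (-a) H, ?_, ?_, ?_, ?_⟩
  · apply shift_injective a
    rw [map_mul, map_pow, shift_shift_neg, shift_shift_neg]
    exact hpH
  · rw [← coeff_zero_shift, shift_shift_neg, ← MvPolynomial.coeff_coe,
      coeff_zero_eq_constantCoeff_apply, ne_eq, ← mem_J_iff, ← isUnit_iff_notMem_J]
    exact hHu
  · rw [← coeff_zero_shift, shift_shift_neg, ← MvPolynomial.coeff_coe,
      coeff_zero_eq_constantCoeff_apply, ← mem_J_iff]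
    exact hpJ
  · by_contra hn
    simp only [not_exists, not_not] at hn
    apply hpJ2
    rw [mem_J_sq_iff]
    refine ⟨?_, ?_, ?_⟩
    · rw [coeff_zero_eq_constantCoeff_apply, ← mem_J_iff]
      exact hpJ
    · have := hn 0
      rw [← coeff_single_shift, shift_shift_neg, ← MvPolynomial.coeff_coe] at this
      exact this
    · have := hn 1
      rw [← coeff_single_shift, shift_shift_neg, ← MvPolynomial.coeff_coe] at this
      exact this

end Groth.Agent.H63.SqCurve
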