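import Mathlib

/-!
# Algebra maps into trivial square-zero extensions (helper63)
-/

set_option autoImplicit false
set_option linter.style.haveILetI false
set_option linter.unusedSectionVars false
universe u v w

namespace Groth.Agent.H63.T1

section tsze
variable {k : Type*} [CommRing k] {P : Type*} [CommRing P] [Algebra k P]
  {A : Type*} [CommRing A] [Algebra k A]
  {M : Type*} [AddCommGroup M] [Module A M] [Module Aᵐᵒᵖ M] [IsCentralScalar A M] [Module k M]
  [IsScalarTower k A M] [IsScalarTower k Aᵐᵒᵖ M]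
  {M' : Type*} [AddCommGroup M'] [Module A M'] [Module Aᵐᵒᵖ M'] [IsCentralScalar A M']
  [Module k M'] [IsScalarTower k A M'] [IsScalarTower k Aᵐᵒᵖ M']

theorem tsze_der_one (q : P →ₐ[k] A) (δ : P →ₗ[k] M)
    (hδ : ∀ g h, δ (g * h) = q g • δ h + q h • δ g) : δ 1 = 0 := by
  have := hδ 1 1
  rw [mul_one, map_one q, one_smul] at this
  exact left_eq_add.mp this

/-- the algebra map into a trivial square-zero extension given by an algebra map and a
derivation along it -/
def tszeHom (q : P →ₐ[k] A) (δ : P →ₗ[k] M)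
    (hδ : ∀ g h, δ (g * h) = q g • δ h + q h • δ g) : P →ₐ[k] TrivSqZeroExt A M where
  toFun g := TrivSqZeroExt.inl (q g) + TrivSqZeroExt.inr (δ g)
  map_one' := by
    rw [tsze_der_one q δ hδ, map_one, TrivSqZeroExt.inr_zero, add_zero, TrivSqZeroExt.inl_one]
  map_mul' g h := by
    ext
    · simp
    · simp [hδ, op_smul_eq_smul, add_comm]
  map_zero' := by simp
  map_add' g h := by
    ext
    · simp
    · simp
  commutes' c := by
    have h1 : δ (algebraMap k P c) = 0 := by
      rw [Algebra.algebraMap_eq_smul_one, map_smul, tsze_der_one q δ hδ, smul_zero]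
    rw [TrivSqZeroExt.algebraMap_eq_inl', AlgHom.commutes, h1, TrivSqZeroExt.inr_zero, add_zero]

theorem fst_tszeHom (q : P →ₐ[k] A) (δ : P →ₗ[k] M)
    (hδ : ∀ g h, δ (g * h) = q g • δ h + q h • δ g) (g : P) :
    (tszeHom q δ hδ g).fst = q g := by
  simp [tszeHom]

theorem snd_tszeHom (q : P →ₐ[k] A) (δ : P →ₗ[k] M)
    (hδ : ∀ g h, δ (g * h) = q g • δ h + q h • δ g) (g : P) :
    (tszeHom q δ hδ g).snd = δ g := by
  simp [tszeHom]

/-- the algebra map between trivial square-zero extensions induced by a linear map -/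
def tszeMap (f : M' →ₗ[A] M) : TrivSqZeroExt A M' →ₐ[k] TrivSqZeroExt A M where
  toFun x := TrivSqZeroExt.inl x.fst + TrivSqZeroExt.inr (f x.snd)
  map_one' := by
    ext
    · simp
    · simp
  map_mul' x y := by
    ext
    · simp
    · simp [op_smul_eq_smul]
  map_zero' := by
    ext
    · simp
    · simp
  map_add' x y := by
    ext
    · simp
    · simp
  commutes' c := by
    rw [TrivSqZeroExt.algebraMap_eq_inl', TrivSqZeroExt.algebraMap_eq_inl']
    ext
    · simp
    · simp

theorem fst_tszeMap (f : M' →ₗ[A] M) (x : TrivSqZeroExt A M') :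
    (tszeMap (k := k) f x).fst = x.fst := by
  simp [tszeMap]

theorem snd_tszeMap (f : M' →ₗ[A] M) (x : TrivSqZeroExt A M') :
    (tszeMap (k := k) f x).snd = f x.snd := by
  simp [tszeMap]

/-- the second component of an algebra map into a trivial square-zero extension satisfies the
Leibniz rule -/
theorem snd_algHom_mul (Ψ : P →ₐ[k] TrivSqZeroExt A M) (g h : P) :
    (Ψ (g * h)).snd = (Ψ g).fst • (Ψ h).snd + (Ψ h).fst • (Ψ g).snd := by
  rw [map_mul, TrivSqZeroExt.snd_mul, op_smul_eq_smul]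

theorem snd_algHom_smul (Ψ : P →ₐ[k] TrivSqZeroExt A M) (c : k) (g : P) :
    (Ψ (c • g)).snd = c • (Ψ g).snd := by
  rw [map_smul, TrivSqZeroExt.snd_smul]

/-- the kernel of the projection is nilpotent over a nilpotent ideal -/
theorem comap_fst_pow_eq_bot (𝔪 : Ideal A) (N : ℕ) (h𝔪 : 𝔪 ^ N = ⊥) :
    (Ideal.comap (TrivSqZeroExt.fstHom k A M) 𝔪) ^ (N + N) = ⊥ := by
  rw [eq_bot_iff, pow_add]
  have h1 : (Ideal.comap (TrivSqZeroExt.fstHom k A M) 𝔪) ^ N ≤
      RingHom.ker (TrivSqZeroExt.fstHom k A M) := by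
    refine (Ideal.le_comap_pow _ N).trans ?_
    rw [h𝔪]
    exact le_rfl
  refine (Ideal.mul_mono h1 h1).trans ?_
  rw [Ideal.mul_le]
  intro x hx y hy
  rw [RingHom.mem_ker] at hx hy
  rw [Ideal.mem_bot]
  ext
  · simp only [TrivSqZeroExt.fst_mul, TrivSqZeroExt.fst_zero]
    have : x.fst = 0 := hx
    rw [this, zero_mul]
  · have h1 : x.fst = 0 := hx
    have h2 : y.fst = 0 := hy
    simp only [TrivSqZeroExt.snd_mul, TrivSqZeroExt.snd_zero, h1, h2, zero_smul,
      MulOpposite.op_zero, add_zero]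

end tsze

end Groth.Agent.H63.T1
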