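import Mathlib
import Groth.Prelude.Def_ArtFun2
import Groth.Agent.H63.T1Tsze

/-!
# The T¹-lifting property in terms of derivations (helper63)
-/

set_option autoImplicit false
set_option linter.style.haveILetI false
set_option linter.unusedSectionVars false
universe u v w

namespace Groth.Agent.H63.T1
open ArtFun

/-- the lifting property of the `T¹`-lifting criterion -/
def T1Lifting (k : Type u) [Field k] (R : Type u) [CommRing R] [Algebra k R] : Prop :=
  ∀ (A : ArtFun.Art k k) (M M' : Type u) [AddCommGroup M] [Module (↥A) M] [Module (↥A)ᵐᵒᵖ M]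
    [IsCentralScalar (↥A) M] [Module k M] [IsScalarTower k (↥A) M] [IsScalarTower k (↥A)ᵐᵒᵖ M]
    [AddCommGroup M'] [Module (↥A) M'] [Module (↥A)ᵐᵒᵖ M'] [IsCentralScalar (↥A) M'] [Module k M']
    [IsScalarTower k (↥A) M'] [IsScalarTower k (↥A)ᵐᵒᵖ M'] (f : M' →ₗ[↥A] M),
    Function.Surjective f →
      ∀ φ : R →ₐ[k] TrivSqZeroExt (↥A) M,
        ∃ ψ : R →ₐ[k] TrivSqZeroExt (↥A) M',
          ∀ r : R, (ψ r).fst = (φ r).fst ∧ f (ψ r).snd = (φ r).snd

variable {k : Type u} [Field k] {R : Type u} [CommRing R] [Algebra k R]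

/-- the lifting property, for derivations on a presentation -/
theorem T1Lifting.exists_der (h : T1Lifting k R) {P : Type u} [CommRing P] [Algebra k P]
    (π : P →ₐ[k] R) (hπ : Function.Surjective π)
    (A : Art k k) (M M' : Type u) [AddCommGroup M] [Module A M] [AddCommGroup M'] [Module A M']
    (f : M' →ₗ[A] M) (hf : Function.Surjective f)
    (q : P →ₐ[k] A) (δ : P →+ M) (hδ : ∀ g h, δ (g * h) = q g • δ h + q h • δ g)
    (hδk : ∀ (c : k) g, δ (c • g) = algebraMap k A c • δ g)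
    (hq : ∀ g, π g = 0 → q g = 0) (hδ0 : ∀ g, π g = 0 → δ g = 0) :
    ∃ δ' : P → M', (∀ g h, δ' (g + h) = δ' g + δ' h) ∧
      (∀ g h, δ' (g * h) = q g • δ' h + q h • δ' g) ∧ (∀ g, π g = 0 → δ' g = 0) ∧
      ∀ g, f (δ' g) = δ g := by
  letI opM : Module (↥A)ᵐᵒᵖ M := Module.compHom M ((RingEquiv.toOpposite A).symm : (↥A)ᵐᵒᵖ →+* A)
  haveI : IsCentralScalar A M := ⟨fun a m => rfl⟩
  letI kM : Module k M := Module.compHom M (algebraMap k A)
  haveI : IsScalarTower k A M := ⟨fun c a m => by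
    change (c • a) • m = algebraMap k A c • (a • m)
    rw [Algebra.smul_def, mul_smul]⟩
  haveI : IsScalarTower k (↥A)ᵐᵒᵖ M := ⟨fun c a m => by
    change (c • a.unop) • m = algebraMap k A c • (a.unop • m)
    rw [Algebra.smul_def, mul_smul]⟩
  letI opM' : Module (↥A)ᵐᵒᵖ M' :=
    Module.compHom M' ((RingEquiv.toOpposite A).symm : (↥A)ᵐᵒᵖ →+* A)
  haveI : IsCentralScalar A M' := ⟨fun a m => rfl⟩
  letI kM' : Module k M' := Module.compHom M' (algebraMap k A)
  haveI : IsScalarTower k A M' := ⟨fun c a m => by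
    change (c • a) • m = algebraMap k A c • (a • m)
    rw [Algebra.smul_def, mul_smul]⟩
  haveI : IsScalarTower k (↥A)ᵐᵒᵖ M' := ⟨fun c a m => by
    change (c • a.unop) • m = algebraMap k A c • (a.unop • m)
    rw [Algebra.smul_def, mul_smul]⟩
  let δL : P →ₗ[k] M :=
    { toFun := δ
      map_add' := δ.map_add
      map_smul' := fun c g => hδk c g }
  have hδL : ∀ g h, δL (g * h) = q g • δL h + q h • δL g := hδ
  let Φ : P →ₐ[k] TrivSqZeroExt A M := tszeHom q δL hδL
  have hΦ : RingHom.ker π.toRingHom ≤ RingHom.ker Φ.toRingHom := by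
    intro g hg
    have hg' : π g = 0 := hg
    change Φ g = 0
    ext
    · rw [fst_tszeHom, TrivSqZeroExt.fst_zero]
      exact hq g hg'
    · rw [snd_tszeHom, TrivSqZeroExt.snd_zero]
      exact hδ0 g hg'
  let φ : R →ₐ[k] TrivSqZeroExt A M := AlgHom.liftOfSurjective π hπ Φ hΦ
  have hφ : ∀ g, φ (π g) = Φ g := fun g => AlgHom.liftOfSurjective_apply π hπ Φ hΦ g
  obtain ⟨ψ, hψ⟩ := h A M M' f hf φ
  have hfst : ∀ g, (ψ (π g)).fst = q g := by
    intro g
    rw [(hψ (π g)).1, hφ, fst_tszeHom]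
  refine ⟨fun g => (ψ (π g)).snd, ?_, ?_, ?_, ?_⟩
  · intro g h
    change (ψ (π (g + h))).snd = _
    rw [map_add, map_add, TrivSqZeroExt.snd_add]
  · intro g h
    change (ψ (π (g * h))).snd = _
    rw [map_mul, map_mul, TrivSqZeroExt.snd_mul, op_smul_eq_smul, hfst, hfst]
  · intro g hg
    change (ψ (π g)).snd = 0
    rw [hg, map_zero, TrivSqZeroExt.snd_zero]
  · intro g
    change f (ψ (π g)).snd = δ g
    rw [(hψ (π g)).2, hφ, snd_tszeHom]
    rfl

end Groth.Agent.H63.T1
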