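import Mathlib
import Groth.Agent.H61.PSComplete

/-!
# The Euler derivation of a power series ring (helper63)
-/

set_option autoImplicit false
set_option linter.style.haveILetI false
set_option linter.unusedSectionVars false
universe u v

namespace Groth.Agent.H63.T1
open MvPowerSeries Groth.Agent.H61

section euler
variable {σ : Type*} {R : Type*} [CommRing R]

/-- the Euler operator `∑ xᵢ ∂ᵢ`, coefficientwise -/
noncomputable def eulerFun (g : MvPowerSeries σ R) : MvPowerSeries σ R :=
  fun α => (α.degree : R) * coeff α g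

theorem coeff_eulerFun (g : MvPowerSeries σ R) (α : σ →₀ ℕ) :
    coeff α (eulerFun g) = (α.degree : R) * coeff α g := rfl

theorem eulerFun_mul (g h : MvPowerSeries σ R) :
    eulerFun (g * h) = g * eulerFun h + h * eulerFun g := by
  classical
  ext α
  rw [coeff_eulerFun, map_add, coeff_mul, coeff_mul, coeff_mul, Finset.mul_sum]
  have h2 : ∑ p ∈ Finset.HasAntidiagonal.antidiagonal α, coeff p.1 h * coeff p.2 (eulerFun g) =
      ∑ p ∈ Finset.HasAntidiagonal.antidiagonal α, coeff p.2 h * coeff p.1 (eulerFun g) :=
    Finsupp.sum_antidiagonal_swap α (fun a b => coeff a h * coeff b (eulerFun g))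
  rw [h2, ← Finset.sum_add_distrib]
  refine Finset.sum_congr rfl (fun p hp => ?_)
  rw [Finset.HasAntidiagonal.mem_antidiagonal] at hp
  rw [coeff_eulerFun, coeff_eulerFun, ← hp, map_add, Nat.cast_add]
  ring

/-- the Euler derivation -/
noncomputable def euler : Derivation R (MvPowerSeries σ R) (MvPowerSeries σ R) :=
  Derivation.mk'
    { toFun := eulerFun
      map_add' := fun g h => by
        ext α
        rw [coeff_eulerFun, map_add, map_add, coeff_eulerFun, coeff_eulerFun, mul_add]
      map_smul' := fun c g => by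
        ext α
        rw [coeff_eulerFun, RingHom.id_apply, MvPowerSeries.coeff_smul, MvPowerSeries.coeff_smul,
          coeff_eulerFun]
        ring }
    (fun g h => by
      change eulerFun (g * h) = g • eulerFun h + h • eulerFun g
      rw [eulerFun_mul, smul_eq_mul, smul_eq_mul])

theorem coeff_euler (g : MvPowerSeries σ R) (α : σ →₀ ℕ) :
    coeff α (euler g) = (α.degree : R) * coeff α g := rfl

end euler

section field
variable {k : Type u} [Field k] (r : ℕ)

theorem mem_maximalIdeal_pow_iff (n : ℕ) (f : MvPowerSeries (Fin r) k) :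
    f ∈ IsLocalRing.maximalIdeal (MvPowerSeries (Fin r) k) ^ n ↔
      ∀ α : Fin r →₀ ℕ, α.degree < n → coeff α f = 0 := by
  rw [maximalIdeal_pow_eq_coeffIdeal, mem_coeffIdeal, IsLocalRing.maximalIdeal_eq_bot]
  constructor
  · intro h α hα
    have h1 := h α
    have h2 : n - α.degree ≠ 0 := by omega
    rw [Ideal.bot_pow h2, Ideal.mem_bot] at h1
    exact h1
  · intro h α
    by_cases hα : α.degree < n
    · rw [h α hα]; exact Ideal.zero_mem _
    · have h2 : n - α.degree = 0 := by omega
      rw [h2, pow_zero, Ideal.one_eq_top]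
      trivial

theorem euler_mem_pow (n : ℕ) (f : MvPowerSeries (Fin r) k)
    (hf : f ∈ IsLocalRing.maximalIdeal (MvPowerSeries (Fin r) k) ^ n) :
    euler f ∈ IsLocalRing.maximalIdeal (MvPowerSeries (Fin r) k) ^ n := by
  rw [mem_maximalIdeal_pow_iff] at hf ⊢
  intro α hα
  rw [coeff_euler, hf α hα, mul_zero]

theorem euler_sub_smul_mem (n : ℕ) (f : MvPowerSeries (Fin r) k)
    (hf : f ∈ IsLocalRing.maximalIdeal (MvPowerSeries (Fin r) k) ^ n) :
    euler f - (n : k) • f ∈ IsLocalRing.maximalIdeal (MvPowerSeries (Fin r) k) ^ (n + 1) := by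
  rw [mem_maximalIdeal_pow_iff] at hf ⊢
  intro α hα
  have h1 : coeff α (euler f - (n : k) • f) = (α.degree : k) * coeff α f - (n : k) * coeff α f := by
    rw [map_sub, coeff_euler, MvPowerSeries.coeff_smul]
  rw [h1]
  rcases Nat.lt_or_ge α.degree n with h | h
  · rw [hf α h, mul_zero, mul_zero, sub_zero]
  · have : α.degree = n := by omega
    rw [this, sub_self]

theorem euler_mem_maximalIdeal (f : MvPowerSeries (Fin r) k) :
    euler f ∈ IsLocalRing.maximalIdeal (MvPowerSeries (Fin r) k) := by
  have : (euler f : MvPowerSeries (Fin r) k) ∈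
      IsLocalRing.maximalIdeal (MvPowerSeries (Fin r) k) ^ 1 := by
    rw [mem_maximalIdeal_pow_iff r 1 (euler f)]
    intro α hα
    have h0 : α.degree = 0 := by omega
    rw [coeff_euler, h0, Nat.cast_zero, zero_mul]
  rwa [pow_one] at this

end field

end Groth.Agent.H63.T1
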