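import Mathlib
import Groth.Agent.H61.PSPresentCRing
import Groth.Agent.H63.T1Bridge
import Groth.Agent.H63.T1Euler

/-!
# The core step of the T¹-lifting theorem (helper63)
-/

set_option autoImplicit false
set_option linter.style.haveILetI false
set_option linter.unusedSectionVars false
universe u v w

namespace Groth.Agent.H63.T1
open ArtFun MvPowerSeries Groth.Agent.H61

section defs
variable (k : Type u) [Field k] (n e : ℕ)

/-- the truncated power series ring `P/m^(e+1)` as an Artinian object -/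
noncomputable def truncA : Art k k := (psCRing k n).trunc e

/-- the module `m/m^(e+2)` over `P/m^(e+1)` -/
def Mq : Type u :=
  ↥(IsLocalRing.maximalIdeal (MvPowerSeries (Fin n) k)) ⧸
    ((IsLocalRing.maximalIdeal (MvPowerSeries (Fin n) k) ^ (e + 1)) •
      (⊤ : Submodule (MvPowerSeries (Fin n) k) ↥(IsLocalRing.maximalIdeal (MvPowerSeries (Fin n) k))))

noncomputable instance : AddCommGroup (Mq k n e) :=
  inferInstanceAs (AddCommGroup (↥(IsLocalRing.maximalIdeal (MvPowerSeries (Fin n) k)) ⧸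
    ((IsLocalRing.maximalIdeal (MvPowerSeries (Fin n) k) ^ (e + 1)) •
      (⊤ : Submodule (MvPowerSeries (Fin n) k)
        ↥(IsLocalRing.maximalIdeal (MvPowerSeries (Fin n) k))))))

noncomputable instance : Module (truncA k n e) (Mq k n e) :=
  inferInstanceAs (Module (MvPowerSeries (Fin n) k ⧸
      (IsLocalRing.maximalIdeal (MvPowerSeries (Fin n) k) ^ (e + 1)))
    (↥(IsLocalRing.maximalIdeal (MvPowerSeries (Fin n) k)) ⧸
    ((IsLocalRing.maximalIdeal (MvPowerSeries (Fin n) k) ^ (e + 1)) •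
      (⊤ : Submodule (MvPowerSeries (Fin n) k)
        ↥(IsLocalRing.maximalIdeal (MvPowerSeries (Fin n) k))))))

/-- the class map `m → m/m^(e+2)` -/
noncomputable def mkM (x : ↥(IsLocalRing.maximalIdeal (MvPowerSeries (Fin n) k))) : Mq k n e :=
  Submodule.Quotient.mk x

/-- the quotient map `P → P/m^(e+1)` -/
noncomputable def qA : MvPowerSeries (Fin n) k →ₐ[k] truncA k n e :=
  Ideal.Quotient.mkₐ k (IsLocalRing.maximalIdeal (MvPowerSeries (Fin n) k) ^ (e + 1))

variable {k n e}

theorem qA_smul_mkM (g : MvPowerSeries (Fin n) k)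
    (x : ↥(IsLocalRing.maximalIdeal (MvPowerSeries (Fin n) k))) :
    qA k n e g • mkM k n e x = mkM k n e (g • x) := rfl

theorem mkM_add (x y : ↥(IsLocalRing.maximalIdeal (MvPowerSeries (Fin n) k))) :
    mkM k n e (x + y) = mkM k n e x + mkM k n e y := rfl

theorem mkM_surjective : Function.Surjective (mkM k n e) :=
  Submodule.Quotient.mk_surjective _

theorem qA_surjective : Function.Surjective (qA k n e) :=
  Ideal.Quotient.mk_surjective

theorem mkM_eq_zero_iff (x : ↥(IsLocalRing.maximalIdeal (MvPowerSeries (Fin n) k))) :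
    mkM k n e x = 0 ↔
      (x : MvPowerSeries (Fin n) k) ∈
        IsLocalRing.maximalIdeal (MvPowerSeries (Fin n) k) ^ (e + 2) := by
  change (Submodule.Quotient.mk x : ↥(IsLocalRing.maximalIdeal (MvPowerSeries (Fin n) k)) ⧸
    ((IsLocalRing.maximalIdeal (MvPowerSeries (Fin n) k) ^ (e + 1)) •
      (⊤ : Submodule (MvPowerSeries (Fin n) k)
        ↥(IsLocalRing.maximalIdeal (MvPowerSeries (Fin n) k))))) = 0 ↔ _
  rw [Submodule.Quotient.mk_eq_zero, Submodule.mem_smul_top_iff, smul_eq_mul, ← pow_succ]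

theorem qA_eq_zero_iff (g : MvPowerSeries (Fin n) k) :
    qA k n e g = 0 ↔ g ∈ IsLocalRing.maximalIdeal (MvPowerSeries (Fin n) k) ^ (e + 1) :=
  Ideal.Quotient.eq_zero_iff_mem

theorem algebraMap_truncA (c : k) :
    algebraMap k (truncA k n e) c = qA k n e (algebraMap k (MvPowerSeries (Fin n) k) c) := rfl

end defs

section core
variable {k : Type u} [Field k] (n e : ℕ)

/-- the class of the Euler derivative -/
noncomputable def eulerM : MvPowerSeries (Fin n) k →+ Mq k n e where
  toFun g := mkM k n e ⟨euler g, euler_mem_maximalIdeal n g⟩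
  map_zero' := by
    rw [mkM_eq_zero_iff]
    change (euler (0 : MvPowerSeries (Fin n) k) : MvPowerSeries (Fin n) k) ∈ _
    rw [map_zero]
    exact Ideal.zero_mem _
  map_add' g h := by
    rw [← mkM_add]
    congr 1
    apply Subtype.ext
    change euler (g + h) = euler g + euler h
    rw [map_add]

variable {n e}

theorem eulerM_apply (g : MvPowerSeries (Fin n) k) :
    eulerM n e g = mkM k n e ⟨euler g, euler_mem_maximalIdeal n g⟩ := rfl

theorem eulerM_mul (g h : MvPowerSeries (Fin n) k) :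
    eulerM n e (g * h) = qA k n e g • eulerM n e h + qA k n e h • eulerM n e g := by
  rw [eulerM_apply, eulerM_apply, eulerM_apply, qA_smul_mkM, qA_smul_mkM, ← mkM_add]
  congr 1
  apply Subtype.ext
  change euler (g * h) = g • euler h + h • euler g
  rw [Derivation.leibniz]

theorem eulerM_smul (c : k) (g : MvPowerSeries (Fin n) k) :
    eulerM n e (c • g) = algebraMap k (truncA k n e) c • eulerM n e g := by
  rw [algebraMap_truncA, eulerM_apply, eulerM_apply, qA_smul_mkM]
  congr 1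
  apply Subtype.ext
  change euler (c • g) = algebraMap k (MvPowerSeries (Fin n) k) c • euler g
  rw [Derivation.map_smul, algebraMap_smul]

theorem eulerM_eq_of_mem (g : MvPowerSeries (Fin n) k)
    (hg : g ∈ IsLocalRing.maximalIdeal (MvPowerSeries (Fin n) k) ^ (e + 1))
    (hg' : ((e + 1 : ℕ) : k) • g ∈ IsLocalRing.maximalIdeal (MvPowerSeries (Fin n) k)) :
    eulerM n e g = mkM k n e ⟨((e + 1 : ℕ) : k) • g, hg'⟩ := by
  rw [eulerM_apply, ← sub_eq_zero]
  have h1 := euler_sub_smul_mem n (e + 1) g hg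
  have h2 := (mkM_eq_zero_iff (k := k) (n := n) (e := e)
    (⟨euler g, euler_mem_maximalIdeal n g⟩ - ⟨((e + 1 : ℕ) : k) • g, hg'⟩)).2 h1
  exact h2

/-- the submodule of classes of elements of an ideal -/
noncomputable def Nsub (I : Ideal (MvPowerSeries (Fin n) k)) :
    Submodule (truncA k n e) (Mq k n e) :=
  Submodule.span _ {y | ∃ x : ↥(IsLocalRing.maximalIdeal (MvPowerSeries (Fin n) k)),
    (x : MvPowerSeries (Fin n) k) ∈ I ∧ y = mkM k n e x}

theorem Nsub_killed (I : Ideal (MvPowerSeries (Fin n) k))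
    (hI : I ≤ IsLocalRing.maximalIdeal (MvPowerSeries (Fin n) k) ^ (e + 1))
    (y : Mq k n e) (hy : y ∈ Nsub (e := e) I) (g : MvPowerSeries (Fin n) k)
    (hg : g ∈ IsLocalRing.maximalIdeal (MvPowerSeries (Fin n) k)) :
    qA k n e g • y = 0 := by
  unfold Nsub at hy
  induction hy using Submodule.span_induction with
  | mem y hy =>
    obtain ⟨x, hx, rfl⟩ := hy
    rw [qA_smul_mkM, mkM_eq_zero_iff]
    change g * (x : MvPowerSeries (Fin n) k) ∈ _
    rw [pow_succ' _ (e + 1)]
    exact Ideal.mul_mem_mul hg (hI hx)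
  | zero => rw [smul_zero]
  | add x y _ _ hx hy => rw [smul_add, hx, hy, add_zero]
  | smul a x _ hx => rw [smul_comm, hx, smul_zero]

end core

section step
variable {k : Type u} [Field k] [CharZero k] {R : Type u} [CommRing R] [Algebra k R]

theorem core_step (h : T1Lifting k R) (n : ℕ) (π : MvPowerSeries (Fin n) k →ₐ[k] R)
    (hπ : Function.Surjective π) (e : ℕ) (he : 1 ≤ e)
    (hI : RingHom.ker π ≤ IsLocalRing.maximalIdeal (MvPowerSeries (Fin n) k) ^ (e + 1)) :
    RingHom.ker π ≤ IsLocalRing.maximalIdeal (MvPowerSeries (Fin n) k) ^ (e + 2) := by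
  classical
  have hIm : RingHom.ker π ≤ IsLocalRing.maximalIdeal (MvPowerSeries (Fin n) k) :=
    hI.trans (Ideal.pow_le_self (Nat.succ_ne_zero e))
  let N : Submodule (truncA k n e) (Mq k n e) := Nsub (e := e) (RingHom.ker π)
  let f : Mq k n e →ₗ[truncA k n e] (Mq k n e ⧸ N) := N.mkQ
  have hf : Function.Surjective f := Submodule.mkQ_surjective N
  let δ₁ : MvPowerSeries (Fin n) k →+ (Mq k n e ⧸ N) := f.toAddMonoidHom.comp (eulerM n e)
  have hδ₁ : ∀ g, δ₁ g = f (eulerM n e g) := fun g => rfl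
  have hδ : ∀ g h, δ₁ (g * h) = qA k n e g • δ₁ h + qA k n e h • δ₁ g := by
    intro g h
    rw [hδ₁, hδ₁, hδ₁, eulerM_mul, map_add, map_smul, map_smul]
  have hδk : ∀ (c : k) g, δ₁ (c • g) = algebraMap k (truncA k n e) c • δ₁ g := by
    intro c g
    rw [hδ₁, hδ₁, eulerM_smul, map_smul]
  have hq : ∀ g, π g = 0 → qA k n e g = 0 := by
    intro g hg
    rw [qA_eq_zero_iff]
    exact hI hg
  have hδ0 : ∀ g, π g = 0 → δ₁ g = 0 := by
    intro g hg
    have hgI : g ∈ RingHom.ker π := hg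
    have hg' : ((e + 1 : ℕ) : k) • g ∈ RingHom.ker π := by
      rw [RingHom.mem_ker, map_smul, hg, smul_zero]
    rw [hδ₁, eulerM_eq_of_mem g (hI hgI) (hIm hg')]
    change N.mkQ _ = 0
    rw [Submodule.mkQ_apply, Submodule.Quotient.mk_eq_zero]
    exact Submodule.subset_span ⟨⟨_, hIm hg'⟩, hg', rfl⟩
  obtain ⟨δ', hadd, hmul, hkill, hfδ⟩ :=
    h.exists_der π hπ (truncA k n e) (Mq k n e ⧸ N) (Mq k n e) f hf (qA k n e) δ₁ hδ hδk hq hδ0
  -- the difference
  have hΔN : ∀ g, eulerM n e g - δ' g ∈ N := by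
    intro g
    have : f (eulerM n e g - δ' g) = 0 := by
      rw [map_sub, hfδ, hδ₁, sub_self]
    change N.mkQ _ = 0 at this
    rwa [Submodule.mkQ_apply, Submodule.Quotient.mk_eq_zero] at this
  have hΔmul : ∀ g ∈ IsLocalRing.maximalIdeal (MvPowerSeries (Fin n) k),
      ∀ h ∈ IsLocalRing.maximalIdeal (MvPowerSeries (Fin n) k),
        eulerM n e (g * h) - δ' (g * h) = 0 := by
    intro g hg h hh
    have e1 : eulerM n e (g * h) - δ' (g * h) =
        qA k n e g • (eulerM n e h - δ' h) + qA k n e h • (eulerM n e g - δ' g) := by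
      rw [eulerM_mul, hmul, smul_sub, smul_sub]
      abel
    rw [e1, Nsub_killed _ hI _ (hΔN h) g hg, Nsub_killed _ hI _ (hΔN g) h hh, add_zero]
  have hΔ2 : ∀ g ∈ IsLocalRing.maximalIdeal (MvPowerSeries (Fin n) k) ^ 2,
      eulerM n e g - δ' g = 0 := by
    intro g hg
    rw [pow_two] at hg
    refine Submodule.mul_induction_on hg (fun a ha b hb => hΔmul a ha b hb) ?_
    intro x y hx hy
    rw [map_add, hadd, add_sub_add_comm, hx, hy, add_zero]
  intro f₀ hf₀
  have h2 : f₀ ∈ IsLocalRing.maximalIdeal (MvPowerSeries (Fin n) k) ^ 2 :=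
    Ideal.pow_le_pow_right (by omega) (hI hf₀)
  have h3 := hΔ2 f₀ h2
  rw [hkill f₀ hf₀, sub_zero, eulerM_apply, mkM_eq_zero_iff] at h3
  change euler f₀ ∈ _ at h3
  have h4 := euler_sub_smul_mem n (e + 1) f₀ (hI hf₀)
  have h5 : ((e + 1 : ℕ) : k) • f₀ ∈
      IsLocalRing.maximalIdeal (MvPowerSeries (Fin n) k) ^ (e + 2) := by
    have := Ideal.sub_mem _ h3 h4
    rwa [sub_sub_cancel] at this
  have hne : ((e + 1 : ℕ) : k) ≠ 0 := Nat.cast_ne_zero.2 (Nat.succ_ne_zero e)
  have h6 : f₀ = (((e + 1 : ℕ) : k))⁻¹ • (((e + 1 : ℕ) : k) • f₀) := by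
    rw [smul_smul, inv_mul_cancel₀ hne, one_smul]
  rw [h6, Algebra.smul_def]
  exact Ideal.mul_mem_left _ _ h5

end step

end Groth.Agent.H63.T1
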