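import Groth.Agent.H61.PSEval

/-!
# Evaluation of power series at elements of a nilpotent ideal (helper63)
-/

set_option autoImplicit false
set_option linter.style.haveILetI false
set_option linter.unusedSectionVars false
universe u v

namespace Groth.Agent.H63.T1
open MvPowerSeries Groth.Agent.H61

variable {Λ : Type u} [CommRing Λ] {B : Type v} [CommRing B] [Algebra Λ B]

/-- evaluation of power series at elements of a nilpotent ideal -/
theorem exists_evalHom_nilp (r : ℕ) (𝔫 : Ideal B) (N : ℕ) (h𝔫 : 𝔫 ^ N = ⊥) (a : Fin r → B)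
    (ha : ∀ i, a i ∈ 𝔫) :
    ∃ φ : MvPowerSeries (Fin r) Λ →ₐ[Λ] B, ∀ i, φ (X i) = a i := by
  classical
  let ψ₀ : MvPolynomial (Fin r) Λ →ₐ[Λ] B := MvPolynomial.aeval a
  have h₀ : ∀ q ∈ (MvPolynomial.idealOfVars (Fin r) Λ) ^ N, ψ₀ q = 0 := by
    intro q hq
    have h1 : Ideal.map ψ₀ (MvPolynomial.idealOfVars (Fin r) Λ) ≤ 𝔫 := by
      rw [Ideal.map_span, Ideal.span_le]
      rintro _ ⟨_, ⟨i, rfl⟩, rfl⟩
      change ψ₀ (MvPolynomial.X i) ∈ _
      rw [MvPolynomial.aeval_X]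
      exact ha i
    have h2 : ψ₀ q ∈ Ideal.map ψ₀ ((MvPolynomial.idealOfVars (Fin r) Λ) ^ N) :=
      Ideal.mem_map_of_mem _ hq
    rw [Ideal.map_pow] at h2
    have h3 := Ideal.pow_right_mono h1 N h2
    rw [h𝔫, Ideal.mem_bot] at h3
    exact h3
  let ψ₁ : (MvPolynomial (Fin r) Λ ⧸ (MvPolynomial.idealOfVars (Fin r) Λ) ^ N) →ₐ[Λ] B :=
    Ideal.Quotient.liftₐ _ ψ₀ h₀
  let τ : MvPowerSeries (Fin r) Λ →ₐ[Λ]
      (MvPolynomial (Fin r) Λ ⧸ (MvPolynomial.idealOfVars (Fin r) Λ) ^ N) :=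
    (MvPowerSeries.truncTotalAlgHom (Fin r) Λ N).restrictScalars Λ
  have hτ' : ∀ q : MvPolynomial (Fin r) Λ, τ (q : MvPowerSeries (Fin r) Λ) =
      Ideal.Quotient.mk _ q := by
    intro q
    have := (MvPowerSeries.truncTotalAlgHom (Fin r) Λ N).commutes q
    have h5 : algebraMap (MvPolynomial (Fin r) Λ) (MvPowerSeries (Fin r) Λ) q =
        (q : MvPowerSeries (Fin r) Λ) := by
      rw [MvPowerSeries.algebraMap_apply', Algebra.algebraMap_self, MvPowerSeries.map_id]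
      rfl
    rw [h5] at this
    exact this
  refine ⟨ψ₁.comp τ, fun i => ?_⟩
  change ψ₁ (τ (X i)) = a i
  rw [← MvPolynomial.coe_X, hτ']
  change ψ₀ (MvPolynomial.X i) = a i
  rw [MvPolynomial.aeval_X]

/-- maps from the power series ring sending the variables into a nilpotent ideal are determined
by the images of the variables -/
theorem algHom_ext_X_nilp (r : ℕ) (𝔫 : Ideal B) (N : ℕ) (h𝔫 : 𝔫 ^ N = ⊥)
    (φ φ' : MvPowerSeries (Fin r) Λ →ₐ[Λ] B) (hφ : ∀ i, φ (X i) ∈ 𝔫)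
    (h : ∀ i, φ (X i) = φ' (X i)) : φ = φ' := by
  classical
  have hkill : ∀ ψ : MvPowerSeries (Fin r) Λ →ₐ[Λ] B, (∀ i, ψ (X i) ∈ 𝔫) →
      ∀ g ∈ (Ideal.span (Set.range (MvPowerSeries.X : Fin r → MvPowerSeries (Fin r) Λ))) ^ N,
        ψ g = 0 := by
    intro ψ hψ g hg
    have h1 : Ideal.map ψ (Ideal.span (Set.range
        (MvPowerSeries.X : Fin r → MvPowerSeries (Fin r) Λ))) ≤ 𝔫 := by
      rw [Ideal.map_span, Ideal.span_le]
      rintro _ ⟨_, ⟨i, rfl⟩, rfl⟩
      exact hψ i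
    have h2 : ψ g ∈ Ideal.map ψ ((Ideal.span (Set.range
        (MvPowerSeries.X : Fin r → MvPowerSeries (Fin r) Λ))) ^ N) :=
      Ideal.mem_map_of_mem _ hg
    rw [Ideal.map_pow] at h2
    have h3 := Ideal.pow_right_mono h1 N h2
    rw [h𝔫, Ideal.mem_bot] at h3
    exact h3
  have hpoly : (φ.comp (MvPolynomial.coeToMvPowerSeries.algHom Λ)) =
      (φ'.comp (MvPolynomial.coeToMvPowerSeries.algHom Λ)) := by
    apply MvPolynomial.algHom_ext
    intro i
    simp only [AlgHom.comp_apply, MvPolynomial.coeToMvPowerSeries.algHom_apply,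
      Algebra.algebraMap_self, MvPowerSeries.map_id, RingHom.id_apply, MvPolynomial.coe_X]
    exact h i
  apply AlgHom.ext
  intro f
  have hf : f = (f - ((MvPowerSeries.truncTotal N f : MvPolynomial (Fin r) Λ) :
      MvPowerSeries (Fin r) Λ)) +
      ((MvPowerSeries.truncTotal N f : MvPolynomial (Fin r) Λ) : MvPowerSeries (Fin r) Λ) := by
    ring
  rw [hf, map_add, map_add, hkill φ hφ _ (sub_truncTotal_mem r N f),
    hkill φ' (fun i => (h i) ▸ hφ i) _ (sub_truncTotal_mem r N f)]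
  congr 1
  have := congrArg (fun t : MvPolynomial (Fin r) Λ →ₐ[Λ] B =>
    t (MvPowerSeries.truncTotal N f)) hpoly
  simpa only [AlgHom.comp_apply, MvPolynomial.coeToMvPowerSeries.algHom_apply,
    Algebra.algebraMap_self, MvPowerSeries.map_id, RingHom.id_apply] using this

end Groth.Agent.H63.T1
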