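import Mathlib
import Groth.Agent.H61.PSPresentCRing
import Groth.Agent.H61.PSDim
import Groth.Agent.H61.ObsPS
import Groth.Agent.H61.CRingBasic
import Groth.Agent.H63.T1Core
import Groth.Agent.H63.T1Eval

/-!
# The T¹-lifting theorem for complete local algebras (helper63)
-/

set_option autoImplicit false
set_option linter.style.haveILetI false
set_option linter.unusedSectionVars false
universe u v w

namespace Groth.Agent.H63.T1
open ArtFun MvPowerSeries Groth.Agent.H61

section forward
variable {k : Type u} [Field k] {R : Type u} [CommRing R] [Algebra k R]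

/-- power series rings have the lifting property -/
theorem lifting_of_equiv (n : ℕ) (e : R ≃ₐ[k] MvPowerSeries (Fin n) k) : T1Lifting k R := by
  intro A M M' _ _ _ _ _ _ _ _ _ _ _ _ _ _ f hf φ
  classical
  let φ' : MvPowerSeries (Fin n) k →ₐ[k] TrivSqZeroExt A M := φ.comp e.symm.toAlgHom
  obtain ⟨N, hN⟩ := art_maximalIdeal_pow_eq_bot A
  -- the first components lie in the maximal ideal
  have hfst : ∀ i, (φ' (X i)).fst ∈ IsLocalRing.maximalIdeal A := by
    intro i
    rw [Art.mem_maximalIdeal_iff]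
    have h1 : (A.res.comp ((TrivSqZeroExt.fstHom k A M).comp φ')) = psRes k k n :=
      ObsPS.algHom_eq_psRes _
    have h2 := congrArg (fun t : MvPowerSeries (Fin n) k →ₐ[k] k => t (X i)) h1
    change A.res ((φ' (X i)).fst) = psRes k k n (X i) at h2
    rw [h2, psRes_X]
  choose m' hm' using fun i : Fin n => hf (φ' (X i)).snd
  let 𝔫' : Ideal (TrivSqZeroExt A M') :=
    Ideal.comap (TrivSqZeroExt.fstHom k A M') (IsLocalRing.maximalIdeal A)
  have h𝔫' : 𝔫' ^ (N + N) = ⊥ := comap_fst_pow_eq_bot (k := k) _ N hN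
  let 𝔫 : Ideal (TrivSqZeroExt A M) :=
    Ideal.comap (TrivSqZeroExt.fstHom k A M) (IsLocalRing.maximalIdeal A)
  have h𝔫 : 𝔫 ^ (N + N) = ⊥ := comap_fst_pow_eq_bot (k := k) _ N hN
  obtain ⟨Ψ, hΨ⟩ := exists_evalHom_nilp (Λ := k) n 𝔫' (N + N) h𝔫'
    (fun i => TrivSqZeroExt.inl (φ' (X i)).fst + TrivSqZeroExt.inr (m' i)) (by
      intro i
      change TrivSqZeroExt.fst _ ∈ IsLocalRing.maximalIdeal A
      rw [TrivSqZeroExt.fst_add, TrivSqZeroExt.fst_inl, TrivSqZeroExt.fst_inr, add_zero]
      exact hfst i)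
  have hcomp : (tszeMap (k := k) f).comp Ψ = φ' := by
    apply algHom_ext_X_nilp n 𝔫 (N + N) h𝔫
    · intro i
      change TrivSqZeroExt.fst _ ∈ IsLocalRing.maximalIdeal A
      rw [AlgHom.comp_apply, fst_tszeMap, hΨ, TrivSqZeroExt.fst_add, TrivSqZeroExt.fst_inl,
        TrivSqZeroExt.fst_inr, add_zero]
      exact hfst i
    · intro i
      rw [AlgHom.comp_apply, hΨ]
      ext
      · rw [fst_tszeMap, TrivSqZeroExt.fst_add, TrivSqZeroExt.fst_inl,
          TrivSqZeroExt.fst_inr, add_zero]
      · rw [snd_tszeMap, TrivSqZeroExt.snd_add, TrivSqZeroExt.snd_inl,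
          TrivSqZeroExt.snd_inr, zero_add, hm']
  refine ⟨Ψ.comp e.toAlgHom, fun r => ?_⟩
  have h1 := congrArg (fun t : MvPowerSeries (Fin n) k →ₐ[k] TrivSqZeroExt A M => t (e r)) hcomp
  change tszeMap (k := k) f (Ψ (e r)) = φ (e.symm (e r)) at h1
  rw [e.symm_apply_apply] at h1
  constructor
  · change (Ψ (e r)).fst = _
    rw [← h1, fst_tszeMap]
  · change f (Ψ (e r)).snd = _
    rw [← h1, snd_tszeMap]

end forward

section backward
variable {k : Type u} [Field k] [CharZero k]

/-- the dimension of a power series ring, read off from an isomorphism -/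
theorem finrank_cotangent_of_equiv (R : CRing k k) (n : ℕ)
    (e : R.carrier ≃ₐ[k] MvPowerSeries (Fin n) k) :
    Module.finrank (IsLocalRing.ResidueField R.carrier) (IsLocalRing.CotangentSpace R.carrier) =
      n := by
  rw [← IsLocalRing.spanFinrank_maximalIdeal_eq_finrank_cotangentSpace,
    ← Ideal.spanFinrank_map_eq_of_ringEquiv e.toRingEquiv,
    IsLocalRing.map_ringEquiv_maximalIdeal e.toRingEquiv, spanFinrank_maximalIdeal_ps]

/-- the `T¹`-lifting theorem: a complete local algebra with the lifting property is a power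
series ring -/
theorem exists_equiv_of_lifting (R : CRing k k) (h : T1Lifting k R.carrier) :
    ∃ (n : ℕ), Nonempty (R.carrier ≃ₐ[k] MvPowerSeries (Fin n) k) := by
  obtain ⟨n, π, hres, hπs, hker⟩ := exists_ps_presentation R
  have hall : ∀ e : ℕ, RingHom.ker π ≤
      IsLocalRing.maximalIdeal (MvPowerSeries (Fin n) k) ^ (e + 2) := by
    intro e
    induction e with
    | zero => exact hker
    | succ e ih => exact core_step h n π hπs (e + 1) (by omega) ih
  have hbot : RingHom.ker π = ⊥ := by
    rw [eq_bot_iff]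
    have hK : ⨅ i : ℕ, IsLocalRing.maximalIdeal (MvPowerSeries (Fin n) k) ^ i = ⊥ :=
      Ideal.iInf_pow_eq_bot_of_isLocalRing _ Ideal.IsPrime.ne_top'
    rw [← hK]
    apply le_iInf
    intro i
    refine (hall i).trans ?_
    exact Ideal.pow_le_pow_right (by omega)
  have hinj : Function.Injective π := (RingHom.injective_iff_ker_eq_bot _).2 hbot
  exact ⟨n, ⟨(AlgEquiv.ofBijective π ⟨hinj, hπs⟩).symm⟩⟩

theorem main (R : CRing k k) :
    Nonempty (R.carrier ≃ₐ[k] MvPowerSeries
        (Fin (Module.finrank (IsLocalRing.ResidueField R.carrier)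
          (IsLocalRing.CotangentSpace R.carrier))) k) ↔ T1Lifting k R.carrier := by
  constructor
  · rintro ⟨e⟩
    exact lifting_of_equiv _ e
  · intro h
    obtain ⟨n, ⟨e⟩⟩ := exists_equiv_of_lifting R h
    rw [finrank_cotangent_of_equiv R n e]
    exact ⟨e⟩

end backward

end Groth.Agent.H63.T1
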