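import Mathlib
import Groth.Agent.H63.T1Main

/-!
# The T¹-lifting theorem, with finite modules only (helper63)
-/

set_option autoImplicit false
set_option linter.style.haveILetI false
set_option linter.unusedSectionVars false
universe u v w

namespace Groth.Agent.H63.T1
open ArtFun MvPowerSeries Groth.Agent.H61

/-- the lifting property of the `T¹`-lifting criterion, for finite modules -/
def T1LiftingFin (k : Type u) [Field k] (R : Type u) [CommRing R] [Algebra k R] : Prop :=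
  ∀ (A : ArtFun.Art k k) (M M' : Type u) [AddCommGroup M] [Module (↥A) M] [Module (↥A)ᵐᵒᵖ M]
    [IsCentralScalar (↥A) M] [Module k M] [IsScalarTower k (↥A) M] [IsScalarTower k (↥A)ᵐᵒᵖ M]
    [AddCommGroup M'] [Module (↥A) M'] [Module (↥A)ᵐᵒᵖ M'] [IsCentralScalar (↥A) M'] [Module k M']
    [IsScalarTower k (↥A) M'] [IsScalarTower k (↥A)ᵐᵒᵖ M'] [Module.Finite (↥A) M]
    [Module.Finite (↥A) M'] (f : M' →ₗ[↥A] M),
    Function.Surjective f →
      ∀ φ : R →ₐ[k] TrivSqZeroExt (↥A) M,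
        ∃ ψ : R →ₐ[k] TrivSqZeroExt (↥A) M',
          ∀ r : R, (ψ r).fst = (φ r).fst ∧ f (ψ r).snd = (φ r).snd

section bridge
variable {k : Type u} [Field k] {R : Type u} [CommRing R] [Algebra k R]

/-- the lifting property, for derivations on a presentation -/
theorem T1LiftingFin.exists_der (h : T1LiftingFin k R) {P : Type u} [CommRing P] [Algebra k P]
    (π : P →ₐ[k] R) (hπ : Function.Surjective π)
    (A : Art k k) (M M' : Type u) [AddCommGroup M] [Module A M] [AddCommGroup M'] [Module A M']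
    [Module.Finite A M] [Module.Finite A M']
    (f : M' →ₗ[A] M) (hf : Function.Surjective f)
    (q : P →ₐ[k] A) (δ : P →+ M) (hδ : ∀ g h, δ (g * h) = q g • δ h + q h • δ g)
    (hδk : ∀ (c : k) g, δ (c • g) = algebraMap k A c • δ g)
    (hq : ∀ g, π g = 0 → q g = 0) (hδ0 : ∀ g, π g = 0 → δ g = 0) :
    ∃ δ' : P → M', (∀ g h, δ' (g + h) = δ' g + δ' h) ∧
      (∀ g h, δ' (g * h) = q g • δ' h + q h • δ' g) ∧ (∀ g, π g = 0 → δ' g = 0) ∧
      ∀ g, f (δ' g) = δ g := by
  letI opM : Module (↥A)ᵐᵒᵖ M := Module.compHom M ((RingEquiv.toOpposite A).symm : (↥A)ᵐᵒᵖ →+* A)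
  haveI : IsCentralScalar A M := ⟨fun a m => rfl⟩
  letI kM : Module k M := Module.compHom M (algebraMap k A)
  haveI : IsScalarTower k A M := ⟨fun c a m => by
    change (c • a) • m = algebraMap k A c • (a • m)
    rw [Algebra.smul_def, mul_smul]⟩
  haveI : IsScalarTower k (↥A)ᵐᵒᵖ M := ⟨fun c a m => by
    change (c • a.unop) • m = algebraMap k A c • (a.unop • m)
    rw [Algebra.smul_def, mul_smul]⟩
  letI opM' : Module (↥A)ᵐᵒᵖ M' :=
    Module.compHom M' ((RingEquiv.toOpposite A).symm : (↥A)ᵐᵒᵖ →+* A)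
  haveI : IsCentralScalar A M' := ⟨fun a m => rfl⟩
  letI kM' : Module k M' := Module.compHom M' (algebraMap k A)
  haveI : IsScalarTower k A M' := ⟨fun c a m => by
    change (c • a) • m = algebraMap k A c • (a • m)
    rw [Algebra.smul_def, mul_smul]⟩
  haveI : IsScalarTower k (↥A)ᵐᵒᵖ M' := ⟨fun c a m => by
    change (c • a.unop) • m = algebraMap k A c • (a.unop • m)
    rw [Algebra.smul_def, mul_smul]⟩
  let δL : P →ₗ[k] M :=
    { toFun := δ
      map_add' := δ.map_add
      map_smul' := fun c g => hδk c g }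
  have hδL : ∀ g h, δL (g * h) = q g • δL h + q h • δL g := hδ
  let Φ : P →ₐ[k] TrivSqZeroExt A M := tszeHom q δL hδL
  have hΦ : RingHom.ker π.toRingHom ≤ RingHom.ker Φ.toRingHom := by
    intro g hg
    have hg' : π g = 0 := hg
    change Φ g = 0
    ext
    · rw [fst_tszeHom, TrivSqZeroExt.fst_zero]
      exact hq g hg'
    · rw [snd_tszeHom, TrivSqZeroExt.snd_zero]
      exact hδ0 g hg'
  let φ : R →ₐ[k] TrivSqZeroExt A M := AlgHom.liftOfSurjective π hπ Φ hΦ
  have hφ : ∀ g, φ (π g) = Φ g := fun g => AlgHom.liftOfSurjective_apply π hπ Φ hΦ g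
  obtain ⟨ψ, hψ⟩ := h A M M' f hf φ
  have hfst : ∀ g, (ψ (π g)).fst = q g := by
    intro g
    rw [(hψ (π g)).1, hφ, fst_tszeHom]
  refine ⟨fun g => (ψ (π g)).snd, ?_, ?_, ?_, ?_⟩
  · intro g h
    change (ψ (π (g + h))).snd = _
    rw [map_add, map_add, TrivSqZeroExt.snd_add]
  · intro g h
    change (ψ (π (g * h))).snd = _
    rw [map_mul, map_mul, TrivSqZeroExt.snd_mul, op_smul_eq_smul, hfst, hfst]
  · intro g hg
    change (ψ (π g)).snd = 0
    rw [hg, map_zero, TrivSqZeroExt.snd_zero]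
  · intro g
    change f (ψ (π g)).snd = δ g
    rw [(hψ (π g)).2, hφ, snd_tszeHom]
    rfl

end bridge

section fin
variable (k : Type u) [Field k] (n e : ℕ)

noncomputable instance : Module.Finite (truncA k n e) (Mq k n e) :=
  inferInstanceAs (Module.Finite (MvPowerSeries (Fin n) k ⧸
      (IsLocalRing.maximalIdeal (MvPowerSeries (Fin n) k) ^ (e + 1)))
    (↥(IsLocalRing.maximalIdeal (MvPowerSeries (Fin n) k)) ⧸
    ((IsLocalRing.maximalIdeal (MvPowerSeries (Fin n) k) ^ (e + 1)) •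
      (⊤ : Submodule (MvPowerSeries (Fin n) k)
        ↥(IsLocalRing.maximalIdeal (MvPowerSeries (Fin n) k))))))

end fin

section step
variable {k : Type u} [Field k] [CharZero k] {R : Type u} [CommRing R] [Algebra k R]

theorem core_step_fin (h : T1LiftingFin k R) (n : ℕ) (π : MvPowerSeries (Fin n) k →ₐ[k] R)
    (hπ : Function.Surjective π) (e : ℕ) (he : 1 ≤ e)
    (hI : RingHom.ker π ≤ IsLocalRing.maximalIdeal (MvPowerSeries (Fin n) k) ^ (e + 1)) :
    RingHom.ker π ≤ IsLocalRing.maximalIdeal (MvPowerSeries (Fin n) k) ^ (e + 2) := by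
  classical
  have hIm : RingHom.ker π ≤ IsLocalRing.maximalIdeal (MvPowerSeries (Fin n) k) :=
    hI.trans (Ideal.pow_le_self (Nat.succ_ne_zero e))
  let N : Submodule (truncA k n e) (Mq k n e) := Nsub (e := e) (RingHom.ker π)
  let f : Mq k n e →ₗ[truncA k n e] (Mq k n e ⧸ N) := N.mkQ
  have hf : Function.Surjective f := Submodule.mkQ_surjective N
  let δ₁ : MvPowerSeries (Fin n) k →+ (Mq k n e ⧸ N) := f.toAddMonoidHom.comp (eulerM n e)
  have hδ₁ : ∀ g, δ₁ g = f (eulerM n e g) := fun g => rfl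
  have hδ : ∀ g h, δ₁ (g * h) = qA k n e g • δ₁ h + qA k n e h • δ₁ g := by
    intro g h
    rw [hδ₁, hδ₁, hδ₁, eulerM_mul, map_add, map_smul, map_smul]
  have hδk : ∀ (c : k) g, δ₁ (c • g) = algebraMap k (truncA k n e) c • δ₁ g := by
    intro c g
    rw [hδ₁, hδ₁, eulerM_smul, map_smul]
  have hq : ∀ g, π g = 0 → qA k n e g = 0 := by
    intro g hg
    rw [qA_eq_zero_iff]
    exact hI hg
  have hδ0 : ∀ g, π g = 0 → δ₁ g = 0 := by
    intro g hg
    have hgI : g ∈ RingHom.ker π := hg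
    have hg' : ((e + 1 : ℕ) : k) • g ∈ RingHom.ker π := by
      rw [RingHom.mem_ker, map_smul, hg, smul_zero]
    rw [hδ₁, eulerM_eq_of_mem g (hI hgI) (hIm hg')]
    change N.mkQ _ = 0
    rw [Submodule.mkQ_apply, Submodule.Quotient.mk_eq_zero]
    exact Submodule.subset_span ⟨⟨_, hIm hg'⟩, hg', rfl⟩
  obtain ⟨δ', hadd, hmul, hkill, hfδ⟩ :=
    h.exists_der π hπ (truncA k n e) (Mq k n e ⧸ N) (Mq k n e) f hf (qA k n e) δ₁ hδ hδk hq hδ0
  -- the difference
  have hΔN : ∀ g, eulerM n e g - δ' g ∈ N := by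
    intro g
    have : f (eulerM n e g - δ' g) = 0 := by
      rw [map_sub, hfδ, hδ₁, sub_self]
    change N.mkQ _ = 0 at this
    rwa [Submodule.mkQ_apply, Submodule.Quotient.mk_eq_zero] at this
  have hΔmul : ∀ g ∈ IsLocalRing.maximalIdeal (MvPowerSeries (Fin n) k),
      ∀ h ∈ IsLocalRing.maximalIdeal (MvPowerSeries (Fin n) k),
        eulerM n e (g * h) - δ' (g * h) = 0 := by
    intro g hg h hh
    have e1 : eulerM n e (g * h) - δ' (g * h) =
        qA k n e g • (eulerM n e h - δ' h) + qA k n e h • (eulerM n e g - δ' g) := by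
      rw [eulerM_mul, hmul, smul_sub, smul_sub]
      abel
    rw [e1, Nsub_killed _ hI _ (hΔN h) g hg, Nsub_killed _ hI _ (hΔN g) h hh, add_zero]
  have hΔ2 : ∀ g ∈ IsLocalRing.maximalIdeal (MvPowerSeries (Fin n) k) ^ 2,
      eulerM n e g - δ' g = 0 := by
    intro g hg
    rw [pow_two] at hg
    refine Submodule.mul_induction_on hg (fun a ha b hb => hΔmul a ha b hb) ?_
    intro x y hx hy
    rw [map_add, hadd, add_sub_add_comm, hx, hy, add_zero]
  intro f₀ hf₀
  have h2 : f₀ ∈ IsLocalRing.maximalIdeal (MvPowerSeries (Fin n) k) ^ 2 :=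
    Ideal.pow_le_pow_right (by omega) (hI hf₀)
  have h3 := hΔ2 f₀ h2
  rw [hkill f₀ hf₀, sub_zero, eulerM_apply, mkM_eq_zero_iff] at h3
  change euler f₀ ∈ _ at h3
  have h4 := euler_sub_smul_mem n (e + 1) f₀ (hI hf₀)
  have h5 : ((e + 1 : ℕ) : k) • f₀ ∈
      IsLocalRing.maximalIdeal (MvPowerSeries (Fin n) k) ^ (e + 2) := by
    have := Ideal.sub_mem _ h3 h4
    rwa [sub_sub_cancel] at this
  have hne : ((e + 1 : ℕ) : k) ≠ 0 := Nat.cast_ne_zero.2 (Nat.succ_ne_zero e)
  have h6 : f₀ = (((e + 1 : ℕ) : k))⁻¹ • (((e + 1 : ℕ) : k) • f₀) := by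
    rw [smul_smul, inv_mul_cancel₀ hne, one_smul]
  rw [h6, Algebra.smul_def]
  exact Ideal.mul_mem_left _ _ h5

/-- the `T¹`-lifting theorem: a complete local algebra with the lifting property for finite
modules is a power series ring -/
theorem exists_equiv_of_lifting_fin (R : CRing k k) (h : T1LiftingFin k R.carrier) :
    ∃ (n : ℕ), Nonempty (R.carrier ≃ₐ[k] MvPowerSeries (Fin n) k) := by
  obtain ⟨n, π, hres, hπs, hker⟩ := exists_ps_presentation R
  have hall : ∀ e : ℕ, RingHom.ker π ≤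
      IsLocalRing.maximalIdeal (MvPowerSeries (Fin n) k) ^ (e + 2) := by
    intro e
    induction e with
    | zero => exact hker
    | succ e ih => exact core_step_fin h n π hπs (e + 1) (by omega) ih
  have hbot : RingHom.ker π = ⊥ := by
    rw [eq_bot_iff]
    have hK : ⨅ i : ℕ, IsLocalRing.maximalIdeal (MvPowerSeries (Fin n) k) ^ i = ⊥ :=
      Ideal.iInf_pow_eq_bot_of_isLocalRing _ Ideal.IsPrime.ne_top'
    rw [← hK]
    apply le_iInf
    intro i
    refine (hall i).trans ?_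
    exact Ideal.pow_le_pow_right (by omega)
  have hinj : Function.Injective π := (RingHom.injective_iff_ker_eq_bot _).2 hbot
  exact ⟨n, ⟨(AlgEquiv.ofBijective π ⟨hinj, hπs⟩).symm⟩⟩

end step

end Groth.Agent.H63.T1
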