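import Mathlib
import Groth.Agent.H63.T1Fin
import Groth.Agent.H63.PSSmooth
import Groth.Agent.S12734

/-!
# The T¹-lifting theorem for deformation functors (helper63)
-/

set_option autoImplicit false
set_option linter.style.haveILetI false
set_option linter.unusedSectionVars false
universe u v w

namespace Groth.Agent.H63.T1
open ArtFun MvPowerSeries Groth.Agent.H61 CategoryTheory

section tszeArt
variable {k : Type u} [Field k] (A : Art k k)
  (M : Type u) [AddCommGroup M] [Module A M] [Module (↥A)ᵐᵒᵖ M] [IsCentralScalar A M] [Module k M]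
  [IsScalarTower k A M] [IsScalarTower k (↥A)ᵐᵒᵖ M] [Module.Finite A M]

theorem isLocalRing_tszeA : IsLocalRing (TrivSqZeroExt A M) := by
  haveI : Nontrivial (TrivSqZeroExt A M) :=
    ⟨⟨0, 1, fun h => zero_ne_one (α := A) (congrArg TrivSqZeroExt.fst h)⟩⟩
  refine IsLocalRing.of_isUnit_or_isUnit_one_sub_self fun x => ?_
  rcases IsLocalRing.isUnit_or_isUnit_one_sub_self x.fst with h | h
  · exact Or.inl (TrivSqZeroExt.isUnit_iff_isUnit_fst.2 h)
  · refine Or.inr (TrivSqZeroExt.isUnit_iff_isUnit_fst.2 ?_)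
    rwa [TrivSqZeroExt.fst_sub, TrivSqZeroExt.fst_one]

theorem isArtinianRing_tszeA : IsArtinianRing (TrivSqZeroExt A M) := by
  haveI : Module.Finite A (TrivSqZeroExt A M) := inferInstanceAs (Module.Finite A (A × M))
  exact IsArtinianRing.of_finite A _

/-- the trivial square-zero extension of an Artinian object by a finite module -/
noncomputable def tszeArtA : Art k k :=
  { carrier := TrivSqZeroExt A M
    isLocalRing := isLocalRing_tszeA A M
    isArtinianRing := isArtinianRing_tszeA A M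
    res := A.res.comp (TrivSqZeroExt.fstHom k A M)
    res_surjective := fun c => by
      obtain ⟨a, ha⟩ := A.res_surjective c
      exact ⟨TrivSqZeroExt.inl a, ha⟩ }

/-- the projection -/
noncomputable def tszeProj : tszeArtA A M ⟶ A := ⟨TrivSqZeroExt.fstHom k A M, rfl⟩

/-- the section -/
noncomputable def tszeIncl : A ⟶ tszeArtA A M :=
  ⟨TrivSqZeroExt.inlAlgHom k A M, AlgHom.ext fun _ => rfl⟩

theorem tszeIncl_proj : tszeIncl A M ≫ tszeProj A M = 𝟙 A :=
  Art.hom_ext (AlgHom.ext fun _ => rfl)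

theorem tsze_mul_eq_zero (x y : TrivSqZeroExt A M) (h1 : x.fst = 0) (h2 : y.fst = 0) :
    x * y = 0 := by
  ext
  · rw [TrivSqZeroExt.fst_mul, h1, zero_mul, TrivSqZeroExt.fst_zero]
  · rw [TrivSqZeroExt.snd_mul, h1, h2, zero_smul, MulOpposite.op_zero, zero_smul, add_zero,
      TrivSqZeroExt.snd_zero]

theorem ker_tszeProj_sq :
    RingHom.ker (tszeProj A M).toAlgHom * RingHom.ker (tszeProj A M).toAlgHom = ⊥ := by
  rw [eq_bot_iff, Ideal.mul_le]
  intro x hx y hy
  rw [Ideal.mem_bot]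
  exact tsze_mul_eq_zero A M x y hx hy

variable {A M}
variable {M' : Type u} [AddCommGroup M'] [Module A M'] [Module (↥A)ᵐᵒᵖ M'] [IsCentralScalar A M']
  [Module k M'] [IsScalarTower k A M'] [IsScalarTower k (↥A)ᵐᵒᵖ M'] [Module.Finite A M']

/-- the map induced by a linear map -/
noncomputable def tszeArtMap (f : M' →ₗ[A] M) : tszeArtA A M' ⟶ tszeArtA A M :=
  ⟨tszeMap (k := k) f, AlgHom.ext fun x => congrArg A.res (fst_tszeMap (k := k) f x)⟩

theorem tszeArtMap_proj (f : M' →ₗ[A] M) : tszeArtMap f ≫ tszeProj A M = tszeProj A M' :=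
  Art.hom_ext (AlgHom.ext fun x => fst_tszeMap (k := k) f x)

theorem tszeIncl_artMap (f : M' →ₗ[A] M) : tszeIncl A M' ≫ tszeArtMap f = tszeIncl A M := by
  apply Art.hom_ext
  apply AlgHom.ext
  intro a
  change tszeMap (k := k) f (TrivSqZeroExt.inl a) = TrivSqZeroExt.inl a
  refine TrivSqZeroExt.ext ?_ ?_
  · exact fst_tszeMap (k := k) f _
  · rw [snd_tszeMap, TrivSqZeroExt.snd_inl, TrivSqZeroExt.snd_inl, map_zero]

theorem tszeArtMap_surjective (f : M' →ₗ[A] M) (hf : Function.Surjective f) :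
    Function.Surjective (tszeArtMap (k := k) f) := by
  intro x
  have key : ∀ x : TrivSqZeroExt A M, ∃ y : TrivSqZeroExt A M', tszeMap (k := k) f y = x := by
    intro x
    obtain ⟨m', hm'⟩ := hf x.snd
    refine ⟨TrivSqZeroExt.inl x.fst + TrivSqZeroExt.inr m', ?_⟩
    refine TrivSqZeroExt.ext ?_ ?_
    · rw [fst_tszeMap, TrivSqZeroExt.fst_add, TrivSqZeroExt.fst_inl, TrivSqZeroExt.fst_inr,
        add_zero]
    · rw [snd_tszeMap, TrivSqZeroExt.snd_add, TrivSqZeroExt.snd_inl, TrivSqZeroExt.snd_inr,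
        zero_add, hm']
  exact key x

end tszeArt

section main
variable {k : Type u} [Field k] [CharZero k]

theorem smooth_of_T1 (F : Art k k ⥤ Type v) [TangentStr F] (h0 : H0 F)
    (hRS : (∀ ⦃B A A' A'' : Art k k⦄ (p' : B ⟶ A') (p'' : B ⟶ A'') (f' : A' ⟶ A) (f'' : A'' ⟶ A)
        (h : Art.IsFibreProd p' p'' f' f''), Function.Surjective f'' →
          Function.Bijective (cmp F h)))
    (hfin : Hfin F)
    (hT1 : ∀ ⦃A A' A'' : Art k k⦄ (π' : A' ⟶ A) (i' : A ⟶ A') (π'' : A'' ⟶ A) (i'' : A ⟶ A'')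
        (q : A'' ⟶ A'), i' ≫ π' = 𝟙 A → i'' ≫ π'' = 𝟙 A →
        RingHom.ker π'.toAlgHom * RingHom.ker π'.toAlgHom = ⊥ →
        RingHom.ker π''.toAlgHom * RingHom.ker π''.toAlgHom = ⊥ →
        q ≫ π' = π'' → i'' ≫ q = i' → Function.Surjective q → Function.Surjective (F.map q)) :
    IsSmoothFunctor F := by
  have hk : Function.Surjective (algebraMap k k) := fun c => ⟨c, rfl⟩
  have hpro : IsProrepresentable F := by
    refine (Groth.Agent.S12734.result F).2 ⟨⟨h0, hRS⟩, hfin, ?_⟩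
    intro x₀ σ σ' _
    apply Art.hom_ext
    apply AlgHom.ext
    intro c
    exact (σ.toAlgHom.commutes c).trans (σ'.toAlgHom.commutes c).symm
  obtain ⟨⟨R, ξ, hu⟩⟩ := hpro
  have hlift : T1LiftingFin k R.carrier := by
    intro A M M' _ _ _ _ _ _ _ _ _ _ _ _ _ _ _ _ f hf φ
    have hsurj := hT1 (tszeProj A M) (tszeIncl A M) (tszeProj A M') (tszeIncl A M')
      (tszeArtMap f) (tszeIncl_proj A M) (tszeIncl_proj A M') (ker_tszeProj_sq A M)
      (ker_tszeProj_sq A M') (tszeArtMap_proj f) (tszeIncl_artMap f)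
      (tszeArtMap_surjective f hf)
    let φh : HomSet R.carrier R.res (tszeArtA A M) := ⟨φ, CR.res_unique hk R _⟩
    obtain ⟨y, hy⟩ := hsurj (ξ.app _ φh)
    obtain ⟨ψh, hψh⟩ := (hu (tszeArtA A M')).2 y
    have h1 : ξ.app _ (HomSet.map (tszeArtMap f) ψh) = ξ.app _ φh := by
      rw [ξ.natural, hψh, hy]
    have h2 := (hu (tszeArtA A M)).1 h1
    refine ⟨ψh.1, fun r => ?_⟩
    have h3 := congrArg (fun t : HomSet R.carrier R.res (tszeArtA A M) => t.1 r) h2
    change tszeMap (k := k) f (ψh.1 r) = φ r at h3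
    let z : TrivSqZeroExt A M' := ψh.1 r
    have h4 : tszeMap (k := k) f z = φ r := h3
    constructor
    · exact (fst_tszeMap (k := k) f z).symm.trans (congrArg TrivSqZeroExt.fst h4)
    · exact (snd_tszeMap (k := k) f z).symm.trans (congrArg TrivSqZeroExt.snd h4)
  obtain ⟨n, ⟨e⟩⟩ := exists_equiv_of_lifting_fin R hlift
  have hsm : IsSmoothFunctor (hR R.carrier R.res) := smooth_of_equiv_ps hk R n e
  intro B A μ hμ x
  obtain ⟨φ, rfl⟩ := (hu A).2 x
  obtain ⟨ψ, hψ⟩ := hsm μ hμ φ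
  let ψ' : HomSet R.carrier R.res B := ψ
  have hψ' : HomSet.map μ ψ' = φ := hψ
  refine ⟨ξ.app B ψ', ?_⟩
  rw [← ξ.natural, hψ']

end main

end Groth.Agent.H63.T1
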