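import Mathlib
import Groth.Agent.H63.TameL
import Groth.Agent.H63.TameM

set_option autoImplicit false
set_option linter.style.haveILetI false
set_option linter.unusedSectionVars false
universe u

namespace Groth.Agent.H63.Tame

open IsLocalRing CycAlg

section LocQ
variable {B : Type u} [CommRing B] (C : Type u) [CommRing C] [Algebra B C] [Module.Finite B C]
variable (q : MaximalSpectrum B)

/-- the localization of `C` at the image of `B ∖ q`. -/
abbrev Cq : Type u := Localization (Algebra.algebraMapSubmonoid C q.asIdeal.primeCompl)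

theorem comap_comap_eq (l' : MaximalSpectrum (Cq C q)) :
    (l'.asIdeal.comap (algebraMap C (Cq C q))).comap (algebraMap B C) = q.asIdeal := by
  rw [Ideal.comap_comap, ← IsScalarTower.algebraMap_eq B C (Cq C q),
    IsScalarTower.algebraMap_eq B (Localization.AtPrime q.asIdeal) (Cq C q), ← Ideal.comap_comap,
    comap_eq (A := Localization.AtPrime q.asIdeal) (Cq C q) l']
  exact IsLocalization.AtPrime.under_maximalIdeal (Localization.AtPrime q.asIdeal) q.asIdeal

/-- the map `Max(C_q) → Max(C)`. -/
noncomputable def emap (l' : MaximalSpectrum (Cq C q)) : MaximalSpectrum C :=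
  ⟨l'.asIdeal.comap (algebraMap C (Cq C q)), by
    haveI : Algebra.IsIntegral B C := Algebra.IsIntegral.of_finite B C
    haveI := l'.isMaximal
    haveI : (l'.asIdeal.comap (algebraMap C (Cq C q))).IsPrime := Ideal.comap_isPrime _ _
    refine Ideal.isMaximal_of_isIntegral_of_isMaximal_comap (R := B) _ ?_
    rw [comap_comap_eq]
    exact q.isMaximal⟩

theorem emap_asIdeal (l' : MaximalSpectrum (Cq C q)) :
    (emap C q l').asIdeal = l'.asIdeal.comap (algebraMap C (Cq C q)) := rfl

theorem emap_injective : Function.Injective (emap C q) := by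
  intro l₁ l₂ h
  have h' : l₁.asIdeal.comap (algebraMap C (Cq C q)) = l₂.asIdeal.comap (algebraMap C (Cq C q)) :=
    congrArg MaximalSpectrum.asIdeal h
  apply MaximalSpectrum.ext
  have e1 := IsLocalization.map_under (Algebra.algebraMapSubmonoid C q.asIdeal.primeCompl) (Cq C q)
    l₁.asIdeal
  have e2 := IsLocalization.map_under (Algebra.algebraMapSubmonoid C q.asIdeal.primeCompl) (Cq C q)
    l₂.asIdeal
  rw [Ideal.under_def] at e1 e2
  rw [← e1, ← e2, h']

theorem mem_range_emap (l : MaximalSpectrum C) :
    l ∈ Set.range (emap C q) ↔ l.asIdeal.comap (algebraMap B C) = q.asIdeal := by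
  constructor
  · rintro ⟨l', rfl⟩
    exact comap_comap_eq C q l'
  · intro hl
    haveI := l.isMaximal
    have hdisj : Disjoint (Algebra.algebraMapSubmonoid C q.asIdeal.primeCompl : Set C)
        (l.asIdeal : Set C) := by
      rw [Set.disjoint_left]
      rintro x ⟨b, hb, rfl⟩ hxl
      apply hb
      rw [← hl]
      exact hxl
    have hprime := IsLocalization.isPrime_of_isPrime_disjoint
      (Algebra.algebraMapSubmonoid C q.asIdeal.primeCompl) (Cq C q) l.asIdeal inferInstance hdisj
    have hcomap := IsLocalization.under_map_of_isPrime_disjoint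
      (Algebra.algebraMapSubmonoid C q.asIdeal.primeCompl) (Cq C q)
      (inferInstance : l.asIdeal.IsPrime) hdisj
    rw [Ideal.under_def] at hcomap
    -- maximality
    haveI : Algebra.IsIntegral (Localization.AtPrime q.asIdeal) (Cq C q) :=
      Algebra.IsIntegral.of_finite _ _
    have hmax : (l.asIdeal.map (algebraMap C (Cq C q))).IsMaximal := by
      refine Ideal.isMaximal_of_isIntegral_of_isMaximal_comap
        (R := Localization.AtPrime q.asIdeal) _ ?_
      have h1 : ((l.asIdeal.map (algebraMap C (Cq C q))).comap
          (algebraMap (Localization.AtPrime q.asIdeal) (Cq C q))).comap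
          (algebraMap B (Localization.AtPrime q.asIdeal)) = q.asIdeal := by
        rw [Ideal.comap_comap, ← IsScalarTower.algebraMap_eq B (Localization.AtPrime q.asIdeal)
          (Cq C q), IsScalarTower.algebraMap_eq B C (Cq C q), ← Ideal.comap_comap, hcomap, hl]
      haveI : ((l.asIdeal.map (algebraMap C (Cq C q))).comap
          (algebraMap (Localization.AtPrime q.asIdeal) (Cq C q))).IsPrime :=
        Ideal.comap_isPrime _ _
      have h2 : (l.asIdeal.map (algebraMap C (Cq C q))).comap
          (algebraMap (Localization.AtPrime q.asIdeal) (Cq C q)) =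
          maximalIdeal (Localization.AtPrime q.asIdeal) := by
        have h3 := IsLocalization.map_under q.asIdeal.primeCompl (Localization.AtPrime q.asIdeal)
          ((l.asIdeal.map (algebraMap C (Cq C q))).comap
            (algebraMap (Localization.AtPrime q.asIdeal) (Cq C q)))
        rw [Ideal.under_def, h1] at h3
        rw [← h3]
        exact Localization.AtPrime.map_eq_maximalIdeal
      rw [h2]
      infer_instance
    exact ⟨⟨_, hmax⟩, MaximalSpectrum.ext hcomap⟩

end LocQ

section LocData
variable {A : Type u} [CommRing A] [IsLocalRing A] [IsNoetherianRing A]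
variable {B : Type u} [CommRing B] [Algebra A B]
variable (C : Type u) [CommRing C] [Algebra A C] [Algebra B C] [IsScalarTower A B C]
  [Module.Finite B C]
variable (q : MaximalSpectrum B)

theorem algebraMap_R_Cq (a : A) :
    algebraMap (Localization.AtPrime q.asIdeal) (Cq C q)
      (algebraMap A (Localization.AtPrime q.asIdeal) a) = algebraMap A (Cq C q) a := by
  rw [IsScalarTower.algebraMap_apply A B (Localization.AtPrime q.asIdeal),
    ← IsScalarTower.algebraMap_apply B (Localization.AtPrime q.asIdeal) (Cq C q),
    IsScalarTower.algebraMap_apply B C (Cq C q), ← IsScalarTower.algebraMap_apply A B C,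
    ← IsScalarTower.algebraMap_apply A C (Cq C q)]

instance isScalarTower_A_R_Cq : IsScalarTower A (Localization.AtPrime q.asIdeal) (Cq C q) :=
  IsScalarTower.of_algebraMap_eq fun a => (algebraMap_R_Cq C q a).symm

instance isScalarTower_A_R_loc (l' : MaximalSpectrum (Cq C q)) :
    IsScalarTower A (Localization.AtPrime q.asIdeal) (Localization.AtPrime l'.asIdeal) := by
  refine IsScalarTower.of_algebraMap_eq fun a => ?_
  rw [IsScalarTower.algebraMap_apply (Localization.AtPrime q.asIdeal) (Cq C q)
    (Localization.AtPrime l'.asIdeal), algebraMap_R_Cq,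
    ← IsScalarTower.algebraMap_apply A (Cq C q) (Localization.AtPrime l'.asIdeal)]

theorem algebraMap_C_loc (l' : MaximalSpectrum (Cq C q)) (a : A) :
    algebraMap C (Localization.AtPrime l'.asIdeal) (algebraMap A C a) =
      algebraMap A (Localization.AtPrime l'.asIdeal) a := by
  rw [IsScalarTower.algebraMap_apply C (Cq C q) (Localization.AtPrime l'.asIdeal),
    ← IsScalarTower.algebraMap_apply A C (Cq C q),
    ← IsScalarTower.algebraMap_apply A (Cq C q) (Localization.AtPrime l'.asIdeal)]

/-- the identification `C_l ≃ (C_q)_{l'}`. -/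
noncomputable def psi (l' : MaximalSpectrum (Cq C q)) :
    Localization.AtPrime (emap C q l').asIdeal ≃ₐ[C] Localization.AtPrime l'.asIdeal :=
  IsLocalization.localizationLocalizationAtPrimeIsoLocalization
    (Algebra.algebraMapSubmonoid C q.asIdeal.primeCompl) l'.asIdeal

theorem psi_algebraMap (l' : MaximalSpectrum (Cq C q)) (a : A) :
    psi C q l' (algebraMap A (Localization.AtPrime (emap C q l').asIdeal) a) =
      algebraMap A (Localization.AtPrime l'.asIdeal) a := by
  rw [IsScalarTower.algebraMap_apply A C (Localization.AtPrime (emap C q l').asIdeal),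
    AlgEquiv.commutes, algebraMap_C_loc]

end LocData

section FinExtQ
variable {A : Type u} [CommRing A] [IsLocalRing A] [IsNoetherianRing A]
variable {B : Type u} [CommRing B] [Algebra A B] [Module.Finite A B]
variable [hB : ∀ q : MaximalSpectrum B, IsLocalHom (algebraMap A (Localization.AtPrime q.asIdeal))]
variable (C : Type u) [CommRing C] [Algebra A C] [Algebra B C] [IsScalarTower A B C]
  [Module.Finite B C]
variable (q : MaximalSpectrum B)

theorem algebraMap_mem_nonZeroDivisors_R {a₀ : A} (ha₀B : algebraMap A B a₀ ∈ nonZeroDivisors B) :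
    algebraMap A (Localization.AtPrime q.asIdeal) a₀ ∈
      nonZeroDivisors (Localization.AtPrime q.asIdeal) := by
  rw [IsScalarTower.algebraMap_apply A B (Localization.AtPrime q.asIdeal)]
  exact IsLocalization.map_nonZeroDivisors_le q.asIdeal.primeCompl _
    (Submonoid.mem_map_of_mem _ ha₀B)

theorem algebraMap_mem_maximalIdeal_R {a₀ : A} (ha₀m : a₀ ∈ maximalIdeal A) :
    algebraMap A (Localization.AtPrime q.asIdeal) a₀ ∈
      maximalIdeal (Localization.AtPrime q.asIdeal) := by
  rw [mem_maximalIdeal, mem_nonunits_iff]
  intro h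
  exact ha₀m (isUnit_of_map_unit (algebraMap A (Localization.AtPrime q.asIdeal)) a₀ h)

theorem isFinExt_Cq (hA : ringKrullDim A ≤ 1) (hinj : Function.Injective (algebraMap B C))
    (a₀ : A) (ha₀B : algebraMap A B a₀ ∈ nonZeroDivisors B) (k : ℕ)
    (hk : ∀ c : C, ∃ b : B, algebraMap B C b = algebraMap A C a₀ ^ k * c) :
    IsFinExt (Localization.AtPrime q.asIdeal) (Cq C q)
      (maximalIdeal (Localization.AtPrime q.asIdeal)) := by
  haveI : IsNoetherianRing B := IsNoetherianRing.of_finite A B
  haveI : Ring.KrullDimLE 1 (Localization.AtPrime q.asIdeal) :=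
    krullDimLE_one_localization (A := A) B hA q.asIdeal
  refine ⟨?_, inferInstance, ?_⟩
  · have : IsLocalization (q.asIdeal.primeCompl.map (algebraMap B C)) (Cq C q) :=
      (inferInstance : IsLocalization (Algebra.algebraMapSubmonoid C q.asIdeal.primeCompl) (Cq C q))
    rw [IsLocalization.algebraMap_eq_map_map_submonoid q.asIdeal.primeCompl C
      (Localization.AtPrime q.asIdeal) (Cq C q)]
    exact IsLocalization.map_injective_of_injective _ _ _ hinj
  · set t := algebraMap A (Localization.AtPrime q.asIdeal) a₀ with ht
    have htnz := algebraMap_mem_nonZeroDivisors_R (A := A) q ha₀B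
    obtain ⟨N, hN⟩ := exists_pow_le_span (pow_mem htnz k)
    refine ⟨N, fun r hr c => ?_⟩
    obtain ⟨s, hs⟩ := Ideal.mem_span_singleton'.1 (hN hr)
    obtain ⟨⟨c₀, m⟩, hcm⟩ := IsLocalization.surj
      (Algebra.algebraMapSubmonoid C q.asIdeal.primeCompl) c
    obtain ⟨m₀, hm₀, hm₀m⟩ := m.2
    obtain ⟨b, hb⟩ := hk c₀
    have hu : IsUnit (algebraMap C (Cq C q) (m : C)) := IsLocalization.map_units _ m
    refine ⟨s * IsLocalization.mk' (Localization.AtPrime q.asIdeal) b
      (⟨m₀, hm₀⟩ : q.asIdeal.primeCompl), ?_⟩
    apply hu.mul_right_cancel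
    have e1 : algebraMap C (Cq C q) (m : C) =
        algebraMap (Localization.AtPrime q.asIdeal) (Cq C q)
          (algebraMap B (Localization.AtPrime q.asIdeal) m₀) := by
      rw [← hm₀m, ← IsScalarTower.algebraMap_apply B C (Cq C q),
        ← IsScalarTower.algebraMap_apply B (Localization.AtPrime q.asIdeal) (Cq C q)]
    have e2 : algebraMap (Localization.AtPrime q.asIdeal) (Cq C q) t =
        algebraMap C (Cq C q) (algebraMap A C a₀) := by
      rw [ht, algebraMap_R_Cq, ← IsScalarTower.algebraMap_apply A C (Cq C q)]
    calc (algebraMap (Localization.AtPrime q.asIdeal) (Cq C q))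
          (s * IsLocalization.mk' (Localization.AtPrime q.asIdeal) b
            (⟨m₀, hm₀⟩ : q.asIdeal.primeCompl)) * algebraMap C (Cq C q) (m : C)
        = algebraMap (Localization.AtPrime q.asIdeal) (Cq C q)
            (s * (IsLocalization.mk' (Localization.AtPrime q.asIdeal) b
              (⟨m₀, hm₀⟩ : q.asIdeal.primeCompl) *
              algebraMap B (Localization.AtPrime q.asIdeal) m₀)) := by
          rw [e1, ← map_mul, mul_assoc]
      _ = algebraMap (Localization.AtPrime q.asIdeal) (Cq C q)
            (s * algebraMap B (Localization.AtPrime q.asIdeal) b) := by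
          have e3 : IsLocalization.mk' (Localization.AtPrime q.asIdeal) b
              (⟨m₀, hm₀⟩ : q.asIdeal.primeCompl) *
              algebraMap B (Localization.AtPrime q.asIdeal) m₀ =
              algebraMap B (Localization.AtPrime q.asIdeal) b :=
            IsLocalization.mk'_spec (Localization.AtPrime q.asIdeal) b
              (⟨m₀, hm₀⟩ : q.asIdeal.primeCompl)
          rw [e3]
      _ = algebraMap (Localization.AtPrime q.asIdeal) (Cq C q) s *
            algebraMap C (Cq C q) (algebraMap A C a₀ ^ k * c₀) := by
          rw [map_mul, ← hb, ← IsScalarTower.algebraMap_apply B C (Cq C q),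
            ← IsScalarTower.algebraMap_apply B (Localization.AtPrime q.asIdeal) (Cq C q)]
      _ = algebraMap (Localization.AtPrime q.asIdeal) (Cq C q) r * algebraMap C (Cq C q) c₀ := by
          rw [← hs, map_mul, map_mul, map_pow, map_pow, e2]
          ring
      _ = r • c * algebraMap C (Cq C q) (m : C) := by
          rw [← hcm, Algebra.smul_def]
          ring

end FinExtQ

section Nzd
variable {R R' : Type u} [CommRing R] [CommRing R']

theorem nzd_ringEquiv (ψ : R ≃+* R') {x : R} (hx : x ∈ nonZeroDivisors R) :
    ψ x ∈ nonZeroDivisors R' := by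
  rw [mem_nonZeroDivisors_iff_right]
  intro z hz
  have h1 : ψ.symm z * x = 0 := by
    apply ψ.injective
    rw [map_mul, ψ.apply_symm_apply, hz, map_zero]
  have h2 := (mem_nonZeroDivisors_iff_right.1 hx) _ h1
  have h3 := congrArg ψ h2
  rwa [ψ.apply_symm_apply, map_zero] at h3

end Nzd

section PerQ
variable {A : Type u} [CommRing A] [IsLocalRing A] [IsNoetherianRing A]
variable {B : Type u} [CommRing B] [Algebra A B] [Module.Finite A B]
variable [hB : ∀ q : MaximalSpectrum B, IsLocalHom (algebraMap A (Localization.AtPrime q.asIdeal))]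
variable {C : Type u} [CommRing C] [Algebra A C] [Algebra B C] [IsScalarTower A B C]
  [Module.Finite B C] [Module.Finite A C]
variable [hC : ∀ l : MaximalSpectrum C, IsLocalHom (algebraMap A (Localization.AtPrime l.asIdeal))]
variable (q : MaximalSpectrum B)

instance isLocalHom_R_loc (l' : MaximalSpectrum (Cq C q)) :
    IsLocalHom (algebraMap (Localization.AtPrime q.asIdeal) (Localization.AtPrime l'.asIdeal)) :=
  isLocalHom_algebraMap (A := Localization.AtPrime q.asIdeal) (Cq C q) l'

instance isLocalHom_A_loc (l' : MaximalSpectrum (Cq C q)) :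
    IsLocalHom (algebraMap A (Localization.AtPrime l'.asIdeal)) := by
  rw [IsScalarTower.algebraMap_eq A (Localization.AtPrime q.asIdeal)
    (Localization.AtPrime l'.asIdeal)]
  exact RingHom.isLocalHom_comp _ _

instance isScalarTower_A_C_loc (l' : MaximalSpectrum (Cq C q)) :
    IsScalarTower A C (Localization.AtPrime l'.asIdeal) :=
  IsScalarTower.of_algebraMap_eq fun a => (algebraMap_C_loc C q l' a).symm

/-- the base over `B_q` given by `C_q`. -/
noncomputable abbrev baseQ
    (hfe : IsFinExt (Localization.AtPrime q.asIdeal) (Cq C q)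
      (maximalIdeal (Localization.AtPrime q.asIdeal)))
    (π : ∀ l : MaximalSpectrum C, Localization.AtPrime l.asIdeal)
    (hπ : ∀ l, π l ∈ nonZeroDivisors (Localization.AtPrime l.asIdeal)) :
    Base (Localization.AtPrime q.asIdeal) where
  B := Cq C q
  isFinExt := hfe
  π := fun l' => psi C q l' (π (emap C q l'))
  π_mem := fun l' => nzd_ringEquiv (psi C q l').toRingEquiv (hπ (emap C q l'))

/-- norm of the tame symbol of `B_q`, computed on `C`. -/
theorem norm_tameSymbol_loc
    (hfe : IsFinExt (Localization.AtPrime q.asIdeal) (Cq C q)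
      (maximalIdeal (Localization.AtPrime q.asIdeal)))
    (hR : ringKrullDim (Localization.AtPrime q.asIdeal) = 1)
    (π : ∀ l : MaximalSpectrum C, Localization.AtPrime l.asIdeal)
    (hπ : ∀ l, π l ∈ nonZeroDivisors (Localization.AtPrime l.asIdeal))
    {x y : A}
    (hx : algebraMap A (Localization.AtPrime q.asIdeal) x ∈
      nonZeroDivisors (Localization.AtPrime q.asIdeal))
    (hy : algebraMap A (Localization.AtPrime q.asIdeal) y ∈
      nonZeroDivisors (Localization.AtPrime q.asIdeal))
    (F : ∀ l : MaximalSpectrum C, Fac (Localization.AtPrime l.asIdeal) (π l) (algebraMap A _ x))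
    (G : ∀ l : MaximalSpectrum C, Fac (Localization.AtPrime l.asIdeal) (π l) (algebraMap A _ y)) :
    Algebra.norm (ResidueField A)
        (tameSymbol (Localization.AtPrime q.asIdeal)
          (algebraMap A (Localization.AtPrime q.asIdeal) x)
          (algebraMap A (Localization.AtPrime q.asIdeal) y)) =
      ∏ᶠ (l : MaximalSpectrum C) (_ : l.asIdeal.comap (algebraMap B C) = q.asIdeal),
        Algebra.norm (ResidueField A) (Fac.th (F l) (G l)) ^
          (Ring.ord (Localization.AtPrime l.asIdeal) (π l)).toNat := by
  classical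
  haveI : IsNoetherianRing B := IsNoetherianRing.of_finite A B
  let F' : ∀ l' : MaximalSpectrum (Cq C q), Fac (Localization.AtPrime l'.asIdeal)
      (psi C q l' (π (emap C q l')))
      (algebraMap (Localization.AtPrime q.asIdeal) _
        (algebraMap A (Localization.AtPrime q.asIdeal) x)) :=
    fun l' => ((F (emap C q l')).map ((psi C q l').toRingEquiv.toRingHom)).cast (by
      rw [← IsScalarTower.algebraMap_apply A (Localization.AtPrime q.asIdeal)]
      exact psi_algebraMap C q l' x)
  let G' : ∀ l' : MaximalSpectrum (Cq C q), Fac (Localization.AtPrime l'.asIdeal)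
      (psi C q l' (π (emap C q l')))
      (algebraMap (Localization.AtPrime q.asIdeal) _
        (algebraMap A (Localization.AtPrime q.asIdeal) y)) :=
    fun l' => ((G (emap C q l')).map ((psi C q l').toRingEquiv.toRingHom)).cast (by
      rw [← IsScalarTower.algebraMap_apply A (Localization.AtPrime q.asIdeal)]
      exact psi_algebraMap C q l' y)
  rw [tameSymbol_eq hR hx hy ((baseQ q hfe π hπ).tame F' G'), (baseQ q hfe π hπ).tame_value]
  haveI : Finite (MaximalSpectrum (Cq C q)) :=
    finite_maximalSpectrum (A := Localization.AtPrime q.asIdeal) (Cq C q)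
  haveI := Fintype.ofFinite (MaximalSpectrum (Cq C q))
  have hrange : ∀ l : MaximalSpectrum C,
      (l.asIdeal.comap (algebraMap B C) = q.asIdeal) ↔ l ∈ Set.range (emap C q) :=
    fun l => (mem_range_emap C q l).symm
  simp only [hrange]
  rw [finprod_mem_range (emap_injective C q)]
  rw [finprod_eq_prod_of_fintype, finprod_eq_prod_of_fintype, map_prod]
  refine Finset.prod_congr rfl fun l' _ => ?_
  rw [map_pow, Algebra.norm_norm]
  have e2 : Ring.ord (Localization.AtPrime l'.asIdeal) (psi C q l' (π (emap C q l'))) =
      Ring.ord (Localization.AtPrime (emap C q l').asIdeal) (π (emap C q l')) :=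
    ord_ringEquiv (psi C q l').toRingEquiv _
  haveI : IsLocalHom ((psi C q l').toRingEquiv.toRingHom) :=
    ⟨fun a ha => (isUnit_map_iff (psi C q l').toRingEquiv a).1 ha⟩
  have e1 : (F' l').th (G' l') =
      ResidueField.mapAlgEquiv' ((psi C q l').restrictScalars A)
        ((F (emap C q l')).th (G (emap C q l'))) := by
    change ((F (emap C q l')).map ((psi C q l').toRingEquiv.toRingHom)).th
      ((G (emap C q l')).map ((psi C q l').toRingEquiv.toRingHom)) = _
    rw [Fac.th_map]
    rfl
  rw [e1, e2, Algebra.norm_eq_of_algEquiv]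

end PerQ

end Groth.Agent.H63.Tame
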